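/-
`PGL_2(q)` around its subgroup `PSL_2(q)`.

Main results (namespace `Cfsg.Agent.PSL2`):
* `range_toPGL_eq`, `mk_mem_range_iff`, `index_range_toPGL` : the image of `PSL_2` in `PGL_2`
* `outConj_mul`, `outConj_eq_conj`, `exists_nonsquare_gl`   : outer and inner `outConj`
* `exists_pgl_embed`                                        : `PGL_2(q)` inside `PSL_2(q^2)`
* `pgl_card_120`                                            : no insoluble subgroups of order 120
-/
import Cfsg.Agent.Lib.PSL2.MaximalTypes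

set_option autoImplicit false
set_option linter.unusedSectionVars false
set_option linter.dupNamespace false

open Matrix MulAction Subgroup
open scoped LinearAlgebra.Projectivization

namespace Cfsg.Agent.PSL2

variable {F : Type*} [Field F]

theorem range_toPGL_eq :
    (ProjGenLinGroup.mk.comp Matrix.SpecialLinearGroup.toGL).range =
      (ProjectiveSpecialLinearGroup.toPGL : PSL2 F →* PGL2 F).range := by
  ext x
  constructor
  · rintro ⟨s, rfl⟩
    exact ⟨QuotientGroup.mk s, by rw [ProjectiveSpecialLinearGroup.toPGL_mk]; rfl⟩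
  · rintro ⟨y, rfl⟩
    obtain ⟨s, rfl⟩ := QuotientGroup.mk_surjective y
    exact ⟨s, by rw [ProjectiveSpecialLinearGroup.toPGL_mk]; rfl⟩

theorem mk_mem_range_iff (u : GL (Fin 2) F) :
    ProjGenLinGroup.mk u ∈ (ProjectiveSpecialLinearGroup.toPGL : PSL2 F →* PGL2 F).range ↔
      IsSquare ((GeneralLinearGroup.det u : Fˣ) : F) := by
  constructor
  · rintro ⟨y, hy⟩
    obtain ⟨s, rfl⟩ := QuotientGroup.mk_surjective y
    rw [ProjectiveSpecialLinearGroup.toPGL_mk, ProjGenLinGroup.mk_eq_mk_iff] at hy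
    obtain ⟨r, hr⟩ := hy
    refine ⟨(r : F), ?_⟩
    rw [← hr, map_mul, Units.val_mul]
    simp [pow_two]
  · intro h
    obtain ⟨a, b, c, d, hd, hm⟩ := exists_mob (ProjGenLinGroup.mk u)
    rw [hm]
    apply mem_range_toPGL
    rw [mob, ProjGenLinGroup.mk_eq_mk_iff] at hm
    obtain ⟨r, hr⟩ := hm
    have hr' := congrArg (fun g : GL (Fin 2) F => g.1.det) hr
    simp [Matrix.det_mul, Matrix.det_fin_two] at hr'
    obtain ⟨t, ht⟩ := h
    rw [GeneralLinearGroup.val_det_apply, Matrix.det_fin_two] at ht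
    refine ⟨t * (r : F), ?_⟩
    linear_combination (r : F) ^ 2 * ht - hr'

theorem mul_mk_mem_range_iff (u v : GL (Fin 2) F) (hu : ¬ IsSquare ((GeneralLinearGroup.det u : Fˣ) : F))
    (hv : ¬ IsSquare ((GeneralLinearGroup.det v : Fˣ) : F)) [Finite F] :
    IsSquare ((GeneralLinearGroup.det (u⁻¹ * v) : Fˣ) : F) := by
  have := Fintype.ofFinite F
  rw [map_mul, map_inv, Units.val_mul, Units.val_inv_eq_inv_val]
  have h2 : ringChar F ≠ 2 := fun h => hu (FiniteField.isSquare_of_char_two h _)
  rw [FiniteField.isSquare_iff h2, mul_pow, inv_pow,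
    (FiniteField.pow_dichotomy h2 (Units.ne_zero _)).resolve_left
      (fun h => hu ((FiniteField.isSquare_iff h2 (Units.ne_zero _)).2 h)),
    (FiniteField.pow_dichotomy h2 (Units.ne_zero _)).resolve_left
      (fun h => hv ((FiniteField.isSquare_iff h2 (Units.ne_zero _)).2 h))]
  · norm_num
  · exact mul_ne_zero (inv_ne_zero (Units.ne_zero _)) (Units.ne_zero _)

theorem range_toPGL_normal :
    ((ProjectiveSpecialLinearGroup.toPGL : PSL2 F →* PGL2 F).range).Normal := by
  refine ⟨fun x hx g => ?_⟩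
  obtain ⟨u, rfl⟩ := ProjGenLinGroup.mk_surjective x
  obtain ⟨v, rfl⟩ := ProjGenLinGroup.mk_surjective g
  rw [← map_inv, ← map_mul, ← map_mul, mk_mem_range_iff]
  rw [mk_mem_range_iff] at hx
  rwa [map_mul, map_mul, map_inv, mul_comm (GeneralLinearGroup.det v), mul_inv_cancel_right]

theorem outConj_mul (u v : GL (Fin 2) F) (x : PSL2 F) :
    outConj (u * v) x = outConj u (outConj v x) := by
  apply ProjectiveSpecialLinearGroup.toPGL_injective
  rw [toPGL_outConj, toPGL_outConj, toPGL_outConj, map_mul, _root_.mul_inv_rev]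
  group

theorem exists_outConj_eq_conj {u : GL (Fin 2) F}
    (hu : IsSquare ((GeneralLinearGroup.det u : Fˣ) : F)) :
    ∃ g : PSL2 F, outConj u = MulAut.conj g := by
  obtain ⟨g, hg⟩ := (mk_mem_range_iff u).2 hu
  refine ⟨g, MulEquiv.ext fun x => ProjectiveSpecialLinearGroup.toPGL_injective ?_⟩
  rw [toPGL_outConj, MulAut.conj_apply, map_mul, map_mul, map_inv, hg]

theorem map_outConj_mul (u v : GL (Fin 2) F) (H : Subgroup (PSL2 F)) :
    H.map (outConj (u * v)).toMonoidHom = (H.map (outConj v).toMonoidHom).map (outConj u).toMonoidHom := by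
  rw [Subgroup.map_map]
  congr 1
  exact MonoidHom.ext (outConj_mul u v)

variable [Finite F]

theorem exists_nonsquare_gl (hodd : Odd (Nat.card F)) :
    ∃ u : GL (Fin 2) F, ¬ IsSquare ((GeneralLinearGroup.det u : Fˣ) : F) := by
  have := Fintype.ofFinite F
  have h2 : ringChar F ≠ 2 := fun h => by
    have := FiniteField.even_card_iff_char_two.1 h
    rw [Nat.odd_iff, Nat.card_eq_fintype_card] at hodd
    omega
  obtain ⟨a, ha⟩ := FiniteField.exists_nonsquare h2
  have ha0 : a ≠ 0 := fun h => ha ⟨0, by simp [h]⟩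
  refine ⟨GeneralLinearGroup.mkOfDetNeZero !![a, 0; 0, 1] (by simp [Matrix.det_fin_two, ha0]), ?_⟩
  simpa [GeneralLinearGroup.val_det_apply, Matrix.det_fin_two] using ha

theorem index_range_toPGL :
    ((ProjectiveSpecialLinearGroup.toPGL : PSL2 F →* PGL2 F).range).index =
      Nat.gcd 2 (Nat.card F - 1) := by
  have h := ((ProjectiveSpecialLinearGroup.toPGL : PSL2 F →* PGL2 F).range).index_mul_card
  rw [← Nat.card_congr (MonoidHom.ofInjective
    (ProjectiveSpecialLinearGroup.toPGL_injective : Function.Injective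
      (ProjectiveSpecialLinearGroup.toPGL : PSL2 F →* PGL2 F))).toEquiv, card_pgl_eq,
    ← card_psl_mul] at h
  exact Nat.eq_of_mul_eq_mul_right Nat.card_pos h

/-- `PGL_2(q)` inside `PSL_2(q^2)`. -/
theorem exists_pgl_embed (p : ℕ) [Fact p.Prime] [CharP F p] :
    ∃ n : ℕ, n ≠ 0 ∧ Nat.card (GaloisField p n) = Nat.card F ^ 2 ∧
      ∃ f : PGL2 F →* PSL2 (GaloisField p n), Function.Injective f := by
  obtain ⟨a, ha, hq⟩ := GLOrder.exists_card_eq_pow (F := F) p
  have hc : Nat.card (GaloisField p (a * 2)) = Nat.card F ^ 2 := by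
    rw [GaloisField.card p _ (by omega), hq, pow_mul]
  obtain ⟨H, ⟨e⟩⟩ := exists_pgl_subfield_sub (F := GaloisField p (a * 2)) (L := F) (m := 2)
    hc.symm even_two
  exact ⟨a * 2, by omega, hc, H.subtype.comp e.symm.toMonoidHom,
    Subtype.coe_injective.comp e.symm.injective⟩

/-- A subgroup of order 120 of `PSL_2(q)` is soluble unless `p = 5`. -/
theorem psl_card_120 (p : ℕ) [Fact p.Prime] [CharP F p] (hp5 : p ≠ 5) {K : Subgroup (PSL2 F)}
    (hK : Nat.card K = 120) (hins : ¬ Group.IsSolvable K) : False := by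
  rcases psl_dickson p K with ⟨-, S, hS⟩ | ⟨-, hc, -⟩ | ⟨n, -, -, -, -, -, ⟨e⟩⟩ | ⟨-, h⟩ |
    ⟨-, h, -⟩ | ⟨R, m, -, -, h⟩
  · obtain ⟨P, hP⟩ := normalizer_sylow_le p S
    exact hins (isSolvable_of_le_stabilizer p (hS.trans hP))
  · exact hins (Group.isSolvable_of_comm fun a b => IsCyclic.commGroup.mul_comm a b)
  · have := isSolvable_dihedral n
    exact hins (Group.isSolvable_of_isSolvable_injective (f := e.toMonoidHom) e.injective)
  · rcases h with ⟨⟨e⟩⟩ | ⟨⟨e⟩⟩ | ⟨⟨e⟩⟩ <;> rw [Nat.card_congr e.toEquiv] at hK <;>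
      first
      | (rw [card_alt_four] at hK; omega)
      | (rw [card_perm_four] at hK; omega)
      | (rw [card_alt_five] at hK; omega)
  · omega
  · have := charP_subfield p R
    obtain ⟨a, ha, hR⟩ := GLOrder.exists_card_eq_pow (F := R) p
    have hr1 : 1 < Nat.card R := Finite.one_lt_card
    have hlo : ∀ r : ℕ, 7 ≤ r → 7 * (8 * 6) ≤ r * ((r + 1) * (r - 1)) := fun r hr =>
      Nat.mul_le_mul hr (Nat.mul_le_mul (by omega) (by omega))
    rcases h with ⟨⟨e⟩⟩ | ⟨-, -, ⟨e⟩⟩
    · rw [Nat.card_congr e.toEquiv] at hK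
      have hc := card_psl_mul (F := R)
      rw [hK] at hc
      have hd : Nat.gcd 2 (Nat.card R - 1) ≤ 2 := Nat.le_of_dvd two_pos (Nat.gcd_dvd_left _ _)
      have hr : Nat.card R < 7 := by
        by_contra h7
        have := hlo _ (not_lt.1 h7)
        have := Nat.mul_le_mul_right 120 hd
        omega
      generalize Nat.card R = r at hc hr hr1 hR
      interval_cases r <;> norm_num at hc
    · rw [Nat.card_congr e.toEquiv, card_pgl_eq] at hK
      have hr : Nat.card R < 7 := by
        by_contra h7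
        have := hlo _ (not_lt.1 h7)
        omega
      have hdvd : p ∣ Nat.card R := hR ▸ dvd_pow_self p ha.ne'
      generalize Nat.card R = r at hK hr hr1 hdvd
      interval_cases r <;> norm_num at hK
      exact hp5 ((Nat.prime_dvd_prime_iff_eq Fact.out Nat.prime_five).1 hdvd)

/-- No subgroup of order 120 of `PGL_2(q)` is insoluble unless `p = 5`. -/
theorem pgl_card_120 (p : ℕ) [Fact p.Prime] [CharP F p] (hp5 : p ≠ 5) {K : Subgroup (PGL2 F)}
    (hK : Nat.card K = 120) (hins : ¬ Group.IsSolvable K) : False := by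
  obtain ⟨n, -, -, f, hf⟩ := exists_pgl_embed (F := F) p
  exact psl_card_120 p hp5 (K := K.map f)
    (by rw [← Nat.card_congr (Subgroup.equivMapOfInjective K f hf).toEquiv, hK])
    (fun h => hins (Group.isSolvable_of_isSolvable_injective
      (f := (Subgroup.equivMapOfInjective K f hf).toMonoidHom)
      (Subgroup.equivMapOfInjective K f hf).injective))

end Cfsg.Agent.PSL2
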