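/-
`PGL_2(K)` acting on the projective line.

Main results (namespace `Cfsg.Agent.PSL2`):
* `mob a b c d h`, `exists_mob`, `mob_mul_mob`, `mob_eq_one_iff`, `mob_eq_mob_iff`
* `pinf`, `pt x`, `pt_cases`, the formulas `mob_smul_*`
* `aff a b` (the stabiliser of `pinf`), `exists_aff_of_fix`
* `exists_map_three`, `eq_one_of_fix_three`, `eq_of_agree_three` (sharp triple transitivity)
* `exists_fix`, `fixedBy_cases` (algebraically closed field of characteristic `p`)
-/
import Cfsg.Agent.EqLemmas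

set_option autoImplicit false
set_option linter.unusedSectionVars false
set_option linter.dupNamespace false

open Matrix MulAction
open scoped LinearAlgebra.Projectivization

namespace Cfsg.Agent.PSL2

/-- `PGL_2`. -/
abbrev PGL2 (K : Type*) [CommRing K] : Type _ := Matrix.ProjGenLinGroup (Fin 2) K

/-- Points of the projective line. -/
abbrev Pt (K : Type*) [Field K] : Type _ := ℙ K (Fin 2 → K)

variable {K : Type*} [Field K]

/-- The point at infinity. -/
noncomputable def pinf : Pt K := Projectivization.mk K ![1, 0] (by simp)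

/-- The affine point `x`. -/
noncomputable def pt (x : K) : Pt K := Projectivization.mk K ![x, 1] (by simp)

theorem pt_cases (P : Pt K) : P = pinf ∨ ∃ x, P = pt x := by
  induction P using Projectivization.ind with | _ v hv => ?_
  by_cases h : v 1 = 0
  · left
    rw [pinf, Projectivization.mk_eq_mk_iff']
    refine ⟨v 0, ?_⟩
    ext i; fin_cases i <;> simp [h]
  · right
    refine ⟨v 0 / v 1, ?_⟩
    rw [pt, Projectivization.mk_eq_mk_iff']
    refine ⟨v 1, ?_⟩
    ext i; fin_cases i <;> simp [mul_div_cancel₀ _ h]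

theorem pt_ne_pinf (x : K) : pt x ≠ pinf := by
  rw [pt, pinf, ne_eq, Projectivization.mk_eq_mk_iff']
  rintro ⟨a, ha⟩
  simpa using congrFun ha 1

theorem pinf_ne_pt (x : K) : pinf ≠ pt x := (pt_ne_pinf x).symm

theorem pt_injective : Function.Injective (pt : K → Pt K) := by
  intro x y h
  rw [pt, pt, Projectivization.mk_eq_mk_iff'] at h
  obtain ⟨a, ha⟩ := h
  have h1 : a = 1 := by simpa using congrFun ha 1
  have h0 := congrFun ha 0
  simp [h1] at h0
  exact h0.symm

@[simp]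
theorem pt_inj {x y : K} : pt x = pt y ↔ x = y := pt_injective.eq_iff

/-- The Moebius transformation `x ↦ (a x + b) / (c x + d)`. -/
noncomputable def mob (a b c d : K) (h : a * d - b * c ≠ 0) : PGL2 K :=
  ProjGenLinGroup.mk
    (GeneralLinearGroup.mkOfDetNeZero !![a, b; c, d] (by rwa [Matrix.det_fin_two_of]))

theorem exists_mob (g : PGL2 K) : ∃ a b c d h, g = mob a b c d h := by
  induction g using Matrix.ProjGenLinGroup.induction_on with | mk g => ?_
  have h : g.1 0 0 * g.1 1 1 - g.1 0 1 * g.1 1 0 ≠ 0 := by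
    have := g.det_ne_zero
    rwa [Matrix.det_fin_two] at this
  refine ⟨_, _, _, _, h, congrArg ProjGenLinGroup.mk (Units.ext ?_)⟩
  ext i j; fin_cases i <;> fin_cases j <;> rfl

theorem mob_mul_mob {a b c d h a' b' c' d' h'} :
    (mob a b c d h : PGL2 K) * mob a' b' c' d' h' =
      mob (a * a' + b * c') (a * b' + b * d') (c * a' + d * c') (c * b' + d * d')
        (by
          have := mul_ne_zero h h'
          contrapose! this
          linear_combination this) := by
  rw [mob, mob, mob, ← map_mul]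
  congr 1
  apply Units.ext
  simp [Matrix.mul_fin_two]

theorem mob_eq_mob_iff {a b c d h a' b' c' d' h'} :
    (mob a b c d h : PGL2 K) = mob a' b' c' d' h' ↔
      ∃ u : Kˣ, a' = a * u ∧ b' = b * u ∧ c' = c * u ∧ d' = d * u := by
  rw [mob, mob, ProjGenLinGroup.mk_eq_mk_iff]
  refine exists_congr fun u => ?_
  rw [Units.ext_iff, ← Matrix.ext_iff]
  simp [Fin.forall_fin_two, Matrix.mul_apply, Fin.sum_univ_two]
  tauto

theorem one_eq_mob : (1 : PGL2 K) = mob 1 0 0 1 (by simp) := by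
  rw [mob, eq_comm, ← map_one (ProjGenLinGroup.mk (n := Fin 2) (R := K))]
  congr 1
  apply Units.ext
  simp [Matrix.one_fin_two]

theorem mob_eq_one_iff {a b c d h} : (mob a b c d h : PGL2 K) = 1 ↔ b = 0 ∧ c = 0 ∧ a = d := by
  rw [one_eq_mob, eq_comm, mob_eq_mob_iff]
  constructor
  · rintro ⟨u, ha, hb, hc, hd⟩
    simp at ha hb hc hd
    exact ⟨hb, hc, ha.trans hd.symm⟩
  · rintro ⟨hb, hc, rfl⟩
    have ha : a ≠ 0 := by rintro rfl; simp [hb] at h
    exact ⟨Units.mk0 a ha, by simp [hb, hc]⟩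

theorem mob_smul_mk {a b c d h} (v : Fin 2 → K) (hv : v ≠ 0) :
    (mob a b c d h : PGL2 K) • Projectivization.mk K v hv =
      Projectivization.mk K ![a * v 0 + b * v 1, c * v 0 + d * v 1]
        (by
          intro h0
          have e0 : a * v 0 + b * v 1 = 0 := by simpa using congrFun h0 0
          have e1 : c * v 0 + d * v 1 = 0 := by simpa using congrFun h0 1
          apply hv
          have f0 : (a * d - b * c) * v 0 = 0 := by linear_combination d * e0 - b * e1
          have f1 : (a * d - b * c) * v 1 = 0 := by linear_combination a * e1 - c * e0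
          ext i; fin_cases i
          · exact (mul_eq_zero.1 f0).resolve_left h
          · exact (mul_eq_zero.1 f1).resolve_left h) := by
  rw [mob, Projectivization.PGL.mk_smul_mk]
  congr 1
  simp

theorem mob_smul_pinf_eq_pinf {a b c d h} : (mob a b c d h : PGL2 K) • (pinf : Pt K) = pinf ↔ c = 0 := by
  rw [pinf, mob_smul_mk, Projectivization.mk_eq_mk_iff']
  constructor
  · rintro ⟨u, hu⟩; simpa using (congrFun hu 1).symm
  · intro hc; exact ⟨a, by ext i; fin_cases i <;> simp [hc]⟩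

theorem mob_smul_pinf_eq_pt {a b c d h y} :
    (mob a b c d h : PGL2 K) • pinf = pt y ↔ a = y * c := by
  rw [pinf, mob_smul_mk, pt, Projectivization.mk_eq_mk_iff']
  constructor
  · rintro ⟨u, hu⟩
    have h0 : u * y = a := by simpa using congrFun hu 0
    have h1 : u = c := by simpa using congrFun hu 1
    rw [← h0, h1, mul_comm]
  · intro ha; exact ⟨c, by ext i; fin_cases i <;> simp [ha, mul_comm]⟩

theorem mob_smul_pt_eq_pinf {a b c d h x} :
    (mob a b c d h : PGL2 K) • pt x = pinf ↔ c * x + d = 0 := by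
  rw [pt, mob_smul_mk, pinf, Projectivization.mk_eq_mk_iff']
  constructor
  · rintro ⟨u, hu⟩; simpa using (congrFun hu 1).symm
  · intro hc; exact ⟨a * x + b, by ext i; fin_cases i <;> simp [hc]⟩

theorem mob_smul_pt_eq_pt {a b c d h x y} :
    (mob a b c d h : PGL2 K) • pt x = pt y ↔ a * x + b = y * (c * x + d) := by
  rw [pt, mob_smul_mk, pt, Projectivization.mk_eq_mk_iff']
  constructor
  · rintro ⟨u, hu⟩
    have h0 : u * y = a * x + b := by simpa using congrFun hu 0
    have h1 : u = c * x + d := by simpa using congrFun hu 1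
    rw [← h0, h1, mul_comm]
  · intro ha; exact ⟨c * x + d, by ext i; fin_cases i <;> simp [ha, mul_comm]⟩

/-- The affine map `x ↦ a x + b`. -/
noncomputable def aff (a : Kˣ) (b : K) : PGL2 K := mob (a : K) b 0 1 (by simp)

theorem aff_mul_aff (a a' : Kˣ) (b b' : K) :
    aff a b * aff a' b' = aff (a * a') (a * b' + b) := by
  rw [aff, aff, aff, mob_mul_mob, mob_eq_mob_iff]
  exact ⟨1, by simp⟩

theorem aff_one_zero : aff (1 : Kˣ) (0 : K) = 1 := by
  rw [aff, mob_eq_one_iff]; simp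

theorem aff_inj {a a' : Kˣ} {b b' : K} : aff a b = aff a' b' ↔ a = a' ∧ b = b' := by
  rw [aff, aff, mob_eq_mob_iff]
  constructor
  · rintro ⟨u, ha, hb, -, hd⟩
    simp at hd
    rw [Units.val_eq_one.1 hd.symm] at ha hb
    exact ⟨Units.ext (by simpa using ha.symm), by simpa using hb.symm⟩
  · rintro ⟨rfl, rfl⟩; exact ⟨1, by simp⟩

theorem aff_eq_one_iff {a : Kˣ} {b : K} : aff a b = 1 ↔ a = 1 ∧ b = 0 := by
  rw [← aff_one_zero, aff_inj]

@[simp]
theorem aff_smul_pinf (a : Kˣ) (b : K) : aff a b • (pinf : Pt K) = pinf := by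
  rw [aff, mob_smul_pinf_eq_pinf]

@[simp]
theorem aff_smul_pt (a : Kˣ) (b x : K) : aff a b • pt x = pt (a * x + b) := by
  rw [aff, mob_smul_pt_eq_pt]; ring

theorem exists_aff_of_fix {g : PGL2 K} (hg : g • (pinf : Pt K) = pinf) : ∃ a b, g = aff a b := by
  obtain ⟨a, b, c, d, h, rfl⟩ := exists_mob g
  have hc := mob_smul_pinf_eq_pinf.1 hg
  have ha : a ≠ 0 := by rintro rfl; simp [hc] at h
  have hd : d ≠ 0 := by rintro rfl; simp [hc] at h
  refine ⟨Units.mk0 (a / d) (div_ne_zero ha hd), b / d, ?_⟩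
  rw [aff, mob_eq_mob_iff]
  refine ⟨Units.mk0 d⁻¹ (inv_ne_zero hd), ?_⟩
  simp [hc, div_eq_mul_inv, mul_inv_cancel₀ hd]

theorem aff_inv (a : Kˣ) (b : K) : (aff a b)⁻¹ = aff a⁻¹ (-(↑a⁻¹ : K) * b) := by
  rw [inv_eq_iff_mul_eq_one, aff_mul_aff, aff_eq_one_iff]
  refine ⟨mul_inv_cancel _, ?_⟩
  rw [← mul_assoc, mul_neg, Units.mul_inv]; ring

theorem exists_map_pinf (P : Pt K) : ∃ g : PGL2 K, g • P = pinf := by
  rcases pt_cases P with rfl | ⟨x, rfl⟩
  · exact ⟨1, one_smul _ _⟩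
  · exact ⟨mob 0 1 1 (-x) (by simp), by rw [mob_smul_pt_eq_pinf]; ring⟩

theorem exists_map_two {P Q : Pt K} (h : P ≠ Q) :
    ∃ g : PGL2 K, g • P = pinf ∧ g • Q = pt 0 := by
  obtain ⟨g, hg⟩ := exists_map_pinf P
  rcases pt_cases (g • Q) with hQ | ⟨x, hQ⟩
  · exact absurd (MulAction.injective g (hg.trans hQ.symm)) h
  · refine ⟨aff 1 (-x) * g, ?_, ?_⟩
    · rw [mul_smul, hg, aff_smul_pinf]
    · rw [mul_smul, hQ, aff_smul_pt]; simp

theorem exists_map_three {P Q R : Pt K} (hPQ : P ≠ Q) (hPR : P ≠ R) (hQR : Q ≠ R) :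
    ∃ g : PGL2 K, g • P = pinf ∧ g • Q = pt 0 ∧ g • R = pt 1 := by
  obtain ⟨g, hg, hg'⟩ := exists_map_two hPQ
  rcases pt_cases (g • R) with hR | ⟨x, hR⟩
  · exact absurd (MulAction.injective g (hg.trans hR.symm)) hPR
  · have hx : x ≠ 0 := by
      rintro rfl
      exact hQR (MulAction.injective g (hg'.trans hR.symm))
    refine ⟨aff (Units.mk0 x⁻¹ (inv_ne_zero hx)) 0 * g, ?_, ?_, ?_⟩
    · rw [mul_smul, hg, aff_smul_pinf]
    · rw [mul_smul, hg', aff_smul_pt]; simp
    · rw [mul_smul, hR, aff_smul_pt]; simp [inv_mul_cancel₀ hx]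

theorem eq_one_of_fix_std {g : PGL2 K} (h1 : g • (pinf : Pt K) = pinf) (h2 : g • pt (0 : K) = pt 0)
    (h3 : g • pt (1 : K) = pt 1) : g = 1 := by
  obtain ⟨a, b, rfl⟩ := exists_aff_of_fix h1
  simp at h2 h3
  subst h2
  rw [aff_eq_one_iff]
  exact ⟨Units.ext (by simpa using h3), rfl⟩

theorem eq_one_of_fix_three {g : PGL2 K} {P Q R : Pt K} (hPQ : P ≠ Q) (hPR : P ≠ R) (hQR : Q ≠ R)
    (h1 : g • P = P) (h2 : g • Q = Q) (h3 : g • R = R) : g = 1 := by
  obtain ⟨k, k1, k2, k3⟩ := exists_map_three hPQ hPR hQR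
  have h : k * g * k⁻¹ = 1 := by
    apply eq_one_of_fix_std <;>
      simp only [← k1, ← k2, ← k3, mul_smul, inv_smul_smul, h1, h2, h3]
  rw [mul_inv_eq_one] at h
  exact mul_eq_left.1 h

theorem eq_of_agree_three {g g' : PGL2 K} {P Q R : Pt K} (hPQ : P ≠ Q) (hPR : P ≠ R) (hQR : Q ≠ R)
    (h1 : g • P = g' • P) (h2 : g • Q = g' • Q) (h3 : g • R = g' • R) : g = g' := by
  have h : g'⁻¹ * g = 1 := eq_one_of_fix_three hPQ hPR hQR
    (by rw [mul_smul, h1, inv_smul_smul]) (by rw [mul_smul, h2, inv_smul_smul])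
    (by rw [mul_smul, h3, inv_smul_smul])
  exact (inv_mul_eq_one.1 h).symm

theorem exists_fix [IsAlgClosed K] (g : PGL2 K) : ∃ P : Pt K, g • P = P := by
  obtain ⟨a, b, c, d, h, rfl⟩ := exists_mob g
  by_cases hc : c = 0
  · exact ⟨pinf, mob_smul_pinf_eq_pinf.2 hc⟩
  · obtain ⟨x, hx⟩ := IsAlgClosed.exists_root
      (Polynomial.C c * Polynomial.X ^ 2 + Polynomial.C (d - a) * Polynomial.X + Polynomial.C (-b))
      (by rw [Polynomial.degree_quadratic hc]; decide)
    refine ⟨pt x, mob_smul_pt_eq_pt.2 ?_⟩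
    simp at hx
    linear_combination -hx

theorem aff_one_pow (b : K) (n : ℕ) : (aff (1 : Kˣ) b) ^ n = aff 1 (n * b) := by
  induction n with
  | zero => simp [aff_one_zero]
  | succ n ih => rw [pow_succ, ih, aff_mul_aff, aff_inj]; simp; ring

theorem aff_pow_fst (a : Kˣ) (b : K) (n : ℕ) : ∃ b', (aff a b) ^ n = aff (a ^ n) b' := by
  induction n with
  | zero => exact ⟨0, by simp [aff_one_zero]⟩
  | succ n ih => obtain ⟨b', h⟩ := ih; exact ⟨_, by rw [pow_succ, h, aff_mul_aff, pow_succ]⟩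

section CharP

variable (p : ℕ) [Fact p.Prime] [CharP K p]

theorem units_eq_one_of_pow_char {a : Kˣ} (h : a ^ p = 1) : a = 1 := by
  have h' : (a : K) ^ p = (1 : K) ^ p := by rw [one_pow, ← Units.val_pow_eq_pow_val, h, Units.val_one]
  exact Units.ext ((frobenius_inj K p) h')

theorem aff_pow_char_iff {a : Kˣ} {b : K} : (aff a b) ^ p = 1 ↔ a = 1 := by
  constructor
  · intro h
    obtain ⟨b', hb'⟩ := aff_pow_fst a b p
    rw [h, eq_comm, aff_eq_one_iff] at hb'
    exact units_eq_one_of_pow_char p hb'.1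
  · rintro rfl
    rw [aff_one_pow, CharP.cast_eq_zero, zero_mul, aff_one_zero]

theorem fixedBy_aff {a : Kˣ} {b : K} (hg : aff a b ≠ 1) :
    ((aff a b) ^ p = 1 ∧ fixedBy (Pt K) (aff a b) = {pinf}) ∨
      ((aff a b) ^ p ≠ 1 ∧ fixedBy (Pt K) (aff a b) = {pinf, pt (b / (1 - a))}) := by
  rw [ne_eq, aff_pow_char_iff]
  by_cases ha : a = 1
  · subst ha
    have hb : b ≠ 0 := fun hb => hg (aff_eq_one_iff.2 ⟨rfl, hb⟩)
    refine Or.inl ⟨rfl, ?_⟩
    ext P
    rw [mem_fixedBy, Set.mem_singleton_iff]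
    rcases pt_cases P with rfl | ⟨x, rfl⟩
    · simp
    · simp [hb, pt_ne_pinf]
  · refine Or.inr ⟨ha, ?_⟩
    have ha' : (1 : K) - a ≠ 0 := by
      rw [sub_ne_zero]; exact fun h => ha (Units.ext h.symm)
    ext P
    rw [mem_fixedBy, Set.mem_insert_iff, Set.mem_singleton_iff]
    rcases pt_cases P with rfl | ⟨x, rfl⟩
    · simp
    · simp only [aff_smul_pt, pt_inj, pt_ne_pinf, false_or]
      rw [eq_div_iff ha']
      constructor <;> intro h <;> linear_combination -h

theorem fixedBy_cases [IsAlgClosed K] {g : PGL2 K} (hg : g ≠ 1) :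
    (g ^ p = 1 ∧ ∃ P, fixedBy (Pt K) g = {P}) ∨
      (g ^ p ≠ 1 ∧ ∃ P Q, P ≠ Q ∧ fixedBy (Pt K) g = {P, Q}) := by
  obtain ⟨P, hP⟩ := exists_fix g
  obtain ⟨k, hk⟩ := exists_map_pinf P
  obtain ⟨a, b, hab⟩ := exists_aff_of_fix (g := k * g * k⁻¹)
    (by rw [← hk, mul_smul, mul_smul, inv_smul_smul, hP])
  have hfix : ∀ R : Pt K, g • R = R ↔ aff a b • (k • R) = k • R := by
    intro R
    rw [← hab, mul_smul, mul_smul, inv_smul_smul]
    exact ⟨fun h => by rw [h], fun h => MulAction.injective k h⟩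
  have hne : aff a b ≠ 1 := by
    rw [← hab]; intro h; rw [mul_inv_eq_one] at h; exact hg (mul_eq_left.1 h)
  have hpow : (aff a b) ^ p = 1 ↔ g ^ p = 1 := by
    rw [← hab, conj_pow, mul_inv_eq_one, mul_eq_left]
  have hset : fixedBy (Pt K) g = (fun S => k⁻¹ • S) '' fixedBy (Pt K) (aff a b) := by
    ext R
    simp only [mem_fixedBy, Set.mem_image]
    constructor
    · intro h; exact ⟨k • R, (hfix R).1 h, inv_smul_smul _ _⟩
    · rintro ⟨S, hS, rfl⟩; rw [hfix, smul_inv_smul]; exact hS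
  rcases fixedBy_aff p hne with ⟨h1, h2⟩ | ⟨h1, h2⟩
  · exact Or.inl ⟨hpow.1 h1, k⁻¹ • pinf, by rw [hset, h2, Set.image_singleton]⟩
  · refine Or.inr ⟨mt hpow.2 h1, k⁻¹ • pinf, k⁻¹ • pt (b / (1 - a)), ?_, ?_⟩
    · exact fun h => pinf_ne_pt _ (MulAction.injective k⁻¹ h)
    · rw [hset, h2, Set.image_insert_eq, Set.image_singleton]

end CharP

end Cfsg.Agent.PSL2
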