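/-
Elements of `SL_2` over a field (and of `PSL_2` over a finite field).

Main results (namespace `Cfsg.Agent.PSL2`):
* `tr`, `tr_conj`, `coe_sq` (Cayley-Hamilton), `det_lin`
* `mem_center_iff'`            : central iff `1` or `-1`
* `exists_lin_of_commute`      : what commutes with a non-central element is `a • 1 + b • g`
* `commute_of_commute`         : centralisers of non-central elements are abelian
* `pow_card_cases`             : `g^(q-1) = 1`, or `g^(q+1) = 1`, or `g^p = 1` or `g^p = -1`
* `orderOf_dvd_of_coprime`     : semisimple elements have order dividing `q - 1` or `q + 1`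
* `psl_orderOf_cases`          : element orders in `PSL_2(q)`
-/
import Cfsg.Agent.EqLemmas

set_option autoImplicit false
set_option linter.unusedSectionVars false
set_option linter.dupNamespace false

open Matrix Polynomial

namespace Cfsg.Agent.PSL2

/-- `SL_2`. -/
abbrev SL2 (F : Type*) [CommRing F] : Type _ := Matrix.SpecialLinearGroup (Fin 2) F

/-- `PSL_2`. -/
abbrev PSL2 (F : Type*) [CommRing F] : Type _ := Matrix.ProjectiveSpecialLinearGroup (Fin 2) F

instance fact_even_two : Fact (Even (Fintype.card (Fin 2))) := ⟨by simp⟩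

section Field

variable {F : Type*} [Field F]

/-- The trace. -/
def tr (g : SL2 F) : F := g.1 0 0 + g.1 1 1

theorem det_eq (g : SL2 F) : g.1 0 0 * g.1 1 1 - g.1 0 1 * g.1 1 0 = 1 := by
  have h := g.2
  rwa [Matrix.det_fin_two] at h

theorem tr_eq_trace (g : SL2 F) : tr g = Matrix.trace g.1 := (Matrix.trace_fin_two _).symm

theorem tr_mul_comm (g h : SL2 F) : tr (g * h) = tr (h * g) := by
  simp only [tr_eq_trace, Matrix.SpecialLinearGroup.coe_mul]
  exact Matrix.trace_mul_comm _ _

theorem tr_conj (g h : SL2 F) : tr (h * g * h⁻¹) = tr g := by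
  rw [tr_mul_comm, ← mul_assoc, inv_mul_cancel, one_mul]

theorem tr_inv (g : SL2 F) : tr g⁻¹ = tr g := by
  simp [tr, Matrix.SpecialLinearGroup.coe_inv, Matrix.adjugate_fin_two, add_comm]

theorem tr_neg (g : SL2 F) : tr (-g) = - tr g := by
  simp [tr, add_comm]

theorem tr_one : tr (1 : SL2 F) = 2 := by simp [tr, one_add_one_eq_two]

theorem mem_center_iff' {g : SL2 F} :
    g ∈ Subgroup.center (SL2 F) ↔ g = 1 ∨ g = -1 := by
  constructor
  · intro hg
    obtain ⟨r, hr, hrg⟩ := Matrix.SpecialLinearGroup.mem_center_iff.1 hg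
    rw [Fintype.card_fin] at hr
    rcases sq_eq_one_iff.1 hr with rfl | rfl
    · left; apply Subtype.ext; rw [← hrg]; simp
    · right
      apply Subtype.ext
      rw [← hrg]
      simp [← Matrix.diagonal_neg]
  · rintro (rfl | rfl)
    · exact Subgroup.one_mem _
    · rw [Subgroup.mem_center_iff]; intro x; simp

theorem coe_sq (g : SL2 F) : g.1 * g.1 = tr g • g.1 - 1 := by
  have hd := det_eq g
  ext i j
  fin_cases i <;> fin_cases j <;>
    simp [Matrix.mul_apply, Fin.sum_univ_two, tr] <;> first | ring1 | linear_combination hd | linear_combination -hd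

/-- The combination `a • 1 + b • g`. -/
def lin (g : SL2 F) (a b : F) : Matrix (Fin 2) (Fin 2) F := a • (1 : Matrix (Fin 2) (Fin 2) F) + b • g.1

theorem det_lin (g : SL2 F) (a b : F) : (lin g a b).det = a ^ 2 + tr g * a * b + b ^ 2 := by
  have hd := det_eq g
  simp [lin, Matrix.det_fin_two, tr]
  linear_combination b ^ 2 * hd

theorem lin_mul_lin (g : SL2 F) (a b c d : F) :
    lin g a b * lin g c d = lin g (a * c - b * d) (a * d + b * c + b * d * tr g) := by
  have hd := det_eq g
  ext i j
  fin_cases i <;> fin_cases j <;>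
    simp [lin, Matrix.mul_apply, Fin.sum_univ_two, tr] <;> first | ring1 | linear_combination (b * d) * hd | linear_combination -(b * d) * hd

theorem lin_commute (g : SL2 F) (a b c d : F) : Commute (lin g a b) (lin g c d) := by
  rw [Commute, SemiconjBy, lin_mul_lin, lin_mul_lin]
  congr 1 <;> ring

theorem exists_lin_pow (g : SL2 F) (n : ℕ) : ∃ a b, g.1 ^ n = lin g a b := by
  induction n with
  | zero => exact ⟨1, 0, by simp [lin]⟩
  | succ n ih =>
    obtain ⟨a, b, h⟩ := ih
    refine ⟨-b, a + b * tr g, ?_⟩
    rw [pow_succ, h, show lin g a b * g.1 = lin g a b * lin g 0 1 by simp [lin], lin_mul_lin]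
    congr 1 <;> ring

/-- An element commuting with a non-central element is a combination of it and `1`. -/
theorem exists_lin_of_commute {g : SL2 F} (hg : g ∉ Subgroup.center (SL2 F))
    {M : Matrix (Fin 2) (Fin 2) F} (hM : M * g.1 = g.1 * M) : ∃ a b, M = lin g a b := by
  have h00 := congrFun (congrFun hM 0) 0
  have h01 := congrFun (congrFun hM 0) 1
  have h10 := congrFun (congrFun hM 1) 0
  simp [Matrix.mul_apply, Fin.sum_univ_two] at h00 h01 h10
  by_cases hb : g.1 0 1 = 0
  · by_cases hc : g.1 1 0 = 0
    · have hne : g.1 0 0 - g.1 1 1 ≠ 0 := by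
        intro h
        apply hg
        rw [mem_center_iff']
        have hd := det_eq g
        have h11 : g.1 1 1 = g.1 0 0 := (sub_eq_zero.1 h).symm
        rw [hb, h11, zero_mul, sub_zero] at hd
        rcases mul_self_eq_one_iff.1 hd with h0 | h0
        · left; ext i j; fin_cases i <;> fin_cases j <;> simp [hb, hc, h11, h0]
        · right; ext i j; fin_cases i <;> fin_cases j <;> simp [hb, hc, h11, h0]
      have m01 : M 0 1 = 0 := by
        have h : (g.1 0 0 - g.1 1 1) * M 0 1 = 0 := by
          rw [hb] at h01; linear_combination -h01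
        exact (mul_eq_zero.1 h).resolve_left hne
      have m10 : M 1 0 = 0 := by
        have h : (g.1 0 0 - g.1 1 1) * M 1 0 = 0 := by
          rw [hc] at h10; linear_combination h10
        exact (mul_eq_zero.1 h).resolve_left hne
      refine ⟨M 0 0 - (M 0 0 - M 1 1) / (g.1 0 0 - g.1 1 1) * g.1 0 0,
        (M 0 0 - M 1 1) / (g.1 0 0 - g.1 1 1), ?_⟩
      ext i j
      fin_cases i <;> fin_cases j <;> simp [lin, hb, hc, m01, m10]
      field_simp
      ring
    · refine ⟨M 0 0 - M 1 0 / g.1 1 0 * g.1 0 0, M 1 0 / g.1 1 0, ?_⟩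
      ext i j
      fin_cases i <;> fin_cases j <;> simp [lin] <;> field_simp <;>
        first
        | ring1
        | linear_combination h00
        | linear_combination h10
        | linear_combination -h00
        | linear_combination -h10
  · refine ⟨M 0 0 - M 0 1 / g.1 0 1 * g.1 0 0, M 0 1 / g.1 0 1, ?_⟩
    ext i j
    fin_cases i <;> fin_cases j <;> simp [lin] <;> field_simp <;>
      first
      | ring1
      | linear_combination h00
      | linear_combination h01
      | linear_combination -h00
      | linear_combination -h01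

/-- Centralisers of non-central elements are abelian. -/
theorem commute_of_commute {g x y : SL2 F} (hg : g ∉ Subgroup.center (SL2 F))
    (hx : Commute x g) (hy : Commute y g) : Commute x y := by
  obtain ⟨a, b, hab⟩ := exists_lin_of_commute hg (congrArg Subtype.val hx)
  obtain ⟨c, d, hcd⟩ := exists_lin_of_commute hg (congrArg Subtype.val hy)
  apply Subtype.ext
  rw [Matrix.SpecialLinearGroup.coe_mul, Matrix.SpecialLinearGroup.coe_mul, hab, hcd]
  exact lin_commute g a b c d

/-- Outside characteristic two only central elements square to one. -/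
theorem mem_center_of_mul_self {g : SL2 F} (h2 : (2 : F) ≠ 0) (h : g * g = 1) :
    g ∈ Subgroup.center (SL2 F) := by
  have h' := congrArg Subtype.val h
  rw [Matrix.SpecialLinearGroup.coe_mul, coe_sq, Matrix.SpecialLinearGroup.coe_one, sub_eq_iff_eq_add] at h'
  have e00 : tr g * g.1 0 0 = 2 := by simpa [one_add_one_eq_two] using congrFun (congrFun h' 0) 0
  have e11 : tr g * g.1 1 1 = 2 := by simpa [one_add_one_eq_two] using congrFun (congrFun h' 1) 1
  have e01 : tr g * g.1 0 1 = 0 := by simpa [one_add_one_eq_two] using congrFun (congrFun h' 0) 1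
  have e10 : tr g * g.1 1 0 = 0 := by simpa [one_add_one_eq_two] using congrFun (congrFun h' 1) 0
  have ht : tr g ≠ 0 := by intro ht; rw [ht, zero_mul] at e00; exact h2 e00.symm
  have e : g.1 0 0 = g.1 1 1 := mul_left_cancel₀ ht (e00.trans e11.symm)
  rw [Subgroup.mem_center_iff]
  intro y
  ext i j
  fin_cases i <;> fin_cases j <;>
    simp [Matrix.mul_apply, Fin.sum_univ_two, (mul_eq_zero.1 e01).resolve_left ht,
      (mul_eq_zero.1 e10).resolve_left ht, e, mul_comm]

end Field

section Finite

variable {F : Type*} [Field F] [Finite F]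

theorem two_ne_zero_of_dvd (h : 2 ∣ Nat.card F - 1) : (2 : F) ≠ 0 := by
  have := Fintype.ofFinite F
  intro h2
  obtain ⟨j, hj⟩ := h
  have hq1 : 1 < Nat.card F := Finite.one_lt_card
  have hcast : ((Nat.card F : ℕ) : F) = 0 := by
    rw [Nat.card_eq_fintype_card, FiniteField.cast_card_eq_zero]
  rw [show Nat.card F = 2 * j + 1 by omega] at hcast
  push_cast at hcast
  rw [h2] at hcast
  simp at hcast

variable (p : ℕ) [Fact p.Prime] [CharP F p]

theorem aeval_char (g : SL2 F) :
    aeval g.1 (X ^ 2 - C (tr g) * X + 1 : F[X]) = 0 := by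
  simp [pow_two, coe_sq, Algebra.smul_def]

/-- The trichotomy for elements of `SL_2(q)`. -/
theorem pow_card_cases (g : SL2 F) :
    g ^ (Nat.card F - 1) = 1 ∨ g ^ (Nat.card F + 1) = 1 ∨ (g ^ p = 1 ∨ g ^ p = -1) := by
  have := Fintype.ofFinite F
  set q := Nat.card F with hqdef
  have hq1 : 1 < q := Finite.one_lt_card
  have hqF : q = Fintype.card F := Nat.card_eq_fintype_card
  by_cases hroot : ∃ s : F, s ^ 2 - tr g * s + 1 = 0
  · obtain ⟨s, hs⟩ := hroot
    have hs0 : s ≠ 0 := by rintro rfl; simp at hs
    have hfac : (X ^ 2 - C (tr g) * X + 1 : F[X]) = (X - C s) * (X - C s⁻¹) := by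
      have ht : tr g = s + s⁻¹ := by
        field_simp
        linear_combination -hs
      have h1 : (1 : F[X]) = C s * C s⁻¹ := by rw [← C_mul, mul_inv_cancel₀ hs0, C_1]
      rw [ht, C_add, h1]
      ring
    by_cases hss : s = s⁻¹
    · right; right
      have hsq : s * s = 1 := by
        nth_rewrite 2 [hss]
        exact mul_inv_cancel₀ hs0
      have h0 : (g.1 - algebraMap F _ s) ^ 2 = 0 := by
        have := aeval_char g
        rw [hfac, ← hss, map_mul] at this
        simpa [pow_two] using this
      have hp2 : 2 ≤ p := (Fact.out : p.Prime).two_le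
      have hp0 : (g.1 - algebraMap F _ s) ^ p = 0 := by
        rw [show p = 2 + (p - 2) by omega, pow_add, h0, zero_mul]
      have hgp : g.1 ^ p = algebraMap F _ (s ^ p) := by
        rw [sub_pow_char_of_commute p (Algebra.commute_algebraMap_right _ _), ← map_pow,
          sub_eq_zero] at hp0
        exact hp0
      rcases mul_self_eq_one_iff.1 hsq with rfl | rfl
      · left; apply Subtype.ext; simp [hgp]
      · right
        apply Subtype.ext
        rw [Matrix.SpecialLinearGroup.coe_pow, hgp, neg_one_pow_char F p, map_neg, map_one]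
        simp
    · left
      have hd : (X - C s) * (X - C s⁻¹) ∣ (X ^ q - X : F[X]) := by
        apply IsCoprime.mul_dvd
        · exact Polynomial.isCoprime_X_sub_C_of_isUnit_sub (IsUnit.mk0 _ (sub_ne_zero.2 hss))
        · rw [Polynomial.dvd_iff_isRoot]; simp [hqF, FiniteField.pow_card]
        · rw [Polynomial.dvd_iff_isRoot]; simp [hqF, FiniteField.pow_card]
      have h2 : aeval g.1 (X ^ q - X : F[X]) = 0 := by
        obtain ⟨r, hr⟩ := hd
        rw [hr, map_mul, ← hfac, aeval_char, zero_mul]
      have h3 : g ^ q = g := by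
        apply Subtype.ext
        simpa [sub_eq_zero] using h2
      have h4 : g ^ (q - 1) * g = g := by
        rw [← pow_succ, Nat.sub_add_cancel hq1.le, h3]
      simpa using h4
  · obtain ⟨a, b, hab⟩ := exists_lin_pow g q
    -- `(g^q - g) (g^q - t + g) = 0`
    have hfrob : (g.1 ^ q) * (g.1 ^ q) = tr g • (g.1 ^ q) - 1 := by
      have h1 : aeval g.1 ((X ^ 2 - C (tr g) * X + 1 : F[X]) ^ q) = 0 := by
        rw [map_pow, aeval_char, zero_pow (by omega)]
      rw [hqF, ← FiniteField.expand_card, expand_aeval, ← hqF] at h1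
      rw [← sub_eq_zero]
      simp [pow_two, Algebra.smul_def] at h1 ⊢
      rw [← h1]
      noncomm_ring
    have hprod : (lin g a b - g.1) * (lin g a b - (tr g • 1 - g.1)) = 0 := by
      have hc : Commute (lin g a b) g.1 := by
        have h1 : lin g 0 1 = g.1 := by simp [lin]
        exact h1 ▸ lin_commute g a b 0 1
      rw [← hab] at hc ⊢
      simp only [sub_mul, mul_sub, mul_smul_comm, mul_one, coe_sq, hfrob, hc.eq]
      module
    have hnz : ∀ c d : F, lin g c d ≠ 0 → (lin g c d).det ≠ 0 := by
      intro c d hne hdet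
      rw [det_lin] at hdet
      by_cases hd : d = 0
      · subst hd
        have hc : c = 0 := by simpa using hdet
        exact hne (by simp [lin, hc])
      · apply hroot
        refine ⟨-c / d, ?_⟩
        field_simp
        linear_combination hdet
    have e1 : lin g a b - g.1 = lin g a (b - 1) := by
      simp only [lin, sub_smul, one_smul]; abel
    have e2 : lin g a b - (tr g • 1 - g.1) = lin g (a - tr g) (b + 1) := by
      simp only [lin, sub_smul, add_smul, one_smul]; abel
    rw [e1, e2] at hprod
    by_cases h1 : lin g a (b - 1) = 0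
    · left
      have h3 : g ^ q = g := by
        apply Subtype.ext
        rw [Matrix.SpecialLinearGroup.coe_pow, hab, ← sub_eq_zero, e1, h1]
      have h4 : g ^ (q - 1) * g = g := by
        rw [← pow_succ, Nat.sub_add_cancel hq1.le, h3]
      simpa using h4
    · right; left
      have h2 : lin g (a - tr g) (b + 1) = 0 := by
        by_contra h2
        have := congrArg Matrix.det hprod
        rw [Matrix.det_mul, Matrix.det_zero] at this
        exact mul_ne_zero (hnz _ _ h1) (hnz _ _ h2) this
      rw [← e2, sub_eq_zero, ← hab] at h2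
      apply Subtype.ext
      rw [Matrix.SpecialLinearGroup.coe_pow, pow_succ, h2, sub_mul, smul_mul_assoc, one_mul, coe_sq,
        Matrix.SpecialLinearGroup.coe_one]
      abel

/-- Semisimple elements of `SL_2(q)` have order dividing `q - 1` or `q + 1`. -/
theorem orderOf_dvd_of_coprime {g : SL2 F} (hg : Nat.Coprime (orderOf g) p) :
    orderOf g ∣ Nat.card F - 1 ∨ orderOf g ∣ Nat.card F + 1 := by
  rcases pow_card_cases p g with h | h | h
  · exact Or.inl (orderOf_dvd_of_pow_eq_one h)
  · exact Or.inr (orderOf_dvd_of_pow_eq_one h)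
  · rcases h with h | h
    · have h1 : orderOf g = 1 := Nat.Coprime.eq_one_of_dvd hg (orderOf_dvd_of_pow_eq_one h)
      left; rw [h1]; exact one_dvd _
    · have h2 : g ^ (p * 2) = 1 := by rw [pow_mul, h, neg_one_sq]
      have h3 : orderOf g ∣ 2 := hg.dvd_of_dvd_mul_left (orderOf_dvd_of_pow_eq_one h2)
      by_cases hp : p = 2
      · subst hp
        have h1 : orderOf g = 1 := Nat.Coprime.eq_one_of_dvd hg h3
        left; rw [h1]; exact one_dvd _
      · left
        refine h3.trans ?_
        have := Fintype.ofFinite F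
        obtain ⟨n, hn, hc⟩ := FiniteField.card F p
        have hodd : Odd (Fintype.card F) := hc ▸ ((Fact.out : p.Prime).odd_of_ne_two hp).pow
        obtain ⟨m, hm⟩ := hodd
        exact ⟨m, by rw [Nat.card_eq_fintype_card]; omega⟩

/-- Element orders in `PSL_2(q)`. -/
theorem psl_orderOf_cases (x : PSL2 F) :
    orderOf x ∣ (Nat.card F - 1) / Nat.gcd 2 (Nat.card F - 1) ∨
      orderOf x ∣ (Nat.card F + 1) / Nat.gcd 2 (Nat.card F - 1) ∨ orderOf x ∣ p := by
  obtain ⟨g, rfl⟩ := QuotientGroup.mk_surjective x
  have hone : ∀ h : SL2 F, h = 1 ∨ h = -1 → (QuotientGroup.mk h : PSL2 F) = 1 := fun h hh =>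
    (QuotientGroup.eq_one_iff h).2 (mem_center_iff'.2 hh)
  have hq1 : 1 < Nat.card F := Finite.one_lt_card
  have key : ∀ m : ℕ, Nat.gcd 2 (Nat.card F - 1) ∣ m → g ^ m = 1 →
      orderOf (QuotientGroup.mk g : PSL2 F) ∣ m / Nat.gcd 2 (Nat.card F - 1) := by
    intro m hm hg
    apply orderOf_dvd_of_pow_eq_one
    rw [← QuotientGroup.mk_pow]
    rcases (Nat.dvd_prime Nat.prime_two).1 (Nat.gcd_dvd_left 2 (Nat.card F - 1)) with h | h
    · rw [h, Nat.div_one, hg, QuotientGroup.mk_one]
    · rw [h] at hm ⊢
      obtain ⟨k, rfl⟩ := hm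
      rw [Nat.mul_div_cancel_left _ two_pos]
      apply hone
      have h1 : g ^ k * g ^ k = 1 := by rw [← pow_add, ← two_mul, hg]
      refine mem_center_iff'.1 (mem_center_of_mul_self ?_ h1)
      exact two_ne_zero_of_dvd (h ▸ Nat.gcd_dvd_right 2 (Nat.card F - 1))
  have hd1 : Nat.gcd 2 (Nat.card F - 1) ∣ Nat.card F - 1 := Nat.gcd_dvd_right _ _
  have hd2 : Nat.gcd 2 (Nat.card F - 1) ∣ Nat.card F + 1 := by
    have h := Nat.dvd_add hd1 (Nat.gcd_dvd_left 2 (Nat.card F - 1))
    rwa [show Nat.card F - 1 + 2 = Nat.card F + 1 by omega] at h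
  rcases pow_card_cases p g with h | h | h
  · exact Or.inl (key _ hd1 h)
  · exact Or.inr (Or.inl (key _ hd2 h))
  · right; right
    apply orderOf_dvd_of_pow_eq_one
    rw [← QuotientGroup.mk_pow]
    exact hone _ h

end Finite

end Cfsg.Agent.PSL2
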