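/-
The polyhedral subgroups of `PSL_2` in odd characteristic, through quaternions over `ℤ[w]`.

Main results (namespace `Cfsg.Agent.PSL2`):
* `exists_sq_add_sq`           : `a^2 + b^2 = -1` has a solution
* `exists_alternatingFour_sub` : `A_4` inside `PSL_2(F)`, `2 ≠ 0`
* `exists_permFour_sub`        : `S_4` inside `PSL_2(F)`, if moreover 2 is a square
* `exists_alternatingFive_sub` : `A_5` inside `PSL_2(F)`, if moreover 5 is a square
-/
import Cfsg.Agent.Lib.PSL2.Basic
import Cfsg.Agent.Lib.PSL2.Groups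

set_option autoImplicit false
set_option linter.unusedSectionVars false
set_option linter.dupNamespace false

open Matrix Subgroup

namespace Cfsg.Agent.PSL2

/-- `x + y w`, as a pair. -/
abbrev Zw : Type := ℤ × ℤ

/-- A quaternion with coefficients in `ℤ[w]`, representing twice an element of the norm one group. -/
abbrev Quad : Type := Zw × Zw × Zw × Zw

/-- The product in `ℤ[w]`, `w^2 = c.1 + c.2 w`. -/
def zmul (c x y : Zw) : Zw :=
  (x.1 * y.1 + c.1 * (x.2 * y.2), x.1 * y.2 + x.2 * y.1 + c.2 * (x.2 * y.2))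

/-- The quaternion product. -/
def qmul (c : Zw) : Quad → Quad → Quad
  | (r, i, j, k), (r', i', j', k') =>
    (zmul c r r' - zmul c i i' - zmul c j j' - zmul c k k',
      zmul c r i' + zmul c i r' + zmul c j k' - zmul c k j',
      zmul c r j' - zmul c i k' + zmul c j r' + zmul c k i',
      zmul c r k' + zmul c i j' - zmul c j i' + zmul c k r')

/-- The neutral element. -/
def qone : Quad := ((2, 0), (0, 0), (0, 0), (0, 0))

/-- Twice a quaternion. -/
def qdbl (X : Quad) : Quad := X + X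

/-- The squared norm. -/
def qnorm (c : Zw) : Quad → Zw
  | (r, i, j, k) => zmul c r r + zmul c i i + zmul c j j + zmul c k k

/-- Half of a quaternion, truncated. -/
def qhalf : Quad → Quad
  | ((a, b), (d, e), (f, g), (h, i)) => ((a / 2, b / 2), (d / 2, e / 2), (f / 2, g / 2), (h / 2, i / 2))

/-- The product of two representatives, if it is one. -/
def qprod (c : Zw) (X Y : Quad) : Option Quad :=
  if qdbl (qhalf (qmul c X Y)) = qmul c X Y then some (qhalf (qmul c X Y)) else none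

/-- The powers of a representative. -/
def qpow (c : Zw) (X : Quad) : ℕ → Option Quad
  | 0 => some qone
  | n + 1 => (qpow c X n).bind fun Y => qprod c Y X

/-- Equality up to sign. -/
def qpm (X Y : Quad) : Bool := X = Y || X = -Y

/-- A table closed under multiplication on the right by `S`, all of norm one. -/
def tableOK (c : Zw) (S T : List Quad) : Bool :=
  T.all (fun X => qnorm c X = (4, 0) && S.all fun g =>
    match qprod c X g with
    | some Y => T.any (qpm Y)
    | none => false) && T.any (qpm qone) && S.all (fun g => T.any (qpm g))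

/-- All members of a table have projective order in `ns`. -/
def ordersOK (c : Zw) (ns : List ℕ) (T : List Quad) : Bool :=
  T.all fun X => ns.any fun n =>
    match qpow c X n with
    | some Y => qpm Y qone
    | none => false

/-- The power `X^n` is trivial up to sign. -/
def powOne (c : Zw) (X : Quad) (n : ℕ) : Bool :=
  match qpow c X n with
  | some Y => qpm Y qone
  | none => false

theorem exists_sq_add_sq {F : Type*} [Field F] [Finite F] : ∃ a b : F, a ^ 2 + b ^ 2 = -1 := by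
  have := Fintype.ofFinite F
  by_cases h : ringChar F = 2
  · have : CharP F 2 := ringChar.of_eq h
    exact ⟨1, 0, by rw [one_pow, zero_pow two_ne_zero, add_zero, CharTwo.neg_eq]⟩
  · obtain ⟨a, b, hab⟩ := FiniteField.exists_root_sum_quadratic (f := (Polynomial.X ^ 2 : Polynomial F))
      (g := Polynomial.X ^ 2 - Polynomial.C (-1)) (Polynomial.degree_X_pow 2)
      (Polynomial.degree_X_pow_sub_C (by norm_num) _) (FiniteField.odd_card_of_char_ne_two h)
    refine ⟨a, b, ?_⟩
    simp at hab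
    linear_combination hab

section Rep

variable {F : Type*} [Field F] (c : Zw) (w a b : F)

/-- The value in `F`. -/
def zval (x : Zw) : F := (x.1 : F) + (x.2 : F) * w

theorem zval_add (x y : Zw) : zval w (x + y) = zval w x + zval w y := by
  simp [zval]; ring

theorem zval_sub (x y : Zw) : zval w (x - y) = zval w x - zval w y := by
  simp [zval]; ring

theorem zval_neg (x : Zw) : zval w (-x) = - zval w x := by
  simp [zval]; ring

theorem zval_zmul {c : Zw} {w : F} (hw : w ^ 2 = (c.1 : F) + (c.2 : F) * w) (x y : Zw) :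
    zval w (zmul c x y) = zval w x * zval w y := by
  simp [zval, zmul]
  linear_combination (-(x.2 : F) * (y.2 : F)) * hw

/-- The matrix of a quaternion, halved. -/
noncomputable def qmat : Quad → Matrix (Fin 2) (Fin 2) F
  | (r, i, j, k) =>
    (2 : F)⁻¹ • !![zval w r + a * zval w j + b * zval w k, zval w i + b * zval w j - a * zval w k;
      -zval w i + b * zval w j - a * zval w k, zval w r - a * zval w j - b * zval w k]

variable {c w a b}

theorem qmat_neg (X : Quad) : qmat w a b (-X) = - qmat w a b X := by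
  obtain ⟨r, i, j, k⟩ := X
  simp only [Prod.neg_mk, qmat, zval_neg]
  ext u v
  fin_cases u <;> fin_cases v <;> simp <;> ring

theorem qmat_qmul (h2 : (2 : F) ≠ 0) (hw : w ^ 2 = (c.1 : F) + (c.2 : F) * w)
    (hab : a ^ 2 + b ^ 2 = -1) (X Y : Quad) :
    qmat w a b (qmul c X Y) = (2 : F) • (qmat w a b X * qmat w a b Y) := by
  obtain ⟨r, i, j, k⟩ := X
  obtain ⟨r', i', j', k'⟩ := Y
  simp only [qmul, qmat, zval_add, zval_sub, zval_zmul hw]
  ext u v
  fin_cases u <;> fin_cases v <;>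
    simp [Matrix.mul_apply, Fin.sum_univ_two] <;> field_simp
  · linear_combination -(zval w j * zval w j' + zval w k * zval w k') * hab
  · linear_combination (zval w j * zval w k' - zval w k * zval w j') * hab
  · linear_combination (zval w k * zval w j' - zval w j * zval w k') * hab
  · linear_combination -(zval w j * zval w j' + zval w k * zval w k') * hab

theorem qmat_dbl (X : Quad) : qmat w a b (qdbl X) = (2 : F) • qmat w a b X := by
  obtain ⟨r, i, j, k⟩ := X
  simp only [qdbl, Prod.mk_add_mk, qmat, zval_add]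
  ext u v
  fin_cases u <;> fin_cases v <;> simp <;> ring

theorem det_qmat (h2 : (2 : F) ≠ 0) (hw : w ^ 2 = (c.1 : F) + (c.2 : F) * w)
    (hab : a ^ 2 + b ^ 2 = -1) {X : Quad} (hX : qnorm c X = (4, 0)) : (qmat w a b X).det = 1 := by
  obtain ⟨r, i, j, k⟩ := X
  have h : zval w r * zval w r + zval w i * zval w i + zval w j * zval w j +
      zval w k * zval w k = 4 := by
    rw [← zval_zmul hw, ← zval_zmul hw, ← zval_zmul hw, ← zval_zmul hw, ← zval_add, ← zval_add,
      ← zval_add]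
    change zval w (qnorm c (r, i, j, k)) = 4
    rw [hX]; simp [zval]
  simp [qmat, Matrix.det_fin_two]
  field_simp
  linear_combination h - (zval w j ^ 2 + zval w k ^ 2) * hab

variable (w a b)

/-- `x` is the image of the quaternion `X`. -/
def Rep (X : Quad) (x : PSL2 F) : Prop := ∃ g : SL2 F, g.1 = qmat w a b X ∧ QuotientGroup.mk g = x

variable {w a b}

theorem Rep.unique {X : Quad} {x y : PSL2 F} (hx : Rep w a b X x) (hy : Rep w a b X y) : x = y := by
  obtain ⟨g, hg, rfl⟩ := hx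
  obtain ⟨g', hg', rfl⟩ := hy
  rw [Subtype.ext (hg.trans hg'.symm)]

theorem Rep.neg {X : Quad} {x : PSL2 F} (hx : Rep w a b X x) : Rep w a b (-X) x := by
  obtain ⟨g, hg, rfl⟩ := hx
  refine ⟨-g, by rw [qmat_neg, ← hg]; rfl, ?_⟩
  rw [QuotientGroup.eq, mem_center_iff']
  right
  rw [inv_mul_eq_iff_eq_mul, neg_mul_neg, mul_one]
  
theorem rep_one (h2 : (2 : F) ≠ 0) : Rep w a b qone (1 : PSL2 F) := by
  refine ⟨1, ?_, QuotientGroup.mk_one _⟩
  rw [Matrix.SpecialLinearGroup.coe_one, qone, qmat]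
  ext u v
  fin_cases u <;> fin_cases v <;> simp [zval, h2]

theorem Rep.mul (h2 : (2 : F) ≠ 0) (hw : w ^ 2 = (c.1 : F) + (c.2 : F) * w)
    (hab : a ^ 2 + b ^ 2 = -1) {X Y Z : Quad} {x y : PSL2 F} (hx : Rep w a b X x)
    (hy : Rep w a b Y y) (hZ : qprod c X Y = some Z) : Rep w a b Z (x * y) := by
  obtain ⟨g, hg, rfl⟩ := hx
  obtain ⟨g', hg', rfl⟩ := hy
  rw [qprod] at hZ
  split_ifs at hZ with hd
  obtain rfl := Option.some.inj hZ
  refine ⟨g * g', ?_, QuotientGroup.mk_mul _ _ _⟩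
  have h := qmat_dbl (w := w) (a := a) (b := b) (qhalf (qmul c X Y))
  rw [hd, qmat_qmul h2 hw hab, ← hg, ← hg'] at h
  rw [Matrix.SpecialLinearGroup.coe_mul]
  exact smul_right_injective _ h2 h

theorem Rep.of_qpm {X Y : Quad} {x : PSL2 F} (hx : Rep w a b X x) (h : qpm X Y = true) :
    Rep w a b Y x := by
  simp only [qpm, Bool.or_eq_true, decide_eq_true_eq] at h
  rcases h with rfl | rfl
  · exact hx
  · simpa using hx.neg

theorem rep_pow (h2 : (2 : F) ≠ 0) (hw : w ^ 2 = (c.1 : F) + (c.2 : F) * w)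
    (hab : a ^ 2 + b ^ 2 = -1) {X : Quad} {x : PSL2 F} (hx : Rep w a b X x) :
    ∀ (n : ℕ) (Y : Quad), qpow c X n = some Y → Rep w a b Y (x ^ n) := by
  intro n
  induction n with
  | zero =>
    intro Y h
    obtain rfl := Option.some.inj h
    rw [pow_zero]; exact rep_one h2
  | succ n ih =>
    intro Y h
    rw [qpow, Option.bind_eq_some_iff] at h
    obtain ⟨W, hW, hY⟩ := h
    rw [pow_succ]
    exact Rep.mul h2 hw hab (ih W hW) hx hY

theorem pow_eq_one_of_powOne (h2 : (2 : F) ≠ 0) (hw : w ^ 2 = (c.1 : F) + (c.2 : F) * w)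
    (hab : a ^ 2 + b ^ 2 = -1) {X : Quad} {x : PSL2 F} (hx : Rep w a b X x) {n : ℕ}
    (hn : powOne c X n = true) : x ^ n = 1 := by
  rw [powOne] at hn
  split at hn
  next Y hY => exact ((rep_pow h2 hw hab hx n Y hY).of_qpm hn).unique (rep_one h2)
  next => exact absurd hn Bool.false_ne_true

theorem eq_one_of_rep (h2 : (2 : F) ≠ 0) (hab : a ^ 2 + b ^ 2 = -1) {X : Quad} {x : PSL2 F}
    (hx : Rep w a b X x) (h : x = 1) :
    zval w X.2.1 = 0 ∧ zval w X.2.2.1 = 0 ∧ zval w X.2.2.2 = 0 := by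
  obtain ⟨g, hg, rfl⟩ := hx
  obtain ⟨r, i, j, k⟩ := X
  have hc : g.1 0 1 = 0 ∧ g.1 1 0 = 0 ∧ g.1 0 0 = g.1 1 1 := by
    rw [QuotientGroup.eq_one_iff, mem_center_iff'] at h
    rcases h with rfl | rfl <;> simp
  rw [hg] at hc
  simp [qmat, h2] at hc
  obtain ⟨h1, h3, h4⟩ := hc
  have hi : zval w i = 0 := by
    refine (mul_eq_zero.1 (show (2 : F) * zval w i = 0 from ?_)).resolve_left h2
    linear_combination h1 - h3
  have e1 : b * zval w j - a * zval w k = 0 := by linear_combination h1 - hi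
  have e2 : a * zval w j + b * zval w k = 0 := by
    refine (mul_eq_zero.1 (show (2 : F) * (a * zval w j + b * zval w k) = 0 from ?_)).resolve_left h2
    linear_combination h4
  refine ⟨hi, ?_, ?_⟩
  · linear_combination zval w j * hab - a * e2 - b * e1
  · linear_combination zval w k * hab + a * e1 - b * e2

/-- The group generated by the images of a closed table. -/
theorem exists_table_group [Finite F] (h2 : (2 : F) ≠ 0)
    (hw : w ^ 2 = (c.1 : F) + (c.2 : F) * w) (hab : a ^ 2 + b ^ 2 = -1) (S T : List Quad)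
    (hT : tableOK c S T = true) :
    ∃ H : Subgroup (PSL2 F), (∀ g ∈ S, ∃ x ∈ H, Rep w a b g x) ∧
      Nat.card H ≤ T.length ∧ ∀ x ∈ H, ∃ X ∈ T, Rep w a b X x := by
  simp only [tableOK, Bool.and_eq_true, List.all_eq_true, decide_eq_true_eq, List.any_eq_true] at hT
  obtain ⟨⟨hclosed, Y₁, hY₁, hone⟩, hS⟩ := hT
  have hex : ∀ X ∈ T, ∃ x, Rep w a b X x := fun X hX =>
    ⟨_, ⟨qmat w a b X, det_qmat h2 hw hab (hclosed X hX).1⟩, rfl, rfl⟩
  have hgen : ∀ g ∈ S, ∃ x, Rep w a b g x := by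
    intro g hg
    obtain ⟨Y, hY, hgY⟩ := hS g hg
    obtain ⟨x, hx⟩ := hex Y hY
    refine ⟨x, hx.of_qpm ?_⟩
    simp only [qpm, Bool.or_eq_true, decide_eq_true_eq] at hgY ⊢
    rcases hgY with rfl | rfl <;> simp
  let G : Set (PSL2 F) := {x | ∃ g ∈ S, Rep w a b g x}
  let R : Set (PSL2 F) := {x | ∃ X ∈ T, Rep w a b X x}
  have hsub : ∀ x ∈ Submonoid.closure G, ∀ y ∈ R, y * x ∈ R := by
    intro x hx
    induction hx using Submonoid.closure_induction with
    | mem x hx =>
      obtain ⟨g, hg, hgx⟩ := hx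
      rintro y ⟨X, hX, hXy⟩
      have h := (hclosed X hX).2 g hg
      split at h
      next Z hZ =>
        obtain ⟨Y, hY, hZY⟩ := List.any_eq_true.1 h
        exact ⟨Y, hY, (Rep.mul h2 hw hab hXy hgx hZ).of_qpm hZY⟩
      next => exact absurd h Bool.false_ne_true
    | one => intro y hy; rwa [mul_one]
    | mul x x' _ _ ih ih' => intro y hy; rw [← mul_assoc]; exact ih' _ (ih y hy)
  have hR1 : (1 : PSL2 F) ∈ R := ⟨Y₁, hY₁, (rep_one h2).of_qpm hone⟩
  refine ⟨Subgroup.closure G, ?_, ?_, ?_⟩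
  · intro g hg
    obtain ⟨x, hx⟩ := hgen g hg
    exact ⟨x, Subgroup.subset_closure ⟨g, hg, hx⟩, hx⟩
  all_goals
    have hHR : ∀ x ∈ Subgroup.closure G, ∃ X ∈ T, Rep w a b X x := by
      intro x hx
      have hx' : x ∈ Submonoid.closure G := by
        rw [← Subgroup.closure_toSubmonoid_of_finite]; exact hx
      have := hsub x hx' 1 hR1
      rwa [one_mul] at this
  · choose X hX hXr using fun x : Subgroup.closure G => hHR x.1 x.2
    have hinj : Function.Injective fun x : Subgroup.closure G =>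
        (⟨X x, List.mem_toFinset.2 (hX x)⟩ : T.toFinset) := by
      intro x y h
      have h' : X x = X y := congrArg Subtype.val h
      exact Subtype.ext ((hXr x).unique (h' ▸ hXr y))
    refine (Nat.card_le_card_of_injective _ hinj).trans ?_
    rw [Nat.card_eq_fintype_card, Fintype.card_coe]
    exact T.toFinset_card_le
  · exact hHR

theorem orders_of_table (h2 : (2 : F) ≠ 0) (hw : w ^ 2 = (c.1 : F) + (c.2 : F) * w)
    (hab : a ^ 2 + b ^ 2 = -1) {T : List Quad} {ns : List ℕ} (hord : ordersOK c ns T = true)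
    {H : Subgroup (PSL2 F)} (hH : ∀ x ∈ H, ∃ X ∈ T, Rep w a b X x) (x : H) :
    ∃ n ∈ ns, orderOf x ∣ n := by
  obtain ⟨X, hX, hXx⟩ := hH x x.2
  simp only [ordersOK, List.all_eq_true, List.any_eq_true] at hord
  obtain ⟨n, hn, hnX⟩ := hord X hX
  exact ⟨n, hn, orderOf_dvd_of_pow_eq_one (Subtype.ext (by
    rw [Subgroup.coe_pow]; exact pow_eq_one_of_powOne h2 hw hab hXx hnX))⟩

end Rep

/-- The quaternion `i`. -/
def genI : Quad := ((0, 0), (2, 0), (0, 0), (0, 0))

/-- The quaternion `j`. -/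
def genJ : Quad := ((0, 0), (0, 0), (2, 0), (0, 0))

/-- An element of order three normalising the quaternion group. -/
def genU : Quad := ((-1, 0), (1, 0), (1, 0), (1, 0))

/-- An element of order four, `w^2 = 2`. -/
def genS : Quad := ((0, 1), (0, 1), (0, 0), (0, 0))

/-- An element of order five, `w^2 = 1 + w`. -/
def genV : Quad := ((0, 1), (1, 0), (-1, 1), (0, 0))

/-- The binary tetrahedral group up to sign. -/
def tableFour : List Quad :=
  [((2, 0), (0, 0), (0, 0), (0, 0)),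
    ((0, 0), (2, 0), (0, 0), (0, 0)),
    ((0, 0), (0, 0), (2, 0), (0, 0)),
    ((-1, 0), (1, 0), (1, 0), (1, 0)),
    ((-1, 0), (-1, 0), (1, 0), (-1, 0)),
    ((-1, 0), (-1, 0), (-1, 0), (1, 0)),
    ((-1, 0), (-1, 0), (-1, 0), (-1, 0)),
    ((1, 0), (-1, 0), (-1, 0), (1, 0)),
    ((1, 0), (1, 0), (-1, 0), (-1, 0)),
    ((-1, 0), (1, 0), (-1, 0), (1, 0)),
    ((0, 0), (0, 0), (0, 0), (2, 0)),
    ((1, 0), (-1, 0), (1, 0), (1, 0))]

/-- The binary octahedral group up to sign. -/
def tableOct : List Quad :=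
  [((2, 0), (0, 0), (0, 0), (0, 0)),
    ((0, 0), (2, 0), (0, 0), (0, 0)),
    ((0, 0), (0, 0), (2, 0), (0, 0)),
    ((-1, 0), (1, 0), (1, 0), (1, 0)),
    ((0, 1), (0, 1), (0, 0), (0, 0)),
    ((0, -1), (0, 1), (0, 0), (0, 0)),
    ((0, 0), (0, 0), (0, 1), (0, 1)),
    ((0, -1), (0, 0), (0, 0), (0, 1)),
    ((0, 0), (0, -1), (0, 1), (0, 0)),
    ((0, 0), (0, -1), (0, -1), (0, 0)),
    ((0, 0), (0, -1), (0, 0), (0, -1)),
    ((-1, 0), (-1, 0), (1, 0), (1, 0)),
    ((1, 0), (-1, 0), (1, 0), (-1, 0)),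
    ((-1, 0), (-1, 0), (-1, 0), (-1, 0)),
    ((0, 0), (0, 0), (0, 0), (-2, 0)),
    ((1, 0), (1, 0), (-1, 0), (1, 0)),
    ((1, 0), (-1, 0), (1, 0), (1, 0)),
    ((1, 0), (1, 0), (1, 0), (-1, 0)),
    ((-1, 0), (1, 0), (1, 0), (-1, 0)),
    ((0, 1), (0, 0), (0, 1), (0, 0)),
    ((0, 0), (0, 1), (0, 0), (0, -1)),
    ((0, -1), (0, 0), (0, 1), (0, 0)),
    ((0, 0), (0, 0), (0, -1), (0, 1)),
    ((0, -1), (0, 0), (0, 0), (0, -1))]

/-- The binary icosahedral group up to sign. -/
def tableIcos : List Quad :=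
  [((2, 0), (0, 0), (0, 0), (0, 0)),
    ((0, 0), (2, 0), (0, 0), (0, 0)),
    ((0, 0), (0, 0), (2, 0), (0, 0)),
    ((-1, 0), (1, 0), (1, 0), (1, 0)),
    ((0, 1), (1, 0), (-1, 1), (0, 0)),
    ((-1, 0), (0, 1), (0, 0), (1, -1)),
    ((1, -1), (0, 0), (0, 1), (1, 0)),
    ((0, -1), (-1, 1), (0, 0), (1, 0)),
    ((-1, 1), (0, 1), (1, 0), (0, 0)),
    ((0, -1), (-1, 1), (0, 0), (-1, 0)),
    ((-1, 0), (0, 0), (-1, 1), (0, 1)),
    ((0, -1), (0, 0), (-1, 0), (-1, 1)),
    ((1, -1), (0, 1), (1, 0), (0, 0)),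
    ((0, -1), (1, -1), (0, 0), (-1, 0)),
    ((-1, 0), (0, 0), (1, -1), (0, 1)),
    ((-1, 0), (1, -1), (0, -1), (0, 0)),
    ((0, -1), (1, 0), (-1, 1), (0, 0)),
    ((-1, 0), (0, -1), (0, 0), (1, -1)),
    ((1, -1), (0, 0), (0, -1), (1, 0)),
    ((0, 0), (-1, 0), (0, -1), (1, -1)),
    ((1, 0), (0, 0), (1, -1), (0, 1)),
    ((0, 1), (-1, 1), (0, 0), (-1, 0)),
    ((0, 1), (0, 0), (1, 0), (-1, 1)),
    ((1, 0), (1, -1), (0, -1), (0, 0)),
    ((-1, 1), (1, 0), (0, 0), (0, 1)),
    ((-1, 1), (0, 0), (0, 1), (1, 0)),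
    ((0, 1), (0, 0), (-1, 0), (-1, 1)),
    ((0, 0), (0, 1), (-1, 1), (1, 0)),
    ((1, 0), (1, -1), (0, 1), (0, 0)),
    ((-1, 1), (1, 0), (0, 0), (0, -1)),
    ((0, 0), (-1, 1), (-1, 0), (0, 1)),
    ((0, 0), (0, 1), (1, -1), (-1, 0)),
    ((0, 0), (1, -1), (-1, 0), (0, 1)),
    ((1, -1), (0, 1), (-1, 0), (0, 0)),
    ((0, 0), (0, -1), (1, -1), (1, 0)),
    ((-1, 0), (1, 0), (-1, 0), (1, 0)),
    ((-1, 0), (-1, 0), (1, 0), (1, 0)),
    ((1, 0), (-1, 0), (-1, 0), (1, 0)),
    ((1, 0), (1, 0), (1, 0), (1, 0)),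
    ((0, 0), (0, 0), (0, 0), (-2, 0)),
    ((1, -1), (0, -1), (1, 0), (0, 0)),
    ((-1, 0), (0, 0), (1, -1), (0, -1)),
    ((0, 0), (0, -1), (-1, 1), (-1, 0)),
    ((0, 1), (0, 0), (-1, 0), (1, -1)),
    ((1, -1), (1, 0), (0, 0), (0, -1)),
    ((1, 0), (0, 1), (0, 0), (1, -1)),
    ((-1, 1), (-1, 0), (0, 0), (0, -1)),
    ((1, 0), (-1, 1), (0, -1), (0, 0)),
    ((0, 0), (1, -1), (1, 0), (0, 1)),
    ((1, 0), (1, 0), (-1, 0), (1, 0)),
    ((1, 0), (-1, 0), (1, 0), (1, 0)),
    ((1, 0), (1, 0), (1, 0), (-1, 0)),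
    ((0, 0), (-1, 0), (0, 1), (-1, 1)),
    ((0, 0), (-1, 0), (0, 1), (1, -1)),
    ((0, -1), (1, 0), (1, -1), (0, 0)),
    ((0, 0), (-1, 1), (1, 0), (0, 1)),
    ((1, -1), (0, 0), (0, 1), (-1, 0)),
    ((0, 1), (1, 0), (1, -1), (0, 0)),
    ((-1, 0), (0, 1), (0, 0), (-1, 1)),
    ((0, 0), (-1, 0), (0, -1), (-1, 1))]

theorem tableFour_ok : tableOK (0, 0) [genI, genJ, genU] tableFour = true := by decide +kernel

theorem tableFour_orders : ordersOK (0, 0) [2, 3] tableFour = true := by decide +kernel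

theorem tableOct_ok : tableOK (2, 0) [genI, genJ, genU, genS] tableOct = true := by decide +kernel

theorem tableOct_orders : ordersOK (2, 0) [3, 4] tableOct = true := by decide +kernel

theorem tableIcos_ok : tableOK (1, 1) [genI, genJ, genU, genV] tableIcos = true := by decide +kernel

theorem tableIcos_orders : ordersOK (1, 1) [2, 3, 5] tableIcos = true := by decide +kernel

section Exists

variable {F : Type*} [Field F] [Finite F] {c : Zw} {w a b : F}

/-- The Klein four-group and a conjugate pair of elements of order three in a table group. -/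
theorem klein_and_three (h2 : (2 : F) ≠ 0) (hw : w ^ 2 = (c.1 : F) + (c.2 : F) * w)
    (hab : a ^ 2 + b ^ 2 = -1) {H : Subgroup (PSL2 F)} {i j u : PSL2 F} (hi : i ∈ H) (hj : j ∈ H)
    (hu : u ∈ H) (ri : Rep w a b genI i) (rj : Rep w a b genJ j) (ru : Rep w a b genU u)
    (t1 : powOne c genI 2 = true) (t2 : powOne c genJ 2 = true) (t3 : powOne c genU 3 = true)
    (t4 : qprod c genI genJ = some ((0, 0), (0, 0), (0, 0), (2, 0)))
    (t5 : qprod c genJ genI = some ((0, 0), (0, 0), (0, 0), (-2, 0)))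
    (t6 : qprod c genI genU = some ((-1, 0), (-1, 0), (-1, 0), (1, 0)))
    (t7 : qprod c ((-1, 0), (-1, 0), (-1, 0), (1, 0)) genI = some ((1, 0), (-1, 0), (1, 0), (1, 0)))
    (t8 : qprod c genU genU = some ((-1, 0), (-1, 0), (-1, 0), (-1, 0)))
    (t9 : qprod c ((-1, 0), (-1, 0), (-1, 0), (-1, 0)) ((1, 0), (-1, 0), (1, 0), (1, 0)) =
      some ((0, 0), (0, 0), (0, 0), (-2, 0)))
    (t10 : qprod c genU ((1, 0), (-1, 0), (1, 0), (1, 0)) = some ((-1, 0), (1, 0), (-1, 0), (1, 0))) :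
    4 ∣ Nat.card H ∧ 3 ∣ Nat.card H ∧ (¬ 9 ∣ Nat.card H → Nat.card (Sylow 3 H) ≠ 1) := by
  have hnz : ∀ z : ℤ, z = 1 ∨ z = -1 ∨ z = 2 ∨ z = -2 → ((z : ℤ) : F) ≠ 0 := by
    rintro z (rfl | rfl | rfl | rfl) <;> simp [h2]
  have hne : ∀ {X : Quad} {x : PSL2 F}, Rep w a b X x →
      (∃ z : ℤ, (z = 1 ∨ z = -1 ∨ z = 2 ∨ z = -2) ∧ (X.2.1 = (z, 0) ∨ X.2.2.1 = (z, 0) ∨ X.2.2.2 = (z, 0))) →
      x ≠ 1 := by
    rintro X x hx ⟨z, hz, hX⟩ h1
    obtain ⟨e1, e2, e3⟩ := eq_one_of_rep h2 hab hx h1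
    rcases hX with e | e | e
    · rw [e] at e1; exact hnz z hz (by simpa [zval] using e1)
    · rw [e] at e2; exact hnz z hz (by simpa [zval] using e2)
    · rw [e] at e3; exact hnz z hz (by simpa [zval] using e3)
  have i2 : i * i = 1 := by rw [← sq]; exact pow_eq_one_of_powOne h2 hw hab ri t1
  have j2 : j * j = 1 := by rw [← sq]; exact pow_eq_one_of_powOne h2 hw hab rj t2
  have u3 : u ^ 3 = 1 := pow_eq_one_of_powOne h2 hw hab ru t3
  have i1 : i ≠ 1 := hne ri ⟨2, by simp, Or.inl rfl⟩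
  have j1 : j ≠ 1 := hne rj ⟨2, by simp, Or.inr (Or.inl rfl)⟩
  have u1 : u ≠ 1 := hne ru ⟨1, by simp, Or.inl rfl⟩
  have rk : Rep w a b ((0, 0), (0, 0), (0, 0), (2, 0)) (i * j) := Rep.mul h2 hw hab ri rj t4
  have k1 : i * j ≠ 1 := hne rk ⟨2, by simp, Or.inr (Or.inr rfl)⟩
  have hcomm : i * j = j * i := by
    have h := (Rep.mul h2 hw hab rj ri t5).neg
    exact rk.unique (by simpa using h)
  have rm : Rep w a b ((1, 0), (-1, 0), (1, 0), (1, 0)) (i * u * i) :=
    Rep.mul h2 hw hab (Rep.mul h2 hw hab ri ru t6) ri t7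
  refine ⟨?_, ?_, ?_⟩
  · let i' : H := ⟨i, hi⟩
    let j' : H := ⟨j, hj⟩
    have oi : orderOf i' = 2 := orderOf_eq_prime (Subtype.ext (by simpa [sq] using i2))
      fun e => i1 (congrArg Subtype.val e)
    have oj : orderOf j' = 2 := orderOf_eq_prime (Subtype.ext (by simpa [sq] using j2))
      fun e => j1 (congrArg Subtype.val e)
    have hij : i' ≠ j' := fun e => k1 (by rw [show i = j from congrArg Subtype.val e, j2])
    have hoij : orderOf (i' * j') = 2 := orderOf_eq_prime (Subtype.ext (by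
      simp only [Subgroup.coe_pow, Subgroup.coe_mul, Subgroup.coe_one, i', j', sq]
      rw [show i * j * (i * j) = i * (j * i) * j by group, ← hcomm,
        show i * (i * j) * j = (i * i) * (j * j) by group, i2, j2, one_mul]))
      fun e => k1 (congrArg Subtype.val e)
    have h := Subgroup.card_subgroup_dvd_card (closure ({i', j'} : Set H))
    rwa [Nat.card_congr (Involution.dihedralEquiv oi oj hij).symm.toEquiv, DihedralGroup.nat_card,
      hoij] at h
  · have ou : orderOf u = 3 := by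
      have := Fact.mk Nat.prime_three
      exact orderOf_eq_prime u3 u1
    exact ou ▸ Subgroup.orderOf_dvd_natCard H hu
  · intro h9
    have := Fact.mk Nat.prime_three
    have hui : u ≠ i * u * i := by
      intro e
      refine hne (Rep.mul h2 hw hab (Rep.mul h2 hw hab ru ru t8) rm t9)
        ⟨-2, by simp, Or.inr (Or.inr rfl)⟩ ?_
      rw [← e, ← u3, pow_three, mul_assoc]
    have huu : i * u * i ≠ u ^ 2 := by
      intro e
      refine hne (Rep.mul h2 hw hab ru rm t10) ⟨1, by simp, Or.inl rfl⟩ ?_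
      rw [e, ← u3, pow_three, sq]
    have ou : orderOf (⟨u, hu⟩ : H) = 3 :=
      orderOf_eq_prime (Subtype.ext (by simpa using u3)) fun e => u1 (congrArg Subtype.val e)
    have ov : orderOf (⟨i * u * i, mul_mem (mul_mem hi hu) hi⟩ : H) = 3 := by
      rw [← Subgroup.orderOf_coe]
      have hi' : i⁻¹ = i := inv_eq_of_mul_eq_one_right i2
      change orderOf (i * u * i) = 3
      nth_rewrite 2 [← hi']
      rw [Involution.orderOf_conj, orderOf_eq_prime u3 u1]
    exact card_sylow_three_ne_one h9 ou ov (fun e => hui (congrArg Subtype.val e).symm)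
      (fun e => huu (congrArg Subtype.val e))

/-- `PSL_2(F)` contains `A_4` in odd characteristic. -/
theorem exists_alternatingFour_sub (h2 : (2 : F) ≠ 0) :
    ∃ H : Subgroup (PSL2 F), Nonempty (H ≃* alternatingGroup (Fin 4)) := by
  obtain ⟨a, b, hab⟩ := exists_sq_add_sq (F := F)
  have hw : (0 : F) ^ 2 = (((0, 0) : Zw).1 : F) + (((0, 0) : Zw).2 : F) * 0 := by simp
  obtain ⟨H, hgens, hle, hrep⟩ := exists_table_group h2 hw hab _ _ tableFour_ok
  obtain ⟨i, hi, ri⟩ := hgens genI (by simp)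
  obtain ⟨j, hj, rj⟩ := hgens genJ (by simp)
  obtain ⟨u, hu, ru⟩ := hgens genU (by simp)
  obtain ⟨d4, d3, hs⟩ := klein_and_three h2 hw hab hi hj hu ri rj ru (by decide +kernel)
    (by decide +kernel) (by decide +kernel) (by decide +kernel) (by decide +kernel)
    (by decide +kernel) (by decide +kernel) (by decide +kernel) (by decide +kernel) (by decide +kernel)
  have hle' : Nat.card H ≤ 12 := hle
  have hcard : Nat.card H = 12 := by
    have h12 : 12 ∣ Nat.card H := Nat.Coprime.mul_dvd_of_dvd_of_dvd (by norm_num : Nat.Coprime 4 3) d4 d3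
    have := Nat.le_of_dvd Nat.card_pos h12
    omega
  exact ⟨H, mulEquiv_alternatingFour_of_sylow hcard (hs (by rw [hcard]; norm_num))⟩

/-- `PSL_2(F)` contains `S_4` if 2 is a non-zero square. -/
theorem exists_permFour_sub (h2 : (2 : F) ≠ 0) (hsq : ∃ w : F, w ^ 2 = 2) :
    ∃ H : Subgroup (PSL2 F), Nonempty (H ≃* Equiv.Perm (Fin 4)) := by
  obtain ⟨w, hw'⟩ := hsq
  obtain ⟨a, b, hab⟩ := exists_sq_add_sq (F := F)
  have hw : w ^ 2 = (((2, 0) : Zw).1 : F) + (((2, 0) : Zw).2 : F) * w := by simp [hw']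
  obtain ⟨H, hgens, hle, hrep⟩ := exists_table_group h2 hw hab _ _ tableOct_ok
  obtain ⟨i, hi, ri⟩ := hgens genI (by simp)
  obtain ⟨j, hj, rj⟩ := hgens genJ (by simp)
  obtain ⟨u, hu, ru⟩ := hgens genU (by simp)
  obtain ⟨s, hs', rs⟩ := hgens genS (by simp)
  obtain ⟨d4, d3, hs⟩ := klein_and_three h2 hw hab hi hj hu ri rj ru (by decide +kernel)
    (by decide +kernel) (by decide +kernel) (by decide +kernel) (by decide +kernel)
    (by decide +kernel) (by decide +kernel) (by decide +kernel) (by decide +kernel) (by decide +kernel)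
  have hle' : Nat.card H ≤ 24 := hle
  have hord : ∀ x : H, orderOf x ∈ ({1, 2, 3, 4} : Set ℕ) := by
    intro x
    obtain ⟨n, hn, hx⟩ := orders_of_table h2 hw hab tableOct_orders hrep x
    simp at hn
    rcases hn with rfl | rfl
    · rcases (Nat.dvd_prime Nat.prime_three).1 hx with h | h <;> simp [h]
    · have := Nat.le_of_dvd (by norm_num) hx
      interval_cases h : orderOf x <;> simp_all [(orderOf_pos x).ne']
  -- an element of order four excludes order twelve
  have ho : orderOf (⟨s, hs'⟩ : H) = 4 := by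
    refine orderOf_eq_prime_pow (p := 2) (n := 1) ?_ (Subtype.ext (by
      rw [Subgroup.coe_pow]; exact pow_eq_one_of_powOne h2 hw hab rs (by decide +kernel)))
    rw [pow_one]
    intro e
    have r2 := rep_pow h2 hw hab rs 2 ((0, 0), (2, 0), (0, 0), (0, 0)) (by decide +kernel)
    have := (eq_one_of_rep h2 hab r2 (congrArg Subtype.val e)).1
    simp [zval, h2] at this
  have hcard : Nat.card H = 24 := by
    have h12 : 12 ∣ Nat.card H := Nat.Coprime.mul_dvd_of_dvd_of_dvd (by norm_num : Nat.Coprime 4 3) d4 d3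
    have := Nat.le_of_dvd Nat.card_pos h12
    by_contra h24
    have h12' : Nat.card H = 12 := by omega
    -- the Sylow 2-subgroup would be cyclic and normal, and centralised by an element of order 3
    obtain ⟨e⟩ := mulEquiv_alternatingFour_of_sylow h12' (hs (by rw [h12']; norm_num))
    have h4 : orderOf (e ⟨s, hs'⟩) = 4 := by rw [MulEquiv.orderOf_eq, ho]
    have key : ∀ z : alternatingGroup (Fin 4), z ^ 4 = 1 → z ^ 2 = 1 := by decide +kernel
    have h5 : (e ⟨s, hs'⟩) ^ 2 = 1 := key _ (by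
      have hh := pow_orderOf_eq_one (e ⟨s, hs'⟩)
      rwa [h4] at hh)
    have := orderOf_dvd_of_pow_eq_one h5
    rw [h4] at this
    omega
  exact ⟨H, mulEquiv_permFour hcard hord (hs (by rw [hcard]; norm_num))⟩

/-- `PSL_2(F)` contains `A_5` in odd characteristic if 5 is a square. -/
theorem exists_alternatingFive_sub (h2 : (2 : F) ≠ 0) (h5 : ∃ w : F, w ^ 2 = 1 + w) :
    ∃ H : Subgroup (PSL2 F), Nonempty (H ≃* alternatingGroup (Fin 5)) := by
  obtain ⟨w, hw'⟩ := h5
  obtain ⟨a, b, hab⟩ := exists_sq_add_sq (F := F)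
  have hw : w ^ 2 = (((1, 1) : Zw).1 : F) + (((1, 1) : Zw).2 : F) * w := by simp [hw']
  obtain ⟨H, hgens, hle, hrep⟩ := exists_table_group h2 hw hab _ _ tableIcos_ok
  obtain ⟨i, hi, ri⟩ := hgens genI (by simp)
  obtain ⟨j, hj, rj⟩ := hgens genJ (by simp)
  obtain ⟨u, hu, ru⟩ := hgens genU (by simp)
  obtain ⟨v, hv', rv⟩ := hgens genV (by simp)
  obtain ⟨d4, d3, hs⟩ := klein_and_three h2 hw hab hi hj hu ri rj ru (by decide +kernel)
    (by decide +kernel) (by decide +kernel) (by decide +kernel) (by decide +kernel)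
    (by decide +kernel) (by decide +kernel) (by decide +kernel) (by decide +kernel) (by decide +kernel)
  have hle' : Nat.card H ≤ 60 := hle
  have hord : ∀ x : H, orderOf x ∈ ({1, 2, 3, 5} : Set ℕ) := by
    intro x
    obtain ⟨n, hn, hx⟩ := orders_of_table h2 hw hab tableIcos_orders hrep x
    simp at hn
    rcases hn with rfl | rfl | rfl
    · rcases (Nat.dvd_prime Nat.prime_two).1 hx with h | h <;> simp [h]
    · rcases (Nat.dvd_prime Nat.prime_three).1 hx with h | h <;> simp [h]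
    · rcases (Nat.dvd_prime Nat.prime_five).1 hx with h | h <;> simp [h]
  have := Fact.mk Nat.prime_five
  have ho : orderOf v = 5 := by
    refine orderOf_eq_prime (pow_eq_one_of_powOne h2 hw hab rv (by decide +kernel)) fun e => ?_
    have := (eq_one_of_rep h2 hab rv e).1
    simp [genV, zval] at this
  have d5 : 5 ∣ Nat.card H := ho ▸ Subgroup.orderOf_dvd_natCard H hv'
  have h12 : 12 ∣ Nat.card H := Nat.Coprime.mul_dvd_of_dvd_of_dvd (by norm_num : Nat.Coprime 4 3) d4 d3
  have h60 : 60 ∣ Nat.card H := Nat.Coprime.mul_dvd_of_dvd_of_dvd (by norm_num : Nat.Coprime 12 5) h12 d5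
  have hcard : Nat.card H = 60 := by have := Nat.le_of_dvd Nat.card_pos h60; omega
  refine ⟨H, mulEquiv_alternatingFive hcard hord ?_⟩
  -- a normal Sylow 5-subgroup would be centralised by an involution or an element of order three
  intro hone
  obtain ⟨hsub, -⟩ := Nat.card_eq_one_iff_unique.1 hone
  obtain ⟨P⟩ := (inferInstance : Nonempty (Sylow 5 H))
  have hPn := P.normal_of_subsingleton
  have hc5 : Nat.card H = 5 ^ 1 * 12 := by rw [hcard]; norm_num
  have hP5 : Nat.card (P : Subgroup H) = 5 := by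
    rw [SmallOrders.card_sylow_subgroup hc5 (by norm_num) P, pow_one]
  -- `u` acts trivially on a group of order five
  let u' : H := ⟨u, hu⟩
  have u3 : u' ^ 3 = 1 := Subtype.ext (pow_eq_one_of_powOne h2 hw hab ru (by decide +kernel))
  have := isCyclic_of_prime_card hP5
  have hu1 : u' ≠ 1 := fun e => by
    have := (eq_one_of_rep h2 hab ru (congrArg Subtype.val e)).1
    simp [genU, zval] at this
  let φ : MulAut (P : Subgroup H) := MulAut.conjNormal u'
  have hφ : φ = 1 := by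
    rw [← orderOf_eq_one_iff]
    refine Nat.eq_one_of_dvd_coprimes (a := 3) (b := 4) (by norm_num) ?_ ?_
    · exact orderOf_dvd_of_pow_eq_one (by
        change (MulAut.conjNormal u' : MulAut (P : Subgroup H)) ^ 3 = 1
        rw [← map_pow, u3, map_one])
    · refine (_root_.orderOf_dvd_natCard φ).trans (dvd_of_eq ?_)
      rw [IsCyclic.card_mulAut, hP5]; decide
  obtain ⟨z, hz⟩ := exists_prime_orderOf_dvd_card' (G := (P : Subgroup H)) 5 (by rw [hP5])
  have hzu : Commute u' (z : H) := by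
    have h := congrArg (fun f : MulAut (P : Subgroup H) => ((f z : (P : Subgroup H)) : H)) hφ
    simp only [φ, MulAut.conjNormal_apply, MulAut.one_apply] at h
    exact mul_inv_eq_iff_eq_mul.1 h
  have ou : orderOf u' = 3 := by
    have := Fact.mk Nat.prime_three
    exact orderOf_eq_prime u3 hu1
  refine eq_one_of_commute_of_coprime hzu ?_ hord ?_
  · rw [ou, Subgroup.orderOf_coe, hz]; norm_num
  · rw [ou, Subgroup.orderOf_coe, hz]; norm_num

end Exists

end Cfsg.Agent.PSL2
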