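/-
Recognition lemmas for the finite rotation groups.

Main results (namespace `Cfsg.Agent.PSL2`):
* `mulEquiv_dihedral`      : order `2 n`, an element `c` of order `n` and an involution inverting it
* `mulEquiv_alternatingFour` : order 12 and a faithful action on four points
* `mulEquiv_permFour`      : order 24, element orders `≤ 4`, more than one Sylow 3-subgroup
* `mulEquiv_alternatingFive` : order 60, element orders in `{1,2,3,5}`, more than one Sylow 5-subgroup
* `dvd_card_of_free`       : a group acting freely has order dividing the size of the set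
-/
import Cfsg.Agent.EqLemmas
import Cfsg.Agent.Lib.Involution.Basic
import Cfsg.Agent.Lib.SmallOrders.Basic

set_option autoImplicit false
set_option linter.unusedSectionVars false
set_option linter.dupNamespace false

open MulAction Subgroup

namespace Cfsg.Agent.PSL2

theorem dvd_card_of_free (T : Type*) [Group T] [Finite T] (X : Type*) [MulAction T X] [Finite X]
    (h : ∀ (x : X) (t : T), t • x = x → t = 1) : Nat.card T ∣ Nat.card X := by
  have := Fintype.ofFinite (Quotient (MulAction.orbitRel T X))
  rw [Nat.card_congr (MulAction.selfEquivSigmaOrbits T X), Nat.card_sigma]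
  refine Finset.dvd_sum fun ω _ => dvd_of_eq ?_
  rw [Nat.card_coe_set_eq, ← MulAction.index_stabilizer T]
  have hbot : stabilizer T ω.out = ⊥ := by
    rw [eq_bot_iff]; intro t ht; exact Subgroup.mem_bot.2 (h _ t ht)
  rw [hbot, Subgroup.index_bot]

theorem mulEquiv_dihedral {G : Type*} [Group G] [Finite G] {n : ℕ} (hG : Nat.card G = 2 * n)
    (hn : 2 ≤ n) (c t : G) (hc : orderOf c = n) (ht : orderOf t = 2) (hct : t * c * t = c⁻¹)
    (htc : t ∉ Subgroup.zpowers c) : Nonempty (G ≃* DihedralGroup n) := by
  have ht2 := Involution.mul_self ht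
  have hy2 : (t * c) * (t * c) = 1 := by
    rw [show (t * c) * (t * c) = (t * c * t) * c by group, hct, inv_mul_cancel]
  have hxy : t * (t * c) = c := by rw [← mul_assoc, ht2, one_mul]
  have hne : t ≠ t * c := by
    intro h
    rw [left_eq_mul] at h
    rw [h, orderOf_one] at hc
    omega
  have hyne : t * c ≠ 1 := by
    intro h
    apply htc
    rw [eq_inv_of_mul_eq_one_left h]
    exact inv_mem (mem_zpowers c)
  let e := Involution.dihedralEquiv ht (Involution.orderOf_of_sq hy2 hyne) hne
  have hcard : Nat.card ↥(closure ({t, t * c} : Set G)) = Nat.card G := by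
    rw [← Nat.card_congr e.toEquiv, DihedralGroup.nat_card, hxy, hc, hG]
  have he : closure ({t, t * c} : Set G) = ⊤ := Subgroup.eq_top_of_card_eq _ hcard
  refine ⟨(Subgroup.topEquiv.symm.trans ((MulEquiv.subgroupCongr he.symm).trans e.symm)).trans ?_⟩
  rw [hxy, hc]

theorem mulEquiv_alternatingFour {G : Type*} [Group G] [Finite G] (hG : Nat.card G = 12)
    {X : Type*} [MulAction G X] [FaithfulSMul G X] [Finite X] (hX : Nat.card X = 4) :
    Nonempty (G ≃* alternatingGroup (Fin 4)) := by
  have e : X ≃ Fin 4 := (Finite.equivFinOfCardEq hX)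
  let f : G →* Equiv.Perm (Fin 4) := e.permCongrHom.toMonoidHom.comp (MulAction.toPermHom G X)
  have hinj : Function.Injective f := e.permCongrHom.injective.comp MulAction.toPerm_injective
  have hrange : f.range = alternatingGroup (Fin 4) := by
    apply Equiv.Perm.eq_alternatingGroup_of_index_eq_two
    have h := f.range.card_mul_index
    rw [← Nat.card_congr (MonoidHom.ofInjective hinj).toEquiv, hG, Nat.card_perm, Nat.card_fin,
      show Nat.factorial 4 = 24 from rfl] at h
    omega
  exact ⟨(MonoidHom.ofInjective hinj).trans (MulEquiv.subgroupCongr hrange)⟩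

theorem eq_one_of_commute_of_coprime {G : Type*} [Group G] {a b : G} (hab : Commute a b)
    (hco : Nat.Coprime (orderOf a) (orderOf b)) {S : Set ℕ} (hS : ∀ g : G, orderOf g ∈ S)
    (h : orderOf a * orderOf b ∉ S) : False :=
  h (hab.orderOf_mul_eq_mul_orderOf_of_coprime hco ▸ hS (a * b))

/-- A group of order 12 without a normal Sylow 3-subgroup is `A_4`. -/
theorem mulEquiv_alternatingFour_of_sylow {G : Type*} [Group G] [Finite G]
    (hG : Nat.card G = 12)
    (h3 : Nat.card (Sylow 3 G) ≠ 1) : Nonempty (G ≃* alternatingGroup (Fin 4)) := by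
  have := Fact.mk Nat.prime_three
  have hc : Nat.card G = 3 ^ 1 * 4 := by rw [hG]; norm_num
  have hsyl : Nat.card (Sylow 3 G) = 4 := by
    obtain ⟨P⟩ := (inferInstance : Nonempty (Sylow 3 G))
    have h1 : Nat.card (Sylow 3 G) ∣ 4 :=
      SmallOrders.index_sylow hc (by norm_num) P ▸ Sylow.card_dvd_index P
    have h2 : Nat.card (Sylow 3 G) % 3 = 1 % 3 := card_sylow_modEq_one 3 G
    have := Nat.le_of_dvd (by norm_num) h1
    interval_cases h : Nat.card (Sylow 3 G) <;> omega
  have : FaithfulSMul G (Sylow 3 G) := by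
    refine faithfulSMul_iff.2 fun g hg => ?_
    by_contra hne
    obtain ⟨P⟩ := (inferInstance : Nonempty (Sylow 3 G))
    have hP : ∀ Q : Sylow 3 G, (Q : Subgroup G) = zpowers g := by
      intro Q
      have hn := SmallOrders.card_normalizer_mul_card_sylow Q
      rw [hsyl, hG] at hn
      have hQ3 : Nat.card (Q : Subgroup G) = 3 := by
        rw [SmallOrders.card_sylow_subgroup hc (by norm_num) Q, pow_one]
      have he : (Q : Subgroup G) = normalizer ((Q : Subgroup G) : Set G) :=
        Subgroup.eq_of_le_of_card_ge le_normalizer (by omega)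
      have hgQ : g ∈ (Q : Subgroup G) := by
        rw [he]; exact Sylow.smul_eq_iff_mem_normalizer.1 (hg Q)
      refine (Subgroup.eq_of_le_of_card_ge (zpowers_le.2 hgQ) ?_).symm
      have hd : orderOf g ∣ 3 := hQ3 ▸ Subgroup.orderOf_dvd_natCard _ hgQ
      rw [hQ3, Nat.card_zpowers, ((Nat.dvd_prime Nat.prime_three).1 hd).resolve_left
        (fun h => hne (orderOf_eq_one_iff.1 h))]
    apply h3
    have : Subsingleton (Sylow 3 G) := ⟨fun Q R => Sylow.ext ((hP Q).trans (hP R).symm)⟩
    exact Nat.card_eq_one_iff_unique.2 ⟨this, ⟨P⟩⟩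
  exact mulEquiv_alternatingFour hG hsyl

/-- Two elements of order 3, the second no power of the first, rule out a normal Sylow 3-subgroup. -/
theorem card_sylow_three_ne_one {G : Type*} [Group G] [Finite G] (h9 : ¬ 9 ∣ Nat.card G)
    {u v : G} (hu : orderOf u = 3) (hv : orderOf v = 3) (h1 : v ≠ u) (h2 : v ≠ u ^ 2) :
    Nat.card (Sylow 3 G) ≠ 1 := by
  have := Fact.mk Nat.prime_three
  intro hone
  obtain ⟨hsub, -⟩ := Nat.card_eq_one_iff_unique.1 hone
  have hp : ∀ x : G, orderOf x = 3 → IsPGroup 3 (zpowers x) := fun x hx =>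
    IsPGroup.of_card (n := 1) (by rw [Nat.card_zpowers, hx, pow_one])
  obtain ⟨P, hP⟩ := (hp u hu).exists_le_sylow
  obtain ⟨Q, hQ⟩ := (hp v hv).exists_le_sylow
  obtain rfl : P = Q := Subsingleton.elim P Q
  obtain ⟨k, hk⟩ := P.isPGroup'.exists_card_eq
  have hk1 : k ≤ 1 := by
    by_contra hc
    exact h9 ((pow_dvd_pow 3 (show 2 ≤ k by omega)).trans (hk ▸ card_subgroup_dvd_card _))
  have he : zpowers u = (P : Subgroup G) := by
    refine Subgroup.eq_of_le_of_card_ge hP ?_
    rw [hk, Nat.card_zpowers, hu]
    exact (Nat.pow_le_pow_right (by norm_num) hk1).trans (le_of_eq (pow_one 3))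
  obtain ⟨j, hj⟩ : v ∈ Submonoid.powers u := by
    rw [mem_powers_iff_mem_zpowers, he]; exact hQ (mem_zpowers v)
  simp only at hj
  rw [← pow_mod_orderOf, hu] at hj
  have : j % 3 < 3 := Nat.mod_lt _ (by norm_num)
  interval_cases h : j % 3
  · rw [pow_zero] at hj; rw [← hj, orderOf_one] at hv; omega
  · exact h1 (by rw [← hj, pow_one])
  · exact h2 hj.symm

theorem mulEquiv_permFour {G : Type*} [Group G] [Finite G] (hG : Nat.card G = 24)
    (hord : ∀ g : G, orderOf g ∈ ({1, 2, 3, 4} : Set ℕ)) (h3 : Nat.card (Sylow 3 G) ≠ 1) :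
    Nonempty (G ≃* Equiv.Perm (Fin 4)) := by
  have := Fact.mk Nat.prime_three
  have hc : Nat.card G = 3 ^ 1 * 8 := by rw [hG]; norm_num
  have hsyl : Nat.card (Sylow 3 G) = 4 := by
    obtain ⟨P⟩ := (inferInstance : Nonempty (Sylow 3 G))
    have h1 : Nat.card (Sylow 3 G) ∣ 8 :=
      SmallOrders.index_sylow hc (by norm_num) P ▸ Sylow.card_dvd_index P
    have h2 : Nat.card (Sylow 3 G) % 3 = 1 % 3 := card_sylow_modEq_one 3 G
    have h8 := Nat.le_of_dvd (by norm_num) h1
    interval_cases h : Nat.card (Sylow 3 G) <;> simp_all (config := { decide := true })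
  let f : G →* Equiv.Perm (Sylow 3 G) := MulAction.toPermHom G (Sylow 3 G)
  have hinj : Function.Injective f := by
    rw [← MonoidHom.ker_eq_bot_iff]
    have hK : ∀ k ∈ f.ker, ∀ P : Sylow 3 G, k ∈ normalizer ((P : Subgroup G) : Set G) := by
      intro k hk P
      exact Sylow.smul_eq_iff_mem_normalizer.1 (Equiv.Perm.ext_iff.1 (MonoidHom.mem_ker.1 hk) P)
    by_contra hne
    obtain ⟨P⟩ := (inferInstance : Nonempty (Sylow 3 G))
    obtain ⟨Q, hPQ⟩ : ∃ Q : Sylow 3 G, Q ≠ P := by
      by_contra hh
      push_neg at hh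
      have : Subsingleton (Sylow 3 G) := ⟨fun a b => (hh a).trans (hh b).symm⟩
      exact h3 (Nat.card_eq_one_iff_unique.2 ⟨this, ⟨P⟩⟩)
    by_cases h3K : 3 ∣ Nat.card f.ker
    · obtain ⟨k, hk⟩ := exists_prime_orderOf_dvd_card' (G := f.ker) 3 h3K
      rw [← Subgroup.orderOf_coe] at hk
      have key : ∀ R : Sylow 3 G, (k : G) ∈ (R : Subgroup G) := by
        intro R
        have hz : IsPGroup 3 (zpowers (k : G)) :=
          IsPGroup.of_card (n := 1) (by rw [Nat.card_zpowers, hk, pow_one])
        have hm : (k : G) ∈ zpowers (k : G) ⊓ normalizer ((R : Subgroup G) : Set G) :=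
          ⟨mem_zpowers _, hK _ k.2 R⟩
        exact (hz.inf_normalizer_sylow R ▸ hm).2
      have hcardS : ∀ R : Sylow 3 G, Nat.card (R : Subgroup G) = 3 := fun R => by
        rw [SmallOrders.card_sylow_subgroup hc (by norm_num) R, pow_one]
      have heq : ∀ R : Sylow 3 G, (R : Subgroup G) = zpowers (k : G) := by
        intro R
        exact (Subgroup.eq_of_le_of_card_ge ((zpowers_le).2 (key R))
          (by rw [hcardS R, Nat.card_zpowers, hk])).symm
      exact hPQ (Sylow.ext ((heq Q).trans (heq P).symm))
    · have := (Subgroup.nontrivial_iff_ne_bot _).2 hne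
      obtain ⟨z, hz⟩ := exists_ne (1 : f.ker)
      obtain ⟨x, hx⟩ := exists_prime_orderOf_dvd_card' (G := G) 3 (by rw [hG]; norm_num)
      have hK4 : Nat.card f.ker ∣ 2 := by
        have hd : Nat.card f.ker ∣ 6 := by
          have hle : f.ker ≤ normalizer ((P : Subgroup G) : Set G) := fun k hk => hK k hk P
          refine (Subgroup.card_dvd_of_le hle).trans (dvd_of_eq ?_)
          have h := SmallOrders.card_normalizer_mul_card_sylow P
          rw [hsyl, hG] at h
          omega
        exact (((Nat.prime_three.coprime_iff_not_dvd.2 h3K).symm).dvd_of_dvd_mul_left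
          (show Nat.card f.ker ∣ 3 * 2 from hd))
      have hK2 : Nat.card f.ker = 2 := by
        rcases (Nat.dvd_prime Nat.prime_two).1 hK4 with h | h
        · exact absurd (Subgroup.card_eq_one.1 h) hne
        · exact h
      have hzz : ∀ g : G, g * z * g⁻¹ = z := by
        intro g
        have h2 := (Nat.card_eq_two_iff' (1 : f.ker)).1 hK2
        have e1 : (⟨g * z * g⁻¹, (MonoidHom.normal_ker f).conj_mem _ z.2 g⟩ : f.ker) ≠ 1 := by
          intro h
          apply hz
          have h' : g * z * g⁻¹ = 1 := congrArg Subtype.val h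
          rw [conj_eq_one_iff] at h'
          exact Subtype.ext h'
        exact congrArg Subtype.val (h2.unique e1 hz)
      refine eq_one_of_commute_of_coprime (a := (z : G)) (b := x) (S := {1, 2, 3, 4}) ?_ ?_ hord ?_
      · exact ((mul_inv_eq_iff_eq_mul.1 (hzz x))).symm
      · rw [hx, Subgroup.orderOf_coe]
        exact Nat.Coprime.of_dvd_left (hK2 ▸ orderOf_dvd_natCard z) (by norm_num)
      · have hz2 : orderOf (z : G) = 2 := by
          rw [Subgroup.orderOf_coe]
          refine ((Nat.dvd_prime Nat.prime_two).1 (hK2 ▸ orderOf_dvd_natCard z)).resolve_left ?_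
          rwa [orderOf_eq_one_iff]
        rw [hx, hz2]
        norm_num
  let e : Sylow 3 G ≃ Fin 4 := Finite.equivFinOfCardEq hsyl
  refine ⟨(MulEquiv.ofBijective f ?_).trans e.permCongrHom⟩
  exact (Nat.bijective_iff_injective_and_card f).2
    ⟨hinj, by rw [hG, Nat.card_perm, hsyl]; rfl⟩

/-- In a group of order 60 without elements of order 10 or 15, a non-trivial normal subgroup
has order divisible by 5. -/
theorem five_dvd_card_normal {G : Type*} [Group G] [Finite G] (hG : Nat.card G = 60)
    (hord : ∀ g : G, orderOf g ∈ ({1, 2, 3, 5} : Set ℕ)) (N : Subgroup G) [N.Normal]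
    (hN : N ≠ ⊥) : 5 ∣ Nat.card N := by
  have := Fact.mk Nat.prime_five
  have aux : ∀ M : Subgroup G, M.Normal → ¬ 5 ∣ Nat.card M → Nat.card M % 5 = 1 := by
    intro M hM h5
    obtain ⟨x, hx⟩ := exists_prime_orderOf_dvd_card' (G := G) 5 (by rw [hG]; norm_num)
    letI : MulAction (zpowers x) M :=
      MulAction.compHom M (((MulAut.conjNormal : G →* MulAut M)).comp (zpowers x).subtype)
    have hT : IsPGroup 5 (zpowers x) := IsPGroup.of_card (n := 1) (by simp [hx])
    have hmod : Nat.card M % 5 = Nat.card (fixedPoints (zpowers x) M) % 5 :=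
      hT.card_modEq_card_fixedPoints M
    have hfix : fixedPoints (zpowers x) M = {1} := by
      ext m
      constructor
      · intro hm
        have h1 : (MulAut.conjNormal x : MulAut M) m = m := hm ⟨x, mem_zpowers x⟩
        have h2 : x * m * x⁻¹ = (m : G) := congrArg Subtype.val h1
        rw [Set.mem_singleton_iff]
        by_contra hne
        have hm5 : orderOf (m : G) ∈ ({2, 3} : Set ℕ) := by
          have h := hord m
          have h1 : orderOf (m : G) ≠ 1 := by
            rw [Subgroup.orderOf_coe, ne_eq, orderOf_eq_one_iff]; exact hne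
          have h5' : orderOf (m : G) ≠ 5 := by
            rw [Subgroup.orderOf_coe]
            intro h'
            exact h5 (h' ▸ orderOf_dvd_natCard m)
          simp only [Set.mem_insert_iff, Set.mem_singleton_iff] at h ⊢
          omega
        refine eq_one_of_commute_of_coprime (a := x) (b := (m : G)) (S := {1, 2, 3, 5})
          (mul_inv_eq_iff_eq_mul.1 h2) ?_ hord ?_
        · rcases hm5 with h | h <;> rw [hx, h] <;> norm_num
        · rcases hm5 with h | h <;> rw [hx, h] <;> norm_num
      · rintro rfl t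
        exact map_one (MulAut.conjNormal (t : G) : MulAut M)
    rw [hfix] at hmod
    simpa using hmod
  by_contra h5
  have h1 := aux N inferInstance h5
  have hd : Nat.card N ∣ 12 :=
    (((Nat.prime_five.coprime_iff_not_dvd.2 h5).symm).dvd_of_dvd_mul_left
      (show Nat.card N ∣ 5 * 12 from (card_subgroup_dvd_card N).trans (dvd_of_eq hG)))
  have hN1 : Nat.card N ≠ 1 := fun h => hN (Subgroup.card_eq_one.1 h)
  have hN6 : Nat.card N = 6 := by
    have := Nat.le_of_dvd (by norm_num) hd
    interval_cases h : Nat.card N <;> omega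
  have := Fact.mk Nat.prime_three
  have hc : Nat.card N = 3 ^ 1 * 2 := by rw [hN6]; norm_num
  obtain ⟨P⟩ := (inferInstance : Nonempty (Sylow 3 N))
  have hs : Nat.card (Sylow 3 N) = 1 := by
    have h1 : Nat.card (Sylow 3 N) ∣ 2 :=
      SmallOrders.index_sylow hc (by norm_num) P ▸ Sylow.card_dvd_index P
    have h2 : Nat.card (Sylow 3 N) % 3 = 1 % 3 := card_sylow_modEq_one 3 N
    have := Nat.le_of_dvd (by norm_num) h1
    omega
  have hsub : Subsingleton (Sylow 3 N) := (Nat.card_eq_one_iff_unique.1 hs).1
  have hPn : (P : Subgroup N).Normal := P.normal_of_subsingleton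
  have hPc : (P : Subgroup N).Characteristic := P.characteristic_of_normal hPn
  have hn : ((P : Subgroup N).map N.subtype).Normal := inferInstance
  have h3 : Nat.card ((P : Subgroup N).map N.subtype) = 3 := by
    rw [Subgroup.card_map_of_injective N.subtype_injective,
      SmallOrders.card_sylow_subgroup hc (by norm_num) P, pow_one]
  have := aux _ hn (by rw [h3]; norm_num)
  omega

theorem isSimpleGroup_of_card_sixty {G : Type*} [Group G] [Finite G] (hG : Nat.card G = 60)
    (hord : ∀ g : G, orderOf g ∈ ({1, 2, 3, 5} : Set ℕ)) (h5 : Nat.card (Sylow 5 G) ≠ 1) :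
    IsSimpleGroup G := by
  have := Fact.mk Nat.prime_five
  have hnt : Nontrivial G := Finite.one_lt_card_iff_nontrivial.1 (by omega)
  refine ⟨fun N hN => ?_⟩
  by_contra hcon
  push_neg at hcon
  obtain ⟨hb, ht⟩ := hcon
  have hd := five_dvd_card_normal hG hord N hb
  have hidx : N.index ∣ 12 := by
    obtain ⟨j, hj⟩ := hd
    have h := N.card_mul_index
    rw [hj, hG, mul_assoc] at h
    exact ⟨j, by rw [mul_comm]; omega⟩
  have hidx5 : ¬ 5 ∣ N.index := fun h => absurd (h.trans hidx) (by norm_num)
  -- all elements of order 5 lie in `N`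
  have hall : ∀ P : Sylow 5 G, (P : Subgroup G) ≤ N := by
    intro P x hx
    have hx5 : x ^ 5 = 1 := by
      obtain ⟨k, hk⟩ := P.isPGroup' ⟨x, hx⟩
      have hk' : x ^ 5 ^ k = 1 := congrArg Subtype.val hk
      have h := hord x
      have hd := orderOf_dvd_of_pow_eq_one hk'
      simp only [Set.mem_insert_iff, Set.mem_singleton_iff] at h
      rcases h with h | h | h | h
      · rw [orderOf_eq_one_iff.1 h, one_pow]
      · exact absurd (Nat.prime_two.dvd_of_dvd_pow (h ▸ hd)) (by norm_num)
      · exact absurd (Nat.prime_three.dvd_of_dvd_pow (h ▸ hd)) (by norm_num)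
      · rw [← h]; exact pow_orderOf_eq_one x
    rw [← QuotientGroup.eq_one_iff (N := N), ← orderOf_eq_one_iff]
    refine Nat.eq_one_of_dvd_coprimes (a := 5) (b := N.index)
      (Nat.prime_five.coprime_iff_not_dvd.2 hidx5) ?_ ?_
    · exact orderOf_dvd_of_pow_eq_one (by rw [← QuotientGroup.mk_pow, hx5, QuotientGroup.mk_one])
    · rw [Subgroup.index_eq_card]; exact orderOf_dvd_natCard _
  have hc : Nat.card G = 5 ^ 1 * 12 := by rw [hG]; norm_num
  obtain ⟨e, he⟩ : ∃ e : Sylow 5 G → Sylow 5 N, Function.Injective e := by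
    refine ⟨fun P => P.subtype (hall P), fun P Q h => Sylow.subtype_injective h⟩
  have hle : Nat.card (Sylow 5 G) ≤ Nat.card (Sylow 5 N) := Nat.card_le_card_of_injective e he
  obtain ⟨m, hm⟩ := hd
  have hm5 : ¬ 5 ∣ m := by
    rintro ⟨j, rfl⟩
    have h := N.card_mul_index
    rw [hm, hG] at h
    have : 25 ∣ 60 := ⟨j * N.index, by linarith⟩
    norm_num at this
  have hcN : Nat.card N = 5 ^ 1 * m := by rw [pow_one]; exact hm
  obtain ⟨P⟩ := (inferInstance : Nonempty (Sylow 5 N))
  have h6 : Nat.card (Sylow 5 N) = 6 ∧ (m = 6 ∨ m = 12) := by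
    have hd1 : Nat.card (Sylow 5 N) ∣ m :=
      SmallOrders.index_sylow hcN hm5 P ▸ Sylow.card_dvd_index P
    have hm12 : m ∣ 12 := by
      refine Nat.dvd_of_mul_dvd_mul_left (by norm_num : 0 < 5) ?_
      rw [← hm]; exact (card_subgroup_dvd_card N).trans (dvd_of_eq hG)
    have hmod : Nat.card (Sylow 5 N) % 5 = 1 % 5 := card_sylow_modEq_one 5 N
    have hmodG : Nat.card (Sylow 5 G) % 5 = 1 % 5 := card_sylow_modEq_one 5 G
    have hm' := Nat.le_of_dvd (by norm_num) hm12
    have hm0 : 0 < m := Nat.pos_of_dvd_of_pos hm12 (by norm_num)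
    have hn' := Nat.le_of_dvd hm0 hd1
    have hn6 : Nat.card (Sylow 5 N) = 6 ∨ Nat.card (Sylow 5 N) = 11 := by omega
    rcases hn6 with h | h <;> rw [h] at hd1
    · exact ⟨h, by interval_cases m <;> omega⟩
    · interval_cases m <;> omega
  rcases h6.2 with rfl | rfl
  · -- `|N| = 30`: the normal 5-complement of `N` is normal in `G`
    have hN30 : Nat.card N = 30 := by rw [hm]
    have hP : normalizer ((P : Subgroup N) : Set N) ≤ centralizer ((P : Subgroup N) : Set N) := by
      have h := SmallOrders.card_normalizer_mul_card_sylow P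
      rw [h6.1, hN30] at h
      have hP5 : Nat.card (P : Subgroup N) = 5 := by
        rw [SmallOrders.card_sylow_subgroup hcN hm5 P, pow_one]
      have heq : (P : Subgroup N) = normalizer ((P : Subgroup N) : Set N) :=
        Subgroup.eq_of_le_of_card_ge le_normalizer (by omega)
      rw [← heq]
      have hcyc := isCyclic_of_prime_card hP5
      have hmc : IsMulCommutative (P : Subgroup N) := IsCyclic.isMulCommutative
      intro x hx y hy
      have h' := mul_comm' (⟨y, hy⟩ : (P : Subgroup N)) ⟨x, hx⟩
      exact congrArg Subtype.val h'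
    set K := (MonoidHom.transferSylow P hP).ker with hK
    have hcomp := MonoidHom.ker_transferSylow_isComplement' P hP
    have hK6 : Nat.card K = 6 := by
      have h := hcomp.card_mul_card
      rw [SmallOrders.card_sylow_subgroup hcN hm5 P, hN30, pow_one] at h
      rw [hK]; omega
    have hKmem : ∀ g : N, g ∈ K ↔ g ^ 6 = 1 := by
      intro g
      constructor
      · intro hg
        rw [← hK6]
        exact congrArg Subtype.val (pow_card_eq_one' (x := (⟨g, hg⟩ : K)))
      · intro hg
        rw [← QuotientGroup.eq_one_iff (N := K), ← orderOf_eq_one_iff]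
        refine Nat.eq_one_of_dvd_coprimes (a := 6) (b := 5) (by norm_num) ?_ ?_
        · exact orderOf_dvd_of_pow_eq_one (by rw [← QuotientGroup.mk_pow, hg, QuotientGroup.mk_one])
        · refine (_root_.orderOf_dvd_natCard _).trans (dvd_of_eq ?_)
          rw [← Subgroup.index_eq_card]
          have h := K.card_mul_index
          rw [hK6, hN30] at h
          omega
    have hKn : (K.map N.subtype).Normal := by
      constructor
      rintro _ ⟨g, hg, rfl⟩ y
      refine ⟨(MulAut.conjNormal y : MulAut N) g, ?_, rfl⟩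
      rw [SetLike.mem_coe, hKmem, ← map_pow, (hKmem g).1 hg, map_one]
    have hKc : Nat.card (K.map N.subtype) = 6 := by
      rw [Subgroup.card_map_of_injective N.subtype_injective, hK6]
    have := five_dvd_card_normal hG hord (K.map N.subtype)
      (by intro h; rw [h, Subgroup.card_bot] at hKc; omega)
    omega
  · exact ht (Subgroup.eq_top_of_card_eq N (by rw [hm, hG]))

theorem mulEquiv_alternatingFive {G : Type*} [Group G] [Finite G] (hG : Nat.card G = 60)
    (hord : ∀ g : G, orderOf g ∈ ({1, 2, 3, 5} : Set ℕ)) (h5 : Nat.card (Sylow 5 G) ≠ 1) :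
    Nonempty (G ≃* alternatingGroup (Fin 5)) := by
  have := isSimpleGroup_of_card_sixty hG hord h5
  have := Fact.mk Nat.prime_two
  have hnc : ¬ IsMulCommutative G :=
    SmallOrders.not_isMulCommutative_of_card (by rw [hG]; norm_num)
  have hc : Nat.card G = 2 ^ 2 * 15 := by rw [hG]; norm_num
  obtain ⟨P⟩ := (inferInstance : Nonempty (Sylow 2 G))
  have hP4 : Nat.card (P : Subgroup G) = 2 ^ 2 := SmallOrders.card_sylow_subgroup hc (by norm_num) P
  have hne := SmallOrders.normalizer_not_le_centralizer hnc (by rw [hG]; norm_num) P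
  have hn := SmallOrders.card_normalizer_mul_card_sylow P
  have hmax : 5 ≤ (normalizer ((P : Subgroup G) : Set G)).index :=
    SmallOrders.five_le_index hnc (SmallOrders.normalizer_sylow_ne_top hnc
      (by rw [hG]; norm_num) P)
  rw [show (normalizer ((P : Subgroup G) : Set G)).index = Nat.card (Sylow 2 G) from
    (Sylow.card_eq_index_normalizer P).symm] at hmax
  have hsyl : Nat.card (Sylow 2 G) = 5 := by
    have h1 : Nat.card (Sylow 2 G) ∣ 15 :=
      SmallOrders.index_sylow hc (by norm_num) P ▸ Sylow.card_dvd_index P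
    have hle := Nat.le_of_dvd (by norm_num) h1
    have h15 : Nat.card (Sylow 2 G) ≠ 15 := by
      intro h
      rw [h, hG] at hn
      apply hne
      have heq : (P : Subgroup G) = normalizer ((P : Subgroup G) : Set G) :=
        Subgroup.eq_of_le_of_card_ge le_normalizer (by omega)
      rw [← heq]
      intro x hx y hy
      have := IsPGroup.isMulCommutative_of_card_eq_prime_sq hP4
      have h' := mul_comm' (⟨y, hy⟩ : (P : Subgroup G)) ⟨x, hx⟩
      exact congrArg Subtype.val h'
    interval_cases h : Nat.card (Sylow 2 G) <;> omega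
  let e : Sylow 2 G ≃ Fin 5 := Finite.equivFinOfCardEq hsyl
  let f : G →* Equiv.Perm (Fin 5) :=
    e.permCongrHom.toMonoidHom.comp (MulAction.toPermHom G (Sylow 2 G))
  have hinj : Function.Injective f := by
    rw [← MonoidHom.ker_eq_bot_iff]
    refine (f.normal_ker.eq_bot_or_eq_top).resolve_right fun ht => ?_
    have hfix : ∀ (g : G) (Q : Sylow 2 G), g • Q = Q := by
      intro g Q
      have hg : f g = 1 := MonoidHom.mem_ker.1 (ht ▸ Subgroup.mem_top g)
      have h1 := e.permCongrHom.injective (hg.trans (map_one e.permCongrHom).symm)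
      exact Equiv.Perm.ext_iff.1 h1 Q
    have hsub : Subsingleton (Sylow 2 G) := by
      constructor
      intro Q R
      obtain ⟨g, hg⟩ := MulAction.exists_smul_eq G Q R
      exact (hfix g Q).symm.trans hg
    have := Finite.card_le_one_iff_subsingleton.2 hsub
    omega
  have hrange : f.range = alternatingGroup (Fin 5) := by
    apply Equiv.Perm.eq_alternatingGroup_of_index_eq_two
    have h := f.range.card_mul_index
    rw [← Nat.card_congr (MonoidHom.ofInjective hinj).toEquiv, hG, Nat.card_perm, Nat.card_fin,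
      show Nat.factorial 5 = 120 from rfl] at h
    omega
  exact ⟨(MonoidHom.ofInjective hinj).trans (MulEquiv.subgroupCongr hrange)⟩

end Cfsg.Agent.PSL2
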