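/-
Finite subgroups of `PGL_2(K)`, `K` algebraically closed of characteristic `p`: point stabilisers,
the fixed point count, and the classification of the subgroups of order prime to `p`.

Main results (namespace `Cfsg.Agent.PSL2`):
* `multH H P`, `multH_eq_one_iff`, `isCyclic_stab`, `orderOf_dvd_of_fix`
* `sum_stab`               : `∑ (|H_P| - 1) + #unipotents = 2 (|H| - 1)` over the special points
* `dihedral_of_orbit_two`  : a special orbit of length two gives a dihedral group
* `classify_coprime`       : `p ∤ |H|`: a fixed point, or dihedral, or `A_4`, `S_4`, `A_5`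
-/
import Cfsg.Agent.Lib.PSL2.Moebius
import Cfsg.Agent.Lib.PSL2.Groups

set_option autoImplicit false
set_option linter.unusedSectionVars false
set_option linter.dupNamespace false

open Matrix MulAction Subgroup
open scoped LinearAlgebra.Projectivization Classical

namespace Cfsg.Agent.PSL2

variable {K : Type*} [Field K]

/-! ### Multipliers -/

/-- The multiplier of a transformation fixing `pinf`. -/
noncomputable def affMult : stabilizer (PGL2 K) (pinf : Pt K) →* Kˣ :=
  MonoidHom.mk' (fun g => (exists_aff_of_fix g.2).choose) fun g h => by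
    obtain ⟨b, hb⟩ := (exists_aff_of_fix g.2).choose_spec
    obtain ⟨c, hc⟩ := (exists_aff_of_fix h.2).choose_spec
    obtain ⟨d, hd⟩ := (exists_aff_of_fix (g * h).2).choose_spec
    have e : (g : PGL2 K) * (h : PGL2 K) = aff _ _ :=
      (congrArg₂ (· * ·) hb hc).trans (aff_mul_aff _ _ _ _)
    exact (aff_inj.1 (hd.symm.trans e)).1

theorem affMult_spec (g : stabilizer (PGL2 K) (pinf : Pt K)) :
    ∃ b, (g : PGL2 K) = aff (affMult g) b := (exists_aff_of_fix g.2).choose_spec

/-- A transformation taking `P` to `pinf`. -/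
noncomputable def toInf (P : Pt K) : PGL2 K := (exists_map_pinf P).choose

theorem toInf_smul (P : Pt K) : toInf P • P = pinf := (exists_map_pinf P).choose_spec

variable (H : Subgroup (PGL2 K))

/-- Conjugation of the stabiliser of `P` into the stabiliser of `pinf`. -/
noncomputable def stabToInf (P : Pt K) : stabilizer H P →* stabilizer (PGL2 K) (pinf : Pt K) :=
  MonoidHom.mk' (fun g => ⟨toInf P * ((g : H) : PGL2 K) * (toInf P)⁻¹, by
      have hg : ((g : H) : PGL2 K) • P = P := g.2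
      have hi : (toInf P)⁻¹ • (pinf : Pt K) = P := by
        rw [← toInf_smul P, inv_smul_smul]
      rw [mem_stabilizer_iff, mul_smul, mul_smul, hi, hg, toInf_smul]⟩)
    fun g h => Subtype.ext (by simp [mul_assoc])

theorem stabToInf_injective (P : Pt K) : Function.Injective (stabToInf H P) := by
  intro g h hgh
  have h' := congrArg Subtype.val hgh
  simp [stabToInf] at h'
  exact h'

/-- The multiplier at `P`. -/
noncomputable def multH (P : Pt K) : stabilizer H P →* Kˣ := affMult.comp (stabToInf H P)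

variable (p : ℕ) [Fact p.Prime] [CharP K p]

theorem multH_eq_one_iff {P : Pt K} (g : stabilizer H P) :
    multH H P g = 1 ↔ ((g : H) : PGL2 K) ^ p = 1 := by
  obtain ⟨b, hb⟩ := affMult_spec (stabToInf H P g)
  have hv : toInf P * ((g : H) : PGL2 K) * (toInf P)⁻¹ = aff (multH H P g) b := hb
  rw [← aff_pow_char_iff p (b := b), ← hv, conj_pow, mul_inv_eq_one, mul_eq_left]

theorem coprime_of_units {x : Kˣ} (hx : IsOfFinOrder x) : Nat.Coprime (orderOf x) p := by
  rw [Nat.coprime_comm, (Fact.out : p.Prime).coprime_iff_not_dvd]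
  intro h
  have h0 : orderOf x ≠ 0 := hx.orderOf_pos.ne'
  have h1 : orderOf (x ^ (orderOf x / p)) = p := orderOf_pow_orderOf_div h0 h
  have h2 : x ^ (orderOf x / p) = 1 := by
    apply units_eq_one_of_pow_char p
    conv_lhs => arg 2; rw [← h1]
    exact pow_orderOf_eq_one _
  rw [h2, orderOf_one] at h1
  exact (Fact.out : p.Prime).ne_one h1.symm

variable [Finite H]

instance finite_range (P : Pt K) : Finite (multH H P).range :=
  Finite.of_surjective _ (multH H P).rangeRestrict_surjective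

theorem card_range_coprime (P : Pt K) : Nat.Coprime (Nat.card (multH H P).range) p := by
  rw [Nat.coprime_comm, (Fact.out : p.Prime).coprime_iff_not_dvd]
  intro h
  obtain ⟨x, hx⟩ := exists_prime_orderOf_dvd_card' p h
  have hc := coprime_of_units p (x := (x : Kˣ))
    ((multH H P).range.subtype.isOfFinOrder (isOfFinOrder_of_finite x))
  rw [Subgroup.orderOf_coe, hx, Nat.coprime_self] at hc
  exact (Fact.out : p.Prime).ne_one hc

theorem isCyclic_range (P : Pt K) : IsCyclic (multH H P).range :=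
  isCyclic_subgroup_units _

/-- A stabiliser without elements of order `p` is cyclic. -/
theorem isCyclic_stab (P : Pt K)
    (hP : ∀ g : stabilizer H P, ((g : H) : PGL2 K) ^ p = 1 → g = 1) :
    IsCyclic (stabilizer H P) := by
  have hinj : Function.Injective (multH H P) := by
    rw [injective_iff_map_eq_one]
    intro g hg
    exact hP g ((multH_eq_one_iff H p g).1 hg)
  have := isCyclic_range H P
  exact isCyclic_of_injective (MonoidHom.ofInjective hinj).toMonoidHom
    (MonoidHom.ofInjective hinj).injective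

/-- An element fixing `P` has order dividing `p`, or the order of its multiplier. -/
theorem orderOf_dvd_of_fix {P : Pt K} (g : stabilizer H P) :
    orderOf g ∣ p ∨ (orderOf g = orderOf (multH H P g) ∧ orderOf g ∣ Nat.card (multH H P).range) := by
  by_cases hg : multH H P g = 1
  · left
    apply orderOf_dvd_of_pow_eq_one
    exact Subtype.ext (Subtype.ext (by simpa using (multH_eq_one_iff H p g).1 hg))
  · right
    have h1 : orderOf g = orderOf (multH H P g) := by
      refine Nat.dvd_antisymm ?_ (orderOf_map_dvd _ g)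
      apply orderOf_dvd_of_pow_eq_one
      by_contra hne
      have hm : multH H P (g ^ orderOf (multH H P g)) = 1 := by
        rw [map_pow, pow_orderOf_eq_one]
      have hp1 := (multH_eq_one_iff H p _).1 hm
      -- a non-trivial translation commutes only with translations
      obtain ⟨b, hb⟩ := affMult_spec (stabToInf H P g)
      obtain ⟨c, hc⟩ := affMult_spec (stabToInf H P (g ^ orderOf (multH H P g)))
      have e1 : affMult (stabToInf H P (g ^ orderOf (multH H P g))) = 1 := hm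
      rw [e1] at hc
      have hc0 : c ≠ 0 := by
        rintro rfl
        rw [aff_one_zero] at hc
        refine hne (stabToInf_injective H P ?_)
        rw [map_one]
        exact Subtype.ext (by rw [hc]; rfl)
      have hcomm : (stabToInf H P g : PGL2 K) * stabToInf H P (g ^ orderOf (multH H P g)) =
          (stabToInf H P (g ^ orderOf (multH H P g)) : PGL2 K) * stabToInf H P g := by
        rw [← Subgroup.coe_mul, ← Subgroup.coe_mul, ← map_mul, ← map_mul, ← pow_succ', ← pow_succ]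
      rw [hb, hc, aff_mul_aff, aff_mul_aff, aff_inj] at hcomm
      have h2 : ((affMult (stabToInf H P g) : Kˣ) : K) * c = c := by
        have := hcomm.2
        simp at this
        linear_combination this
      exact hg (Units.ext ((mul_eq_right₀ hc0).1 h2))
    refine ⟨h1, h1 ▸ ?_⟩
    have h2 := _root_.orderOf_dvd_natCard
      (⟨multH H P g, ⟨g, rfl⟩⟩ : (multH H P).range)
    rwa [← Subgroup.orderOf_coe] at h2

/-! ### Counting -/

variable [IsAlgClosed K]

/-- The points fixed by some non-trivial element of `H`. -/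
def special : Set (Pt K) := {P | ∃ h ∈ H, h ≠ 1 ∧ h • P = P}

include p in
theorem special_finite : (special H).Finite := by
  have hsub : special H ⊆ ⋃ h ∈ {h : PGL2 K | h ∈ H ∧ h ≠ 1}, fixedBy (Pt K) h := by
    intro P hP
    obtain ⟨h, hH, h1, hf⟩ := hP
    exact Set.mem_biUnion (show h ∈ H ∧ h ≠ 1 from ⟨hH, h1⟩) hf
  refine (Set.Finite.biUnion ?_ ?_).subset hsub
  · exact (Set.toFinite (H : Set (PGL2 K))).subset fun h hh => hh.1
  · intro h hh
    rcases fixedBy_cases p hh.2 with ⟨-, P, hP⟩ | ⟨-, P, Q, -, hP⟩ <;> simp [hP]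

/-- The special points as a finset. -/
noncomputable def specialF : Finset (Pt K) := (special_finite H p).toFinset

theorem mem_specialF {P : Pt K} : P ∈ specialF H p ↔ ∃ h ∈ H, h ≠ 1 ∧ h • P = P :=
  Set.Finite.mem_toFinset _

/-- The number of non-trivial elements of `H` with just one fixed point. -/
noncomputable def numUnip : ℕ := Nat.card {h : H // h ≠ 1 ∧ ((h : PGL2 K)) ^ p = 1}

theorem ncard_fixedBy {h : PGL2 K} (hh : h ≠ 1) [Decidable (h ^ p = 1)] :
    (fixedBy (Pt K) h).ncard = if h ^ p = 1 then 1 else 2 := by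
  rcases fixedBy_cases p hh with ⟨h1, P, hP⟩ | ⟨h1, P, Q, hne, hP⟩
  · rw [if_pos h1, hP, Set.ncard_singleton]
  · rw [if_neg h1, hP, Set.ncard_pair hne]

theorem sum_stab :
    (∑ P ∈ specialF H p, (Nat.card (stabilizer H P) - 1)) + numUnip H p =
      2 * (Nat.card H - 1) := by
  classical
  have := Fintype.ofFinite H
  have h1 : ∀ P : Pt K, Nat.card (stabilizer H P) - 1 =
      ∑ h ∈ Finset.univ.erase (1 : H), if (h : PGL2 K) • P = P then 1 else 0 := by
    intro P
    rw [Finset.sum_boole, Nat.cast_id, Finset.filter_erase, Finset.card_erase_of_mem (by simp),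
      Nat.card_eq_fintype_card, Fintype.card_subtype]
    rfl
  simp only [h1]
  rw [Finset.sum_comm]
  have h2 : ∀ h ∈ Finset.univ.erase (1 : H),
      (∑ P ∈ specialF H p, if (h : PGL2 K) • P = P then 1 else 0) =
        if (h : PGL2 K) ^ p = 1 then 1 else 2 := by
    intro h hh
    have hne : (h : PGL2 K) ≠ 1 := by
      exact fun e => (Finset.mem_erase.1 hh).1 (Subtype.ext e)
    rw [Finset.sum_boole, Nat.cast_id, ← ncard_fixedBy p hne, ← Set.ncard_coe_finset]
    congr 1
    ext P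
    simp only [Finset.coe_filter, mem_fixedBy, Set.mem_ofPred_eq, mem_specialF]
    exact ⟨fun hP => hP.2, fun hP => ⟨⟨h, h.2, hne, hP⟩, hP⟩⟩
  rw [Finset.sum_congr rfl h2, numUnip, Nat.card_eq_fintype_card, Fintype.card_subtype]
  have h3 : (Finset.univ.filter fun h : H => h ≠ 1 ∧ (h : PGL2 K) ^ p = 1).card =
      ∑ h ∈ Finset.univ.erase (1 : H), if (h : PGL2 K) ^ p = 1 then 1 else 0 := by
    rw [Finset.sum_boole, Nat.cast_id]
    congr 1
    ext h
    simp
  rw [h3, ← Finset.sum_add_distrib]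
  have h4 : ∀ h ∈ Finset.univ.erase (1 : H),
      ((if (h : PGL2 K) ^ p = 1 then 1 else 2) + if (h : PGL2 K) ^ p = 1 then 1 else 0) = 2 := by
    intro h _
    split_ifs <;> rfl
  rw [Finset.sum_congr rfl h4, Finset.sum_const, Finset.card_erase_of_mem (Finset.mem_univ _),
    Finset.card_univ, Nat.card_eq_fintype_card, smul_eq_mul, mul_comm]

omit [IsAlgClosed K] in
theorem orbit_finite (P : Pt K) : (orbit H P).Finite := Set.finite_range _

/-- The orbit as a finset. -/
noncomputable def orbitF (P : Pt K) : Finset (Pt K) := (orbit_finite H P).toFinset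

theorem mem_orbitF {P Q : Pt K} : Q ∈ orbitF H P ↔ Q ∈ orbit H P := Set.Finite.mem_toFinset _

theorem card_orbitF_mul (P : Pt K) :
    (orbitF H P).card * Nat.card (stabilizer H P) = Nat.card H := by
  rw [orbitF, ← Set.ncard_eq_toFinset_card _ (orbit_finite H P), ← index_stabilizer H, index_mul_card]

theorem card_stab_of_mem_orbit {P Q : Pt K} (hQ : Q ∈ orbitF H P) :
    Nat.card (stabilizer H Q) = Nat.card (stabilizer H P) := by
  have e : orbitF H Q = orbitF H P := by
    ext R; rw [mem_orbitF, mem_orbitF, orbit_eq_iff.2 ((mem_orbitF H).1 hQ)]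
  have h1 := card_orbitF_mul H Q
  have h2 := card_orbitF_mul H P
  rw [e, ← h2] at h1
  refine Nat.eq_of_mul_eq_mul_left ?_ h1
  exact Finset.card_pos.2 ⟨P, (mem_orbitF H).2 (mem_orbit_self P)⟩

theorem sum_orbitF (P : Pt K) :
    (∑ Q ∈ orbitF H P, (Nat.card (stabilizer H Q) - 1)) + (orbitF H P).card = Nat.card H := by
  rw [Finset.sum_congr rfl fun Q hQ => by rw [card_stab_of_mem_orbit H hQ], Finset.sum_const,
    smul_eq_mul, ← Nat.mul_succ, Nat.succ_eq_add_one, Nat.sub_add_cancel Nat.card_pos,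
    card_orbitF_mul]

/-- An invariant set of special points. -/
def Inv (S : Finset (Pt K)) : Prop :=
  S ⊆ specialF H p ∧ ∀ h ∈ H, ∀ Q ∈ S, h • Q ∈ S

theorem inv_specialF : Inv H p (specialF H p) := by
  refine ⟨subset_rfl, fun h hh Q hQ => ?_⟩
  obtain ⟨k, hk, hk1, hkQ⟩ := (mem_specialF H p).1 hQ
  refine (mem_specialF H p).2 ⟨h * k * h⁻¹, mul_mem (mul_mem hh hk) (inv_mem hh), ?_, ?_⟩
  · rw [ne_eq, mul_inv_eq_one, mul_eq_left]; exact hk1
  · rw [mul_smul, mul_smul, inv_smul_smul, hkQ]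

theorem two_le_stab {P : Pt K} (hP : P ∈ specialF H p) : 2 ≤ Nat.card (stabilizer H P) := by
  obtain ⟨k, hk, hk1, hkP⟩ := (mem_specialF H p).1 hP
  have : Nontrivial (stabilizer H P) :=
    ⟨⟨⟨⟨k, hk⟩, hkP⟩, 1, fun h => hk1 (congrArg (fun x : stabilizer H P => ((x : H) : PGL2 K)) h)⟩⟩
  exact Finite.one_lt_card

theorem peel {S : Finset (Pt K)} (hS : Inv H p S) {P : Pt K} (hP : P ∈ S) :
    ((∑ Q ∈ S, (Nat.card (stabilizer H Q) - 1)) + (orbitF H P).card =
        Nat.card H + ∑ Q ∈ S \ orbitF H P, (Nat.card (stabilizer H Q) - 1)) ∧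
      2 * (orbitF H P).card ≤ Nat.card H ∧ 1 ≤ (orbitF H P).card ∧
      Inv H p (S \ orbitF H P) := by
  classical
  have hsub : orbitF H P ⊆ S := by
    intro Q hQ
    obtain ⟨h, rfl⟩ := (mem_orbitF H).1 hQ
    exact hS.2 h h.2 P hP
  refine ⟨?_, ?_, ?_, ?_⟩
  · rw [← Finset.sum_sdiff hsub]
    have := sum_orbitF H P
    omega
  · rw [mul_comm, ← card_orbitF_mul H P]
    exact Nat.mul_le_mul_left _ (two_le_stab H p (hS.1 hP))
  · exact Finset.card_pos.2 ⟨P, (mem_orbitF H).2 (mem_orbit_self P)⟩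
  · refine ⟨Finset.sdiff_subset.trans hS.1, fun h hh Q hQ => ?_⟩
    rw [Finset.mem_sdiff, mem_orbitF] at hQ ⊢
    refine ⟨hS.2 h hh Q hQ.1, fun hc => hQ.2 ?_⟩
    have := MulAction.mem_orbit_of_mem_orbit (⟨h, hh⟩⁻¹ : H) hc
    rwa [show (⟨h, hh⟩⁻¹ : H) • h • Q = Q from inv_smul_smul h Q] at this

/-! ### Dihedral groups -/

/-- A special orbit of two points whose stabiliser has no element of order `p`. -/
theorem dihedral_of_orbit_two {P : Pt K} (hP : P ∈ specialF H p) (h2 : (orbitF H P).card = 2)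
    (hno : ∀ g : stabilizer H P, ((g : H) : PGL2 K) ^ p = 1 → g = 1) :
    ∃ n, 2 ≤ n ∧ ¬ p ∣ n ∧ Nat.card H = 2 * n ∧ Nonempty (H ≃* DihedralGroup n) := by
  classical
  have hn : Nat.card H = 2 * Nat.card (stabilizer H P) := by rw [← card_orbitF_mul H P, h2]
  have hn2 := two_le_stab H p hP
  have hndvd : ¬ p ∣ Nat.card (stabilizer H P) := by
    intro h
    obtain ⟨g, hg⟩ := exists_prime_orderOf_dvd_card' p h
    have hg1 : g = 1 := hno g (by
      have h' := congrArg (fun x : stabilizer H P => ((x : H) : PGL2 K)) (pow_orderOf_eq_one g)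
      simpa [hg] using h')
    rw [hg1, orderOf_one] at hg
    exact (Fact.out : p.Prime).ne_one hg.symm
  refine ⟨_, hn2, hndvd, hn, ?_⟩
  obtain ⟨a, b, hab, hO⟩ := Finset.card_eq_two.1 h2
  obtain ⟨Q, hQP, hO'⟩ : ∃ Q, Q ≠ P ∧ orbitF H P = {P, Q} := by
    have hPm : P ∈ orbitF H P := (mem_orbitF H).2 (mem_orbit_self P)
    rw [hO, Finset.mem_insert, Finset.mem_singleton] at hPm
    rcases hPm with rfl | rfl
    · exact ⟨b, hab.symm, hO⟩
    · exact ⟨a, hab, by rw [hO, Finset.pair_comm]⟩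
  obtain ⟨t, ht⟩ : ∃ t : H, (t : PGL2 K) • P = Q :=
    (mem_orbitF H).1 (hO' ▸ Finset.mem_insert_of_mem (Finset.mem_singleton_self Q))
  obtain ⟨c, hc⟩ := (isCyclic_stab H p P hno).exists_ofOrder_eq_natCard
  have hmap : ∀ g : H, ∀ R, R = P ∨ R = Q → (g : PGL2 K) • R = P ∨ (g : PGL2 K) • R = Q := by
    intro g R hR
    have hR' : R ∈ orbit H P := by
      rw [← mem_orbitF, hO']; simpa using hR
    have h' : (g : PGL2 K) • R ∈ orbitF H P := (mem_orbitF H).2 (mem_orbit_of_mem_orbit g hR')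
    rw [hO'] at h'
    simpa using h'
  have hcP : ((c : H) : PGL2 K) • P = P := c.2
  have hcQ : ((c : H) : PGL2 K) • Q = Q := by
    refine (hmap c Q (Or.inr rfl)).resolve_left fun h => ?_
    exact hQP (MulAction.injective ((c : H) : PGL2 K) (h.trans hcP.symm))
  have htQ : (t : PGL2 K) • Q = P := by
    refine (hmap t Q (Or.inr rfl)).resolve_right fun h => ?_
    exact hQP (MulAction.injective (t : PGL2 K) (h.trans ht.symm))
  obtain ⟨k, hkP, hkQ⟩ := exists_map_two (Ne.symm hQP)
  have hkP' : k⁻¹ • (pinf : Pt K) = P := by rw [← hkP, inv_smul_smul]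
  have hkQ' : k⁻¹ • (pt 0 : Pt K) = Q := by rw [← hkQ, inv_smul_smul]
  obtain ⟨a', b', hC⟩ := exists_aff_of_fix (g := k * ((c : H) : PGL2 K) * k⁻¹)
    (by rw [mul_smul, mul_smul, hkP', hcP, hkP])
  have hb' : b' = 0 := by
    have h : aff a' b' • (pt 0 : Pt K) = pt 0 := by rw [← hC, mul_smul, mul_smul, hkQ', hcQ, hkQ]
    simpa using h
  subst hb'
  obtain ⟨u, v, w, z, hd, hT⟩ := exists_mob (k * (t : PGL2 K) * k⁻¹)
  have hz : z = 0 := by
    have h : mob u v w z hd • (pt 0 : Pt K) = pinf := by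
      rw [← hT, mul_smul, mul_smul, hkQ', htQ, hkP]
    simpa using mob_smul_pt_eq_pinf.1 h
  have hu : u = 0 := by
    have h : mob u v w z hd • (pinf : Pt K) = pt 0 := by
      rw [← hT, mul_smul, mul_smul, hkP', ht, hkQ]
    simpa using mob_smul_pinf_eq_pt.1 h
  subst hz hu
  have hconj : ∀ x y : PGL2 K, k * x * k⁻¹ = k * y * k⁻¹ → x = y := fun x y h => by simpa using h
  have hmul : ∀ x y : PGL2 K, k * (x * y) * k⁻¹ = (k * x * k⁻¹) * (k * y * k⁻¹) := fun x y => by group
  have htc : t ∉ Subgroup.zpowers (c : H) := by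
    intro h
    have : t ∈ stabilizer H P := (zpowers_le.2 c.2) h
    exact hQP ((ht.symm).trans this)
  have ht2 : t * t = 1 := by
    apply Subtype.ext
    apply hconj
    rw [Subgroup.coe_mul, hmul, hT, mob_mul_mob, Subgroup.coe_one, mul_one, mul_inv_cancel,
      mob_eq_one_iff]
    refine ⟨by ring, by ring, by ring⟩
  have htne : t ≠ 1 := fun h => htc (h ▸ one_mem _)
  have hinv : t * (c : H) * t = (c : H)⁻¹ := by
    rw [← mul_eq_one_iff_eq_inv]
    apply Subtype.ext
    apply hconj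
    simp only [Subgroup.coe_mul, Subgroup.coe_one, hmul, hT, hC, mul_one, mul_inv_cancel]
    rw [aff, mob_mul_mob, mob_mul_mob, mob_mul_mob, mob_eq_one_iff]
    refine ⟨by ring, by ring, by ring⟩
  exact mulEquiv_dihedral hn hn2 (c : H) t (by rw [Subgroup.orderOf_coe, hc])
    (Involution.orderOf_of_sq ht2 htne) hinv htc

/-! ### Order prime to `p` -/

theorem stab_no_unip (hp : ¬ p ∣ Nat.card H) (P : Pt K) (g : stabilizer H P)
    (hg : ((g : H) : PGL2 K) ^ p = 1) : g = 1 := by
  have h1 : orderOf (g : H) ∣ p :=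
    orderOf_dvd_of_pow_eq_one (Subtype.ext (by simpa using hg))
  rcases ((Fact.out : p.Prime).eq_one_or_self_of_dvd _ h1) with h | h
  · exact Subtype.ext (orderOf_eq_one_iff.1 h)
  · exact absurd (h ▸ _root_.orderOf_dvd_natCard (g : H)) hp

theorem numUnip_eq_zero (hp : ¬ p ∣ Nat.card H) : numUnip H p = 0 := by
  rw [numUnip, Nat.card_eq_zero]
  left
  refine ⟨fun ⟨h, h1, h2⟩ => h1 ?_⟩
  have h' : orderOf h ∣ p := orderOf_dvd_of_pow_eq_one (Subtype.ext (by simpa using h2))
  rcases ((Fact.out : p.Prime).eq_one_or_self_of_dvd _ h') with e | e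
  · exact orderOf_eq_one_iff.1 e
  · exact absurd (e ▸ _root_.orderOf_dvd_natCard h) hp

theorem arith_three {h n₁ n₂ n₃ g₁ g₂ g₃ : ℕ} (h1 : n₁ * g₁ = h) (h2 : n₂ * g₂ = h)
    (h3 : n₃ * g₃ = h) (a1 : 2 ≤ g₁) (a2 : 2 ≤ g₂) (a3 : 2 ≤ g₃) (b1 : 1 ≤ n₁) (b2 : 1 ≤ n₂)
    (b3 : 1 ≤ n₃) (hs : n₁ + n₂ + n₃ = h + 2) (h12 : n₂ ≤ n₁) (h23 : n₃ ≤ n₂) :
    n₃ = 2 ∨ (g₁ = 2 ∧ g₂ = 3 ∧ ((g₃ = 3 ∧ h = 12) ∨ (g₃ = 4 ∧ h = 24) ∨ (g₃ = 5 ∧ h = 60))) := by
  have hg1 : g₁ = 2 := by
    by_contra hne
    have : n₁ * 3 ≤ n₁ * g₁ := Nat.mul_le_mul_left _ (by omega)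
    omega
  subst hg1
  have hg2 : g₂ = 2 ∨ g₂ = 3 := by
    by_contra hne
    have : n₂ * 4 ≤ n₂ * g₂ := Nat.mul_le_mul_left _ (by omega)
    omega
  rcases hg2 with rfl | rfl
  · left; omega
  · right
    have hge3 : 3 ≤ g₃ := by
      by_contra hne
      obtain rfl : g₃ = 2 := by omega
      omega
    have hg3 : g₃ ≤ 5 := by
      by_contra hne
      have : n₃ * 6 ≤ n₃ * g₃ := Nat.mul_le_mul_left _ (by omega)
      omega
    refine ⟨rfl, rfl, ?_⟩
    interval_cases g₃ <;> omega

theorem eq_one_of_fix_orbit {P : Pt K} {g : PGL2 K} (hn : 3 ≤ (orbitF H P).card)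
    (hg : ∀ Q ∈ orbitF H P, g • Q = Q) : g = 1 := by
  obtain ⟨s, hs, hs3⟩ := Finset.exists_subset_card_eq hn
  classical
  obtain ⟨a, b, c, hab, hac, hbc, rfl⟩ := Finset.card_eq_three.1 hs3
  exact eq_one_of_fix_three hab hac hbc (hg _ (hs (by simp))) (hg _ (hs (by simp)))
    (hg _ (hs (by simp)))

theorem not_normal_stab {P : Pt K} (hn : 3 ≤ (orbitF H P).card)
    (h2 : 2 ≤ Nat.card (stabilizer H P)) : ¬ (stabilizer H P).Normal := by
  intro hN
  obtain ⟨x, hx, hx1⟩ := (nontrivial_iff_exists_ne_one _).1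
    (Finite.one_lt_card_iff_nontrivial.1 h2)
  refine hx1 (Subtype.ext (eq_one_of_fix_orbit H (g := (x : PGL2 K)) hn fun Q hQ => ?_))
  obtain ⟨h, rfl⟩ := (mem_orbitF H).1 hQ
  have h' : h⁻¹ * x * h ∈ stabilizer H P := by
    simpa using hN.conj_mem x hx h⁻¹
  rw [mem_stabilizer_iff, mul_smul, mul_smul, inv_smul_eq_iff] at h'
  exact h'

/-- Every element has order dividing one of the three stabiliser orders. -/
theorem orderOf_dvd_stab (g : H) (P₁ P₂ P₃ : Pt K)
    (hall : ∀ Q ∈ specialF H p, Q ∈ orbitF H P₁ ∨ Q ∈ orbitF H P₂ ∨ Q ∈ orbitF H P₃) :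
    g = 1 ∨ orderOf g ∣ Nat.card (stabilizer H P₁) ∨ orderOf g ∣ Nat.card (stabilizer H P₂) ∨
      orderOf g ∣ Nat.card (stabilizer H P₃) := by
  by_cases hg : g = 1
  · exact Or.inl hg
  right
  obtain ⟨Q, hQ⟩ := exists_fix (g : PGL2 K)
  have hQs : Q ∈ specialF H p :=
    (mem_specialF H p).2 ⟨g, g.2, fun h => hg (Subtype.ext h), hQ⟩
  have hd : orderOf g ∣ Nat.card (stabilizer H Q) := Subgroup.orderOf_dvd_natCard (stabilizer H Q) hQ
  rcases hall Q hQs with h | h | h <;> rw [card_stab_of_mem_orbit H h] at hd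
  · exact Or.inl hd
  · exact Or.inr (Or.inl hd)
  · exact Or.inr (Or.inr hd)

theorem polyhedral {P₁ P₂ P₃ : Pt K} (a1 : Nat.card (stabilizer H P₁) = 2)
    (a2 : Nat.card (stabilizer H P₂) = 3)
    (a3 : (Nat.card (stabilizer H P₃) = 3 ∧ Nat.card H = 12) ∨
      (Nat.card (stabilizer H P₃) = 4 ∧ Nat.card H = 24) ∨
      (Nat.card (stabilizer H P₃) = 5 ∧ Nat.card H = 60))
    (hall : ∀ Q ∈ specialF H p, Q ∈ orbitF H P₁ ∨ Q ∈ orbitF H P₂ ∨ Q ∈ orbitF H P₃) :
    Nonempty (H ≃* alternatingGroup (Fin 4)) ∨ Nonempty (H ≃* Equiv.Perm (Fin 4)) ∨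
      Nonempty (H ≃* alternatingGroup (Fin 5)) := by
  classical
  rcases a3 with ⟨a3, hH⟩ | ⟨a3, hH⟩ | ⟨a3, hH⟩
  · left
    have hn : (orbitF H P₂).card = 4 := by
      have := card_orbitF_mul H P₂
      rw [a2, hH] at this
      omega
    have hfin : Finite (orbit H P₂) := orbit_finite H P₂
    have : FaithfulSMul H (orbit H P₂) := by
      refine faithfulSMul_iff.2 fun g hg => ?_
      refine Subtype.ext (eq_one_of_fix_orbit H (P := P₂) (by omega) fun Q hQ => ?_)
      exact congrArg Subtype.val (hg ⟨Q, (mem_orbitF H).1 hQ⟩)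
    refine mulEquiv_alternatingFour hH (X := orbit H P₂) ?_
    rw [Nat.card_coe_set_eq, Set.ncard_eq_toFinset_card _ (orbit_finite H P₂)]
    exact hn
  · right; left
    refine mulEquiv_permFour hH (fun g => ?_) ?_
    · rcases orderOf_dvd_stab H p g P₁ P₂ P₃ hall with h | h | h | h
      · simp [h]
      · rw [a1] at h; have := Nat.le_of_dvd (by norm_num) h
        interval_cases e : orderOf g <;> simp_all [(orderOf_pos g).ne']
      · rw [a2] at h; have := Nat.le_of_dvd (by norm_num) h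
        interval_cases e : orderOf g <;> simp_all [(orderOf_pos g).ne']
      · rw [a3] at h; have := Nat.le_of_dvd (by norm_num) h
        interval_cases e : orderOf g <;> simp_all [(orderOf_pos g).ne']
    · have := Fact.mk Nat.prime_three
      intro hone
      have hsub : Subsingleton (Sylow 3 H) := (Nat.card_eq_one_iff_unique.1 hone).1
      have hP : IsPGroup 3 (stabilizer H P₂) := IsPGroup.of_card (n := 1) (by rw [a2, pow_one])
      obtain ⟨S, hS⟩ := hP.exists_le_sylow
      have hScard : Nat.card (S : Subgroup H) = 3 := by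
        rw [SmallOrders.card_sylow_subgroup (e := 1) (m := 8) (by rw [hH]; norm_num) (by norm_num) S,
          pow_one]
      have hSeq : stabilizer H P₂ = (S : Subgroup H) :=
        Subgroup.eq_of_le_of_card_ge hS (by rw [a2, hScard])
      refine not_normal_stab H (P := P₂) ?_ (by omega) (hSeq ▸ S.normal_of_subsingleton)
      have := card_orbitF_mul H P₂
      rw [a2, hH] at this
      omega
  · right; right
    refine mulEquiv_alternatingFive hH (fun g => ?_) ?_
    · rcases orderOf_dvd_stab H p g P₁ P₂ P₃ hall with h | h | h | h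
      · simp [h]
      · rw [a1] at h; rcases (Nat.dvd_prime Nat.prime_two).1 h with e | e <;> simp [e]
      · rw [a2] at h; rcases (Nat.dvd_prime Nat.prime_three).1 h with e | e <;> simp [e]
      · rw [a3] at h; rcases (Nat.dvd_prime Nat.prime_five).1 h with e | e <;> simp [e]
    · have := Fact.mk Nat.prime_five
      intro hone
      have hsub : Subsingleton (Sylow 5 H) := (Nat.card_eq_one_iff_unique.1 hone).1
      have hP : IsPGroup 5 (stabilizer H P₃) := IsPGroup.of_card (n := 1) (by rw [a3, pow_one])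
      obtain ⟨S, hS⟩ := hP.exists_le_sylow
      have hScard : Nat.card (S : Subgroup H) = 5 := by
        rw [SmallOrders.card_sylow_subgroup (e := 1) (m := 12) (by rw [hH]; norm_num) (by norm_num) S,
          pow_one]
      have hSeq : stabilizer H P₃ = (S : Subgroup H) :=
        Subgroup.eq_of_le_of_card_ge hS (by rw [a3, hScard])
      refine not_normal_stab H (P := P₃) ?_ (by omega) (hSeq ▸ S.normal_of_subsingleton)
      have := card_orbitF_mul H P₃
      rw [a3, hH] at this
      omega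

/-- The finite subgroups of order prime to `p`. -/
theorem classify_coprime (hp : ¬ p ∣ Nat.card H) :
    (∃ P : Pt K, ∀ h ∈ H, h • P = P) ∨
    (∃ n, 2 ≤ n ∧ ¬ p ∣ n ∧ Nat.card H = 2 * n ∧ Nonempty (H ≃* DihedralGroup n)) ∨
    Nonempty (H ≃* alternatingGroup (Fin 4)) ∨ Nonempty (H ≃* Equiv.Perm (Fin 4)) ∨
    Nonempty (H ≃* alternatingGroup (Fin 5)) := by
  classical
  by_cases hfix : ∃ P : Pt K, ∀ h ∈ H, h • P = P
  · exact Or.inl hfix
  right
  have hne1 : ∀ P : Pt K, (orbitF H P).card ≠ 1 := by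
    intro P h1
    apply hfix
    refine ⟨P, fun h hh => ?_⟩
    obtain ⟨R, hR⟩ := Finset.card_eq_one.1 h1
    have m1 : P ∈ orbitF H P := (mem_orbitF H).2 (mem_orbit_self P)
    have m2 : h • P ∈ orbitF H P := (mem_orbitF H).2 ⟨⟨h, hh⟩, rfl⟩
    rw [hR, Finset.mem_singleton] at m1 m2
    exact m2.trans m1.symm
  have htot := sum_stab H p
  rw [numUnip_eq_zero H p hp, add_zero] at htot
  have hH2 : 2 ≤ Nat.card H := by
    by_contra hlt
    have h1 : Nat.card H = 1 := by have := Nat.card_pos (α := H); omega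
    obtain ⟨hs, -⟩ := Nat.card_eq_one_iff_unique.1 h1
    apply hfix
    refine ⟨pinf, fun h hh => ?_⟩
    have h' : (⟨h, hh⟩ : H) = 1 := Subsingleton.elim _ _
    rw [show h = 1 from congrArg Subtype.val h', one_smul]
  -- three special orbits
  have hne : (specialF H p).Nonempty := by
    by_contra hh
    rw [Finset.not_nonempty_iff_eq_empty] at hh
    rw [hh, Finset.sum_empty] at htot
    omega
  obtain ⟨P₁, hP₁⟩ := hne
  obtain ⟨e1, l1, o1, i1⟩ := peel H p (inv_specialF H p) hP₁
  have hne2 : (specialF H p \ orbitF H P₁).Nonempty := by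
    by_contra hh
    rw [Finset.not_nonempty_iff_eq_empty] at hh
    rw [hh, Finset.sum_empty] at e1
    omega
  obtain ⟨P₂, hP₂⟩ := hne2
  obtain ⟨e2, l2, o2, i2⟩ := peel H p i1 hP₂
  have hne3 : ((specialF H p \ orbitF H P₁) \ orbitF H P₂).Nonempty := by
    by_contra hh
    rw [Finset.not_nonempty_iff_eq_empty] at hh
    rw [hh, Finset.sum_empty] at e2
    have := hne1 P₁
    have := hne1 P₂
    omega
  obtain ⟨P₃, hP₃⟩ := hne3
  obtain ⟨e3, l3, o3, i3⟩ := peel H p i2 hP₃
  have hemp : ((specialF H p \ orbitF H P₁) \ orbitF H P₂) \ orbitF H P₃ = ∅ := by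
    by_contra hh
    obtain ⟨P₄, hP₄⟩ := Finset.nonempty_iff_ne_empty.2 hh
    obtain ⟨e4, l4, o4, -⟩ := peel H p i3 hP₄
    omega
  rw [hemp, Finset.sum_empty] at e3
  have hall : ∀ Q ∈ specialF H p, Q ∈ orbitF H P₁ ∨ Q ∈ orbitF H P₂ ∨ Q ∈ orbitF H P₃ := by
    intro Q hQ
    by_contra hc
    push Not at hc
    obtain ⟨c1, c2, c3⟩ := hc
    have : Q ∈ ((specialF H p \ orbitF H P₁) \ orbitF H P₂) \ orbitF H P₃ :=
      Finset.mem_sdiff.2 ⟨Finset.mem_sdiff.2 ⟨Finset.mem_sdiff.2 ⟨hQ, c1⟩, c2⟩, c3⟩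
    rw [hemp] at this
    exact absurd this (Finset.notMem_empty Q)
  have s1 : P₁ ∈ specialF H p := hP₁
  have s2 : P₂ ∈ specialF H p := i1.1 hP₂
  have s3 : P₃ ∈ specialF H p := i2.1 hP₃
  have hsum : (orbitF H P₁).card + (orbitF H P₂).card + (orbitF H P₃).card = Nat.card H + 2 := by
    omega
  -- conclusion for the orbits sorted by length
  have main : ∀ A B C : Pt K, A ∈ specialF H p → B ∈ specialF H p → C ∈ specialF H p →
      (orbitF H A).card + (orbitF H B).card + (orbitF H C).card = Nat.card H + 2 →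
      (orbitF H B).card ≤ (orbitF H A).card → (orbitF H C).card ≤ (orbitF H B).card →
      (∀ Q ∈ specialF H p, Q ∈ orbitF H A ∨ Q ∈ orbitF H B ∨ Q ∈ orbitF H C) →
      (∃ n, 2 ≤ n ∧ ¬ p ∣ n ∧ Nat.card H = 2 * n ∧ Nonempty (H ≃* DihedralGroup n)) ∨
      Nonempty (H ≃* alternatingGroup (Fin 4)) ∨ Nonempty (H ≃* Equiv.Perm (Fin 4)) ∨
      Nonempty (H ≃* alternatingGroup (Fin 5)) := by
    intro A B C sA sB sC hs hAB hBC hcov
    have pos : ∀ P, 1 ≤ (orbitF H P).card := fun P =>
      Finset.card_pos.2 ⟨P, (mem_orbitF H).2 (mem_orbit_self P)⟩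
    rcases arith_three (card_orbitF_mul H A) (card_orbitF_mul H B) (card_orbitF_mul H C)
      (two_le_stab H p sA) (two_le_stab H p sB) (two_le_stab H p sC) (pos A) (pos B) (pos C)
      hs hAB hBC with h | ⟨hA, hB, hC⟩
    · exact Or.inl (dihedral_of_orbit_two H p sC h (stab_no_unip H p hp C))
    · exact Or.inr (polyhedral H p hA hB hC hcov)
  rcases le_total (orbitF H P₂).card (orbitF H P₁).card with h12 | h12 <;>
  rcases le_total (orbitF H P₃).card (orbitF H P₁).card with h13 | h13 <;>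
  rcases le_total (orbitF H P₃).card (orbitF H P₂).card with h23 | h23
  all_goals first
    | exact main P₁ P₂ P₃ s1 s2 s3 hsum h12 h23 hall
    | exact main P₁ P₃ P₂ s1 s3 s2 (by omega) h13 h23 (fun Q hQ => by have := hall Q hQ; tauto)
    | exact main P₂ P₁ P₃ s2 s1 s3 (by omega) h12 h13 (fun Q hQ => by have := hall Q hQ; tauto)
    | exact main P₂ P₃ P₁ s2 s3 s1 (by omega) h23 h13 (fun Q hQ => by have := hall Q hQ; tauto)
    | exact main P₃ P₁ P₂ s3 s1 s2 (by omega) h13 h12 (fun Q hQ => by have := hall Q hQ; tauto)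
    | exact main P₃ P₂ P₁ s3 s2 s1 (by omega) h23 h12 (fun Q hQ => by have := hall Q hQ; tauto)
    | omega

end Cfsg.Agent.PSL2
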