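/-
Dickson's theorem: the finite subgroups of `PGL_2(K)`, `K` algebraically closed of characteristic `p`.

Main results (namespace `Cfsg.Agent.PSL2`):
* `pglImg R`, `pslImg R`   : the images of `PGL_2(R)`, `PSL_2(R)` for a subfield `R`, with `card_pglImg`,
  `mob_mem_pglImg`
* `conjH g H`              : the conjugate subgroup
* `dickson`                : the classification
-/
import Cfsg.Agent.Lib.PSL2.Basic
import Cfsg.Agent.Lib.PSL2.Finite
import Cfsg.Agent.Lib.GLOrder.Basic

set_option autoImplicit false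
set_option linter.unusedSectionVars false
set_option linter.dupNamespace false

open Matrix MulAction Subgroup
open scoped LinearAlgebra.Projectivization Classical

namespace Cfsg.Agent.PSL2

variable {K : Type*} [Field K]

/-! ### Conjugates -/

/-- The conjugate `g H g⁻¹`. -/
def conjH (g : PGL2 K) (H : Subgroup (PGL2 K)) : Subgroup (PGL2 K) :=
  H.map (MulAut.conj g).toMonoidHom

theorem mem_conjH {g x : PGL2 K} {H : Subgroup (PGL2 K)} :
    x ∈ conjH g H ↔ g⁻¹ * x * g ∈ H := by
  rw [conjH, Subgroup.mem_map]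
  constructor
  · rintro ⟨y, hy, rfl⟩; simpa [mul_assoc] using hy
  · intro h; exact ⟨_, h, by simp [mul_assoc]⟩

theorem conjH_conjH (g g' : PGL2 K) (H : Subgroup (PGL2 K)) :
    conjH g (conjH g' H) = conjH (g * g') H := by
  ext x; simp [mem_conjH, mul_assoc]

/-- `H` is isomorphic to its conjugate. -/
noncomputable def conjHEquiv (g : PGL2 K) (H : Subgroup (PGL2 K)) : H ≃* conjH g H :=
  (MulAut.conj g).subgroupMap H

instance finite_conjH (g : PGL2 K) (H : Subgroup (PGL2 K)) [Finite H] : Finite (conjH g H) :=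
  Finite.of_equiv _ (conjHEquiv g H).toEquiv

/-! ### Subfield subgroups -/

/-- The image of `PGL_2(R)`. -/
noncomputable def pglImg (R : Subfield K) : Subgroup (PGL2 K) :=
  (ProjGenLinGroup.map (n := Fin 2) (R.subtype : R →+* K)).range

/-- The image of `PSL_2(R)`. -/
noncomputable def pslImg (R : Subfield K) : Subgroup (PGL2 K) :=
  ((ProjGenLinGroup.map (n := Fin 2) (R.subtype : R →+* K)).comp
    ProjectiveSpecialLinearGroup.toPGL).range

theorem map_mob {L : Type*} [Field L] (φ : L →+* K) (a b c d : L) (h : a * d - b * c ≠ 0) :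
    ProjGenLinGroup.map φ (mob a b c d h) =
      mob (φ a) (φ b) (φ c) (φ d)
        (by rw [← map_mul, ← map_mul, ← map_sub]; exact (map_ne_zero φ).2 h) := by
  rw [mob, mob, ProjGenLinGroup.map_mk]
  congr 1
  apply Units.ext
  ext i j
  fin_cases i <;> fin_cases j <;> simp

theorem pgl_map_injective {L : Type*} [Field L] (φ : L →+* K) :
    Function.Injective (ProjGenLinGroup.map (n := Fin 2) φ) := by
  rw [injective_iff_map_eq_one]
  intro x hx
  obtain ⟨a, b, c, d, h, rfl⟩ := exists_mob x
  rw [map_mob, mob_eq_one_iff] at hx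
  rw [mob_eq_one_iff]
  exact ⟨φ.injective (hx.1.trans (map_zero φ).symm), φ.injective (hx.2.1.trans (map_zero φ).symm),
    φ.injective hx.2.2⟩

theorem card_pglImg (R : Subfield K) [Finite R] :
    Nat.card (pglImg R) = Nat.card R * (Nat.card R ^ 2 - 1) := by
  rw [pglImg, ← Nat.card_congr (MonoidHom.ofInjective (pgl_map_injective R.subtype)).toEquiv,
    GLOrder.card_PGL_two]

theorem card_pslImg (R : Subfield K) [Finite R] :
    Nat.card (pslImg R) = Nat.card (PSL2 R) := by
  rw [pslImg]
  refine (Nat.card_congr (MonoidHom.ofInjective ?_).toEquiv).symm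
  exact (pgl_map_injective R.subtype).comp ProjectiveSpecialLinearGroup.toPGL_injective

theorem pslImg_le_pglImg (R : Subfield K) : pslImg R ≤ pglImg R := by
  rintro _ ⟨x, rfl⟩
  exact ⟨_, rfl⟩

theorem mob_mem_pglImg {R : Subfield K} {a b c d : K} (ha : a ∈ R) (hb : b ∈ R) (hc : c ∈ R)
    (hd : d ∈ R) (h : a * d - b * c ≠ 0) : mob a b c d h ∈ pglImg R := by
  refine ⟨mob (⟨a, ha⟩ : R) ⟨b, hb⟩ ⟨c, hc⟩ ⟨d, hd⟩ ?_, ?_⟩
  · intro h0; exact h (by simpa using congrArg Subtype.val h0)
  · rw [map_mob]; rfl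

/-- The points of the projective line over `R`. -/
def lineSet (R : Subfield K) : Set (Pt K) := {P | P = pinf ∨ ∃ x ∈ R, P = pt x}

theorem lineSet_smul {R : Subfield K} {g : PGL2 K} (hg : g ∈ pglImg R) {P : Pt K}
    (hP : P ∈ lineSet R) : g • P ∈ lineSet R := by
  obtain ⟨x, rfl⟩ := hg
  obtain ⟨a, b, c, d, h, rfl⟩ := exists_mob x
  rw [map_mob]
  simp only [Subfield.coe_subtype]
  rcases hP with rfl | ⟨y, hy, rfl⟩
  · by_cases hc : (c : K) = 0
    · exact Or.inl (mob_smul_pinf_eq_pinf.2 hc)
    · exact Or.inr ⟨(a : K) / c, div_mem a.2 c.2,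
        mob_smul_pinf_eq_pt.2 (by rw [div_mul_cancel₀ _ hc])⟩
  · by_cases hc : (c : K) * y + d = 0
    · exact Or.inl (mob_smul_pt_eq_pinf.2 hc)
    · exact Or.inr ⟨((a : K) * y + b) / (c * y + d),
        div_mem (add_mem (mul_mem a.2 hy) b.2) (add_mem (mul_mem c.2 hy) d.2),
        mob_smul_pt_eq_pt.2 (by rw [div_mul_cancel₀ _ hc])⟩

theorem exists_pglImg_map_three {R : Subfield K} {P Q S : Pt K} (hP : P ∈ lineSet R)
    (hQ : Q ∈ lineSet R) (hS : S ∈ lineSet R) (hPQ : P ≠ Q) (hPS : P ≠ S) (hQS : Q ≠ S) :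
    ∃ g ∈ pglImg R, g • P = pinf ∧ g • Q = pt 0 ∧ g • S = pt 1 := by
  obtain ⟨g₁, hg₁, hP₁⟩ : ∃ g ∈ pglImg R, g • P = pinf := by
    rcases hP with rfl | ⟨x, hx, rfl⟩
    · exact ⟨1, one_mem _, one_smul _ _⟩
    · exact ⟨mob 0 1 1 (-x) (by simp),
        mob_mem_pglImg (zero_mem _) (one_mem _) (one_mem _) (neg_mem hx) _,
        mob_smul_pt_eq_pinf.2 (by ring)⟩
  rcases lineSet_smul hg₁ hQ with e | ⟨x, hx, hQ₁⟩
  · exact absurd (MulAction.injective g₁ (hP₁.trans e.symm)) hPQ
  have hg₂ : aff 1 (-x) * g₁ ∈ pglImg R :=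
    mul_mem (mob_mem_pglImg (by simp [one_mem]) (neg_mem hx) (zero_mem _) (one_mem _) _) hg₁
  have hP₂ : (aff 1 (-x) * g₁) • P = pinf := by rw [mul_smul, hP₁, aff_smul_pinf]
  have hQ₂ : (aff 1 (-x) * g₁) • Q = pt 0 := by rw [mul_smul, hQ₁, aff_smul_pt]; simp
  rcases lineSet_smul hg₂ hS with e | ⟨y, hy, hS₂⟩
  · exact absurd (MulAction.injective _ (hP₂.trans e.symm)) hPS
  have hy0 : y ≠ 0 := by
    rintro rfl
    exact hQS (MulAction.injective _ (hQ₂.trans hS₂.symm))
  refine ⟨aff (Units.mk0 y⁻¹ (inv_ne_zero hy0)) 0 * (aff 1 (-x) * g₁),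
    mul_mem (mob_mem_pglImg (by simpa using inv_mem hy) (zero_mem _) (zero_mem _) (one_mem _) _) hg₂,
    ?_, ?_, ?_⟩
  · rw [mul_smul, hP₂, aff_smul_pinf]
  · rw [mul_smul, hQ₂, aff_smul_pt]; simp
  · rw [mul_smul, hS₂, aff_smul_pt]; simp [inv_mul_cancel₀ hy0]

theorem pinf_mem_lineSet (R : Subfield K) : pinf ∈ lineSet R := Or.inl rfl

theorem pt_mem_lineSet {R : Subfield K} {x : K} (hx : x ∈ R) : pt x ∈ lineSet R :=
  Or.inr ⟨x, hx, rfl⟩

/-- A transformation preserving the line over `R` belongs to `pglImg R`. -/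
theorem mem_pglImg_of_lineSet {R : Subfield K} {h : PGL2 K}
    (hh : ∀ P ∈ lineSet R, h • P ∈ lineSet R) : h ∈ pglImg R := by
  obtain ⟨g, hg, e1, e2, e3⟩ := exists_pglImg_map_three
    (hh _ (pinf_mem_lineSet R)) (hh _ (pt_mem_lineSet (zero_mem R)))
    (hh _ (pt_mem_lineSet (one_mem R)))
    (fun e => pinf_ne_pt (0 : K) (MulAction.injective h e))
    (fun e => pinf_ne_pt (1 : K) (MulAction.injective h e))
    (fun e => zero_ne_one (α := K) (pt_injective (MulAction.injective h e)))
  have h1 : g * h = 1 := eq_one_of_fix_std (by rw [mul_smul, e1]) (by rw [mul_smul, e2])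
    (by rw [mul_smul, e3])
  rw [show h = g⁻¹ from eq_inv_of_mul_eq_one_right h1]
  exact inv_mem hg

/-! ### Translations and multipliers at infinity -/

variable (H : Subgroup (PGL2 K))

/-- The translations contained in `H`. -/
noncomputable def transSet : AddSubgroup K where
  carrier := {b | aff 1 b ∈ H}
  zero_mem' := by
    change aff (1 : Kˣ) (0 : K) ∈ H
    rw [aff_one_zero]; exact one_mem _
  add_mem' {a b} ha hb := by
    change aff (1 : Kˣ) (a + b) ∈ H
    have h := mul_mem (s := H) hb ha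
    rw [aff_mul_aff] at h
    simpa using h
  neg_mem' {a} ha := by
    change aff (1 : Kˣ) (-a) ∈ H
    have h := inv_mem (x := _) (show aff (1 : Kˣ) a ∈ H from ha)
    rw [aff_inv] at h
    simpa using h

theorem mem_transSet {b : K} : b ∈ transSet H ↔ aff 1 b ∈ H := Iff.rfl

theorem multH_pinf_eq {g : stabilizer H (pinf : Pt K)} {a : Kˣ} {b : K}
    (h : ((g : H) : PGL2 K) = aff a b) : multH H pinf g = a := by
  let g' : stabilizer (PGL2 K) (pinf : Pt K) := ⟨((g : H) : PGL2 K), g.2⟩
  let k : stabilizer (PGL2 K) (pinf : Pt K) := ⟨toInf pinf, toInf_smul pinf⟩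
  have e : stabToInf H pinf g = k * g' * k⁻¹ := Subtype.ext rfl
  rw [multH, MonoidHom.comp_apply, e, map_mul, map_mul, map_inv, mul_inv_cancel_comm]
  obtain ⟨c, hc⟩ := affMult_spec g'
  exact (aff_inj.1 (hc.symm.trans h)).1

theorem mem_range_multH {a : Kˣ} :
    a ∈ (multH H (pinf : Pt K)).range ↔ ∃ b, aff a b ∈ H := by
  constructor
  · rintro ⟨g, rfl⟩
    obtain ⟨a', b, h⟩ := exists_aff_of_fix (g := ((g : H) : PGL2 K)) g.2
    rw [multH_pinf_eq H h]
    exact ⟨b, h ▸ (g : H).2⟩
  · rintro ⟨b, hb⟩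
    exact ⟨⟨⟨aff a b, hb⟩, aff_smul_pinf a b⟩, multH_pinf_eq H rfl⟩

theorem card_ker_multH :
    Nat.card (multH H (pinf : Pt K)).ker = Nat.card (transSet H) := by
  let f : transSet H → (multH H (pinf : Pt K)).ker := fun b =>
    ⟨⟨⟨aff 1 b, b.2⟩, aff_smul_pinf 1 (b : K)⟩, multH_pinf_eq H rfl⟩
  refine (Nat.card_congr (Equiv.ofBijective f ⟨?_, ?_⟩)).symm
  · intro b c h
    have h' := congrArg (fun x : (multH H (pinf : Pt K)).ker =>
      (((x : stabilizer H (pinf : Pt K)) : H) : PGL2 K)) h
    exact Subtype.ext (aff_inj.1 h').2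
  · rintro ⟨g, hg⟩
    obtain ⟨a, b, h⟩ := exists_aff_of_fix (g := ((g : H) : PGL2 K)) g.2
    have ha : a = 1 := (multH_pinf_eq H h).symm.trans hg
    subst ha
    exact ⟨⟨b, by rw [mem_transSet, ← h]; exact (g : H).2⟩, Subtype.ext (Subtype.ext (Subtype.ext h.symm))⟩

theorem card_stab_pinf :
    Nat.card (stabilizer H (pinf : Pt K)) =
      Nat.card (transSet H) * Nat.card (multH H (pinf : Pt K)).range := by
  rw [← card_ker_multH, ← Subgroup.index_ker, Subgroup.card_mul_index]

/-- The translations, as a subgroup of `H`. -/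
noncomputable def transH : Subgroup H :=
  (multH H (pinf : Pt K)).ker.map (stabilizer H (pinf : Pt K)).subtype

theorem card_transH : Nat.card (transH H) = Nat.card (transSet H) := by
  rw [transH, Subgroup.card_map_of_injective (Subgroup.subtype_injective _), card_ker_multH]

theorem mem_transH {h : H} : h ∈ transH H ↔ ∃ b, (h : PGL2 K) = aff 1 b := by
  constructor
  · rintro ⟨g, hg, rfl⟩
    obtain ⟨a, b, h⟩ := exists_aff_of_fix (g := ((g : H) : PGL2 K)) g.2
    have ha : a = 1 := (multH_pinf_eq H h).symm.trans hg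
    exact ⟨b, ha ▸ h⟩
  · rintro ⟨b, hb⟩
    have hst : h ∈ stabilizer H (pinf : Pt K) := by
      change (h : PGL2 K) • (pinf : Pt K) = pinf
      rw [hb, aff_smul_pinf]
    exact ⟨⟨h, hst⟩, multH_pinf_eq H hb, rfl⟩

variable (p : ℕ) [Fact p.Prime] [CharP K p] [Finite H]

instance finite_transSet : Finite (transSet H) :=
  Finite.of_injective (fun b : transSet H => (⟨aff 1 (b : K), b.2⟩ : H)) fun b c h =>
    Subtype.ext (aff_inj.1 (congrArg Subtype.val h)).2

theorem card_transSet_prime_pow : ∃ m, Nat.card (transSet H) = p ^ m := by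
  have h : IsPGroup p (transH H) := by
    rintro ⟨x, hx⟩
    obtain ⟨b, hb⟩ := (mem_transH H).1 hx
    refine ⟨1, Subtype.ext (Subtype.ext ?_)⟩
    simp [hb, (aff_pow_char_iff p).2]
  obtain ⟨m, hm⟩ := h.exists_card_eq
  exact ⟨m, by rw [← card_transH]; exact hm⟩

theorem range_dvd_trans : Nat.card (multH H (pinf : Pt K)).range ∣ Nat.card (transSet H) - 1 := by
  have hact : ∀ (a : (multH H (pinf : Pt K)).range) (c : transSet H),
      ((a : Kˣ) : K) * c ∈ transSet H := by
    intro a c
    obtain ⟨b, hb⟩ := (mem_range_multH H).1 a.2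
    have h := mul_mem (mul_mem hb c.2) (inv_mem hb)
    rw [aff_inv, aff_mul_aff, aff_mul_aff] at h
    simp at h
    rw [mem_transSet]
    convert h using 2
  letI : MulAction (multH H (pinf : Pt K)).range {c : transSet H // c ≠ 0} :=
    { smul := fun a c => ⟨⟨((a : Kˣ) : K) * (c.1 : K), hact a c.1⟩, fun h => c.2 (by
        have h' : ((a : Kˣ) : K) * (c.1 : K) = 0 := congrArg Subtype.val h
        exact Subtype.ext ((mul_eq_zero.1 h').resolve_left (Units.ne_zero _)))⟩
      one_smul := fun c => Subtype.ext (Subtype.ext (one_mul _))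
      mul_smul := fun a b c => Subtype.ext (Subtype.ext (mul_assoc _ _ _)) }
  have h := dvd_card_of_free (multH H (pinf : Pt K)).range {c : transSet H // c ≠ 0} (by
    intro c a hac
    have h' : ((a : Kˣ) : K) * (c.1 : K) = (c.1 : K) :=
      congrArg (fun x : {c : transSet H // c ≠ 0} => (x.1 : K)) hac
    exact Subtype.ext (Units.ext ((mul_eq_right₀ fun e => c.2 (Subtype.ext e)).1 h')))
  have := Fintype.ofFinite (transSet H)
  rwa [Nat.card_eq_fintype_card (α := {c : transSet H // c ≠ 0}),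
    Fintype.card_subtype_compl (fun c : transSet H => c = 0), Fintype.card_subtype_eq,
    ← Nat.card_eq_fintype_card] at h

variable [IsAlgClosed K]

theorem unip_fix_unique {g : PGL2 K} (hg : g ≠ 1) (hgp : g ^ p = 1) {P Q : Pt K}
    (hP : g • P = P) (hQ : g • Q = Q) : P = Q := by
  rcases fixedBy_cases p hg with ⟨-, R, hR⟩ | ⟨h, -⟩
  · have m1 : P ∈ fixedBy (Pt K) g := hP
    have m2 : Q ∈ fixedBy (Pt K) g := hQ
    rw [hR, Set.mem_singleton_iff] at m1 m2
    rw [m1, m2]
  · exact absurd hgp h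

/-- All fixed points of elements of order `p` lie in one orbit. -/
theorem unip_fix_mem_orbit {g g' : H} (hg : g ≠ 1) (hgp : (g : PGL2 K) ^ p = 1) (hg' : g' ≠ 1)
    (hgp' : (g' : PGL2 K) ^ p = 1) {P Q : Pt K} (hP : (g : PGL2 K) • P = P)
    (hQ : (g' : PGL2 K) • Q = Q) : Q ∈ orbit H P := by
  have hz : ∀ x : H, (x : PGL2 K) ^ p = 1 → IsPGroup p (zpowers x) := by
    intro x hx
    have h' : orderOf x ∣ p := orderOf_dvd_of_pow_eq_one (Subtype.ext (by simpa using hx))
    rcases (Fact.out : p.Prime).eq_one_or_self_of_dvd _ h' with hj | hj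
    · exact IsPGroup.of_card (n := 0) (by rw [Nat.card_zpowers, hj, pow_zero])
    · exact IsPGroup.of_card (n := 1) (by rw [Nat.card_zpowers, hj, pow_one])
  obtain ⟨S, hS⟩ := (hz g hgp).exists_le_sylow
  obtain ⟨S', hS'⟩ := (hz g' hgp').exists_le_sylow
  have hgS : g ∈ (S : Subgroup H) := hS (mem_zpowers g)
  have hgS' : g' ∈ (S' : Subgroup H) := hS' (mem_zpowers g')
  obtain ⟨w, rfl⟩ := MulAction.exists_smul_eq H S S'
  -- every element of `S` fixes `P`
  have hnt : Nontrivial (S : Subgroup H) :=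
    ⟨⟨⟨g, hgS⟩, 1, fun e => hg (congrArg Subtype.val e)⟩⟩
  have := S.isPGroup'.center_nontrivial
  obtain ⟨z', hz'⟩ := exists_prime_orderOf_dvd_card' (G := center (S : Subgroup H)) p (by
    obtain ⟨j, hj⟩ := (S.isPGroup'.to_subgroup (center (S : Subgroup H))).exists_card_eq
    rw [hj]
    refine dvd_pow_self p ?_
    rintro rfl
    have := Finite.one_lt_card (α := center (S : Subgroup H))
    rw [hj] at this
    simp at this)
  set zz : PGL2 K := ((((z' : (S : Subgroup H)) : H)) : PGL2 K) with hzz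
  have hzz1 : zz ≠ 1 := by
    intro e
    have : z' = 1 := Subtype.ext (Subtype.ext (Subtype.ext e))
    rw [this, orderOf_one] at hz'
    exact (Fact.out : p.Prime).ne_one hz'.symm
  have hzzp : zz ^ p = 1 := by
    have h' := congrArg (fun x : center (S : Subgroup H) => ((((x : (S : Subgroup H)) : H)) : PGL2 K))
      (pow_orderOf_eq_one z')
    simpa [hz'] using h'
  have hcomm : ∀ s ∈ (S : Subgroup H), (s : PGL2 K) * zz = zz * (s : PGL2 K) := by
    intro s hs
    exact congrArg (fun x : (S : Subgroup H) => ((x : H) : PGL2 K))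
      (Subgroup.mem_center_iff.1 z'.2 ⟨s, hs⟩)
  obtain ⟨R, hR⟩ := exists_fix zz
  have hSR : ∀ s ∈ (S : Subgroup H), (s : PGL2 K) • R = R := by
    intro s hs
    apply unip_fix_unique p hzz1 hzzp ?_ hR
    rw [← mul_smul, ← hcomm s hs, mul_smul, hR]
  have hRP : R = P := unip_fix_unique p (fun e => hg (Subtype.ext e)) hgp (hSR g hgS) hP
  subst hRP
  refine ⟨w, ?_⟩
  change (w : PGL2 K) • R = Q
  apply unip_fix_unique p (fun e => hg' (Subtype.ext e)) hgp' ?_ hQ
  rw [Sylow.coe_subgroup_smul, Subgroup.mem_pointwise_smul_iff_inv_smul_mem] at hgS'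
  have h := hSR _ hgS'
  simp [mul_smul] at h
  rw [inv_smul_eq_iff] at h
  exact h

/-! ### The normalised situation -/

/-- `H` contains the translation by one and some element taking `pinf` to `pt 0`. -/
def Normalised : Prop := aff (1 : Kˣ) (1 : K) ∈ H ∧ pt (0 : K) ∈ orbit H (pinf : Pt K)

theorem exists_normalised (hp : p ∣ Nat.card H) (hfix : ¬ ∃ P : Pt K, ∀ h ∈ H, h • P = P) :
    ∃ g, Normalised (conjH g H) := by
  obtain ⟨u, hu⟩ := exists_prime_orderOf_dvd_card' p hp
  have hu1 : (u : PGL2 K) ≠ 1 := by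
    intro e
    rw [show u = 1 from Subtype.ext e, orderOf_one] at hu
    exact (Fact.out : p.Prime).ne_one hu.symm
  have hup : (u : PGL2 K) ^ p = 1 := by
    simpa [hu] using congrArg Subtype.val (pow_orderOf_eq_one u)
  obtain ⟨P, hP⟩ := exists_fix (u : PGL2 K)
  push Not at hfix
  obtain ⟨w, hw, hwP⟩ := hfix P
  obtain ⟨k, hkP, hkQ⟩ := exists_map_two (Ne.symm hwP)
  have hkP' : k⁻¹ • (pinf : Pt K) = P := by rw [← hkP, inv_smul_smul]
  obtain ⟨a, b, hab⟩ := exists_aff_of_fix (g := k * (u : PGL2 K) * k⁻¹)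
    (by rw [mul_smul, mul_smul, hkP', hP, hkP])
  have ha : a = 1 := by
    rw [← aff_pow_char_iff p (b := b), ← hab, conj_pow, hup, mul_one, mul_inv_cancel]
  subst ha
  have hb : b ≠ 0 := by
    rintro rfl
    rw [aff_one_zero, mul_inv_eq_one, mul_eq_left] at hab
    exact hu1 hab
  set s : PGL2 K := aff (Units.mk0 b⁻¹ (inv_ne_zero hb)) 0
  refine ⟨s * k, ?_, ?_⟩
  · rw [← conjH_conjH, mem_conjH, mem_conjH]
    have e : s⁻¹ * aff 1 1 * s = aff 1 b := by
      simp only [s, aff_inv, aff_mul_aff]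
      rw [aff_inj]
      refine ⟨by simp, ?_⟩
      simp
    rw [e, ← hab]
    simpa [mul_assoc] using u.2
  · refine ⟨⟨(s * k) * w * (s * k)⁻¹, by rw [mem_conjH]; simpa [mul_assoc] using hw⟩, ?_⟩
    change ((s * k) * w * (s * k)⁻¹) • (pinf : Pt K) = pt 0
    rw [_root_.mul_inv_rev, mul_smul, mul_smul, mul_smul, mul_smul, show s⁻¹ • (pinf : Pt K) = pinf by
      simp [s, aff_inv], hkP', hkQ]
    simp [s]

theorem arith_char {r k N f n : ℕ} (hr : 2 ≤ r) (hk : k ∣ r - 1) (hN : N = 1 + f * r) (hf : 1 ≤ f)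
    (hn : n + 2 * N = 2 + r * N) (hdvd : n ∣ r * k * N) :
    (r = 2 ∧ n = 2) ∨ (N = r + 1 ∧ (k = r - 1 ∨ 2 * k = r - 1)) ∨ (r = 3 ∧ k = 2 ∧ N = 10) := by
  by_cases h2 : r = 2
  · left
    subst h2
    exact ⟨rfl, by omega⟩
  right
  have hkle : k ≤ r - 1 := Nat.le_of_dvd (by omega) hk
  have hk0 : 0 < k := Nat.pos_of_dvd_of_pos hk (by omega)
  obtain ⟨r', rfl⟩ : ∃ r', r = r' + 3 := ⟨r - 3, by omega⟩
  obtain ⟨u, hu⟩ : ∃ u, u = 1 + (r' + 1) * f := ⟨_, rfl⟩
  have hnu : n = (r' + 3) * u := by
    rw [hN] at hn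
    rw [hu]
    linarith
  have hukN : u ∣ k * N := by
    refine Nat.dvd_of_mul_dvd_mul_left (show 0 < r' + 3 by omega) ?_
    rw [← hnu, ← mul_assoc]
    exact hdvd
  have h2k : u ∣ 2 * k := by
    have e : 2 * k + (r' + 1) * (k * N) = (r' + 3) * k * u := by
      rw [hN, hu]; ring
    have h1 : u ∣ (r' + 1) * (k * N) := hukN.mul_left _
    exact (Nat.dvd_add_left h1).1 (e ▸ dvd_mul_left u _)
  have hu2 : u ≤ 2 * k := Nat.le_of_dvd (by omega) h2k
  obtain ⟨m, hm⟩ := h2k
  obtain ⟨j, hj⟩ := hk
  rw [show r' + 3 - 1 = r' + 2 by omega] at hj hkle ⊢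
  by_cases hr0 : r' = 0
  · subst hr0
    have hk2 : k = 1 ∨ k = 2 := by omega
    have hf3 : f = 1 ∨ f = 2 ∨ f = 3 := by simp at hu; omega
    rcases hk2 with rfl | rfl <;> rcases hf3 with rfl | rfl | rfl <;> simp at hu <;>
      (subst hu) <;> omega
  · have hf2 : f ≤ 2 := by
      by_contra hc
      have : (r' + 1) * 3 ≤ (r' + 1) * f := Nat.mul_le_mul_left _ (by omega)
      omega
    interval_cases f
    · left
      refine ⟨by omega, ?_⟩
      simp at hu
      have hm2 : m = 1 ∨ m = 2 := by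
        by_contra hc
        rcases Nat.eq_zero_or_pos m with h0 | h0
        · subst h0; simp at hm; omega
        · have : u * 3 ≤ u * m := Nat.mul_le_mul_left _ (by omega)
          omega
      rcases hm2 with rfl | rfl <;> omega
    · exfalso
      have hm1 : m = 1 := by
        by_contra hc
        rcases Nat.eq_zero_or_pos m with h0 | h0
        · subst h0; simp at hm; omega
        · have : u * 2 ≤ u * m := Nat.mul_le_mul_left _ (by omega)
          omega
      subst hm1
      omega

/-- The classification for a normalised group. -/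
theorem classify_normalised (hn : Normalised H) :
    (∃ n, 2 ≤ n ∧ ¬ p ∣ n ∧ Nat.card H = 2 * n ∧ p = 2 ∧ Nonempty (H ≃* DihedralGroup n)) ∨
    (p = 3 ∧ Nat.card H = 60 ∧ Nonempty (H ≃* alternatingGroup (Fin 5))) ∨
    ∃ R : Subfield K, Finite R ∧ (H = pslImg R ∨ H = pglImg R) := by
  obtain ⟨h11, h0⟩ := hn
  have hpr : p.Prime := Fact.out
  set M := transSet H with hMdef
  set r := Nat.card M with hr
  set k := Nat.card (multH H (pinf : Pt K)).range with hk
  have h1M : (1 : K) ∈ M := h11
  obtain ⟨m, hrm⟩ : ∃ m, r = p ^ m := card_transSet_prime_pow H p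
  have hr2 : 2 ≤ r := by
    have : Nontrivial M := ⟨⟨⟨1, h1M⟩, 0, fun e => one_ne_zero (congrArg Subtype.val e)⟩⟩
    exact Finite.one_lt_card
  have hm0 : m ≠ 0 := by rintro rfl; rw [pow_zero] at hrm; omega
  have hprime : r = 2 → p = 2 := by
    intro h
    exact ((Nat.prime_dvd_prime_iff_eq hpr Nat.prime_two).1 (h ▸ hrm ▸ dvd_pow_self p hm0))
  have hprime3 : r = 3 → p = 3 := by
    intro h
    exact ((Nat.prime_dvd_prime_iff_eq hpr Nat.prime_three).1 (h ▸ hrm ▸ dvd_pow_self p hm0))
  have hkr : k ∣ r - 1 := range_dvd_trans H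
  have hk0 : 0 < k := Nat.card_pos
  set N := (orbitF H (pinf : Pt K)).card with hNdef
  have hstab : Nat.card (stabilizer H (pinf : Pt K)) = r * k := card_stab_pinf H
  have hcard : Nat.card H = N * (r * k) := by rw [← hstab, card_orbitF_mul]
  -- `N = 1 + f r`
  have h0F : pt (0 : K) ∈ orbitF H pinf := (mem_orbitF H).2 h0
  have hpinfF : (pinf : Pt K) ∈ orbitF H pinf := (mem_orbitF H).2 (mem_orbit_self _)
  obtain ⟨f, hNf, hf⟩ : ∃ f, N = 1 + f * r ∧ 1 ≤ f := by
    have hT : ∀ (t : transH H) (Q : Pt K), Q ∈ (orbitF H pinf).erase pinf →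
        ((t : H) : PGL2 K) • Q ∈ (orbitF H pinf).erase pinf := by
      intro t Q hQ
      rw [Finset.mem_erase, mem_orbitF] at hQ ⊢
      refine ⟨fun e => hQ.1 ?_, mem_orbit_of_mem_orbit (t : H) hQ.2⟩
      obtain ⟨b, hb⟩ := (mem_transH H).1 t.2
      have e' : ((t : H) : PGL2 K) • Q = ((t : H) : PGL2 K) • (pinf : Pt K) := by
        rw [e, hb, aff_smul_pinf]
      exact MulAction.injective _ e'
    letI : MulAction (transH H) {Q // Q ∈ (orbitF H pinf).erase pinf} :=
      { smul := fun t Q => ⟨_, hT t Q.1 Q.2⟩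
        one_smul := fun Q => Subtype.ext (one_smul (PGL2 K) Q.1)
        mul_smul := fun a b Q => Subtype.ext (mul_smul ((a : H) : PGL2 K) ((b : H) : PGL2 K) Q.1) }
    have h := dvd_card_of_free (transH H) {Q // Q ∈ (orbitF H pinf).erase pinf} (by
      intro Q t ht
      by_contra hne
      obtain ⟨b, hb⟩ := (mem_transH H).1 t.2
      have hne' : ((t : H) : PGL2 K) ≠ 1 := fun e => hne (Subtype.ext (Subtype.ext e))
      apply (Finset.mem_erase.1 Q.2).1
      exact unip_fix_unique p hne' (by rw [hb]; exact (aff_pow_char_iff p).2 rfl)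
        (congrArg Subtype.val ht) (by rw [hb, aff_smul_pinf]))
    rw [card_transH, Nat.card_eq_fintype_card (α := {Q // Q ∈ (orbitF H pinf).erase pinf}),
      Fintype.card_coe, Finset.card_erase_of_mem hpinfF, ← hr, ← hNdef] at h
    obtain ⟨f, hf⟩ := h
    have hN2 : 2 ≤ N := Finset.one_lt_card.2 ⟨_, hpinfF, _, h0F, pinf_ne_pt 0⟩
    refine ⟨f, by rw [mul_comm]; omega, ?_⟩
    rcases Nat.eq_zero_or_pos f with h0 | h0
    · subst h0; omega
    · exact h0
  -- the elements of order `p`
  have h11ne : (⟨aff 1 1, h11⟩ : H) ≠ 1 := fun e =>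
    one_ne_zero (α := K) (aff_eq_one_iff.1 (congrArg Subtype.val e)).2
  have h11p : (aff (1 : Kˣ) (1 : K)) ^ p = 1 := (aff_pow_char_iff p).2 rfl
  have hU : numUnip H p + N = N * r := by
    have := Fintype.ofFinite H
    let S : Finset H := Finset.univ.filter fun h : H => h ≠ 1 ∧ (h : PGL2 K) ^ p = 1
    have hS : numUnip H p = S.card := by
      rw [numUnip, Nat.card_eq_fintype_card, Fintype.card_subtype]
    let fx : H → Pt K := fun h => (exists_fix (h : PGL2 K)).choose
    have hfx : ∀ h : H, (h : PGL2 K) • fx h = fx h := fun h => (exists_fix _).choose_spec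
    have hmem : ∀ h ∈ S, fx h ∈ orbitF H (pinf : Pt K) := by
      intro h hh
      obtain ⟨-, h1, h2⟩ := Finset.mem_filter.1 hh
      exact (mem_orbitF H).2 (unip_fix_mem_orbit H p h11ne h11p h1 h2 (aff_smul_pinf 1 (1 : K))
        (hfx h))
    rw [hS, Finset.card_eq_sum_card_fiberwise hmem]
    have hfib : ∀ Q ∈ orbitF H (pinf : Pt K), (S.filter fun h => fx h = Q).card + 1 = r := by
      intro Q hQ
      obtain ⟨w, rfl⟩ := (mem_orbitF H).1 hQ
      have e : (S.filter fun h => fx h = w • (pinf : Pt K)) =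
          ((Finset.univ.filter fun h : H => h ∈ transH H).erase 1).map
            (MulAut.conj w).toEquiv.toEmbedding := by
        ext x
        rw [Finset.mem_map_equiv, Finset.mem_erase, Finset.mem_filter, Finset.mem_filter,
          Finset.mem_filter]
        simp only [Finset.mem_univ, true_and]
        change _ ↔ w⁻¹ * x * w ≠ 1 ∧ w⁻¹ * x * w ∈ transH H
        rw [mem_transH]
        constructor
        · rintro ⟨⟨h1, h2⟩, h3⟩
          refine ⟨?_, ?_⟩
          · intro e
            apply h1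
            have : x = w * (w⁻¹ * x * w) * w⁻¹ := by group
            rw [this, e, mul_one, mul_inv_cancel]
          · obtain ⟨a, b, hab⟩ := exists_aff_of_fix (g := ((w⁻¹ * x * w : H) : PGL2 K)) (by
              have := hfx x
              rw [h3] at this
              rw [Subgroup.coe_mul, Subgroup.coe_mul, Subgroup.coe_inv, mul_smul, mul_smul,
                show (w : PGL2 K) • (pinf : Pt K) = w • (pinf : Pt K) from rfl, this]
              exact inv_smul_smul (w : PGL2 K) (pinf : Pt K))
            refine ⟨b, ?_⟩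
            have ha : a = 1 := by
              rw [← aff_pow_char_iff p (b := b), ← hab]
              have e : ((w⁻¹ * x * w : H) : PGL2 K) =
                  (w : PGL2 K)⁻¹ * (x : PGL2 K) * ((w : PGL2 K)⁻¹)⁻¹ := by simp
              rw [e, conj_pow, h2, mul_one, mul_inv_cancel]
            rw [← ha]; exact hab
        · rintro ⟨h1, b, hb⟩
          have hx : (x : PGL2 K) = (w : PGL2 K) * aff 1 b * (w : PGL2 K)⁻¹ := by
            rw [← hb]; simp [mul_assoc]
          have hx1 : x ≠ 1 := fun e => h1 (by rw [e, mul_one, inv_mul_cancel])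
          have hxp : (x : PGL2 K) ^ p = 1 := by
            rw [hx, conj_pow, (aff_pow_char_iff p).2 rfl, mul_one, mul_inv_cancel]
          refine ⟨⟨hx1, hxp⟩, unip_fix_unique p (fun e => hx1 (Subtype.ext e)) hxp (hfx x) ?_⟩
          change (x : PGL2 K) • ((w : PGL2 K) • (pinf : Pt K)) = (w : PGL2 K) • pinf
          rw [hx, mul_smul, mul_smul, inv_smul_smul, aff_smul_pinf]
      rw [e, Finset.card_map, Finset.card_erase_of_mem (by simp [one_mem]),
        Nat.sub_add_cancel (Finset.card_pos.2 ⟨1, by simp [one_mem]⟩), hr, ← card_transH,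
        Nat.card_eq_fintype_card, Fintype.card_subtype]
    rw [hNdef, Finset.card_eq_sum_ones, ← Finset.sum_add_distrib, Finset.sum_congr rfl hfib,
      Finset.sum_const, Finset.sum_const, smul_eq_mul, smul_eq_mul, mul_one]
  -- orbit count
  have hpinfS : (pinf : Pt K) ∈ specialF H p :=
    (mem_specialF H p).2 ⟨aff 1 1, h11, fun e => h11ne (Subtype.ext e), aff_smul_pinf _ _⟩
  obtain ⟨e1, -, -, i1⟩ := peel H p (inv_specialF H p) hpinfS
  have htot := sum_stab H p
  rw [← hNdef] at e1
  have hNr : N * 2 ≤ N * r := Nat.mul_le_mul_left _ hr2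
  have hHge : N * r ≤ Nat.card H := by
    rw [hcard]; exact Nat.mul_le_mul_left _ (Nat.le_mul_of_pos_right _ hk0)
  have hfr : r ≤ f * r := Nat.le_mul_of_pos_left _ hf
  obtain ⟨P₂, hP₂⟩ : (specialF H p \ orbitF H pinf).Nonempty := by
    by_contra hh
    rw [Finset.not_nonempty_iff_eq_empty] at hh
    rw [hh, Finset.sum_empty] at e1
    omega
  obtain ⟨e2, l2, o2, i2⟩ := peel H p i1 hP₂
  have hemp : (specialF H p \ orbitF H pinf) \ orbitF H P₂ = ∅ := by
    by_contra hh
    obtain ⟨P₃, hP₃⟩ := Finset.nonempty_iff_ne_empty.2 hh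
    obtain ⟨e3, l3, o3, -⟩ := peel H p i2 hP₃
    omega
  rw [hemp, Finset.sum_empty] at e2
  set n := (orbitF H P₂).card with hndef
  have hn : n + 2 * N = 2 + r * N := by
    rw [mul_comm r N]; omega
  have hng := card_orbitF_mul H P₂
  have hdvd : n ∣ r * k * N :=
    ⟨Nat.card (stabilizer H P₂), by rw [hndef, hng, hcard]; ring⟩
  -- an element of order `p` fixes no point of the second orbit
  have hno : ∀ Q ∈ orbitF H P₂, ∀ g : stabilizer H Q, ((g : H) : PGL2 K) ^ p = 1 → g = 1 := by
    intro Q hQ g hg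
    by_contra hne
    have hQ' : Q ∈ orbit H (pinf : Pt K) :=
      unip_fix_mem_orbit H p h11ne h11p (fun e => hne (Subtype.ext e)) hg
        (aff_smul_pinf 1 (1 : K)) g.2
    apply (Finset.mem_sdiff.1 hP₂).2
    rw [mem_orbitF] at hQ ⊢
    rw [← orbit_eq_iff.2 hQ', orbit_eq_iff.2 hQ]
    exact mem_orbit_self P₂
  rcases arith_char hr2 hkr hNf hf hn hdvd with ⟨hr', hn2⟩ | hcase | ⟨hr', hk2, hN10⟩
  · -- dihedral
    left
    obtain ⟨j, h1, h2, h3, h4⟩ := dihedral_of_orbit_two H p (i1.1 hP₂) hn2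
      (hno P₂ ((mem_orbitF H).2 (mem_orbit_self P₂)))
    exact ⟨j, h1, h2, h3, hprime hr', h4⟩
  · -- a subfield group
    right; right
    obtain ⟨hN, hkcases⟩ := hcase
    let R : Subfield K :=
      { carrier := {x | x ^ r = x}
        zero_mem' := zero_pow (by omega)
        one_mem' := one_pow r
        add_mem' := fun {a b} ha hb => by
          change (a + b) ^ r = a + b
          rw [hrm, add_pow_char_pow, ← hrm, (show a ^ r = a from ha), (show b ^ r = b from hb)]
        mul_mem' := fun {a b} ha hb => by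
          change (a * b) ^ r = a * b
          rw [mul_pow, (show a ^ r = a from ha), (show b ^ r = b from hb)]
        neg_mem' := fun {a} ha => by
          change (-a) ^ r = -a
          have h : (0 - a) ^ r = 0 - a := by
            rw [hrm, sub_pow_char_pow, ← hrm, (show a ^ r = a from ha), zero_pow (by omega)]
          rwa [zero_sub] at h
        inv_mem' := fun a ha => by
          change a⁻¹ ^ r = a⁻¹
          rw [inv_pow, (show a ^ r = a from ha)] }
    have hRsub : (R : Set K) ⊆ ((Polynomial.X ^ r - Polynomial.X : Polynomial K).roots.toFinset :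
        Finset K) := by
      intro x hx
      simp [FiniteField.X_pow_card_sub_X_ne_zero K (p := r) (by omega), sub_eq_zero,
        (show x ^ r = x from hx)]
    have hRfin : Finite R :=
      ((Finset.finite_toSet _).subset hRsub).to_subtype
    have hRle : Nat.card R ≤ r := by
      calc Nat.card R = (R : Set K).ncard := Nat.card_coe_set_eq _
        _ ≤ _ := Set.ncard_le_ncard hRsub (Finset.finite_toSet _)
        _ ≤ _ := by
          rw [Set.ncard_coe_finset]
          refine (Multiset.toFinset_card_le _).trans ((Polynomial.card_roots' _).trans ?_)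
          rw [FiniteField.X_pow_card_sub_X_natDegree_eq K (by omega)]
    -- the orbit of `pinf`
    let em : M ↪ Pt K := ⟨fun b => pt (b : K), fun b c h => Subtype.ext (pt_injective h)⟩
    have := Fintype.ofFinite M
    have horb : (Finset.univ : Finset M).map em = (orbitF H pinf).erase pinf := by
      apply Finset.eq_of_subset_of_card_le
      · intro P hP
        simp only [Finset.mem_map, Finset.mem_univ, true_and] at hP
        obtain ⟨b, rfl⟩ := hP
        rw [Finset.mem_erase, mem_orbitF]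
        refine ⟨pt_ne_pinf _, ?_⟩
        have h' := mem_orbit_of_mem_orbit (⟨aff 1 b, b.2⟩ : H) h0
        change (aff 1 (b : K)) • pt (0 : K) ∈ orbit H (pinf : Pt K) at h'
        change pt (b : K) ∈ orbit H (pinf : Pt K)
        simpa using h'
      · rw [Finset.card_map, Finset.card_erase_of_mem hpinfF, Finset.card_univ,
          ← Nat.card_eq_fintype_card, ← hr, ← hNdef, hN]
        omega
    have hmemM : ∀ x : K, pt x ∈ orbit H (pinf : Pt K) → x ∈ M := by
      intro x hx
      have : pt x ∈ (orbitF H pinf).erase pinf :=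
        Finset.mem_erase.2 ⟨pt_ne_pinf x, (mem_orbitF H).2 hx⟩
      rw [← horb] at this
      simp only [Finset.mem_map, Finset.mem_univ, true_and] at this
      obtain ⟨b, hb⟩ := this
      exact pt_injective hb ▸ b.2
    -- the multipliers lie in `M ∩ R`
    let L : AddSubgroup K := M ⊓ R.toAddSubgroup
    have hΛ : ∀ a ∈ (multH H (pinf : Pt K)).range, ((a : Kˣ) : K) ∈ L := by
      intro a ha
      obtain ⟨b, hb⟩ := (mem_range_multH H).1 ha
      have hbM : b ∈ M := by
        apply hmemM
        have h' := mem_orbit_of_mem_orbit (⟨aff a b, hb⟩ : H) h0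
        change (aff a b) • pt (0 : K) ∈ orbit H (pinf : Pt K) at h'
        simpa using h'
      refine ⟨?_, ?_⟩
      · change (a : K) ∈ transSet H
        rw [mem_transSet]
        have h1 := mul_mem (mul_mem hb h11) (inv_mem hb)
        rw [aff_inv, aff_mul_aff, aff_mul_aff] at h1
        simp at h1
        exact h1
      · change (a : K) ^ r = a
        obtain ⟨j, hj⟩ := hkr
        have h1 : a ^ (r - 1) = 1 := by
          rw [hj, pow_mul, show a ^ k = 1 from congrArg Subtype.val (pow_card_eq_one'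
            (x := (⟨a, ha⟩ : (multH H (pinf : Pt K)).range))), one_pow]
        rw [← Units.val_pow_eq_pow_val, show r = r - 1 + 1 by omega, pow_succ, h1, one_mul]
    have hLM : L ≤ M := inf_le_left
    have hLfin : Finite L := Finite.of_injective _ (AddSubgroup.inclusion_injective hLM)
    have hLk : k + 1 ≤ Nat.card L := by
      rw [hk, ← Finite.card_option]
      refine Nat.card_le_card_of_injective
        (fun o => o.elim (0 : L) fun a => ⟨((a : Kˣ) : K), hΛ a a.2⟩) ?_
      rintro (_ | a) (_ | b) h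
      · rfl
      · exact absurd (congrArg Subtype.val h).symm (Units.ne_zero (b : Kˣ))
      · exact absurd (congrArg Subtype.val h) (Units.ne_zero (a : Kˣ))
      · exact congrArg some (Subtype.ext (Units.ext (congrArg (fun z : L => (z : K)) h)))
    have hLd : Nat.card L ∣ r := AddSubgroup.card_dvd_of_le hLM
    have hL : Nat.card L = r := by
      obtain ⟨i, hi⟩ := hLd
      rcases Nat.lt_or_ge i 2 with h | h
      · interval_cases i <;> omega
      · have : Nat.card L * 2 ≤ Nat.card L * i := Nat.mul_le_mul_left _ h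
        omega
    have hLeqM : ∀ x ∈ M, x ∈ R := by
      intro x hx
      have he : L = M := AddSubgroup.eq_of_le_of_card_ge hLM (by rw [hL])
      have : x ∈ L := he.symm ▸ hx
      exact this.2
    have hMR : ∀ x, x ∈ R → x ∈ M := by
      intro x hx
      have he : M = R.toAddSubgroup := by
        have : Finite R.toAddSubgroup := hRfin
        exact AddSubgroup.eq_of_le_of_card_ge (fun y hy => hLeqM y hy) hRle
      rw [he]; exact hx
    have hRcard : Nat.card R = r := by
      apply le_antisymm hRle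
      exact Nat.card_le_card_of_injective (fun b : M => (⟨(b : K), hLeqM _ b.2⟩ : R))
        fun b c h => Subtype.ext (congrArg (fun z : R => (z : K)) h)
    have hline : ∀ P, P ∈ lineSet R ↔ P ∈ orbit H (pinf : Pt K) := by
      intro P
      constructor
      · rintro (rfl | ⟨x, hx, rfl⟩)
        · exact mem_orbit_self _
        · have h' := mem_orbit_of_mem_orbit (⟨aff 1 x, hMR x hx⟩ : H) h0
          change (aff 1 x) • pt (0 : K) ∈ orbit H (pinf : Pt K) at h'
          simpa using h'
      · intro hP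
        rcases pt_cases P with rfl | ⟨x, rfl⟩
        · exact pinf_mem_lineSet R
        · exact pt_mem_lineSet (hLeqM x (hmemM x hP))
    have hle : H ≤ pglImg R := fun h hh => mem_pglImg_of_lineSet fun P hP =>
      (hline _).2 (mem_orbit_of_mem_orbit (⟨h, hh⟩ : H) ((hline P).1 hP))
    have hsq : r ^ 2 - 1 = (r + 1) * (r - 1) := by
      simpa using Nat.sq_sub_sq r 1
    have hfinI : Finite (pglImg R) := by
      rw [pglImg]
      have : Finite (PGL2 R) := Finite.of_surjective _ ProjGenLinGroup.mk_surjective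
      exact Finite.of_surjective _ (MonoidHom.rangeRestrict_surjective _)
    refine ⟨R, hRfin, ?_⟩
    have hHc : Nat.card H = r * (r + 1) * k := by rw [hcard, hN]; ring
    rcases hkcases with hk' | hk'
    · right
      apply Subgroup.eq_of_le_of_card_ge hle
      rw [card_pglImg, hRcard, hHc, hk', hsq, ← mul_assoc]
    · left
      have hodd : Odd r := ⟨k, by omega⟩
      -- `H` has index two in `pglImg R`, so it contains all squares
      have hidx : (H.subgroupOf (pglImg R)).index = 2 := by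
        have h1 := (H.subgroupOf (pglImg R)).card_mul_index
        rw [Nat.card_congr (Subgroup.subgroupOfEquivOfLe hle).toEquiv, card_pglImg, hRcard, hHc,
          hsq, ← hk'] at h1
        have h3 : r * (r + 1) * k * (H.subgroupOf (pglImg R)).index = r * (r + 1) * k * 2 := by
          rw [h1]; ring
        exact Nat.eq_of_mul_eq_mul_left (by positivity) h3
      have hsqmem : ∀ x ∈ pglImg R, x * x ∈ H := fun x hx =>
        Subgroup.mem_subgroupOf.1 (Subgroup.mul_self_mem_of_index_two hidx (⟨x, hx⟩ : pglImg R))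
      have h2 : (2 : R) ≠ 0 := by
        intro h
        have h2' : (2 : K) = 0 := by
          have h' := congrArg R.subtype h
          rwa [map_ofNat, map_zero] at h'
        have hp2 : p = 2 := by
          refine (Nat.prime_dvd_prime_iff_eq hpr Nat.prime_two).1 ((CharP.cast_eq_zero_iff K p 2).1 ?_)
          simpa using h2'
        rw [hp2] at hrm
        exact Nat.not_even_iff_odd.2 hodd (hrm ▸ (Nat.even_pow.2 ⟨even_two, hm0⟩))
      let φ : SL2 R →* PGL2 K :=
        ((ProjGenLinGroup.map (n := Fin 2) (R.subtype : R →+* K)).comp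
          ProjectiveSpecialLinearGroup.toPGL).comp (QuotientGroup.mk' _)
      have hgen : ∀ g : SL2 R, φ g ∈ H := by
        intro g
        refine Matrix.SL2.transvection_induction (fun g => φ g ∈ H) ?_ ?_ g
        · intro i j hij a
          have e1 : (Matrix.SpecialLinearGroup.transvection hij a : SL2 R) =
              Matrix.SpecialLinearGroup.transvection hij (a / 2) *
                Matrix.SpecialLinearGroup.transvection hij (a / 2) := by
            apply Subtype.ext
            change Matrix.transvection i j a =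
              Matrix.transvection i j (a / 2) * Matrix.transvection i j (a / 2)
            rw [Matrix.transvection_mul_transvection_same _ _ hij]
            congr 1
            field_simp
            ring
          rw [e1, map_mul]
          exact hsqmem _ (pslImg_le_pglImg R ⟨QuotientGroup.mk' _ _, rfl⟩)
        · intro a b ha hb; rw [map_mul]; exact mul_mem ha hb
      have hle2 : pslImg R ≤ H := by
        rintro _ ⟨x, rfl⟩
        obtain ⟨g, rfl⟩ := QuotientGroup.mk_surjective x
        exact hgen g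
      symm
      apply Subgroup.eq_of_le_of_card_ge hle2
      have h2card := GLOrder.card_PSL_two_of_odd (F := R) (hRcard.symm ▸ hodd)
      rw [card_pslImg, hHc]
      rw [hRcard, hsq, ← hk'] at h2card
      have : r * ((r + 1) * (2 * k)) = 2 * (r * (r + 1) * k) := by ring
      have e : Nat.card (PSL2 R) = Nat.card (Matrix.ProjectiveSpecialLinearGroup (Fin 2) R) := rfl
      omega
  · -- `A_5` in characteristic three
    right; left
    have hp3 := hprime3 hr'
    have hH60 : Nat.card H = 60 := by rw [hcard, hr', hk2, hN10]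
    have hn12 : n = 12 := by rw [hr', hN10] at hn; omega
    have hst5 : Nat.card (stabilizer H P₂) = 5 := by
      rw [← hndef, hn12, hH60] at hng; omega
    refine ⟨hp3, hH60, mulEquiv_alternatingFive hH60 (fun g => ?_) ?_⟩
    · by_cases hg : g = 1
      · simp [hg]
      obtain ⟨Q, hQ⟩ := exists_fix (g : PGL2 K)
      have hQs : Q ∈ specialF H p :=
        (mem_specialF H p).2 ⟨g, g.2, fun h => hg (Subtype.ext h), hQ⟩
      by_cases hQ1 : Q ∈ orbitF H (pinf : Pt K)
      · obtain ⟨w, rfl⟩ := (mem_orbitF H).1 hQ1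
        have hfixg : w⁻¹ * g * w ∈ stabilizer H (pinf : Pt K) := by
          rw [mem_stabilizer_iff, mul_smul, mul_smul]
          exact inv_smul_eq_iff.2 hQ
        have ho : orderOf g = orderOf (⟨w⁻¹ * g * w, hfixg⟩ : stabilizer H (pinf : Pt K)) := by
          refine (Involution.orderOf_conj w⁻¹ g).symm.trans ?_
          rw [inv_inv]
          exact Subgroup.orderOf_coe (⟨w⁻¹ * g * w, hfixg⟩ : stabilizer H (pinf : Pt K))
        rcases orderOf_dvd_of_fix H p (⟨w⁻¹ * g * w, hfixg⟩ : stabilizer H (pinf : Pt K)) with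
          h | ⟨-, h⟩
        · rw [← ho, hp3] at h
          rcases (Nat.dvd_prime Nat.prime_three).1 h with e | e <;> simp [e]
        · rw [← ho, ← hk, hk2] at h
          rcases (Nat.dvd_prime Nat.prime_two).1 h with e | e <;> simp [e]
      · have hQ2 : Q ∈ orbitF H P₂ := by
          by_contra hc
          have hQe : Q ∈ (specialF H p \ orbitF H pinf) \ orbitF H P₂ :=
            Finset.mem_sdiff.2 ⟨Finset.mem_sdiff.2 ⟨hQs, hQ1⟩, hc⟩
          rw [hemp] at hQe
          exact absurd hQe (Finset.notMem_empty Q)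
        have hd : orderOf g ∣ Nat.card (stabilizer H Q) :=
          Subgroup.orderOf_dvd_natCard (stabilizer H Q) hQ
        rw [card_stab_of_mem_orbit H hQ2, hst5] at hd
        rcases (Nat.dvd_prime Nat.prime_five).1 hd with e | e <;> simp [e]
    · have := Fact.mk Nat.prime_five
      intro hone
      have hsub : Subsingleton (Sylow 5 H) := (Nat.card_eq_one_iff_unique.1 hone).1
      have hP : IsPGroup 5 (stabilizer H P₂) := IsPGroup.of_card (n := 1) (by rw [hst5, pow_one])
      obtain ⟨S, hS⟩ := hP.exists_le_sylow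
      have hScard : Nat.card (S : Subgroup H) = 5 := by
        rw [SmallOrders.card_sylow_subgroup (e := 1) (m := 12) (by rw [hH60]; norm_num)
          (by norm_num) S, pow_one]
      have hSeq : stabilizer H P₂ = (S : Subgroup H) :=
        Subgroup.eq_of_le_of_card_ge hS (by rw [hst5, hScard])
      exact not_normal_stab H (P := P₂) (by omega) (by omega) (hSeq ▸ S.normal_of_subsingleton)

omit [Finite H] in
theorem fix_of_conjH {g : PGL2 K} {P : Pt K} (h : ∀ x ∈ conjH g H, x • P = P) :
    ∀ x ∈ H, x • (g⁻¹ • P) = g⁻¹ • P := by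
  intro x hx
  have h' := h (g * x * g⁻¹) (by rw [mem_conjH]; simpa [mul_assoc] using hx)
  rw [mul_smul, mul_smul] at h'
  exact eq_inv_smul_iff.2 h'

/-- **Dickson's theorem**: the finite subgroups of `PGL_2` of an algebraically closed field. -/
theorem dickson :
    (∃ P : Pt K, ∀ h ∈ H, h • P = P) ∨
    (∃ n, 2 ≤ n ∧ ¬ p ∣ n ∧ Nat.card H = 2 * n ∧ (¬ p ∣ Nat.card H ∨ p = 2) ∧
      Nonempty (H ≃* DihedralGroup n)) ∨
    (¬ p ∣ Nat.card H ∧ (Nonempty (H ≃* alternatingGroup (Fin 4)) ∨
      Nonempty (H ≃* Equiv.Perm (Fin 4)) ∨ Nonempty (H ≃* alternatingGroup (Fin 5)))) ∨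
    (p = 3 ∧ Nat.card H = 60 ∧ Nonempty (H ≃* alternatingGroup (Fin 5))) ∨
    (∃ R : Subfield K, Finite R ∧ ∃ g, conjH g H = pslImg R ∨ conjH g H = pglImg R) := by
  by_cases hp : p ∣ Nat.card H
  · by_cases hfix : ∃ P : Pt K, ∀ h ∈ H, h • P = P
    · exact Or.inl hfix
    obtain ⟨g, hg⟩ := exists_normalised H p hp hfix
    have e := conjHEquiv g H
    rcases classify_normalised (conjH g H) p hg with ⟨n, h1, h2, h3, h4, ⟨h5⟩⟩ | ⟨h1, h2, ⟨h3⟩⟩ |
      ⟨R, hR, h⟩
    · refine Or.inr (Or.inl ⟨n, h1, h2, ?_, Or.inr h4, ⟨e.trans h5⟩⟩)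
      rw [Nat.card_congr e.toEquiv, h3]
    · refine Or.inr (Or.inr (Or.inr (Or.inl ⟨h1, ?_, ⟨e.trans h3⟩⟩)))
      rw [Nat.card_congr e.toEquiv, h2]
    · exact Or.inr (Or.inr (Or.inr (Or.inr ⟨R, hR, g, h⟩)))
  · rcases classify_coprime H p hp with h | ⟨n, h1, h2, h3, h4⟩ | h
    · exact Or.inl h
    · exact Or.inr (Or.inl ⟨n, h1, h2, h3, Or.inl hp, h4⟩)
    · exact Or.inr (Or.inr (Or.inl ⟨hp, h⟩))

end Cfsg.Agent.PSL2
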