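/-
Elements of `PSL_2(q)` of every possible order.

Main results (namespace `Cfsg.Agent.PSL2`):
* `gcdTwo_eq`              : `gcd(2, q-1)` is 1 with `-1 = 1`, or 2 with `-1 ≠ 1`
* `exists_psl_orderOf`     : an element of order `m` for `m ∣ (q ± 1)/d` or `m ∣ p`
* `range_psl_orderOf`      : the set of element orders
-/
import Cfsg.Agent.Lib.PSL2.Basic
import Cfsg.Agent.Lib.GLOrder.Torus

set_option autoImplicit false
set_option linter.unusedSectionVars false
set_option linter.dupNamespace false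

open Matrix

namespace Cfsg.Agent.PSL2

variable {F : Type*} [Field F] [Finite F]

theorem two_eq_zero_of_not_dvd (h : ¬ 2 ∣ Nat.card F - 1) : (2 : F) = 0 := by
  obtain ⟨p, hp⟩ := CharP.exists F
  have : Fact p.Prime := ⟨CharP.char_is_prime F p⟩
  have := Fintype.ofFinite F
  obtain ⟨n, hn, hc⟩ := FiniteField.card F p
  have hp2 : p = 2 := by
    by_contra hne
    obtain ⟨j, hj⟩ := (hn.odd_of_ne_two hne).pow (n := (n : ℕ))
    apply h
    rw [Nat.card_eq_fintype_card, hc, hj]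
    exact ⟨j, by omega⟩
  subst hp2
  exact_mod_cast CharP.cast_eq_zero F 2

theorem gcdTwo_eq :
    (Nat.gcd 2 (Nat.card F - 1) = 1 ∧ (-1 : SL2 F) = 1) ∨
      (Nat.gcd 2 (Nat.card F - 1) = 2 ∧ (-1 : SL2 F) ≠ 1) := by
  by_cases h : 2 ∣ Nat.card F - 1
  · refine Or.inr ⟨Nat.gcd_eq_left h, fun e => two_ne_zero_of_dvd h ?_⟩
    have h' := congrArg (fun g : SL2 F => g.1 0 0) e
    simp at h'
    linear_combination -h'
  · refine Or.inl ⟨?_, ?_⟩
    · exact (Nat.prime_two.coprime_iff_not_dvd.2 h)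
    · have h2 := two_eq_zero_of_not_dvd h
      apply Subtype.ext
      ext i j
      fin_cases i <;> fin_cases j <;> simp
      all_goals linear_combination -h2

theorem mk_eq_one_iff {g : SL2 F} : (QuotientGroup.mk g : PSL2 F) = 1 ↔ g = 1 ∨ g = -1 := by
  rw [QuotientGroup.eq_one_iff, mem_center_iff']

theorem exists_psl_orderOf_torus {m : ℕ}
    (h : m * Nat.gcd 2 (Nat.card F - 1) ∣ Nat.card F - 1 ∨
      m * Nat.gcd 2 (Nat.card F - 1) ∣ Nat.card F + 1) :
    ∃ x : PSL2 F, orderOf x = m := by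
  obtain ⟨g, hg⟩ := GLOrder.exists_orderOf_SL_two h
  refine ⟨QuotientGroup.mk g, ?_⟩
  set d := Nat.gcd 2 (Nat.card F - 1) with hd
  have hq1 : 1 < Nat.card F := Finite.one_lt_card
  have hmd : m * d ≠ 0 := by
    intro h0
    rw [h0] at h
    rcases h with h | h <;> rw [Nat.zero_dvd] at h <;> omega
  obtain ⟨hm0, hd0⟩ := mul_ne_zero_iff.1 hmd
  have hcentre : ∀ z : SL2 F, z = 1 ∨ z = -1 → z ^ d = 1 := by
    rintro z (rfl | rfl)
    · exact one_pow _
    · rcases gcdTwo_eq (F := F) with ⟨h1, h2⟩ | ⟨h1, h2⟩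
      · rw [hd, h1, pow_one, h2]
      · rw [hd, h1, neg_one_sq]
  rw [orderOf_eq_iff (Nat.pos_of_ne_zero hm0)]
  refine ⟨?_, fun j hj hj0 hx => ?_⟩
  · rw [← QuotientGroup.mk_pow, mk_eq_one_iff]
    rcases gcdTwo_eq (F := F) with ⟨h1, -⟩ | ⟨h1, -⟩ <;> rw [← hd] at h1
    · left
      rw [← orderOf_dvd_iff_pow_eq_one, hg, h1, mul_one]
    · have h2 : (g ^ m) * (g ^ m) = 1 := by
        rw [← pow_add, show m + m = m * d by rw [h1]; omega, ← hg, pow_orderOf_eq_one]
      exact mem_center_iff'.1 (mem_center_of_mul_self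
        (two_ne_zero_of_dvd (h1 ▸ Nat.gcd_dvd_right 2 (Nat.card F - 1))) h2)
  · rw [← QuotientGroup.mk_pow, mk_eq_one_iff] at hx
    have h1 := hcentre _ hx
    rw [← pow_mul, ← orderOf_dvd_iff_pow_eq_one, hg] at h1
    have := Nat.le_of_dvd hj0 (Nat.dvd_of_mul_dvd_mul_right (Nat.pos_of_ne_zero hd0) h1)
    omega

theorem exists_psl_orderOf_char (p : ℕ) [Fact p.Prime] [CharP F p] :
    ∃ x : PSL2 F, orderOf x = p := by
  obtain ⟨g, hg0⟩ : ∃ g : ℕ → SL2 F, ∀ n, (g n).1 = !![1, (n : F); 0, 1] :=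
    ⟨fun n => ⟨!![1, (n : F); 0, 1], by simp [Matrix.det_fin_two]⟩, fun n => rfl⟩
  have hg : ∀ n, g 1 ^ n = g n := by
    intro n
    induction n with
    | zero =>
      apply Subtype.ext
      rw [pow_zero, Matrix.SpecialLinearGroup.coe_one, hg0]
      simp [Matrix.one_fin_two]
    | succ n ih =>
      apply Subtype.ext
      rw [pow_succ, ih, Matrix.SpecialLinearGroup.coe_mul, hg0, hg0, hg0]
      simp [Matrix.mul_fin_two, add_comm]
  refine ⟨QuotientGroup.mk (g 1), orderOf_eq_prime ?_ ?_⟩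
  · rw [← QuotientGroup.mk_pow, mk_eq_one_iff, hg]
    left
    apply Subtype.ext
    rw [hg0, Matrix.SpecialLinearGroup.coe_one]
    simp [CharP.cast_eq_zero, Matrix.one_fin_two]
  · rw [ne_eq, mk_eq_one_iff]
    rintro (h | h) <;> simpa [hg0] using congrArg (fun z : SL2 F => z.1 0 1) h

theorem exists_psl_orderOf (p : ℕ) [Fact p.Prime] [CharP F p] {m : ℕ}
    (h : m ∣ p ∨ m ∣ (Nat.card F - 1) / Nat.gcd 2 (Nat.card F - 1) ∨
      m ∣ (Nat.card F + 1) / Nat.gcd 2 (Nat.card F - 1)) :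
    ∃ x : PSL2 F, orderOf x = m := by
  have hq1 : 1 < Nat.card F := Finite.one_lt_card
  have hd1 : Nat.gcd 2 (Nat.card F - 1) ∣ Nat.card F - 1 := Nat.gcd_dvd_right _ _
  have hd2 : Nat.gcd 2 (Nat.card F - 1) ∣ Nat.card F + 1 := by
    have h := Nat.dvd_add hd1 (Nat.gcd_dvd_left 2 (Nat.card F - 1))
    rwa [show Nat.card F - 1 + 2 = Nat.card F + 1 by omega] at h
  rcases h with h | h | h
  · rcases (Fact.out : p.Prime).eq_one_or_self_of_dvd _ h with rfl | rfl
    · exact ⟨1, orderOf_one⟩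
    · exact exists_psl_orderOf_char m
  · exact exists_psl_orderOf_torus
      (Or.inl ((mul_comm m _) ▸ (Nat.mul_dvd_mul_left _ h).trans (dvd_of_eq (Nat.mul_div_cancel' hd1))))
  · exact exists_psl_orderOf_torus
      (Or.inr ((mul_comm m _) ▸ (Nat.mul_dvd_mul_left _ h).trans (dvd_of_eq (Nat.mul_div_cancel' hd2))))

/-- The element orders of `PSL_2(q)`. -/
theorem range_psl_orderOf (p : ℕ) [Fact p.Prime] [CharP F p] :
    Set.range (orderOf : PSL2 F → ℕ) =
      {m : ℕ | m ∣ p ∨ m ∣ (Nat.card F - 1) / Nat.gcd 2 (Nat.card F - 1) ∨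
        m ∣ (Nat.card F + 1) / Nat.gcd 2 (Nat.card F - 1)} := by
  ext m
  constructor
  · rintro ⟨x, rfl⟩
    rcases psl_orderOf_cases p x with h | h | h
    · exact Or.inr (Or.inl h)
    · exact Or.inr (Or.inr h)
    · exact Or.inl h
  · intro h
    exact exists_psl_orderOf p h

end Cfsg.Agent.PSL2
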