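/-
Dickson's list for the subgroups of `PSL_2(q)`.

Main results (namespace `Cfsg.Agent.PSL2`):
* `toK φ : PSL2 F →* PGL2 K`, `toK_injective`, `mob_trace_invariant`
* `subfield_le_fieldRange` : a subfield group inside `PSL_2(F)` comes from a subfield of `F`
* `pglEquiv`, `pslEquiv`   : the groups only depend on the field up to isomorphism
* `even_degree_of_pgl_le`  : `PGL_2(r)` inside `PSL_2(r^m)`, `r` odd, forces `m` even
* `psl_dickson`            : the list for subgroups of `PSL_2(q)`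
-/
import Cfsg.Agent.Lib.PSL2.CharDivides
import Cfsg.Agent.Lib.PSL2.Elements

set_option autoImplicit false
set_option linter.unusedSectionVars false
set_option linter.dupNamespace false

open Matrix MulAction Subgroup
open scoped LinearAlgebra.Projectivization Classical

namespace Cfsg.Agent.PSL2

/-! ### Changing the field -/

section Equiv

variable {L L' : Type*} [Field L] [Field L']

/-- `PGL_2` of isomorphic fields. -/
noncomputable def pglEquiv (e : L ≃+* L') : PGL2 L ≃* PGL2 L' :=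
  MulEquiv.ofBijective (ProjGenLinGroup.map (e : L →+* L')) ⟨pgl_map_injective _, fun x => by
    refine ⟨ProjGenLinGroup.map (e.symm : L' →+* L) x, ?_⟩
    rw [← MonoidHom.comp_apply, ← ProjGenLinGroup.map_comp]
    rw [show (e : L →+* L').comp (e.symm : L' →+* L) = RingHom.id L' from RingEquiv.comp_symm e,
      ProjGenLinGroup.map_id]
    rfl⟩

/-- `PSL_2` maps into `PGL_2` of any extension. -/
noncomputable def toK (φ : L →+* L') : PSL2 L →* PGL2 L' :=
  (ProjGenLinGroup.map (n := Fin 2) φ).comp ProjectiveSpecialLinearGroup.toPGL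

theorem toK_injective (φ : L →+* L') : Function.Injective (toK φ) :=
  (pgl_map_injective φ).comp ProjectiveSpecialLinearGroup.toPGL_injective

theorem toK_mk (φ : L →+* L') (g : SL2 L) :
    toK φ (QuotientGroup.mk g) =
      mob (φ (g.1 0 0)) (φ (g.1 0 1)) (φ (g.1 1 0)) (φ (g.1 1 1))
        (by
          rw [← map_mul, ← map_mul, ← map_sub, det_eq g, map_one]
          exact one_ne_zero) := by
  rw [toK, MonoidHom.comp_apply, ProjectiveSpecialLinearGroup.toPGL_mk, ProjGenLinGroup.map_mk, mob]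
  congr 1
  apply Units.ext
  ext i j
  fin_cases i <;> fin_cases j <;> rfl

/-- `PSL_2` of isomorphic fields. -/
noncomputable def pslEquiv (e : L ≃+* L') : PSL2 L ≃* PSL2 L' := by
  let φ : SL2 L ≃* SL2 L' :=
    MulEquiv.ofBijective (Matrix.SpecialLinearGroup.map (e : L →+* L')) ⟨fun a b h => by
      apply Subtype.ext; ext i j
      exact e.injective (congrFun (congrFun (congrArg Subtype.val h) i) j), fun b => by
      refine ⟨Matrix.SpecialLinearGroup.map (e.symm : L' →+* L) b, ?_⟩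
      apply Subtype.ext; ext i j
      simp⟩
  refine QuotientGroup.congr _ _ φ ?_
  ext x
  rw [Subgroup.mem_map]
  constructor
  · rintro ⟨y, hy, rfl⟩
    rw [Subgroup.mem_center_iff] at hy ⊢
    intro z
    obtain ⟨w, rfl⟩ := φ.surjective z
    change φ w * φ y = φ y * φ w
    rw [← map_mul, ← map_mul, hy w]
  · intro hx
    obtain ⟨y, rfl⟩ := φ.surjective x
    refine ⟨y, ?_, rfl⟩
    rw [Subgroup.mem_center_iff] at hx ⊢
    intro w
    apply φ.injective
    rw [map_mul, map_mul]
    exact hx (φ w)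

theorem pslImg_eq_range (R : Subfield L) : pslImg R = (toK R.subtype).range := rfl

end Equiv

variable {F K : Type*} [Field F] [Field K]

/-- `(a + d)^2 / (a d - b c)` only depends on the conjugacy class. -/
theorem mob_trace_invariant (φ : F →+* K) {x : PSL2 F} {g : PGL2 K} {a b c d : K}
    {h : a * d - b * c ≠ 0} (e : g * toK φ x * g⁻¹ = mob a b c d h) :
    (a + d) ^ 2 / (a * d - b * c) ∈ φ.fieldRange := by
  obtain ⟨s, rfl⟩ := QuotientGroup.mk_surjective x
  obtain ⟨a', b', c', d', h', rfl⟩ := exists_mob g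
  rw [mul_inv_eq_iff_eq_mul, toK_mk, mob_mul_mob, mob_mul_mob, mob_eq_mob_iff] at e
  obtain ⟨u, e1, e2, e3, e4⟩ := e
  have hu : (u : K) ≠ 0 := u.ne_zero
  have hs : φ (s.1 0 0) * φ (s.1 1 1) - φ (s.1 0 1) * φ (s.1 1 0) = 1 := by
    rw [← map_mul, ← map_mul, ← map_sub, det_eq s, map_one]
  have t1 : (a + d) * (a' * d' - b' * c') =
      (φ (s.1 0 0) + φ (s.1 1 1)) * u * (a' * d' - b' * c') := by
    linear_combination d' * e1 - c' * e2 - b' * e3 + a' * e4
  have t2 : (a * d - b * c) * (a' * d' - b' * c') = (u : K) ^ 2 * (a' * d' - b' * c') := by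
    have t3 : (a * a' + b * c') * (c * b' + d * d') - (a * b' + b * d') * (c * a' + d * c') =
        (u : K) ^ 2 * (a' * d' - b' * c') *
          (φ (s.1 0 0) * φ (s.1 1 1) - φ (s.1 0 1) * φ (s.1 1 0)) := by
      rw [e1, e2, e3, e4]; ring
    rw [hs] at t3
    linear_combination t3
  have t1' := mul_right_cancel₀ h' t1
  have t2' := mul_right_cancel₀ h' t2
  refine ⟨(s.1 0 0 + s.1 1 1) ^ 2, ?_⟩
  rw [t1', t2', map_pow, map_add, mul_pow, mul_div_cancel_right₀ _ (pow_ne_zero 2 hu)]

variable (p : ℕ) [Fact p.Prime] [CharP K p]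

/-- A subfield group inside the image of `PSL_2(F)` comes from a subfield of `F`. -/
theorem subfield_le_fieldRange (φ : F →+* K) {R : Subfield K} [Finite R] {g : PGL2 K}
    {H : Subgroup (PGL2 K)} (hH : H ≤ (toK φ).range) (hR : pslImg R ≤ conjH g H) :
    R ≤ φ.fieldRange := by
  have hsq : ∀ x ∈ R, (2 + x) ^ 2 ∈ φ.fieldRange := by
    intro x hx
    let s : SL2 R := ⟨!![1, ⟨x, hx⟩; 1, 1 + ⟨x, hx⟩], by simp [Matrix.det_fin_two]⟩
    have hs : toK R.subtype (QuotientGroup.mk s) ∈ conjH g H := hR ⟨_, rfl⟩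
    rw [mem_conjH] at hs
    obtain ⟨y, hy⟩ := hH hs
    have e : g * toK φ y * g⁻¹ = mob (1 : K) x 1 (1 + x) (by simp) := by
      rw [hy, show g * (g⁻¹ * toK R.subtype (QuotientGroup.mk s) * g) * g⁻¹ =
        toK R.subtype (QuotientGroup.mk s) by group, toK_mk]
      rw [mob_eq_mob_iff]
      exact ⟨1, by simp [s]⟩
    have h := mob_trace_invariant φ e
    rw [show (1 : K) * (1 + x) - x * 1 = 1 by ring, div_one] at h
    convert h using 1
    ring
  intro x hx
  by_cases h2 : (2 : K) = 0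
  · -- every element of a finite field of characteristic two is a square
    obtain ⟨y, hy⟩ : ∃ y : R, y ^ 2 = ⟨x, hx⟩ := by
      have hp : CharP R 2 := by
        refine CharTwo.of_one_ne_zero_of_two_eq_zero one_ne_zero ?_
        apply Subtype.ext
        exact (map_ofNat R.subtype 2).trans h2
      exact (Finite.injective_iff_surjective.1 (frobenius_inj R 2)) ⟨x, hx⟩
    have h := hsq y y.2
    rw [h2, zero_add] at h
    rwa [show (y : K) ^ 2 = x from congrArg Subtype.val hy] at h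
  · have h8 : ((8 : ℕ) : K) ≠ 0 := by
      rw [show (8 : ℕ) = 2 ^ 3 by norm_num, Nat.cast_pow]
      exact pow_ne_zero 3 (by simpa using h2)
    have h := div_mem (sub_mem (hsq x hx) (hsq (-x) (neg_mem hx)))
      (natCast_mem φ.fieldRange 8)
    convert h using 1
    rw [eq_div_iff h8]
    push_cast
    ring

/-! ### Field degrees -/

variable [Finite F] [CharP F p]

theorem exists_pow_card (R : Subfield F) : ∃ m, 1 ≤ m ∧ Nat.card R ^ m = Nat.card F := by
  refine ⟨Module.finrank R F, Module.finrank_pos, ?_⟩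
  rw [← Module.natCard_eq_pow_finrank]

include p in
/-- `PGL_2(r)` embeds in `PSL_2(r^m)`, `r` odd, only for even `m`. -/
theorem even_degree_of_pgl_le {L : Type*} [Field L] [Finite L] (hodd : Odd (Nat.card F)) {m : ℕ}
    (hm : Nat.card L ^ m = Nat.card F) (f : PGL2 L →* PSL2 F) (hf : Function.Injective f) :
    Even m := by
  set r := Nat.card L with hr
  set q := Nat.card F with hq
  by_contra hme
  rw [Nat.not_even_iff_odd] at hme
  have hr1 : 1 < r := Finite.one_lt_card
  have hro : Odd r := by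
    rcases Nat.even_or_odd r with h | h
    · exact absurd hodd (Nat.not_odd_iff_even.2 (hm ▸ Nat.even_pow.2 ⟨h, by rintro rfl; simp at hme⟩))
    · exact h
  obtain ⟨j, hj⟩ := hme
  -- facts about `q`
  have hd : Nat.gcd 2 (q - 1) = 2 := Nat.gcd_eq_left (by obtain ⟨i, hi⟩ := hodd; omega)
  have hdiv : r - 1 ∣ q - 1 :=
    ⟨∑ x ∈ Finset.range m, r ^ x, by rw [mul_comm, geom_sum_mul_of_one_le (by omega), hm]⟩
  have key : ∀ n, (∃ x : PGL2 L, orderOf x = n) → n ∣ (q - 1) / 2 ∨ n ∣ (q + 1) / 2 ∨ n ∣ p := by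
    rintro n ⟨x, rfl⟩
    have h := psl_orderOf_cases p (f x)
    rw [orderOf_injective f hf, ← hq, hd] at h
    exact h
  have hpodd : p ≠ 2 := by
    rintro rfl
    have := two_ne_zero_of_dvd (F := F) (by rw [← hq]; obtain ⟨i, hi⟩ := hodd; omega)
    exact this (by exact_mod_cast CharP.cast_eq_zero F 2)
  by_cases hr3 : r = 3
  · -- an element of order four
    have : Fact (Nat.Prime 3) := ⟨Nat.prime_three⟩
    have h3 : (3 : L) = 0 := by
      have := Fintype.ofFinite L
      have h := FiniteField.cast_card_eq_zero L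
      rw [← Nat.card_eq_fintype_card, ← hr, hr3] at h
      exact_mod_cast h
    have h2L : (2 : L) ≠ 0 := fun h => one_ne_zero (α := L) (by linear_combination h3 - h)
    let x : PGL2 L := mob 1 1 (-1) 1 (by simp [one_add_one_eq_two, h2L])
    have hx2 : x ^ 2 ≠ 1 := by
      rw [sq, mob_mul_mob, ne_eq, mob_eq_one_iff]
      intro h
      exact h2L (by linear_combination h.1)
    have hx4 : x ^ 4 = 1 := by
      rw [show (4 : ℕ) = 2 * 2 from rfl, pow_mul, sq x, mob_mul_mob, sq, mob_mul_mob, mob_eq_one_iff]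
      refine ⟨?_, ?_, ?_⟩ <;> ring
    have ho : orderOf x = 4 := by
      refine orderOf_eq_prime_pow (p := 2) (n := 1) ?_ hx4
      rwa [pow_one]
    rcases key 4 ⟨x, ho⟩ with h | h | h
    · rw [hr3] at hm
      have : q % 8 = 3 := by
        rw [← hm, hj, pow_succ, pow_mul, Nat.mul_mod, Nat.pow_mod]; norm_num
      omega
    · rw [hr3] at hm
      have : q % 8 = 3 := by
        rw [← hm, hj, pow_succ, pow_mul, Nat.mul_mod, Nat.pow_mod]; norm_num
      omega
    · have := ((Fact.out : p.Prime).eq_one_or_self_of_dvd 4 h).resolve_left (by norm_num)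
      exact absurd (this ▸ (Fact.out : p.Prime)) (by norm_num)
  · obtain ⟨ν, hν⟩ := IsCyclic.exists_ofOrder_eq_natCard (α := Lˣ)
    rw [Nat.card_units, ← hr] at hν
    let dg : Lˣ →* PGL2 L := MonoidHom.mk' (fun a => aff a 0) fun a b => by
      rw [aff_mul_aff, mul_zero, zero_add]
    have hdg : Function.Injective dg := fun a b h => (aff_inj.1 h).1
    obtain ⟨i, hi⟩ : ∃ i, r = 2 * i + 1 := hro
    rcases key (r - 1) ⟨dg ν, by rw [orderOf_injective _ hdg, hν]⟩ with h | h | h
    · -- `(q-1)/(r-1)` is odd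
      obtain ⟨t, ht⟩ := h
      have hq1 : q - 1 = (r - 1) * (2 * t) := by
        rw [mul_left_comm, ← ht]; obtain ⟨e, he⟩ := hodd; omega
      have hq2 : q = (∑ x ∈ Finset.range m, r ^ x) * (r - 1) + 1 := by
        rw [geom_sum_mul_of_one_le (by omega), hm]
        have : 1 ≤ q := Finite.one_lt_card.le
        omega
      have hS : Odd (∑ x ∈ Finset.range m, r ^ x) := by
        rw [Finset.odd_sum_iff_odd_card_odd, Finset.filter_true_of_mem fun x _ => Odd.pow ⟨i, hi⟩,
          Finset.card_range]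
        exact ⟨j, hj⟩
      have : (∑ x ∈ Finset.range m, r ^ x) = 2 * t := by
        refine Nat.eq_of_mul_eq_mul_right (show 0 < r - 1 by omega) ?_
        rw [mul_comm (2 * t)]
        omega
      rw [this, Nat.odd_iff] at hS
      omega
    · have h1 : r - 1 ∣ q + 1 := h.trans ⟨2, by obtain ⟨e, he⟩ := hodd; omega⟩
      have h2 : r - 1 ∣ 2 := by
        have h := Nat.dvd_sub h1 hdiv
        rwa [show q + 1 - (q - 1) = 2 by have := Finite.one_lt_card (α := F); omega] at h
      have := Nat.le_of_dvd two_pos h2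
      omega
    · rcases (Fact.out : p.Prime).eq_one_or_self_of_dvd _ h with e | e
      · omega
      · exact hpodd ((Nat.prime_dvd_prime_iff_eq Nat.prime_two Fact.out).1 ⟨i, by omega⟩).symm

/-! ### The list -/

variable [IsAlgClosed K]

theorem isCyclic_of_fix {H : Subgroup (PGL2 K)} [Finite H] {P : Pt K} (hP : ∀ h ∈ H, h • P = P)
    (hp : ¬ p ∣ Nat.card H) : IsCyclic H := by
  have htop : stabilizer H P = ⊤ := eq_top_iff.2 fun h _ => hP h h.2
  have hc := isCyclic_stab H p P (stab_no_unip H p hp P)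
  rw [htop] at hc
  exact (MulEquiv.isCyclic Subgroup.topEquiv).1 hc

/-- A subgroup fixing a point and containing an element of order `p` normalises a Sylow `p`-subgroup. -/
theorem le_normalizer_sylow (φ : F →+* K) {H : Subgroup (PSL2 F)} {P : Pt K}
    (hP : ∀ h ∈ H, toK φ h • P = P) (hp : p ∣ Nat.card H) :
    ∃ S : Sylow p (PSL2 F), H ≤ normalizer ((S : Subgroup (PSL2 F)) : Set (PSL2 F)) := by
  obtain ⟨u, hu⟩ := exists_prime_orderOf_dvd_card' p hp
  have hu1 : (u : PSL2 F) ≠ 1 := by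
    intro e
    rw [← Subgroup.orderOf_coe, e, orderOf_one] at hu
    exact (Fact.out : p.Prime).ne_one hu.symm
  have hup : (toK φ u) ^ p = 1 := by
    rw [← map_pow, show (u : PSL2 F) ^ p = 1 by
      rw [← hu, ← Subgroup.orderOf_coe]; exact pow_orderOf_eq_one _, map_one]
  have hune : toK φ u ≠ 1 := fun e => hu1 (toK_injective φ (e.trans (map_one _).symm))
  have hz : IsPGroup p (zpowers (u : PSL2 F)) :=
    IsPGroup.of_card (n := 1) (by rw [Nat.card_zpowers, Subgroup.orderOf_coe, hu, pow_one])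
  obtain ⟨S, hS⟩ := hz.exists_le_sylow
  have huS : (u : PSL2 F) ∈ (S : Subgroup (PSL2 F)) := hS (mem_zpowers _)
  let G' := (toK φ).range
  have : Finite G' := Finite.of_surjective _ (MonoidHom.rangeRestrict_surjective _)
  -- the elements of `S` are the translations at `P`
  have hnt : Nontrivial (S : Subgroup (PSL2 F)) :=
    ⟨⟨⟨_, huS⟩, 1, fun e => hu1 (congrArg Subtype.val e)⟩⟩
  have := S.isPGroup'.center_nontrivial
  obtain ⟨z, hz1⟩ := exists_ne (1 : center (S : Subgroup (PSL2 F)))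
  set zz := toK φ ((z : (S : Subgroup (PSL2 F))) : PSL2 F) with hzz
  have hzz1 : zz ≠ 1 := fun e => hz1 (Subtype.ext (Subtype.ext (toK_injective φ (e.trans (map_one _).symm))))
  have hpow : ∀ s ∈ (S : Subgroup (PSL2 F)), toK φ s • P = P → (toK φ s) ^ p = 1 := by
    intro s hs hfix
    let g : stabilizer G' P := ⟨⟨toK φ s, s, rfl⟩, hfix⟩
    obtain ⟨k, hk⟩ := S.isPGroup' ⟨s, hs⟩
    have hk' : s ^ p ^ k = 1 := congrArg Subtype.val hk
    have hg : g ^ p ^ k = 1 := Subtype.ext (Subtype.ext (by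
      change (toK φ s) ^ p ^ k = 1
      rw [← map_pow, hk', map_one]))
    refine (multH_eq_one_iff G' p g).1 ?_
    have h1 : (multH G' P g) ^ p ^ k = 1 := by rw [← map_pow, hg, map_one]
    rw [← orderOf_eq_one_iff]
    exact Nat.eq_one_of_dvd_coprimes
      (((coprime_of_units p ((multH G' P).isOfFinOrder (isOfFinOrder_of_finite g))).pow_right k))
      dvd_rfl (orderOf_dvd_of_pow_eq_one h1)
  have hcz : ∀ s ∈ (S : Subgroup (PSL2 F)), toK φ s * zz = zz * toK φ s := by
    intro s hs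
    rw [hzz, ← map_mul, ← map_mul]
    exact congrArg (toK φ) (congrArg Subtype.val (Subgroup.mem_center_iff.1 z.2 ⟨s, hs⟩))
  have hzP : zz • P = P := by
    refine unip_fix_unique p hune hup ?_ (hP u u.2)
    rw [← mul_smul, hcz u huS, mul_smul, hP u u.2]
  have hzp : zz ^ p = 1 := hpow _ (z : (S : Subgroup (PSL2 F))).2 hzP
  have hSP : ∀ s ∈ (S : Subgroup (PSL2 F)), toK φ s • P = P := by
    intro s hs
    refine unip_fix_unique p hzz1 hzp ?_ hzP
    rw [← mul_smul, ← hcz s hs, mul_smul, hzP]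
  let U : Subgroup (PSL2 F) :=
    ((multH G' P).ker.map ((stabilizer G' P).subtype)).comap (toK φ).rangeRestrict
  have hmemU : ∀ x, x ∈ U ↔ toK φ x • P = P ∧ (toK φ x) ^ p = 1 := by
    intro x
    constructor
    · rintro ⟨g, hg, hgx⟩
      have e : ((g : G') : PGL2 K) = toK φ x := congrArg Subtype.val hgx
      rw [← e]
      exact ⟨g.2, (multH_eq_one_iff G' p g).1 hg⟩
    · rintro ⟨h1, h2⟩
      exact ⟨⟨⟨toK φ x, x, rfl⟩, h1⟩, (multH_eq_one_iff G' p _).2 h2, rfl⟩
  have hUp : IsPGroup p U := by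
    rintro ⟨x, hx⟩
    refine ⟨1, Subtype.ext (toK_injective φ ?_)⟩
    change toK φ (x ^ p ^ 1) = toK φ 1
    rw [pow_one, map_pow, map_one]
    exact ((hmemU x).1 hx).2
  have hSU : (S : Subgroup (PSL2 F)) ≤ U := fun s hs =>
    (hmemU s).2 ⟨hSP s hs, hpow s hs (hSP s hs)⟩
  have hUS : U = (S : Subgroup (PSL2 F)) := S.is_maximal' hUp hSU
  refine ⟨S, ?_⟩
  rw [← hUS]
  intro h hh
  rw [Subgroup.mem_normalizer_iff]
  intro x
  have hh' : toK φ h • P = P := hP h hh
  have hh'' : (toK φ h)⁻¹ • P = P := by rw [inv_smul_eq_iff, hh']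
  rw [hmemU, hmemU, map_mul, map_mul, map_inv, conj_pow, mul_inv_eq_one, mul_eq_left, mul_smul,
    mul_smul, hh'']
  constructor
  · rintro ⟨h1, h2⟩; exact ⟨by rw [h1, hh'], h2⟩
  · rintro ⟨h1, h2⟩
    exact ⟨MulAction.injective (toK φ h) (h1.trans hh'.symm), h2⟩

/-- **Dickson's list** for the subgroups of `PSL_2(q)`. -/
theorem psl_dickson {F : Type*} [Field F] [Finite F] (p : ℕ) [Fact p.Prime] [CharP F p]
    (H : Subgroup (PSL2 F)) :
    (p ∣ Nat.card H ∧
      ∃ S : Sylow p (PSL2 F), H ≤ normalizer ((S : Subgroup (PSL2 F)) : Set (PSL2 F))) ∨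
    (¬ p ∣ Nat.card H ∧ IsCyclic H ∧
      (Nat.card H ∣ (Nat.card F - 1) / Nat.gcd 2 (Nat.card F - 1) ∨
        Nat.card H ∣ (Nat.card F + 1) / Nat.gcd 2 (Nat.card F - 1))) ∨
    (∃ n, 2 ≤ n ∧ ¬ p ∣ n ∧
      (n ∣ (Nat.card F - 1) / Nat.gcd 2 (Nat.card F - 1) ∨
        n ∣ (Nat.card F + 1) / Nat.gcd 2 (Nat.card F - 1)) ∧
      Nat.card H = 2 * n ∧ (¬ p ∣ Nat.card H ∨ p = 2) ∧ Nonempty (H ≃* DihedralGroup n)) ∨
    (¬ p ∣ Nat.card H ∧ (Nonempty (H ≃* alternatingGroup (Fin 4)) ∨
      Nonempty (H ≃* Equiv.Perm (Fin 4)) ∨ Nonempty (H ≃* alternatingGroup (Fin 5)))) ∨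
    (p = 3 ∧ Nat.card H = 60 ∧ Nonempty (H ≃* alternatingGroup (Fin 5))) ∨
    (∃ R : Subfield F, ∃ m, 1 ≤ m ∧ Nat.card R ^ m = Nat.card F ∧
      (Nonempty (H ≃* PSL2 R) ∨ (p ≠ 2 ∧ Even m ∧ Nonempty (H ≃* PGL2 R)))) := by
  let K := AlgebraicClosure F
  let φ : F →+* K := algebraMap F K
  have : CharP K p := charP_of_injective_ringHom φ.injective p
  let H' := H.map (toK φ)
  let e : H ≃* H' := Subgroup.equivMapOfInjective H _ (toK_injective φ)
  have : Finite H' := Finite.of_equiv _ e.toEquiv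
  have hcard : Nat.card H' = Nat.card H := (Nat.card_congr e.toEquiv).symm
  rcases dickson H' p with ⟨P, hP⟩ | ⟨n, h1, h2, h3, h4, ⟨h5⟩⟩ | ⟨h1, h2⟩ | ⟨h1, h2, ⟨h3⟩⟩ |
    ⟨R, hR, g, hg⟩
  · by_cases hp : p ∣ Nat.card H
    · exact Or.inl ⟨hp, le_normalizer_sylow p φ (fun h hh => hP _ ⟨h, hh, rfl⟩) hp⟩
    · refine Or.inr (Or.inl ⟨hp, ?_, ?_⟩)
      · have := isCyclic_of_fix p hP (hcard ▸ hp)
        exact (MulEquiv.isCyclic e).2 this
      · have hc : IsCyclic H := (MulEquiv.isCyclic e).2 (isCyclic_of_fix p hP (hcard ▸ hp))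
        obtain ⟨x, hx⟩ := hc.exists_ofOrder_eq_natCard
        rw [← hx, ← Subgroup.orderOf_coe]
        rcases psl_orderOf_cases p (x : PSL2 F) with h | h | h
        · exact Or.inl h
        · exact Or.inr h
        · rcases (Fact.out : p.Prime).eq_one_or_self_of_dvd _ h with h' | h'
          · rw [h']; exact Or.inl (one_dvd _)
          · rw [Subgroup.orderOf_coe, hx] at h'
            exact absurd (h' ▸ dvd_rfl) hp
  · refine Or.inr (Or.inr (Or.inl ⟨n, h1, h2, ?_, hcard ▸ h3, hcard ▸ h4, ⟨e.trans h5⟩⟩))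
    have hx : orderOf ((((e.trans h5).symm (DihedralGroup.r 1) : H)) : PSL2 F) = n := by
      rw [Subgroup.orderOf_coe, MulEquiv.orderOf_eq, DihedralGroup.orderOf_r_one]
    rcases psl_orderOf_cases p ((((e.trans h5).symm (DihedralGroup.r 1) : H)) : PSL2 F) with h | h | h
    · exact Or.inl (hx ▸ h)
    · exact Or.inr (hx ▸ h)
    · rw [hx] at h
      rcases (Fact.out : p.Prime).eq_one_or_self_of_dvd _ h with h' | h'
      · omega
      · exact absurd (h' ▸ dvd_rfl) h2
  · refine Or.inr (Or.inr (Or.inr (Or.inl ⟨hcard ▸ h1, ?_⟩)))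
    rcases h2 with ⟨⟨f⟩⟩ | ⟨⟨f⟩⟩ | ⟨⟨f⟩⟩
    · exact Or.inl ⟨e.trans f⟩
    · exact Or.inr (Or.inl ⟨e.trans f⟩)
    · exact Or.inr (Or.inr ⟨e.trans f⟩)
  · exact Or.inr (Or.inr (Or.inr (Or.inr (Or.inl ⟨h1, hcard ▸ h2, ⟨e.trans h3⟩⟩))))
  · refine Or.inr (Or.inr (Or.inr (Or.inr (Or.inr ?_))))
    have hle : pslImg R ≤ conjH g H' := by
      rcases hg with hg | hg <;> rw [hg]
      exact pslImg_le_pglImg R
    have hHr : H' ≤ (toK φ).range := Subgroup.map_le_range _ _
    have hRF : R ≤ φ.fieldRange := subfield_le_fieldRange φ hHr hle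
    let R' : Subfield F := R.comap φ
    let eR : R' ≃+* R := RingEquiv.ofBijective
      ((φ.comp R'.subtype).codRestrict R fun x => x.2)
      ⟨fun a b h => Subtype.ext (φ.injective (congrArg Subtype.val h)), fun b => by
        obtain ⟨a, ha⟩ := hRF b.2
        exact ⟨⟨a, show φ a ∈ R from ha ▸ b.2⟩, Subtype.ext ha⟩⟩
    obtain ⟨m, hm1, hm⟩ := exists_pow_card (F := F) R'
    refine ⟨R', m, hm1, hm, ?_⟩
    let e' : H ≃* conjH g H' := e.trans (conjHEquiv g H')
    rcases hg with hg | hg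
    · left
      refine ⟨e'.trans ((MulEquiv.subgroupCongr hg).trans ?_)⟩
      exact (MonoidHom.ofInjective (toK_injective R.subtype)).symm.trans (pslEquiv eR.symm)
    · let f : H ≃* PGL2 R' := e'.trans ((MulEquiv.subgroupCongr hg).trans
        ((MonoidHom.ofInjective (pgl_map_injective R.subtype)).symm.trans (pglEquiv eR.symm)))
      by_cases hp2 : p = 2
      · left
        -- in characteristic two `PGL_2 = PSL_2`
        subst hp2
        have : CharP R' 2 := (R'.subtype).charP R'.subtype.injective 2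
        refine ⟨f.trans (MulEquiv.ofBijective (ProjectiveSpecialLinearGroup.toPGL (n := Fin 2))
          ⟨ProjectiveSpecialLinearGroup.toPGL_injective, ?_⟩).symm⟩
        apply ProjectiveSpecialLinearGroup.toPGL_surj_of_roots
        intro r
        obtain ⟨y, hy⟩ := (Finite.injective_iff_surjective.1 (frobenius_inj R' 2)) (r : R')
        have hy0 : y ≠ 0 := by
          rintro rfl
          rw [map_zero] at hy
          exact r.ne_zero hy.symm
        exact ⟨Units.mk0 y hy0, Units.ext (by simpa [frobenius_def] using hy)⟩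
      · right
        refine ⟨hp2, ?_, ⟨f⟩⟩
        refine even_degree_of_pgl_le p ?_ hm ((H.subtype).comp f.symm.toMonoidHom)
          (Subtype.coe_injective.comp f.symm.injective)
        have := Fintype.ofFinite F
        obtain ⟨k, hk, hc⟩ := FiniteField.card F p
        rw [Nat.card_eq_fintype_card, hc]
        exact ((Fact.out : p.Prime).odd_of_ne_two hp2).pow

end Cfsg.Agent.PSL2
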