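/-
Standard subgroups of `PSL_2(q)`: Borel, dihedral and subfield subgroups.

Main results (namespace `Cfsg.Agent.PSL2`):
* `card_pt`, `card_borel_mul`, `index_borel`, `normalizer_sylow_le`, `card_normalizer_sylow_le`
* `two_mul_card_psl`, `card_psl_mul`
* `exists_dihedral_sub`      : `D_n` inside `PSL_2(q)` for `n ∣ (q ± 1)/d`, `n ≥ 2`
* `exists_ringHom_of_card_pow`, `pslMap`, `exists_psl_subfield_sub`, `exists_pgl_subfield_sub`
* `exists_sq_eq_two`, `exists_sq_eq_one_add` : when 2, resp. 5, is a square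
-/
import Cfsg.Agent.Lib.PSL2.Subgroups
import Cfsg.Agent.Lib.PSL2.Icosa

set_option autoImplicit false
set_option linter.unusedSectionVars false
set_option linter.dupNamespace false

open Matrix MulAction Subgroup
open scoped LinearAlgebra.Projectivization Classical

namespace Cfsg.Agent.PSL2

variable {F : Type*} [Field F]

theorem toPGL_smul (x : PSL2 F) (P : Pt F) : ProjectiveSpecialLinearGroup.toPGL x • P = x • P := by
  obtain ⟨g, rfl⟩ := QuotientGroup.mk_surjective x
  induction P using Projectivization.ind with | _ v hv => ?_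
  rw [Matrix.ProjectiveSpecialLinearGroup.smul_proj_mk, ProjectiveSpecialLinearGroup.toPGL_mk,
    Projectivization.PGL.mk_smul_mk, Projectivization.smul_mk]
  rfl

instance isPretransitive_psl : IsPretransitive (PSL2 F) (Pt F) := by
  refine ⟨fun P Q => ?_⟩
  obtain ⟨g, hg⟩ := MulAction.exists_smul_eq (Matrix.SpecialLinearGroup (Fin 2) F) P Q
  exact ⟨QuotientGroup.mk g, hg⟩

variable [Finite F]

theorem card_pt : Nat.card (Pt F) = Nat.card F + 1 := by
  rw [← Finite.card_option]
  refine Nat.card_congr (Equiv.ofBijective (fun o : Option F => o.elim (pinf : Pt F) pt) ⟨?_, ?_⟩).symm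
  · rintro (_ | x) (_ | y) h
    · rfl
    · exact absurd h (pinf_ne_pt y)
    · exact absurd h (pt_ne_pinf x)
    · exact congrArg some (pt_injective h)
  · intro P
    rcases pt_cases P with rfl | ⟨x, rfl⟩
    · exact ⟨none, rfl⟩
    · exact ⟨some x, rfl⟩

theorem card_psl_mul :
    Nat.gcd 2 (Nat.card F - 1) * Nat.card (PSL2 F) =
      Nat.card F * ((Nat.card F + 1) * (Nat.card F - 1)) := by
  have h := GLOrder.card_PSL_mul (ι := Fin 2) (F := F)
  rw [Fintype.card_fin, GLOrder.card_SL_two, GLOrder.sq_sub_one] at h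
  exact h

theorem index_borel (P : Pt F) : (stabilizer (PSL2 F) P).index = Nat.card F + 1 := by
  rw [index_stabilizer_of_transitive, card_pt]

/-- The order of a point stabiliser. -/
theorem card_borel_mul (P : Pt F) :
    Nat.gcd 2 (Nat.card F - 1) * Nat.card (stabilizer (PSL2 F) P) =
      Nat.card F * (Nat.card F - 1) := by
  have h1 := card_psl_mul (F := F)
  rw [← (stabilizer (PSL2 F) P).card_mul_index, index_borel, ← mul_assoc,
    mul_left_comm (Nat.card F) (Nat.card F + 1)] at h1
  exact Nat.eq_of_mul_eq_mul_right (Nat.succ_pos _) (h1.trans (mul_comm _ _))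

theorem stabilizer_ne_top (P : Pt F) : stabilizer (PSL2 F) P ≠ ⊤ := by
  intro h
  have := index_borel P
  rw [h, Subgroup.index_top] at this
  have := Finite.one_lt_card (α := F)
  omega

variable (p : ℕ) [Fact p.Prime] [CharP F p]

theorem dvd_card_psl : p ∣ Nat.card (PSL2 F) := by
  obtain ⟨x, hx⟩ := exists_psl_orderOf_char (F := F) p
  exact hx ▸ _root_.orderOf_dvd_natCard x

/-- The normaliser of a Sylow `p`-subgroup fixes a point of the projective line. -/
theorem normalizer_sylow_le (S : Sylow p (PSL2 F)) :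
    ∃ P : Pt F, normalizer ((S : Subgroup (PSL2 F)) : Set (PSL2 F)) ≤ stabilizer (PSL2 F) P := by
  have hfix : ∃ P : Pt F, ∀ s ∈ (S : Subgroup (PSL2 F)), s • P = P := by
    have hnd : ¬ p ∣ Nat.card (Pt F) := by
      rw [card_pt]
      intro h
      have := Fintype.ofFinite F
      obtain ⟨n, hn, hc⟩ := FiniteField.card F p
      have hq : p ∣ Nat.card F := by
        rw [Nat.card_eq_fintype_card, hc]; exact dvd_pow_self p n.pos.ne'
      exact (Fact.out : p.Prime).not_dvd_one ((Nat.dvd_add_right hq).1 h)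
    obtain ⟨P, hP⟩ := S.isPGroup'.nonempty_fixed_point_of_prime_not_dvd_card (Pt F) hnd
    exact ⟨P, fun s hs => hP ⟨s, hs⟩⟩
  obtain ⟨P, hP⟩ := hfix
  refine ⟨P, fun h hh => ?_⟩
  -- a non-trivial element of `S` fixes only `P`
  obtain ⟨s, hs⟩ := exists_prime_orderOf_dvd_card' (G := (S : Subgroup (PSL2 F))) p
    (S.dvd_card_of_dvd_card (dvd_card_psl p))
  have hs1 : (s : PSL2 F) ≠ 1 := by
    intro e
    rw [← Subgroup.orderOf_coe, e, orderOf_one] at hs
    exact (Fact.out : p.Prime).ne_one hs.symm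
  have huniq : ∀ Q : Pt F, (s : PSL2 F) • Q = Q → Q = P := by
    intro Q hQ
    obtain ⟨k, hk⟩ := exists_map_pinf P
    have hk' : k⁻¹ • (pinf : Pt F) = P := by rw [← hk, inv_smul_smul]
    set y := k * ProjectiveSpecialLinearGroup.toPGL (s : PSL2 F) * k⁻¹ with hy
    obtain ⟨a, b, hab⟩ := exists_aff_of_fix (g := y)
      (by rw [hy, mul_smul, mul_smul, hk', toPGL_smul, hP _ s.2, hk])
    have hyp : y ^ p = 1 := by
      have hsp : (s : PSL2 F) ^ p = 1 := by
        have h' := pow_orderOf_eq_one s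
        rw [hs] at h'
        exact congrArg Subtype.val h'
      rw [hy, conj_pow, ← map_pow, hsp, map_one, mul_one, mul_inv_cancel]
    rw [hab, aff_pow_char_iff p] at hyp
    subst hyp
    have hb : b ≠ 0 := by
      rintro rfl
      rw [aff_one_zero, mul_inv_eq_one, mul_eq_left] at hab
      exact hs1 (ProjectiveSpecialLinearGroup.toPGL_injective (hab.trans (map_one _).symm))
    have hyQ : y • (k • Q) = k • Q := by
      rw [hy, mul_smul, mul_smul, inv_smul_smul, toPGL_smul, hQ]
    rw [hab] at hyQ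
    rcases pt_cases (k • Q) with e | ⟨x, e⟩
    · exact MulAction.injective k (e.trans hk.symm)
    · rw [e, aff_smul_pt, pt_inj] at hyQ
      simp at hyQ
      exact absurd hyQ hb
  rw [mem_stabilizer_iff]
  apply huniq
  have h' : h⁻¹ * s * h ∈ (S : Subgroup (PSL2 F)) := by
    have := (Subgroup.mem_normalizer_iff.1 (inv_mem hh) (s : PSL2 F)).1 s.2
    simpa using this
  have := hP _ h'
  rw [mul_smul, mul_smul, inv_smul_eq_iff] at this
  exact this

theorem card_normalizer_sylow_le (S : Sylow p (PSL2 F)) :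
    Nat.gcd 2 (Nat.card F - 1) *
        Nat.card (normalizer ((S : Subgroup (PSL2 F)) : Set (PSL2 F))) ≤
      Nat.card F * (Nat.card F - 1) := by
  obtain ⟨P, hP⟩ := normalizer_sylow_le p S
  rw [← card_borel_mul P]
  exact Nat.mul_le_mul_left _ (Subgroup.card_le_of_le hP)

/-! ### Dihedral subgroups -/

omit [Finite F] in
theorem sq_eq_neg_one_of_tr_zero {w : SL2 F} (h : tr w = 0) : w * w = -1 := by
  apply Subtype.ext
  rw [Matrix.SpecialLinearGroup.coe_mul, coe_sq, h, zero_smul, zero_sub,
    Matrix.SpecialLinearGroup.coe_neg, Matrix.SpecialLinearGroup.coe_one]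

omit [Finite F] in
theorem conj_eq_inv_of_tr_zero {w g : SL2 F} (h : tr w = 0) (h' : tr (w * g) = 0) :
    w * g * w⁻¹ = g⁻¹ := by
  have e1 := sq_eq_neg_one_of_tr_zero h
  have e2 := sq_eq_neg_one_of_tr_zero h'
  have hw : w⁻¹ = -w := inv_eq_of_mul_eq_one_right (by rw [mul_neg, e1, neg_neg])
  rw [hw]
  apply eq_inv_of_mul_eq_one_left
  rw [show w * g * -w * g = -((w * g) * (w * g)) by simp [mul_assoc], e2, neg_neg]

/-- Semisimple elements are inverted by trace zero elements. -/
theorem exists_inverting_elt {g : SL2 F} (hg : tr g ^ 2 ≠ 4) :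
    ∃ w : SL2 F, tr w = 0 ∧ tr (w * g) = 0 := by
  have hd := det_eq g
  -- coefficients `x, y, z` with `x(a-d) + y c + z b = 0` and `-x^2 - y z = 1`
  obtain ⟨x, y, z, hlin, hdet⟩ : ∃ x y z : F,
      x * (g.1 0 0 - g.1 1 1) + y * g.1 1 0 + z * g.1 0 1 = 0 ∧ -(x * x) - y * z = 1 := by
    by_cases hb : g.1 0 1 = 0
    · have had : g.1 0 0 - g.1 1 1 ≠ 0 := by
        intro h
        apply hg
        rw [hb, zero_mul, sub_zero] at hd
        simp only [tr]
        linear_combination (g.1 0 0 - g.1 1 1) * h + 4 * hd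
      by_cases hc : g.1 1 0 = 0
      · exact ⟨0, 1, -1, by simp [hb, hc], by simp⟩
      · refine ⟨1, -(g.1 0 0 - g.1 1 1) / g.1 1 0, 2 * g.1 1 0 / (g.1 0 0 - g.1 1 1), ?_, ?_⟩
        · rw [hb]; field_simp; ring
        · field_simp; ring
    · by_cases h2 : (2 : F) = 0
      · refine ⟨1, 0, -(g.1 0 0 - g.1 1 1) / g.1 0 1, by field_simp; ring, ?_⟩
        linear_combination -h2
      · -- completing the square
        have := Fintype.ofFinite F
        set D := (g.1 0 0 - g.1 1 1) ^ 2 + 4 * g.1 1 0 * g.1 0 1 with hD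
        have hD0 : D ≠ 0 := by
          intro h
          apply hg
          simp only [tr]
          linear_combination h + 4 * hd
        have hne : ringChar F ≠ 2 := by
          intro h
          have : CharP F 2 := ringChar.of_eq h
          exact h2 (by exact_mod_cast CharP.cast_eq_zero F 2)
        set s := -D / (4 * g.1 0 1 ^ 2) with hs
        have hs0 : s ≠ 0 := by
          rw [hs]
          refine div_ne_zero (neg_ne_zero.2 hD0) (mul_ne_zero ?_ (pow_ne_zero 2 hb))
          rw [show (4 : F) = 2 * 2 by norm_num]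
          exact mul_ne_zero h2 h2
        obtain ⟨X, Y, hXY⟩ := FiniteField.exists_root_sum_quadratic
          (f := (Polynomial.X ^ 2 : Polynomial F))
          (g := Polynomial.C s * Polynomial.X ^ 2 + Polynomial.C 1) (Polynomial.degree_X_pow 2)
          (by rw [Polynomial.degree_add_C (by rw [Polynomial.degree_C_mul_X_pow 2 hs0]; decide),
            Polynomial.degree_C_mul_X_pow 2 hs0]; rfl)
          (FiniteField.odd_card_of_char_ne_two hne)
        simp at hXY
        refine ⟨X + (g.1 0 0 - g.1 1 1) * Y / (2 * g.1 0 1), Y,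
          -((X + (g.1 0 0 - g.1 1 1) * Y / (2 * g.1 0 1)) * (g.1 0 0 - g.1 1 1) + Y * g.1 1 0) /
            g.1 0 1, by field_simp; ring, ?_⟩
        have h4 : (4 : F) ≠ 0 := by
          rw [show (4 : F) = 2 * 2 by norm_num]; exact mul_ne_zero h2 h2
        rw [hs, hD] at hXY
        field_simp at hXY ⊢
        linear_combination -hXY
  obtain ⟨v, hv⟩ : ∃ v : SL2 F, v.1 = !![x, y; z, -x] :=
    ⟨⟨!![x, y; z, -x], by rw [Matrix.det_fin_two_of]; linear_combination hdet⟩, rfl⟩
  refine ⟨v, ?_, ?_⟩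
  · simp [tr, hv]
  · rw [tr, Matrix.SpecialLinearGroup.coe_mul]
    simp [hv, Matrix.mul_apply, Fin.sum_univ_two]
    linear_combination hlin

/-- `PSL_2(q)` has a dihedral subgroup of order `2 n` for `n ∣ (q ± 1)/d`, `n ≥ 2`. -/
theorem exists_dihedral_sub {n : ℕ} (hn : 2 ≤ n)
    (h : n ∣ (Nat.card F - 1) / Nat.gcd 2 (Nat.card F - 1) ∨
      n ∣ (Nat.card F + 1) / Nat.gcd 2 (Nat.card F - 1)) :
    ∃ H : Subgroup (PSL2 F), Nonempty (H ≃* DihedralGroup n) := by
  obtain ⟨p, hp⟩ := CharP.exists F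
  have : Fact p.Prime := ⟨CharP.char_is_prime F p⟩
  have hq1 : 1 < Nat.card F := Finite.one_lt_card
  have hd1 : Nat.gcd 2 (Nat.card F - 1) ∣ Nat.card F - 1 := Nat.gcd_dvd_right _ _
  have hd2 : Nat.gcd 2 (Nat.card F - 1) ∣ Nat.card F + 1 := by
    have h := Nat.dvd_add hd1 (Nat.gcd_dvd_left 2 (Nat.card F - 1))
    rwa [show Nat.card F - 1 + 2 = Nat.card F + 1 by omega] at h
  obtain ⟨x, hx⟩ := exists_psl_orderOf (F := F) p (Or.inr h)
  have hnq : n ∣ Nat.card F - 1 ∨ n ∣ Nat.card F + 1 :=
    h.imp (fun h => h.trans (Nat.div_dvd_of_dvd hd1)) (fun h => h.trans (Nat.div_dvd_of_dvd hd2))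
  have := Fintype.ofFinite F
  obtain ⟨e, he, hcq⟩ := FiniteField.card F p
  rw [← Nat.card_eq_fintype_card] at hcq
  have hpn : ¬ p ∣ n := by
    intro hp'
    have hpq : p ∣ Nat.card F := hcq ▸ dvd_pow_self p e.pos.ne'
    rcases hnq with h | h
    · have := Nat.dvd_sub hpq (hp'.trans h)
      rw [show Nat.card F - (Nat.card F - 1) = 1 by omega] at this
      exact (Fact.out : p.Prime).not_dvd_one this
    · exact (Fact.out : p.Prime).not_dvd_one ((Nat.dvd_add_right hpq).1 (hp'.trans h))
  have h2of : n = 2 → (2 : F) ≠ 0 := by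
    intro hn2 h2
    have hc : CharP F 2 := CharTwo.of_one_ne_zero_of_two_eq_zero one_ne_zero h2
    exact hpn (by rw [hn2, CharP.eq F hp hc])
  obtain ⟨g, rfl⟩ := QuotientGroup.mk_surjective x
  have hss : tr g ^ 2 ≠ 4 := by
    intro ht
    have hpow : (QuotientGroup.mk g : PSL2 F) ^ p = 1 := by
      rw [← QuotientGroup.mk_pow, mk_eq_one_iff]
      obtain ⟨s, hts, hs2⟩ : ∃ s : F, tr g = 2 * s ∧ s * s = 1 := by
        by_cases h2 : (2 : F) = 0
        · refine ⟨1, ?_, one_mul 1⟩
          rw [h2, zero_mul, ← sq_eq_zero_iff, ht]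
          linear_combination (2 : F) * h2
        · refine ⟨tr g / 2, by field_simp, ?_⟩
          field_simp
          linear_combination ht
      have h0 : (g.1 - algebraMap F _ s) ^ 2 = 0 := by
        rw [sq, sub_mul, mul_sub, mul_sub, coe_sq, ← map_mul, hs2, map_one, hts,
          Algebra.algebraMap_eq_smul_one]
        simp only [Algebra.mul_smul_comm, Algebra.smul_mul_assoc, one_mul, mul_one]
        module
      have hp2 : 2 ≤ p := (Fact.out : p.Prime).two_le
      have hp0 : (g.1 - algebraMap F _ s) ^ p = 0 := by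
        rw [show p = 2 + (p - 2) by omega, pow_add, h0, zero_mul]
      rw [sub_pow_char_of_commute p (Algebra.commute_algebraMap_right _ _), ← map_pow,
        sub_eq_zero] at hp0
      rcases mul_self_eq_one_iff.1 hs2 with rfl | rfl
      · left; apply Subtype.ext; simp [hp0]
      · right
        apply Subtype.ext
        rw [Matrix.SpecialLinearGroup.coe_pow, hp0, neg_one_pow_char F p, map_neg, map_one]
        simp
    rcases (Fact.out : p.Prime).eq_one_or_self_of_dvd _ (hx ▸ orderOf_dvd_of_pow_eq_one hpow) with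
      e' | e'
    · omega
    · exact hpn (e' ▸ dvd_rfl)
  obtain ⟨w, hw, hwg⟩ := exists_inverting_elt hss
  have hinv := conj_eq_inv_of_tr_zero hw hwg
  set x : PSL2 F := QuotientGroup.mk g with hxdef
  set t : PSL2 F := QuotientGroup.mk w with htdef
  have htx : t * x * t⁻¹ = x⁻¹ := by
    rw [htdef, hxdef, ← QuotientGroup.mk_inv, ← QuotientGroup.mk_mul, ← QuotientGroup.mk_mul, hinv,
      QuotientGroup.mk_inv]
  have hneg : ∀ v : SL2 F, v = -1 → (QuotientGroup.mk v : PSL2 F) = 1 := fun v hv =>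
    mk_eq_one_iff.2 (Or.inr hv)
  have ht2 : t * t = 1 := by
    rw [htdef, ← QuotientGroup.mk_mul]; exact hneg _ (sq_eq_neg_one_of_tr_zero hw)
  have hy2 : (t * x) * (t * x) = 1 := by
    rw [htdef, hxdef, ← QuotientGroup.mk_mul, ← QuotientGroup.mk_mul]
    exact hneg _ (sq_eq_neg_one_of_tr_zero hwg)
  -- neither `t` nor `t * x` is trivial
  have hnt : ∀ v : SL2 F, tr v = 0 → (QuotientGroup.mk v : PSL2 F) = 1 → (2 : F) = 0 := by
    intro v hv h1
    rcases mk_eq_one_iff.1 h1 with rfl | rfl
    · rwa [tr_one] at hv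
    · rw [tr_neg, tr_one, neg_eq_zero] at hv; exact hv
  have hxx : x * x = 1 → n = 2 := by
    intro h
    have := Nat.le_of_dvd two_pos (hx ▸ orderOf_dvd_of_pow_eq_one (by rwa [sq]))
    omega
  have ht1 : t ≠ 1 := by
    intro e
    have h' : x = x⁻¹ := by simpa [e] using htx
    exact h2of (hxx (by nth_rewrite 2 [h']; exact mul_inv_cancel x)) (hnt w hw e)
  have hy1 : t * x ≠ 1 := by
    intro e
    have hxt : x = t⁻¹ := eq_inv_of_mul_eq_one_right e
    have hxx' : x * x = 1 := by rw [hxt, ← _root_.mul_inv_rev, ht2, inv_one]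
    exact h2of (hxx hxx') (hnt (w * g) hwg (by rw [QuotientGroup.mk_mul]; exact e))
  have hne : t ≠ t * x := by
    intro e
    rw [left_eq_mul] at e
    rw [e, orderOf_one] at hx
    omega
  refine ⟨closure ({t, t * x} : Set (PSL2 F)), ?_⟩
  have hxy : t * (t * x) = x := by rw [← mul_assoc, ht2, one_mul]
  exact ⟨(Involution.dihedralEquiv (Involution.orderOf_of_sq ht2 ht1)
    (Involution.orderOf_of_sq hy2 hy1) hne).symm.trans (by rw [hxy, hx])⟩

/-! ### Subfield subgroups -/

omit [Finite F] in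
/-- The map `PSL_2(L) → PSL_2(F)` along an embedding. -/
theorem exists_pslMap {L : Type*} [Field L] (φ : L →+* F) :
    ∃ f : PSL2 L →* PSL2 F, Function.Injective f := by
  let g : SL2 L →* PSL2 F := (QuotientGroup.mk' _).comp (Matrix.SpecialLinearGroup.map φ)
  have hker : g.ker = Subgroup.center (SL2 L) := by
    ext v
    rw [MonoidHom.mem_ker, mem_center_iff']
    change (QuotientGroup.mk (Matrix.SpecialLinearGroup.map φ v) : PSL2 F) = 1 ↔ _
    rw [QuotientGroup.eq_one_iff, mem_center_iff']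
    constructor
    · rintro (h | h)
      · left
        apply Subtype.ext; ext i j
        apply φ.injective
        have := congrArg (fun m : SL2 F => m.1 i j) h
        simp at this
        rw [this]
        by_cases hij : i = j <;> simp [Matrix.one_apply, hij]
      · right
        apply Subtype.ext; ext i j
        apply φ.injective
        have := congrArg (fun m : SL2 F => m.1 i j) h
        simp at this
        rw [this]
        by_cases hij : i = j <;> simp [Matrix.one_apply, hij]
    · rintro (rfl | rfl)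
      · exact Or.inl (map_one _)
      · right
        apply Subtype.ext; ext i j
        by_cases hij : i = j <;> simp [Matrix.one_apply, hij]
  exact ⟨QuotientGroup.lift _ g hker.ge, (QuotientGroup.injective_lift_iff _ _ _).2 hker.symm⟩

/-- An embedding of finite fields from the cardinalities. -/
theorem exists_ringHom_of_card_pow {L : Type*} [Field L] [Finite L] {m : ℕ}
    (h : Nat.card L ^ m = Nat.card F) : Nonempty (L →+* F) := by
  obtain ⟨p, hp⟩ := CharP.exists L
  have : Fact p.Prime := ⟨CharP.char_is_prime L p⟩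
  have := Fintype.ofFinite L
  have := Fintype.ofFinite F
  obtain ⟨l, hl, hcl⟩ := FiniteField.card L p
  obtain ⟨p', hp'⟩ := CharP.exists F
  have : Fact p'.Prime := ⟨CharP.char_is_prime F p'⟩
  obtain ⟨n, hn, hcn⟩ := FiniteField.card F p'
  rw [Nat.card_eq_fintype_card, Nat.card_eq_fintype_card, hcl, hcn, ← pow_mul] at h
  have hm : m ≠ 0 := by
    rintro rfl
    rw [mul_zero, pow_zero] at h
    exact (Nat.one_lt_pow n.pos.ne' hn.one_lt).ne h
  obtain rfl : p = p' := by
    have hd : p ∣ p' ^ (n : ℕ) := h ▸ dvd_pow_self p (mul_ne_zero l.pos.ne' hm)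
    exact (Nat.prime_dvd_prime_iff_eq (Fact.out : p.Prime) (Fact.out : p'.Prime)).1
      ((Fact.out : p.Prime).dvd_of_dvd_pow hd)
  have hln : (n : ℕ) = l * m := (Nat.pow_right_injective (Fact.out : p.Prime).two_le h).symm
  letI : Algebra (ZMod p) L := ZMod.algebra _ _
  letI : Algebra (ZMod p) F := ZMod.algebra _ _
  have hfl : Module.finrank (ZMod p) L = l := by
    apply Nat.pow_right_injective (Fact.out : p.Prime).two_le
    simpa [FiniteField.pow_finrank_eq_card p L] using hcl
  have hfn : Module.finrank (ZMod p) F = n := by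
    apply Nat.pow_right_injective (Fact.out : p.Prime).two_le
    simpa [FiniteField.pow_finrank_eq_card p F] using hcn
  obtain ⟨f⟩ := FiniteField.nonempty_algHom_of_finrank_dvd (F := ZMod p) (K := L) (L := F)
    (by rw [hfl, hfn, hln]; exact Dvd.intro m rfl)
  exact ⟨f.toRingHom⟩

theorem exists_psl_subfield_sub {L : Type*} [Field L] [Finite L] {m : ℕ}
    (h : Nat.card L ^ m = Nat.card F) :
    ∃ H : Subgroup (PSL2 F), Nonempty (H ≃* PSL2 L) := by
  obtain ⟨φ⟩ := exists_ringHom_of_card_pow h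
  obtain ⟨f, hf⟩ := exists_pslMap φ
  exact ⟨f.range, ⟨(MonoidHom.ofInjective hf).symm⟩⟩

omit [Finite F] in
/-- A transformation with square determinant comes from `PSL_2`. -/
theorem mem_range_toPGL {a b c d : F} {h : a * d - b * c ≠ 0} (hs : IsSquare (a * d - b * c)) :
    mob a b c d h ∈ (ProjectiveSpecialLinearGroup.toPGL : PSL2 F →* PGL2 F).range := by
  obtain ⟨r, hr⟩ := hs
  have hr0 : r ≠ 0 := fun e => h (by rw [hr, e, mul_zero])
  obtain ⟨s, hs⟩ : ∃ s : SL2 F, s.1 = !![a / r, b / r; c / r, d / r] :=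
    ⟨⟨!![a / r, b / r; c / r, d / r], by
      rw [Matrix.det_fin_two_of]; field_simp; linear_combination hr⟩, rfl⟩
  refine ⟨QuotientGroup.mk s, ?_⟩
  rw [ProjectiveSpecialLinearGroup.toPGL_mk, mob, ProjGenLinGroup.mk_eq_mk_iff]
  refine ⟨Units.mk0 r hr0, Units.ext ?_⟩
  rw [Units.val_mul, Matrix.SpecialLinearGroup.coe_GL_coe_matrix, hs]
  ext i j
  fin_cases i <;> fin_cases j <;>
    simp [Matrix.mul_apply, Fin.sum_univ_two, div_mul_cancel₀ _ hr0]

theorem exists_pgl_subfield_sub {L : Type*} [Field L] [Finite L] {m : ℕ}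
    (h : Nat.card L ^ m = Nat.card F) (hm : Even m) :
    ∃ H : Subgroup (PSL2 F), Nonempty (H ≃* PGL2 L) := by
  obtain ⟨φ⟩ := exists_ringHom_of_card_pow h
  have hsq : ∀ u : L, IsSquare (φ u) := by
    intro u
    by_cases hu : u = 0
    · exact ⟨0, by simp [hu]⟩
    have := Fintype.ofFinite F
    have := Fintype.ofFinite L
    by_cases h2 : ringChar F = 2
    · exact FiniteField.isSquare_of_char_two h2 _
    rw [FiniteField.isSquare_iff h2 ((map_ne_zero φ).2 hu), ← map_pow, ← map_one φ]
    congr 1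
    obtain ⟨k, rfl⟩ := hm
    rw [← two_mul, pow_mul, Nat.card_eq_fintype_card, Nat.card_eq_fintype_card] at h
    obtain ⟨i, hi⟩ : ∃ i, Fintype.card L = 2 * i + 1 := by
      have hF := FiniteField.odd_card_of_char_ne_two h2
      rcases Nat.even_or_odd (Fintype.card L) with he | ho
      · exfalso
        rcases Nat.eq_zero_or_pos k with rfl | hk
        · rw [pow_zero] at h
          exact Fintype.one_lt_card.ne h
        · have : Even (Fintype.card F) := h ▸ Nat.even_pow.2 ⟨Nat.even_pow.2 ⟨he, two_ne_zero⟩, hk.ne'⟩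
          rw [Nat.even_iff] at this
          omega
      · obtain ⟨i, hi⟩ := ho; exact ⟨i, hi⟩
    obtain ⟨t, ht⟩ : (Fintype.card L - 1) * 2 ∣ Fintype.card F - 1 := by
      refine Dvd.dvd.trans ⟨i + 1, ?_⟩ (h ▸ ⟨∑ x ∈ Finset.range k, (Fintype.card L ^ 2) ^ x, by
        rw [mul_comm, geom_sum_mul_of_one_le (Nat.one_le_pow _ _ Fintype.card_pos)]⟩ :
          Fintype.card L ^ 2 - 1 ∣ Fintype.card F - 1)
      rw [GLOrder.sq_sub_one, hi, Nat.add_sub_cancel]
      ring
    obtain ⟨j, hj⟩ : ∃ j, Fintype.card F / 2 = (Fintype.card L - 1) * j := by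
      refine ⟨t, ?_⟩
      have hF := FiniteField.odd_card_of_char_ne_two h2
      rw [mul_right_comm] at ht
      omega
    rw [hj, pow_mul, FiniteField.pow_card_sub_one_eq_one u hu, one_pow]
  have hrange : ∀ x : PGL2 L, ProjGenLinGroup.map φ x ∈
      (ProjectiveSpecialLinearGroup.toPGL : PSL2 F →* PGL2 F).range := by
    intro x
    obtain ⟨a, b, c, d, hd, rfl⟩ := exists_mob x
    rw [map_mob]
    apply mem_range_toPGL
    rw [← map_mul, ← map_mul, ← map_sub]
    exact hsq _
  let f : PGL2 L →* PSL2 F :=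
    (MonoidHom.ofInjective ProjectiveSpecialLinearGroup.toPGL_injective).symm.toMonoidHom.comp
      ((ProjGenLinGroup.map φ).codRestrict _ hrange)
  have hf : Function.Injective f := by
    intro x y e
    have e' := (MonoidHom.ofInjective (ProjectiveSpecialLinearGroup.toPGL_injective
      (n := Fin 2) (R := F))).symm.injective e
    exact pgl_map_injective φ (congrArg Subtype.val e')
  exact ⟨f.range, ⟨(MonoidHom.ofInjective hf).symm⟩⟩

/-! ### Square criteria -/

omit [Finite F] in
theorem exists_lin_pow_five (g : SL2 F) :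
    g.1 ^ 5 = lin g (-(tr g ^ 3 - 2 * tr g)) (tr g ^ 4 - 3 * tr g ^ 2 + 1) := by
  have h1 : g.1 = lin g 0 1 := by simp [lin]
  rw [show g.1 ^ 5 = g.1 * g.1 * g.1 * g.1 * g.1 by simp [pow_succ]]
  conv_lhs => rw [h1]
  simp only [lin_mul_lin]
  congr 1 <;> ring

omit [Finite F] in
theorem lin_right_zero {g : SL2 F} (hg : g ∉ Subgroup.center (SL2 F)) {a b a' b' : F}
    (h : lin g a b = lin g a' b') : b = b' := by
  by_contra hne
  apply hg
  rw [mem_center_iff']
  have h01 := congrFun (congrFun h 0) 1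
  have h10 := congrFun (congrFun h 1) 0
  have h00 := congrFun (congrFun h 0) 0
  have h11 := congrFun (congrFun h 1) 1
  simp [lin] at h01 h10 h00 h11
  have e01 : g.1 0 1 = 0 := h01.resolve_left hne
  have e10 : g.1 1 0 = 0 := h10.resolve_left hne
  have e : g.1 0 0 = g.1 1 1 :=
    mul_left_cancel₀ (sub_ne_zero.2 hne) (by linear_combination h00 - h11)
  have hd := det_eq g
  rw [e01, zero_mul, sub_zero, ← e] at hd
  rcases mul_self_eq_one_iff.1 hd with h | h
  · left; ext i j; fin_cases i <;> fin_cases j <;> simp [e01, e10, ← e, h]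
  · right; ext i j; fin_cases i <;> fin_cases j <;> simp [e01, e10, ← e, h]

/-- `5` is a square (`w^2 = 1 + w` is solvable) when `5 ∣ q (q^2 - 1)`, `q` odd. -/
theorem exists_sq_eq_one_add (h2 : (2 : F) ≠ 0) (h : 5 ∣ Nat.card F * (Nat.card F ^ 2 - 1)) :
    ∃ w : F, w ^ 2 = 1 + w := by
  have := Fintype.ofFinite F
  have h5p : Nat.Prime 5 := by norm_num
  rw [GLOrder.sq_sub_one] at h
  rcases h5p.dvd_mul.1 h with h | h
  · obtain ⟨p, hp⟩ := CharP.exists F
    have : Fact p.Prime := ⟨CharP.char_is_prime F p⟩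
    obtain ⟨n, hn, hc⟩ := FiniteField.card F p
    rw [Nat.card_eq_fintype_card, hc] at h
    obtain rfl : 5 = p := (Nat.prime_dvd_prime_iff_eq h5p hn).1 (h5p.dvd_of_dvd_pow h)
    refine ⟨3, ?_⟩
    have h5 : (5 : F) = 0 := by exact_mod_cast CharP.cast_eq_zero F 5
    linear_combination h5
  · obtain ⟨g, hg⟩ := GLOrder.exists_orderOf_SL_two (F := F) (d := 5) (by
      rcases h5p.dvd_mul.1 h with h | h
      · exact Or.inr h
      · exact Or.inl h)
    have hnc : g ∉ Subgroup.center (SL2 F) := by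
      rw [mem_center_iff']
      rintro (e | e) <;> rw [e] at hg
      · rw [orderOf_one] at hg; omega
      · have hd : orderOf (-1 : SL2 F) ∣ 2 := orderOf_dvd_of_pow_eq_one (neg_one_sq)
        rw [hg] at hd; omega
    have h' : lin g (-(tr g ^ 3 - 2 * tr g)) (tr g ^ 4 - 3 * tr g ^ 2 + 1) = lin g 1 0 := by
      rw [← exists_lin_pow_five, ← Matrix.SpecialLinearGroup.coe_pow, ← hg, pow_orderOf_eq_one]
      simp [lin]
    have ht := lin_right_zero hnc h'
    rcases mul_eq_zero.1 (show (tr g ^ 2 - tr g - 1) * (tr g ^ 2 + tr g - 1) = 0 by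
      linear_combination ht) with e | e
    · exact ⟨tr g, by linear_combination e⟩
    · exact ⟨-tr g, by linear_combination e⟩

/-- `2` is a square when `q^2 ≡ 1 (mod 16)`. -/
theorem exists_sq_eq_two (h : Nat.card F % 8 = 1 ∨ Nat.card F % 8 = 7) : ∃ w : F, w ^ 2 = 2 := by
  have := Fintype.ofFinite F
  have hne : ringChar F ≠ 2 := by
    intro hc
    have := (FiniteField.even_card_iff_char_two (F := F)).1 hc
    rw [Nat.card_eq_fintype_card] at h
    omega
  obtain ⟨w, hw⟩ : IsSquare (2 : F) :=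
    (FiniteField.isSquare_two_iff (F := F)).2 (by rw [Nat.card_eq_fintype_card] at h; omega)
  exact ⟨w, by rw [hw, sq]⟩

end Cfsg.Agent.PSL2
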