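/-
Consequences of Dickson's list that are used by many statements.

Main results (namespace `Cfsg.Agent.PSL2`):
* `q_cases`, `two_ne_zero_iff_odd`    : parity bookkeeping for `q`, `p` and `d = gcd(2, q-1)`
* `card_alt_four`, `card_perm_four`, `card_alt_five`
* `mulEquiv_alternatingFive_of_four`  : `PSL_2(4) ≅ A_5`
* `exists_alternatingFour_sub_iff`, `exists_permFour_sub_iff`, `exists_alternatingFive_sub_iff`
* `psl_card_bound`                    : the orders occurring in Dickson's list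
-/
import Cfsg.Agent.Lib.PSL2.Existence

set_option autoImplicit false
set_option linter.unusedSectionVars false
set_option linter.dupNamespace false

open Matrix MulAction Subgroup
open scoped LinearAlgebra.Projectivization Classical

namespace Cfsg.Agent.PSL2

theorem card_alt_four : Nat.card (alternatingGroup (Fin 4)) = 12 := by
  rw [nat_card_alternatingGroup, Nat.card_fin]; rfl

theorem card_alt_five : Nat.card (alternatingGroup (Fin 5)) = 60 := by
  rw [nat_card_alternatingGroup, Nat.card_fin]; rfl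

theorem card_perm_four : Nat.card (Equiv.Perm (Fin 4)) = 24 := by
  rw [Nat.card_perm, Nat.card_fin]; rfl

/-- `A_4` is a subgroup of `A_5`. -/
theorem exists_altFour_in_altFive :
    ∃ f : alternatingGroup (Fin 4) →* alternatingGroup (Fin 5), Function.Injective f := by
  let g : Equiv.Perm (Fin 4) →* Equiv.Perm (Fin 5) :=
    Equiv.Perm.extendDomainHom (Fin.castLEquiv (show 4 ≤ 5 by norm_num) : Fin 4 ≃ {i : Fin 5 // (i : ℕ) < 4})
  have hg : ∀ x, Equiv.Perm.sign (g x) = Equiv.Perm.sign x := fun x =>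
    Equiv.Perm.sign_extendDomain x _
  let f : alternatingGroup (Fin 4) →* alternatingGroup (Fin 5) :=
    (g.comp (alternatingGroup (Fin 4)).subtype).codRestrict _ fun x => by
      rw [Equiv.Perm.mem_alternatingGroup, MonoidHom.comp_apply, hg]
      exact Equiv.Perm.mem_alternatingGroup.1 x.2
  exact ⟨f, fun x y h => Subtype.ext
    (Equiv.Perm.extendDomainHom_injective _ (congrArg Subtype.val h))⟩

variable {F : Type*} [Field F] [Finite F]

theorem q_cases (p : ℕ) [Fact p.Prime] [CharP F p] :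
    ∃ n : ℕ, 1 ≤ n ∧ Nat.card F = p ^ n ∧
      ((p = 2 ∧ Even (Nat.card F) ∧ Nat.gcd 2 (Nat.card F - 1) = 1 ∧ (2 : F) = 0) ∨
       (p ≠ 2 ∧ Odd (Nat.card F) ∧ Nat.gcd 2 (Nat.card F - 1) = 2 ∧ (2 : F) ≠ 0)) := by
  have := Fintype.ofFinite F
  obtain ⟨n, hn, hc⟩ := FiniteField.card F p
  rw [← Nat.card_eq_fintype_card] at hc
  refine ⟨n, n.pos, hc, ?_⟩
  have hq1 : 1 < Nat.card F := Finite.one_lt_card
  by_cases hp : p = 2
  · subst hp
    have he : Even (Nat.card F) := hc ▸ Nat.even_pow.2 ⟨even_two, n.pos.ne'⟩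
    refine Or.inl ⟨rfl, he, ?_, ?_⟩
    · rw [Nat.even_iff] at he
      exact Nat.prime_two.coprime_iff_not_dvd.2 (by omega)
    · exact_mod_cast CharP.cast_eq_zero F 2
  · have ho : Odd (Nat.card F) := hc ▸ (hn.odd_of_ne_two hp).pow
    refine Or.inr ⟨hp, ho, ?_, ?_⟩
    · obtain ⟨i, hi⟩ := ho; exact Nat.gcd_eq_left (by omega)
    · intro h
      exact hp (CharP.eq F inferInstance (CharTwo.of_one_ne_zero_of_two_eq_zero one_ne_zero h))

theorem two_ne_zero_iff_odd : (2 : F) ≠ 0 ↔ Odd (Nat.card F) := by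
  obtain ⟨p, hp⟩ := CharP.exists F
  have : Fact p.Prime := ⟨CharP.char_is_prime F p⟩
  obtain ⟨n, -, -, ⟨-, he, -, h2⟩ | ⟨-, ho, -, h2⟩⟩ := q_cases (F := F) p
  · exact ⟨fun h => absurd h2 h, fun h => absurd he (Nat.not_even_iff_odd.2 h)⟩
  · exact ⟨fun _ => ho, fun _ => h2⟩

/-- `PSL_2(4)` is `A_5`. -/
theorem mulEquiv_alternatingFive_of_four (h : Nat.card F = 4) :
    Nonempty (PSL2 F ≃* alternatingGroup (Fin 5)) := by
  have hcard : Nat.card (PSL2 F) = 60 := by
    have := card_psl_mul (F := F)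
    rw [h] at this
    simpa using this
  obtain ⟨p, hp⟩ := CharP.exists F
  have : Fact p.Prime := ⟨CharP.char_is_prime F p⟩
  obtain ⟨n, -, -, ⟨rfl, -, hd, -⟩ | ⟨-, ho, -, -⟩⟩ := q_cases (F := F) p
  swap
  · rw [h] at ho; exact absurd ho (by decide)
  refine mulEquiv_alternatingFive hcard (fun x => ?_) ?_
  · rcases psl_orderOf_cases 2 x with hx | hx | hx
    · rw [h] at hx
      rcases (Nat.dvd_prime Nat.prime_three).1 (show orderOf x ∣ 3 by simpa using hx) with e | e <;>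
        simp [e]
    · rw [h] at hx
      rcases (Nat.dvd_prime Nat.prime_five).1 (show orderOf x ∣ 5 by simpa using hx) with e | e <;>
        simp [e]
    · rcases (Nat.dvd_prime Nat.prime_two).1 hx with e | e <;> simp [e]
  · intro hone
    have : IsSimpleGroup (PSL2 F) :=
      Matrix.ProjectiveSpecialLinearGroup.rank_two_simple (by rw [h])
    obtain ⟨hsub, -⟩ := Nat.card_eq_one_iff_unique.1 hone
    have := Fact.mk Nat.prime_five
    obtain ⟨P⟩ := (inferInstance : Nonempty (Sylow 5 (PSL2 F)))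
    have hP5 : Nat.card (P : Subgroup (PSL2 F)) = 5 := by
      rw [SmallOrders.card_sylow_subgroup (e := 1) (m := 12) (by rw [hcard]; norm_num) (by norm_num) P,
        pow_one]
    rcases P.normal_of_subsingleton.eq_bot_or_eq_top with e | e
    · rw [e, Subgroup.card_bot] at hP5; omega
    · rw [e, Subgroup.card_top, hcard] at hP5; omega

theorem four_pow_of_even {n : ℕ} (hc : Nat.card F = 2 ^ n) (hn : Even n) :
    ∃ H : Subgroup (PSL2 F), Nonempty (H ≃* alternatingGroup (Fin 5)) := by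
  obtain ⟨k, rfl⟩ := hn
  have hL : Nat.card (GaloisField 2 2) = 4 := by rw [GaloisField.card 2 2 two_ne_zero]; rfl
  obtain ⟨H, ⟨e⟩⟩ := exists_psl_subfield_sub (F := F) (L := GaloisField 2 2) (m := k)
    (by rw [hL, hc, show (4 : ℕ) = 2 ^ 2 from rfl, ← pow_mul]; ring_nf)
  obtain ⟨f⟩ := mulEquiv_alternatingFive_of_four hL
  exact ⟨H, ⟨e.trans f⟩⟩

theorem exists_alternatingFour_sub_iff (p n : ℕ) [Fact p.Prime] [CharP F p]
    (hF : Nat.card F = p ^ n) :
    (∃ H : Subgroup (PSL2 F), Nonempty (H ≃* alternatingGroup (Fin 4))) ↔ ¬ (p = 2 ∧ Odd n) := by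
  constructor
  · rintro ⟨H, ⟨e⟩⟩ ⟨rfl, hn⟩
    -- no elements of order three normalise a four-group: use the list
    have hcard : Nat.card H = 12 := (Nat.card_congr e.toEquiv).trans card_alt_four
    have h2 : 2 ∣ Nat.card H := by rw [hcard]; norm_num
    obtain ⟨n', -, hc', ⟨-, -, hd, -⟩ | ⟨h, -⟩⟩ := q_cases (F := F) 2
    swap
    · exact h rfl
    rcases psl_dickson 2 H with ⟨-, S, hS⟩ | ⟨h, -⟩ | ⟨m, -, h2m, -, hm, -, -⟩ | ⟨h, -⟩ |
      ⟨h, -, -⟩ | ⟨R, m, -, hR, ⟨⟨f⟩⟩ | ⟨h, -⟩⟩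
    · -- the Borel subgroup has no element of order three
      obtain ⟨P, hP⟩ := normalizer_sylow_le 2 S
      have hdvd := Subgroup.card_dvd_of_le (hS.trans hP)
      have hB := card_borel_mul (F := F) P
      rw [hd, one_mul] at hB
      rw [hcard, hB, hF] at hdvd
      have h3 : 3 ∣ 2 ^ n - 1 :=
        (Nat.Coprime.pow_right n (by norm_num : Nat.Coprime 3 2)).dvd_of_dvd_mul_left
          (Dvd.dvd.trans (by norm_num) hdvd)
      obtain ⟨j, rfl⟩ := hn
      have h32 : 2 ^ (2 * j + 1) % 3 = 2 := by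
        rw [pow_succ, pow_mul, Nat.mul_mod, Nat.pow_mod]; norm_num
      have := Nat.one_le_two_pow (n := 2 * j + 1)
      obtain ⟨i, hi⟩ := h3
      generalize 2 ^ (2 * j + 1) = X at hi h32 this
      omega
    · exact h h2
    · have : m = 6 := by omega
      exact h2m (this ▸ by norm_num)
    · exact h h2
    · exact absurd h (by norm_num)
    · have h' := (Nat.card_congr f.toEquiv).symm.trans hcard
      have hc := card_psl_mul (F := R)
      rw [h'] at hc
      obtain ⟨l, -, hl, ⟨-, -, hd', -⟩ | ⟨h, -⟩⟩ := q_cases (F := R) 2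
      swap
      · exact h rfl
      rw [hd', one_mul, hl] at hc
      rcases Nat.lt_or_ge l 2 with hl2 | hl2
      · interval_cases l <;> norm_num at hc
      · have h4 : 4 ≤ 2 ^ l := (Nat.pow_le_pow_right two_pos hl2).trans' (by norm_num)
        have : 4 * ((4 + 1) * (4 - 1)) ≤ 2 ^ l * ((2 ^ l + 1) * (2 ^ l - 1)) :=
          Nat.mul_le_mul h4 (Nat.mul_le_mul (by omega) (by omega))
        omega
    · exact h rfl
  · intro h
    by_cases hp : p = 2
    · subst hp
      obtain ⟨H, ⟨e⟩⟩ := four_pow_of_even hF (Nat.not_odd_iff_even.1 fun ho => h ⟨rfl, ho⟩)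
      obtain ⟨f, hf⟩ := exists_altFour_in_altFive
      let g : alternatingGroup (Fin 4) →* PSL2 F := H.subtype.comp (e.symm.toMonoidHom.comp f)
      have hg : Function.Injective g := Subtype.coe_injective.comp (e.symm.injective.comp hf)
      exact ⟨g.range, ⟨(MonoidHom.ofInjective hg).symm⟩⟩
    · obtain ⟨n', -, -, ⟨h', -⟩ | ⟨-, -, -, h2⟩⟩ := q_cases (F := F) p
      · exact absurd h' hp
      · exact exists_alternatingFour_sub h2

theorem exists_permFour_sub_iff :
    (∃ H : Subgroup (PSL2 F), Nonempty (H ≃* Equiv.Perm (Fin 4))) ↔ Nat.card F ^ 2 % 16 = 1 := by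
  obtain ⟨p, hp⟩ := CharP.exists F
  have : Fact p.Prime := ⟨CharP.char_is_prime F p⟩
  obtain ⟨n, hn, hc, hcase⟩ := q_cases (F := F) p
  have hsq : Nat.card F ^ 2 % 16 = 1 ↔ Nat.card F % 8 = 1 ∨ Nat.card F % 8 = 7 := by
    rw [Nat.pow_mod]
    have : Nat.card F % 16 < 16 := Nat.mod_lt _ (by norm_num)
    interval_cases h : Nat.card F % 16 <;> simp <;> omega
  rw [hsq]
  constructor
  · rintro ⟨H, ⟨e⟩⟩
    have ho : orderOf (finRotate 4) = 4 := orderOf_eq_prime_pow (p := 2) (n := 1) (by decide) (by decide)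
    have ho' : orderOf ((e.symm (finRotate 4) : H) : PSL2 F) = 4 := by
      rw [Subgroup.orderOf_coe, MulEquiv.orderOf_eq, ho]
    have h := psl_orderOf_cases p ((e.symm (finRotate 4) : H) : PSL2 F)
    rw [ho'] at h
    have h4p : ¬ (4 ∣ p) := fun h4 => by
      have := ((Fact.out : p.Prime).eq_one_or_self_of_dvd 4 h4).resolve_left (by norm_num)
      exact absurd (this ▸ (Fact.out : p.Prime)) (by norm_num)
    have hq1 : 1 < Nat.card F := Finite.one_lt_card
    rcases hcase with ⟨-, he, hd, -⟩ | ⟨-, ho, hd, -⟩ <;> rw [hd] at h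
    · rw [Nat.even_iff] at he
      rcases h with h | h | h
      · omega
      · omega
      · exact absurd h h4p
    · rw [Nat.odd_iff] at ho
      rcases h with h | h | h
      · left; omega
      · right; omega
      · exact absurd h h4p
  · intro h
    refine exists_permFour_sub ?_ (exists_sq_eq_two h)
    rw [two_ne_zero_iff_odd, Nat.odd_iff]
    omega

theorem exists_alternatingFive_sub_iff :
    (∃ H : Subgroup (PSL2 F), Nonempty (H ≃* alternatingGroup (Fin 5))) ↔
      5 ∣ Nat.card F * (Nat.card F ^ 2 - 1) := by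
  constructor
  · rintro ⟨H, ⟨e⟩⟩
    have hcard : Nat.card H = 60 := (Nat.card_congr e.toEquiv).trans card_alt_five
    have h := Subgroup.card_subgroup_dvd_card H
    rw [hcard] at h
    have h' : 5 ∣ Nat.card (PSL2 F) := Dvd.dvd.trans (by norm_num) h
    have hmul := card_psl_mul (F := F)
    rw [GLOrder.sq_sub_one, ← hmul]
    exact h'.mul_left _
  · intro h
    by_cases h2 : (2 : F) = 0
    · obtain ⟨p, hp⟩ := CharP.exists F
      have : Fact p.Prime := ⟨CharP.char_is_prime F p⟩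
      obtain ⟨n, hn, hc, ⟨rfl, -, -, -⟩ | ⟨-, -, -, h2'⟩⟩ := q_cases (F := F) p
      swap
      · exact absurd h2 h2'
      refine four_pow_of_even hc ?_
      by_contra hne
      obtain ⟨j, rfl⟩ := Nat.not_even_iff_odd.1 hne
      rw [hc] at h
      rcases (Nat.Prime.dvd_mul (by norm_num)).1 h with h | h
      · exact absurd ((Nat.prime_dvd_prime_iff_eq (by norm_num) Nat.prime_two).1
          (Nat.Prime.dvd_of_dvd_pow (by norm_num) h)) (by norm_num)
      · have h5 : (2 ^ (2 * j + 1)) ^ 2 % 5 = 4 := by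
          rw [← pow_mul, show (2 * j + 1) * 2 = 4 * j + 2 by ring, pow_add, pow_mul, Nat.mul_mod,
            Nat.pow_mod]
          norm_num
        have := Nat.one_le_pow 2 _ (Nat.two_pow_pos (2 * j + 1))
        omega
    · exact exists_alternatingFive_sub h2 (exists_sq_eq_one_add h2 h)

/-- The orders of the subgroups in Dickson's list. -/
theorem psl_card_bound (p : ℕ) [Fact p.Prime] [CharP F p] (H : Subgroup (PSL2 F)) :
    (∃ P : Pt F, H ≤ stabilizer (PSL2 F) P) ∨
    Nat.card H * Nat.gcd 2 (Nat.card F - 1) ≤ 2 * (Nat.card F + 1) ∨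
    ((Nat.card H = 12 ∨ Nat.card H = 24 ∧ Nat.card F ^ 2 % 16 = 1 ∨
        Nat.card H = 60 ∧ 5 ∣ Nat.card F * (Nat.card F ^ 2 - 1)) ) ∨
    (∃ (r m : ℕ), 2 ≤ r ∧ 1 ≤ m ∧ r ^ m = Nat.card F ∧ (p = 2 ↔ Even r) ∧
      ((Nat.gcd 2 (r - 1) * Nat.card H = r * ((r + 1) * (r - 1))) ∨
        (p ≠ 2 ∧ Even m ∧ Nat.card H = r * ((r + 1) * (r - 1))))) := by
  have hq1 : 1 < Nat.card F := Finite.one_lt_card
  have hd0 : 0 < Nat.gcd 2 (Nat.card F - 1) := Nat.gcd_pos_of_pos_left _ two_pos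
  have hle : ∀ k, (k ∣ (Nat.card F - 1) / Nat.gcd 2 (Nat.card F - 1) ∨
      k ∣ (Nat.card F + 1) / Nat.gcd 2 (Nat.card F - 1)) →
      k * Nat.gcd 2 (Nat.card F - 1) ≤ Nat.card F + 1 := by
    intro k hk
    have hd1 : Nat.gcd 2 (Nat.card F - 1) ∣ Nat.card F - 1 := Nat.gcd_dvd_right _ _
    have hd2 : Nat.gcd 2 (Nat.card F - 1) ∣ Nat.card F + 1 := by
      have h := Nat.dvd_add hd1 (Nat.gcd_dvd_left 2 (Nat.card F - 1))
      rwa [show Nat.card F - 1 + 2 = Nat.card F + 1 by omega] at h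
    rcases hk with h | h
    · have h' := Nat.le_of_dvd (by omega) ((Nat.mul_dvd_mul_right h _).trans
        (dvd_of_eq (Nat.div_mul_cancel hd1)))
      omega
    · exact Nat.le_of_dvd (by omega) ((Nat.mul_dvd_mul_right h _).trans
        (dvd_of_eq (Nat.div_mul_cancel hd2)))
  rcases psl_dickson p H with ⟨-, S, hS⟩ | ⟨-, -, h⟩ | ⟨n, -, -, h, hn, -, -⟩ |
    ⟨-, ⟨⟨e⟩⟩ | ⟨⟨e⟩⟩ | ⟨⟨e⟩⟩⟩ | ⟨-, hc, ⟨e⟩⟩ | ⟨R, m, hm, hR, h⟩
  · obtain ⟨P, hP⟩ := normalizer_sylow_le p S
    exact Or.inl ⟨P, hS.trans hP⟩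
  · right; left
    have := hle _ h
    omega
  · right; left
    have := hle _ h
    rw [hn, mul_assoc]
    omega
  · exact Or.inr (Or.inr (Or.inl (Or.inl ((Nat.card_congr e.toEquiv).trans card_alt_four))))
  · exact Or.inr (Or.inr (Or.inl (Or.inr (Or.inl ⟨(Nat.card_congr e.toEquiv).trans card_perm_four,
      exists_permFour_sub_iff.1 ⟨H, ⟨e⟩⟩⟩))))
  · exact Or.inr (Or.inr (Or.inl (Or.inr (Or.inr ⟨(Nat.card_congr e.toEquiv).trans card_alt_five,
      exists_alternatingFive_sub_iff.1 ⟨H, ⟨e⟩⟩⟩))))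
  · exact Or.inr (Or.inr (Or.inl (Or.inr (Or.inr ⟨hc, exists_alternatingFive_sub_iff.1 ⟨H, ⟨e⟩⟩⟩))))
  · refine Or.inr (Or.inr (Or.inr ⟨Nat.card R, m, Finite.one_lt_card, hm, hR, ?_, ?_⟩))
    · obtain ⟨l, -, -, ⟨h2, he, -, -⟩ | ⟨h2, ho, -, -⟩⟩ := q_cases (F := R) p
      · exact ⟨fun _ => he, fun _ => h2⟩
      · exact ⟨fun h => absurd h h2, fun h => absurd h (Nat.not_even_iff_odd.2 ho)⟩
    · rcases h with ⟨⟨f⟩⟩ | ⟨hp2, hme, ⟨f⟩⟩
      · left
        rw [Nat.card_congr f.toEquiv]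
        exact card_psl_mul
      · right
        refine ⟨hp2, hme, ?_⟩
        rw [Nat.card_congr f.toEquiv, GLOrder.card_PGL_two, GLOrder.sq_sub_one]

end Cfsg.Agent.PSL2
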