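/-
Tori of `PSL_2(q)`.

An element of `SL_2` with `tr^2 ≠ 4` is studied through a root `c` of `X^2 - tr X + 1`:
it has the order of `c`, and two such elements with roots in the same cyclic group of
roots of unity are conjugate into the same cyclic subgroup.

Main results (namespace `Cfsg.Agent.PSL2`):
* `pow_eq_one_iff_root`, `orderOf_eq_orderOf_root`, `tr_pow_root` : eigenvalue calculus
* `exists_torus_conj`   : two tori (orders `(q∓1)/d`) contain every semisimple element up to conjugacy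
* `exists_torus_gen`    : a semisimple element is a power of an element of order `(q∓1)/d`
* `conj_zpowers`        : semisimple elements of equal order generate conjugate subgroups
* `mem_zpowers_of_commute_torus`, `mem_zpowers_of_commute` : centralisers of semisimple elements
* `exists_inverting`    : an involution inverting a semisimple element of order at least three
-/
import Cfsg.Agent.Lib.PSL2.Existence
import Cfsg.Agent.Lib.GLOrder.TraceCover

set_option autoImplicit false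
set_option linter.unusedSectionVars false
set_option linter.dupNamespace false

open Matrix Subgroup
open scoped Classical

namespace Cfsg.Agent.PSL2

section Root

variable {F K : Type*} [Field F] [Field K] (φ : F →+* K) {c : K}

theorem pow_lin_root (g : SL2 F) (hc : c ^ 2 - φ (tr g) * c + 1 = 0) (m : ℕ) :
    ∃ a b : F, g.1 ^ m = lin g a b ∧ c ^ m = φ a + φ b * c := by
  induction m with
  | zero => exact ⟨1, 0, by simp [lin], by simp⟩
  | succ m ih =>
    obtain ⟨a, b, h, h'⟩ := ih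
    refine ⟨-b, a + b * tr g, ?_, ?_⟩
    · rw [pow_succ, h, show lin g a b * g.1 = lin g a b * lin g 0 1 by simp [lin], lin_mul_lin]
      congr 1 <;> ring
    · rw [pow_succ, h', map_neg, map_add, map_mul]
      linear_combination φ b * hc

theorem root_ne_zero {g : SL2 F} (hc : c ^ 2 - φ (tr g) * c + 1 = 0) : c ≠ 0 := by
  rintro rfl; simp at hc

theorem inv_root {g : SL2 F} (hc : c ^ 2 - φ (tr g) * c + 1 = 0) :
    c⁻¹ ^ 2 - φ (tr g) * c⁻¹ + 1 = 0 := by
  have h0 := root_ne_zero φ hc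
  field_simp
  linear_combination hc

theorem add_inv_root {g : SL2 F} (hc : c ^ 2 - φ (tr g) * c + 1 = 0) : φ (tr g) = c + c⁻¹ := by
  have h0 := root_ne_zero φ hc
  field_simp
  linear_combination -hc

theorem root_ne_inv {g : SL2 F} (hc : c ^ 2 - φ (tr g) * c + 1 = 0) (h4 : tr g ^ 2 ≠ 4) :
    c ≠ c⁻¹ := by
  intro h
  apply h4
  apply φ.injective
  have h0 := root_ne_zero φ hc
  have h1 : c * c = 1 := by nth_rewrite 2 [h]; exact mul_inv_cancel₀ h0
  rw [map_pow, add_inv_root φ hc, ← h, map_ofNat]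
  linear_combination 4 * h1

/-- A linear combination of `1` and `g` is determined by its values at the two roots. -/
theorem lin_ext_root {g : SL2 F} (hc : c ^ 2 - φ (tr g) * c + 1 = 0) (h4 : tr g ^ 2 ≠ 4)
    {a b a' b' : F} (h1 : φ a + φ b * c = φ a' + φ b' * c)
    (h2 : φ a + φ b * c⁻¹ = φ a' + φ b' * c⁻¹) : a = a' ∧ b = b' := by
  have hne := sub_ne_zero.2 (root_ne_inv φ hc h4)
  have hb : φ b = φ b' :=
    mul_right_cancel₀ hne (by linear_combination h1 - h2)
  refine ⟨φ.injective ?_, φ.injective hb⟩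
  rw [hb] at h1
  linear_combination h1

theorem tr_pow_root (g : SL2 F) (hc : c ^ 2 - φ (tr g) * c + 1 = 0) (m : ℕ) :
    φ (tr (g ^ m)) = c ^ m + c⁻¹ ^ m := by
  induction m using Nat.twoStepInduction with
  | zero => rw [pow_zero, tr_one, map_ofNat, pow_zero, pow_zero, one_add_one_eq_two]
  | one => rw [pow_one, pow_one, pow_one, add_inv_root φ hc]
  | more m ih1 ih2 =>
    have e : tr (g ^ (m + 2)) = tr g * tr (g ^ (m + 1)) - tr (g ^ m) := by
      rw [tr_eq_trace, tr_eq_trace (g ^ (m + 1)), tr_eq_trace (g ^ m),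
        Matrix.SpecialLinearGroup.coe_pow, Matrix.SpecialLinearGroup.coe_pow,
        Matrix.SpecialLinearGroup.coe_pow, show m + 2 = m + (1 + 1) from rfl, pow_add, pow_add,
        pow_one, coe_sq, Matrix.mul_sub, Matrix.mul_smul, Matrix.mul_one, Matrix.trace_sub,
        Matrix.trace_smul, smul_eq_mul, pow_succ]
    rw [e, map_sub, map_mul, ih1, ih2]
    have h1 := inv_root φ hc
    linear_combination (-c ^ m) * hc + (-c⁻¹ ^ m) * h1

theorem not_mem_center_of_tr_sq {g : SL2 F} (h4 : tr g ^ 2 ≠ 4) :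
    g ∉ Subgroup.center (SL2 F) := by
  intro hg
  rcases mem_center_iff'.1 hg with rfl | rfl
  · exact h4 (by rw [tr_one]; norm_num)
  · exact h4 (by rw [tr_neg, tr_one]; norm_num)

/-- A non-central element and the identity are independent. -/
theorem lin_inj {g : SL2 F} (hg : g ∉ Subgroup.center (SL2 F)) {x y x' y' : F}
    (hh : lin g x y = lin g x' y') : x = x' ∧ y = y' := by
  by_cases hy : y = y'
  · subst hy
    have e00 := congrFun (congrFun hh 0) 0
    simp [lin] at e00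
    exact ⟨e00, rfl⟩
  · exfalso
    apply hg
    rw [GLOrder.center_SL2]
    have e00 := congrFun (congrFun hh 0) 0
    have e01 := congrFun (congrFun hh 0) 1
    have e10 := congrFun (congrFun hh 1) 0
    have e11 := congrFun (congrFun hh 1) 1
    simp [lin, hy] at e00 e01 e10 e11
    have hd := det_eq g
    have gd : g.1 0 0 = g.1 1 1 :=
      mul_left_cancel₀ (sub_ne_zero.2 hy) (by linear_combination e00 - e11)
    rw [e01, e10, mul_zero, sub_zero, ← gd] at hd
    rcases mul_self_eq_one_iff.1 hd with e | e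
    · left; ext i j; fin_cases i <;> fin_cases j <;> simp [e01, e10, ← gd, e]
    · right; ext i j; fin_cases i <;> fin_cases j <;> simp [e01, e10, ← gd, e]

theorem pow_eq_one_iff_root {g : SL2 F} (hc : c ^ 2 - φ (tr g) * c + 1 = 0) (h4 : tr g ^ 2 ≠ 4)
    (m : ℕ) : g ^ m = 1 ↔ c ^ m = 1 := by
  obtain ⟨a, b, h, h'⟩ := pow_lin_root φ g hc m
  obtain ⟨a', b', h1, h1'⟩ := pow_lin_root φ g (inv_root φ hc) m
  have hng : g ∉ Subgroup.center (SL2 F) := by
    intro hg
    rcases mem_center_iff'.1 hg with rfl | rfl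
    · exact h4 (by rw [tr_one]; norm_num)
    · exact h4 (by rw [tr_neg, tr_one]; norm_num)
  have huniq : ∀ x y x' y' : F, lin g x y = lin g x' y' → x = x' ∧ y = y' := fun _ _ _ _ hh => lin_inj hng hh
  obtain ⟨rfl, rfl⟩ := huniq _ _ _ _ (h1.symm.trans h)
  constructor
  · intro hg
    have hl : lin g a' b' = lin g 1 0 := by
      rw [← h, ← Matrix.SpecialLinearGroup.coe_pow, hg]
      simp [lin]
    obtain ⟨rfl, rfl⟩ := huniq _ _ _ _ hl
    simp [h']
  · intro hm
    rw [hm] at h'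
    rw [inv_pow, hm, inv_one] at h1'
    obtain ⟨rfl, rfl⟩ := lin_ext_root φ hc h4 (a := a') (b := b') (a' := 1) (b' := 0)
      (by simp [← h']) (by simp [← h1'])
    apply Subtype.ext
    rw [Matrix.SpecialLinearGroup.coe_pow, h]
    simp [lin]

theorem orderOf_eq_orderOf_root {g : SL2 F} (hc : c ^ 2 - φ (tr g) * c + 1 = 0)
    (h4 : tr g ^ 2 ≠ 4) : orderOf g = orderOf c :=
  Nat.dvd_antisymm
    (orderOf_dvd_of_pow_eq_one ((pow_eq_one_iff_root φ hc h4 _).2 (pow_orderOf_eq_one c)))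
    (orderOf_dvd_of_pow_eq_one ((pow_eq_one_iff_root φ hc h4 _).1 (pow_orderOf_eq_one g)))

theorem exists_root [IsAlgClosed K] (g : SL2 F) : ∃ c : K, c ^ 2 - φ (tr g) * c + 1 = 0 := by
  obtain ⟨c, hc⟩ := IsAlgClosed.exists_root
    (Polynomial.X ^ 2 - Polynomial.C (φ (tr g)) * Polynomial.X + 1 : Polynomial K) (by
      rw [show (Polynomial.X ^ 2 - Polynomial.C (φ (tr g)) * Polynomial.X + 1 : Polynomial K) =
        Polynomial.C 1 * Polynomial.X ^ 2 + Polynomial.C (-φ (tr g)) * Polynomial.X +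
          Polynomial.C 1 by simp; ring, Polynomial.degree_quadratic one_ne_zero]
      decide)
  exact ⟨c, by simpa using hc⟩

end Root

section Finite

variable {F : Type*} [Field F] [Finite F]

/-- The order of the image in `PSL_2` of an element of order `N`, `d ∣ N`. -/
theorem orderOf_mk_eq {T : SL2 F} {N : ℕ} (hT : orderOf T = N)
    (hd : Nat.gcd 2 (Nat.card F - 1) ∣ N) :
    orderOf (QuotientGroup.mk T : PSL2 F) = N / Nat.gcd 2 (Nat.card F - 1) := by
  have hk : (QuotientGroup.mk T : PSL2 F) ^ orderOf (QuotientGroup.mk T : PSL2 F) = 1 :=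
    pow_orderOf_eq_one _
  rw [← QuotientGroup.mk_pow, mk_eq_one_iff] at hk
  set k := orderOf (QuotientGroup.mk T : PSL2 F)
  have hN : T ^ N = 1 := hT ▸ pow_orderOf_eq_one T
  rcases gcdTwo_eq (F := F) with ⟨h1, hneg⟩ | ⟨h1, hneg⟩
  · rw [h1, Nat.div_one]
    refine Nat.dvd_antisymm (orderOf_dvd_of_pow_eq_one ?_) ?_
    · rw [← QuotientGroup.mk_pow, hN, QuotientGroup.mk_one]
    · rw [hneg, or_self] at hk
      rw [← hT]
      exact orderOf_dvd_of_pow_eq_one hk
  · rw [h1] at hd ⊢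
    obtain ⟨j, rfl⟩ := hd
    rw [Nat.mul_div_cancel_left _ two_pos]
    refine Nat.dvd_antisymm (orderOf_dvd_of_pow_eq_one ?_) ?_
    · rw [← QuotientGroup.mk_pow, mk_eq_one_iff]
      refine mem_center_iff'.1 (mem_center_of_mul_self ?_ (by rw [← pow_add, ← two_mul, hN]))
      exact two_ne_zero_of_dvd (h1 ▸ Nat.gcd_dvd_right 2 (Nat.card F - 1))
    · have h : T ^ (2 * k) = 1 := by
        rw [two_mul, pow_add]
        rcases hk with e | e <;> simp [e]
      have := orderOf_dvd_of_pow_eq_one h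
      rw [hT] at this
      exact (Nat.mul_dvd_mul_iff_left two_pos).1 this

theorem gcdTwo_dvd {N : ℕ} (h : N = Nat.card F - 1 ∨ N = Nat.card F + 1) :
    Nat.gcd 2 (Nat.card F - 1) ∣ N := by
  have hq1 : 1 < Nat.card F := Finite.one_lt_card
  have hd : Nat.gcd 2 (Nat.card F - 1) ∣ Nat.card F - 1 := Nat.gcd_dvd_right _ _
  rcases h with rfl | rfl
  · exact hd
  · have h' := Nat.dvd_add hd (Nat.gcd_dvd_left 2 (Nat.card F - 1))
    rwa [show Nat.card F - 1 + 2 = Nat.card F + 1 by omega] at h'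

theorem coprime_torus :
    Nat.Coprime ((Nat.card F - 1) / Nat.gcd 2 (Nat.card F - 1))
      ((Nat.card F + 1) / Nat.gcd 2 (Nat.card F - 1)) := by
  have hq1 : 1 < Nat.card F := Finite.one_lt_card
  apply Nat.coprime_of_dvd
  intro k hk h1 h2
  have hd1 : Nat.gcd 2 (Nat.card F - 1) ∣ Nat.card F - 1 := Nat.gcd_dvd_right _ _
  have hd2 := gcdTwo_dvd (F := F) (Or.inr rfl)
  have h3 := Nat.dvd_sub (h2.trans (Nat.div_dvd_of_dvd hd2)) (h1.trans (Nat.div_dvd_of_dvd hd1))
  rw [show Nat.card F + 1 - (Nat.card F - 1) = 2 by omega] at h3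
  have hk2 : k = 2 := (Nat.prime_dvd_prime_iff_eq hk Nat.prime_two).1 h3
  subst hk2
  rcases (Nat.dvd_prime Nat.prime_two).1 (Nat.gcd_dvd_left 2 (Nat.card F - 1)) with h | h
  · rw [h, Nat.div_one] at h1
    rw [Nat.gcd_eq_left h1] at h
    omega
  · rw [h] at h1 h2 hd1
    omega

variable (p : ℕ) [Fact p.Prime] [CharP F p]

/-- An element with `tr^2 = 4` has `p`-th power `±1`. -/
theorem pow_char_of_tr_sq {g : SL2 F} (h4 : tr g ^ 2 = 4) : g ^ p = 1 ∨ g ^ p = -1 := by
  obtain ⟨s, hts, hs2⟩ : ∃ s : F, tr g = 2 * s ∧ s * s = 1 := by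
    by_cases h2 : (2 : F) = 0
    · refine ⟨1, ?_, one_mul 1⟩
      rw [h2, zero_mul, ← sq_eq_zero_iff, h4]
      linear_combination (2 : F) * h2
    · refine ⟨tr g / 2, by field_simp, ?_⟩
      field_simp
      linear_combination h4
  have h0 : (g.1 - algebraMap F _ s) ^ 2 = 0 := by
    rw [sq, sub_mul, mul_sub, mul_sub, coe_sq, ← map_mul, hs2, map_one, hts,
      Algebra.algebraMap_eq_smul_one]
    simp only [Algebra.mul_smul_comm, Algebra.smul_mul_assoc, one_mul, mul_one]
    module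
  have hp0 : (g.1 - algebraMap F _ s) ^ p = 0 := by
    rw [show p = 2 + (p - 2) by have := (Fact.out : p.Prime).two_le; omega, pow_add, h0, zero_mul]
  rw [sub_pow_char_of_commute p (Algebra.commute_algebraMap_right _ _), ← map_pow,
    sub_eq_zero] at hp0
  rcases mul_self_eq_one_iff.1 hs2 with rfl | rfl
  · left; apply Subtype.ext; simp [hp0]
  · right
    apply Subtype.ext
    rw [Matrix.SpecialLinearGroup.coe_pow, hp0, neg_one_pow_char F p, map_neg, map_one]
    simp

theorem tr_sq_ne_four_of_not_dvd {g : SL2 F}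
    (h : ¬ orderOf (QuotientGroup.mk g : PSL2 F) ∣ p) : tr g ^ 2 ≠ 4 := fun h4 =>
  h (orderOf_dvd_of_pow_eq_one (by
    rw [← QuotientGroup.mk_pow, mk_eq_one_iff]; exact pow_char_of_tr_sq p h4))

include p in
/-- An element of order `q ± 1` has `tr^2 ≠ 4`, unless that order is at most two. -/
theorem tr_sq_ne_four_of_torus {T : SL2 F} {N : ℕ} (hT : orderOf T = N)
    (hN : N = Nat.card F - 1 ∨ N = Nat.card F + 1) (hN3 : 3 ≤ N) : tr T ^ 2 ≠ 4 := by
  intro h4
  have := Fintype.ofFinite F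
  obtain ⟨e, he, hcq⟩ := FiniteField.card F p
  rw [← Nat.card_eq_fintype_card] at hcq
  have hpq : p ∣ Nat.card F := hcq ▸ dvd_pow_self p e.pos.ne'
  have hpN : Nat.Coprime N p := by
    rw [Nat.coprime_comm, (Fact.out : p.Prime).coprime_iff_not_dvd]
    intro hd
    have hq1 : 1 < Nat.card F := Finite.one_lt_card
    rcases hN with rfl | rfl
    · have h' := Nat.dvd_sub hpq hd
      rw [show Nat.card F - (Nat.card F - 1) = 1 by omega] at h'
      exact (Fact.out : p.Prime).not_dvd_one h'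
    · exact (Fact.out : p.Prime).not_dvd_one ((Nat.dvd_add_right hpq).1 hd)
  have h2p : T ^ (p * 2) = 1 := by
    rw [pow_mul]
    rcases pow_char_of_tr_sq p h4 with e | e <;> simp [e]
  have := Nat.le_of_dvd two_pos (hpN.dvd_of_dvd_mul_left (hT ▸ orderOf_dvd_of_pow_eq_one h2p))
  omega

/-- If `g` is semisimple and `g ^ N = 1`, `N = q ± 1`, then `g` is conjugate to a power of `T`. -/
theorem exists_conj_pow {g T : SL2 F} {N : ℕ} (hT : orderOf T = N)
    (hN : N = Nat.card F - 1 ∨ N = Nat.card F + 1) (hg : g ^ N = 1) (h4 : tr g ^ 2 ≠ 4) :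
    ∃ (k : SL2 F) (j : ℕ), g = k * T ^ j * k⁻¹ := by
  obtain ⟨p, hp⟩ := CharP.exists F
  have : Fact p.Prime := ⟨CharP.char_is_prime F p⟩
  let K := AlgebraicClosure F
  let φ : F →+* K := algebraMap F K
  obtain ⟨c, hc⟩ := exists_root φ g
  obtain ⟨τ, hτ⟩ := exists_root φ T
  have hN0 : 0 < N := hT ▸ orderOf_pos T
  have hcN : c ^ N = 1 := (pow_eq_one_iff_root φ hc h4 N).1 hg
  have hN3 : 3 ≤ N := by
    by_contra hlt
    have hc2 : c ^ 2 = 1 := by
      obtain rfl | rfl : N = 1 ∨ N = 2 := by omega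
      · rw [pow_one] at hcN; rw [hcN, one_pow]
      · exact hcN
    have := (pow_eq_one_iff_root φ hc h4 2).2 hc2
    rw [pow_two] at this
    by_cases h2 : (2 : F) = 0
    · have hchar : CharP F 2 := CharTwo.of_one_ne_zero_of_two_eq_zero one_ne_zero h2
      exact root_ne_inv φ hc h4 (eq_inv_of_mul_eq_one_left (by rw [← pow_two, hc2]))
    · exact not_mem_center_of_tr_sq h4 (mem_center_of_mul_self h2 this)
  have hT4 := tr_sq_ne_four_of_torus p hT hN hN3
  have : NeZero N := ⟨hN0.ne'⟩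
  have hprim : IsPrimitiveRoot τ N := by
    rw [← hT, orderOf_eq_orderOf_root φ hτ hT4]
    exact IsPrimitiveRoot.orderOf τ
  obtain ⟨j, -, hj⟩ := hprim.eq_pow_of_pow_eq_one hcN
  have htr : tr g = tr (T ^ j) := by
    apply φ.injective
    rw [tr_pow_root φ T hτ j, add_inv_root φ hc, ← hj, inv_pow]
  have hconj : IsConj (T ^ j) g := by
    by_cases h2 : (2 : F) = 0
    · have : CharP F 2 := CharTwo.of_one_ne_zero_of_two_eq_zero one_ne_zero h2
      exact GLOrder.isConj_of_trace_even htr.symm (not_mem_center_of_tr_sq (htr ▸ h4))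
        (not_mem_center_of_tr_sq h4)
    · exact GLOrder.isConj_of_trace_odd h2 htr.symm (htr ▸ h4)
  obtain ⟨k, hk⟩ := isConj_iff.1 hconj
  exact ⟨k, j, hk.symm⟩

/-- Two tori contain every semisimple element up to conjugacy. -/
theorem exists_torus_conj :
    ∃ ym yp : PSL2 F, orderOf ym = (Nat.card F - 1) / Nat.gcd 2 (Nat.card F - 1) ∧
      orderOf yp = (Nat.card F + 1) / Nat.gcd 2 (Nat.card F - 1) ∧
      ∀ x : PSL2 F, ¬ orderOf x ∣ p →
        ∃ k : PSL2 F, k * x * k⁻¹ ∈ zpowers ym ∨ k * x * k⁻¹ ∈ zpowers yp := by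
  obtain ⟨Tm, hTm⟩ := GLOrder.exists_orderOf_SL_two (F := F) (Or.inl (dvd_refl (Nat.card F - 1)))
  obtain ⟨Tp, hTp⟩ := GLOrder.exists_orderOf_SL_two (F := F) (Or.inr (dvd_refl (Nat.card F + 1)))
  refine ⟨QuotientGroup.mk Tm, QuotientGroup.mk Tp,
    orderOf_mk_eq hTm (gcdTwo_dvd (Or.inl rfl)), orderOf_mk_eq hTp (gcdTwo_dvd (Or.inr rfl)),
    fun x hx => ?_⟩
  obtain ⟨g, rfl⟩ := QuotientGroup.mk_surjective x
  have h4 := tr_sq_ne_four_of_not_dvd p hx
  have key : ∀ T : SL2 F, (∃ (k : SL2 F) (j : ℕ), g = k * T ^ j * k⁻¹) →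
      ∃ k : PSL2 F, k * QuotientGroup.mk g * k⁻¹ ∈ zpowers (QuotientGroup.mk T) := by
    rintro T ⟨k, j, rfl⟩
    refine ⟨(QuotientGroup.mk k)⁻¹, j, ?_⟩
    simp only [QuotientGroup.mk_mul, QuotientGroup.mk_inv, QuotientGroup.mk_pow, zpow_natCast]
    group
  rcases pow_card_cases p g with h | h | h
  · obtain ⟨k, hk⟩ := key Tm (exists_conj_pow hTm (Or.inl rfl) h h4)
    exact ⟨k, Or.inl hk⟩
  · obtain ⟨k, hk⟩ := key Tp (exists_conj_pow hTp (Or.inr rfl) h h4)
    exact ⟨k, Or.inr hk⟩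
  · exact absurd (orderOf_dvd_of_pow_eq_one
      (by rw [← QuotientGroup.mk_pow, mk_eq_one_iff]; exact h)) hx

include p in
/-- A semisimple element is a power of an element of order `(q ∓ 1)/d`. -/
theorem exists_torus_gen {x : PSL2 F} (hx : ¬ orderOf x ∣ p) :
    ∃ y : PSL2 F, x ∈ zpowers y ∧
      (orderOf y = (Nat.card F - 1) / Nat.gcd 2 (Nat.card F - 1) ∨
        orderOf y = (Nat.card F + 1) / Nat.gcd 2 (Nat.card F - 1)) := by
  obtain ⟨ym, yp, hm, hp, h⟩ := exists_torus_conj (F := F) p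
  obtain ⟨k, ⟨j, hj⟩ | ⟨j, hj⟩⟩ := h x hx
  · refine ⟨k⁻¹ * ym * k⁻¹⁻¹, ⟨j, ?_⟩, Or.inl ?_⟩
    · simp only at hj ⊢
      rw [conj_zpow, hj]
      group
    · rw [show k⁻¹ * ym * k⁻¹⁻¹ = MulAut.conj k⁻¹ ym from rfl, MulEquiv.orderOf_eq, hm]
  · refine ⟨k⁻¹ * yp * k⁻¹⁻¹, ⟨j, ?_⟩, Or.inr ?_⟩
    · simp only at hj ⊢
      rw [conj_zpow, hj]
      group
    · rw [show k⁻¹ * yp * k⁻¹⁻¹ = MulAut.conj k⁻¹ yp from rfl, MulEquiv.orderOf_eq, hp]

theorem zpowers_eq_of_orderOf {G : Type*} [Group G] [Finite G] {a b y : G} (ha : a ∈ zpowers y)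
    (hb : b ∈ zpowers y) (h : orderOf a = orderOf b) : zpowers a = zpowers b := by
  have : Fintype (zpowers y) := Fintype.ofFinite _
  have key : ∀ a b : G, a ∈ zpowers y → b ∈ zpowers y → orderOf a = orderOf b →
      zpowers a ≤ zpowers b := by
    intro a b ha hb h
    rw [zpowers_le]
    by_contra hn
    have hs : insert (⟨a, ha⟩ : zpowers y)
        (Finset.univ.filter fun z : zpowers y => (z : G) ∈ zpowers b) ⊆
        Finset.univ.filter fun z : zpowers y => z ^ orderOf b = 1 := by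
      intro z hz
      rw [Finset.mem_filter]
      refine ⟨Finset.mem_univ _, Subtype.ext ?_⟩
      rw [Subgroup.coe_pow, Subgroup.coe_one]
      rcases Finset.mem_insert.1 hz with rfl | hz
      · rw [← h]; exact pow_orderOf_eq_one a
      · obtain ⟨i, hi⟩ := (Finset.mem_filter.1 hz).2
        rw [← hi, ← zpow_natCast, ← _root_.zpow_mul, mul_comm, _root_.zpow_mul, zpow_natCast, pow_orderOf_eq_one,
          _root_.one_zpow]
    have h1 := (Finset.card_le_card hs).trans
      (IsCyclic.card_pow_eq_one_le (α := zpowers y) (orderOf_pos b))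
    rw [Finset.card_insert_of_notMem (by simp [hn]), ← Fintype.card_subtype,
      ← Nat.card_eq_fintype_card] at h1
    have h2 : Nat.card {z : zpowers y // (z : G) ∈ zpowers b} = orderOf b := by
      rw [← Nat.card_zpowers]
      exact Nat.card_congr (Equiv.subtypeSubtypeEquivSubtype fun {z} hz => zpowers_le.2 hb hz)
    omega
  exact le_antisymm (key a b ha hb h) (key b a hb ha h.symm)

include p in
/-- Semisimple elements of the same order generate conjugate subgroups. -/
theorem conj_zpowers {x x' : PSL2 F} (hx : ¬ orderOf x ∣ p) (h : orderOf x = orderOf x') :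
    ∃ g : PSL2 F, zpowers (g * x * g⁻¹) = zpowers x' := by
  obtain ⟨ym, yp, hm, hp, hc⟩ := exists_torus_conj (F := F) p
  obtain ⟨k, hk⟩ := hc x hx
  obtain ⟨k', hk'⟩ := hc x' (h ▸ hx)
  have ho : ∀ (k x : PSL2 F), orderOf (k * x * k⁻¹) = orderOf x := fun k x => by
    rw [show k * x * k⁻¹ = MulAut.conj k x from rfl, MulEquiv.orderOf_eq]
  have hne : orderOf x ≠ 1 := fun e => hx (e ▸ one_dvd p)
  have hmix : ∀ {a b : PSL2 F}, a ∈ zpowers ym → b ∈ zpowers yp → orderOf a = orderOf x →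
      orderOf b = orderOf x → False := by
    intro a b ha hb h1 h2
    have := Nat.dvd_gcd (h1 ▸ orderOf_dvd_of_mem_zpowers ha) (h2 ▸ orderOf_dvd_of_mem_zpowers hb)
    rw [hm, hp, coprime_torus, Nat.dvd_one] at this
    exact hne this
  have heq : zpowers (k * x * k⁻¹) = zpowers (k' * x' * k'⁻¹) := by
    rcases hk with hk | hk <;> rcases hk' with hk' | hk'
    · exact zpowers_eq_of_orderOf hk hk' (by rw [ho, ho, h])
    · exact (hmix hk hk' (ho _ _) (by rw [ho, h])).elim
    · exact (hmix hk' hk (by rw [ho, h]) (ho _ _)).elim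
    · exact zpowers_eq_of_orderOf hk hk' (by rw [ho, ho, h])
  refine ⟨k'⁻¹ * k, ?_⟩
  have := congrArg (Subgroup.map (MulAut.conj k'⁻¹).toMonoidHom) heq
  rw [MonoidHom.map_zpowers, MonoidHom.map_zpowers] at this
  simpa [MulAut.conj_apply, mul_assoc] using this

/-! ### Centralisers -/

/-- An element commuting with a generator of a torus lies in the torus. -/
theorem mem_zpowers_of_commute_sl {T z : SL2 F} {N : ℕ} (hT : orderOf T = N)
    (hN : N = Nat.card F - 1 ∨ N = Nat.card F + 1) (h4 : tr T ^ 2 ≠ 4) (hz : Commute z T) :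
    z ∈ zpowers T := by
  obtain ⟨p, hp⟩ := CharP.exists F
  have : Fact p.Prime := ⟨CharP.char_is_prime F p⟩
  have := Fintype.ofFinite F
  obtain ⟨e, he, hcq⟩ := FiniteField.card F p
  let K := AlgebraicClosure F
  let φ : F →+* K := algebraMap F K
  have : CharP K p := charP_of_injective_ringHom φ.injective p
  obtain ⟨τ, hτ⟩ := exists_root φ T
  have hng : T ∉ Subgroup.center (SL2 F) := not_mem_center_of_tr_sq h4
  obtain ⟨a, b, hab⟩ := exists_lin_of_commute hng (congrArg Subtype.val hz.eq)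
  have hdet : a ^ 2 + tr T * a * b + b ^ 2 = 1 := by rw [← det_lin, ← hab]; exact z.2
  have hτ0 := root_ne_zero φ hτ
  set E := φ a + φ b * τ with hE
  set E' := φ a + φ b * τ⁻¹ with hE'
  have hEE : E * E' = 1 := by
    have h := congrArg φ hdet
    simp only [map_add, map_mul, map_pow, map_one] at h
    rw [add_inv_root φ hτ] at h
    rw [hE, hE']
    linear_combination h + φ b ^ 2 * mul_inv_cancel₀ hτ0
  have hE0 : E ≠ 0 := left_ne_zero_of_mul_eq_one hEE
  have hN0 : 0 < N := hT ▸ orderOf_pos T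
  have hτN : τ ^ N = 1 := (pow_eq_one_iff_root φ hτ h4 N).1 (hT ▸ pow_orderOf_eq_one T)
  have hfix : ∀ x : F, φ x ^ Nat.card F = φ x := fun x => by
    rw [← map_pow, Nat.card_eq_fintype_card, FiniteField.pow_card]
  have hEq : E ^ Nat.card F = φ a + φ b * τ ^ Nat.card F := by
    rw [hE]
    rw [show Nat.card F = p ^ (e : ℕ) by rw [Nat.card_eq_fintype_card, hcq], add_pow_char_pow,
      mul_pow, show p ^ (e : ℕ) = Nat.card F by rw [Nat.card_eq_fintype_card, hcq], hfix, hfix]
  have hq1 : 1 < Nat.card F := Finite.one_lt_card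
  have hEN : E ^ N = 1 := by
    rcases hN with rfl | rfl
    · have hτq : τ ^ Nat.card F = τ := by
        conv_lhs => rw [show Nat.card F = Nat.card F - 1 + 1 by omega, pow_succ, hτN, one_mul]
      rw [hτq, ← hE, show Nat.card F = Nat.card F - 1 + 1 by omega, pow_succ] at hEq
      exact mul_right_cancel₀ hE0 (hEq.trans (one_mul _).symm)
    · have hτq : τ ^ Nat.card F = τ⁻¹ := eq_inv_of_mul_eq_one_left (by rw [← pow_succ, hτN])
      rw [hτq, ← hE'] at hEq
      rw [pow_succ, hEq, mul_comm, hEE]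
  have : NeZero N := ⟨hN0.ne'⟩
  have hprim : IsPrimitiveRoot τ N := by
    rw [← hT, orderOf_eq_orderOf_root φ hτ h4]
    exact IsPrimitiveRoot.orderOf τ
  obtain ⟨i, -, hi⟩ := hprim.eq_pow_of_pow_eq_one hEN
  obtain ⟨a', b', h1, h1'⟩ := pow_lin_root φ T hτ i
  obtain ⟨a'', b'', h2, h2'⟩ := pow_lin_root φ T (inv_root φ hτ) i
  obtain ⟨hx, hy⟩ := lin_inj hng (h2.symm.trans h1)
  subst hx hy
  have hE'i : τ⁻¹ ^ i = E' := by
    rw [inv_pow, hi]; exact inv_eq_of_mul_eq_one_right hEE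
  obtain ⟨rfl, rfl⟩ := lin_ext_root φ hτ h4 (a := a) (b := b) (a' := a'') (b' := b'')
    (by rw [← hE, ← h1', hi]) (by rw [← hE', ← h2', hE'i])
  refine ⟨i, ?_⟩
  apply Subtype.ext
  simp only [zpow_natCast, Matrix.SpecialLinearGroup.coe_pow]
  rw [h1, hab]

/-- Commuting in `PSL_2` lifts, except for two involutions. -/
theorem commute_lift {g z : SL2 F} (h : (QuotientGroup.mk z : PSL2 F) * QuotientGroup.mk g =
    QuotientGroup.mk g * QuotientGroup.mk z) (hg : 3 ≤ orderOf (QuotientGroup.mk g : PSL2 F)) :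
    Commute z g := by
  have h1 : (QuotientGroup.mk (z * g * z⁻¹ * g⁻¹) : PSL2 F) = 1 := by
    rw [QuotientGroup.mk_mul, QuotientGroup.mk_mul, QuotientGroup.mk_mul, h, QuotientGroup.mk_inv,
      QuotientGroup.mk_inv]
    group
  rcases mk_eq_one_iff.1 h1 with e | e
  · rw [mul_inv_eq_one] at e
    exact mul_inv_eq_iff_eq_mul.1 e
  · have e' : z * g * z⁻¹ = -g := by
      have := congrArg (· * g) e
      simpa using this
    have ht := tr_conj g z
    rw [e', tr_neg] at ht
    by_cases h2 : (2 : F) = 0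
    · rcases gcdTwo_eq (F := F) with ⟨-, hneg⟩ | ⟨hd, -⟩
      · rw [hneg, mul_inv_eq_one] at e
        exact mul_inv_eq_iff_eq_mul.1 e
      · exact absurd h2 (two_ne_zero_of_dvd (hd ▸ Nat.gcd_dvd_right 2 (Nat.card F - 1)))
    · have h0 : tr g = 0 := by
        have : (2 : F) * tr g = 0 := by linear_combination -ht
        exact (mul_eq_zero.1 this).resolve_left h2
      have hsq := sq_eq_neg_one_of_tr_zero h0
      have h2' : (QuotientGroup.mk g : PSL2 F) ^ 2 = 1 := by
        rw [pow_two, ← QuotientGroup.mk_mul, mk_eq_one_iff]; exact Or.inr hsq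
      have := Nat.le_of_dvd two_pos (orderOf_dvd_of_pow_eq_one h2')
      omega

/-- An element of `PSL_2` has a lift of order `d` times its order, or that order is odd. -/
theorem exists_lift_orderOf (y : PSL2 F) :
    ∃ T : SL2 F, (QuotientGroup.mk T : PSL2 F) = y ∧
      orderOf T = orderOf y * Nat.gcd 2 (Nat.card F - 1) := by
  obtain ⟨T, rfl⟩ := QuotientGroup.mk_surjective y
  set k := orderOf (QuotientGroup.mk T : PSL2 F) with hk
  have hpow : T ^ k = 1 ∨ T ^ k = -1 := by
    rw [← mk_eq_one_iff, QuotientGroup.mk_pow, hk, pow_orderOf_eq_one]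
  have hdvd : ∀ U : SL2 F, (QuotientGroup.mk U : PSL2 F) = QuotientGroup.mk T → k ∣ orderOf U := by
    intro U hU
    rw [hk, ← hU]
    apply orderOf_dvd_of_pow_eq_one
    rw [← QuotientGroup.mk_pow, pow_orderOf_eq_one, QuotientGroup.mk_one]
  rcases gcdTwo_eq (F := F) with ⟨h1, hneg⟩ | ⟨h1, hneg⟩
  · refine ⟨T, rfl, ?_⟩
    rw [hneg, or_self] at hpow
    rw [h1, mul_one]
    exact Nat.dvd_antisymm (orderOf_dvd_of_pow_eq_one hpow) (hdvd T rfl)
  · rw [h1]
    have h2 : (2 : F) ≠ 0 := two_ne_zero_of_dvd (h1 ▸ Nat.gcd_dvd_right 2 (Nat.card F - 1))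
    obtain ⟨U, hU, hUk⟩ : ∃ U : SL2 F,
        (QuotientGroup.mk U : PSL2 F) = QuotientGroup.mk T ∧ U ^ k = -1 := by
      rcases hpow with e | e
      · rcases Nat.even_or_odd k with ⟨i, hi⟩ | ho
        · exfalso
          have hi1 : (QuotientGroup.mk T : PSL2 F) ^ i = 1 := by
            rw [← QuotientGroup.mk_pow, mk_eq_one_iff]
            exact mem_center_iff'.1 (mem_center_of_mul_self h2 (by rw [← pow_add, ← hi, e]))
          have hk0 : 0 < k := hk ▸ orderOf_pos _
          have := Nat.le_of_dvd (by omega) (hk ▸ orderOf_dvd_of_pow_eq_one hi1)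
          omega
        · refine ⟨-T, ?_, by rw [ho.neg_pow, e]⟩
          rw [neg_eq_neg_one_mul, QuotientGroup.mk_mul, mk_eq_one_iff.2 (Or.inr rfl), one_mul]
      · exact ⟨T, rfl, e⟩
    refine ⟨U, hU, ?_⟩
    obtain ⟨i, hi⟩ := hdvd U hU
    have h2k : orderOf U ∣ k * 2 := orderOf_dvd_of_pow_eq_one (by rw [pow_mul, hUk, neg_one_sq])
    have hk0 : 0 < k := hk ▸ orderOf_pos _
    rw [hi] at h2k ⊢
    rcases (Nat.dvd_prime Nat.prime_two).1 ((Nat.mul_dvd_mul_iff_left hk0).1 h2k) with rfl | rfl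
    · exfalso
      rw [mul_one] at hi
      rw [← hi, pow_orderOf_eq_one] at hUk
      exact hneg hUk.symm
    · rfl

theorem mem_zpowers_of_commute_torus {y z : PSL2 F}
    (hy : orderOf y = (Nat.card F - 1) / Nat.gcd 2 (Nat.card F - 1) ∨
      orderOf y = (Nat.card F + 1) / Nat.gcd 2 (Nat.card F - 1))
    {x : PSL2 F} (hxy : x ∈ zpowers y) (hx : 3 ≤ orderOf x) (hz : Commute z x) : z ∈ zpowers y := by
  obtain ⟨p, hp⟩ := CharP.exists F
  have : Fact p.Prime := ⟨CharP.char_is_prime F p⟩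
  have hk3 : 3 ≤ orderOf y :=
    hx.trans (Nat.le_of_dvd (orderOf_pos y) (orderOf_dvd_of_mem_zpowers hxy))
  obtain ⟨N, hN, hyN⟩ : ∃ N, (N = Nat.card F - 1 ∨ N = Nat.card F + 1) ∧
      orderOf y * Nat.gcd 2 (Nat.card F - 1) = N := by
    rcases hy with h | h <;> rw [h]
    · exact ⟨_, Or.inl rfl, Nat.div_mul_cancel (gcdTwo_dvd (Or.inl rfl))⟩
    · exact ⟨_, Or.inr rfl, Nat.div_mul_cancel (gcdTwo_dvd (Or.inr rfl))⟩
  obtain ⟨T, rfl, hT⟩ := exists_lift_orderOf y
  rw [hyN] at hT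
  have hN3 : 3 ≤ N := by
    rw [← hyN]
    exact hk3.trans (Nat.le_mul_of_pos_right _ (Nat.gcd_pos_of_pos_left _ two_pos))
  have h4 := tr_sq_ne_four_of_torus p hT hN hN3
  obtain ⟨j, hj⟩ := hxy
  simp only at hj
  rw [← QuotientGroup.mk_zpow] at hj
  obtain ⟨z', rfl⟩ := QuotientGroup.mk_surjective z
  have hc : Commute z' (T ^ j) := commute_lift (by rw [hj]; exact hz.eq) (by rwa [hj])
  have hnc : T ^ j ∉ Subgroup.center (SL2 F) := fun h => by
    rw [← hj, (QuotientGroup.eq_one_iff _).2 h, orderOf_one] at hx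
    omega
  have hzT : Commute z' T := commute_of_commute hnc hc ((Commute.refl T).zpow_right j)
  obtain ⟨i, hi⟩ := mem_zpowers_of_commute_sl hT hN h4 hzT
  exact ⟨i, by simp only at hi ⊢; rw [← QuotientGroup.mk_zpow, hi]⟩

include p in
/-- An involution inverting a semisimple element of order at least three. -/
theorem exists_inverting {x : PSL2 F} (hx : ¬ orderOf x ∣ p) :
    ∃ w : PSL2 F, w * w = 1 ∧ w * x * w⁻¹ = x⁻¹ := by
  obtain ⟨g, rfl⟩ := QuotientGroup.mk_surjective x
  obtain ⟨w, hw, hwg⟩ := exists_inverting_elt (tr_sq_ne_four_of_not_dvd p hx)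
  refine ⟨QuotientGroup.mk w, ?_, ?_⟩
  · rw [← QuotientGroup.mk_mul, mk_eq_one_iff]
    exact Or.inr (sq_eq_neg_one_of_tr_zero hw)
  · rw [← QuotientGroup.mk_inv, ← QuotientGroup.mk_mul, ← QuotientGroup.mk_mul,
      conj_eq_inv_of_tr_zero hw hwg, QuotientGroup.mk_inv]

end Finite

end Cfsg.Agent.PSL2
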