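/-
What a point stabiliser, a cyclic group and a dihedral group cannot contain.

Main results (namespace `Cfsg.Agent.PSL2`):
* `exists_borel_hom`, `commutator_pow_char`, `isCyclic_of_le_stabilizer`
* `eq_two_of_altFour_le_stabilizer`, `not_permFour_le_stabilizer`, `not_altFive_le_stabilizer`,
  `not_psl_le_stabilizer`, `not_dihedral_le_stabilizer`
* `OddPair G` : two non-commuting elements of odd order; `OddPair.not_dihedral`, `OddPair.not_cyclic`
* `oddPair_altFour`, `oddPair_permFour`, `oddPair_altFive`, `oddPair_psl`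
-/
import Cfsg.Agent.Lib.PSL2.Torus
import Cfsg.Agent.Lib.PSL2.Facts

set_option autoImplicit false
set_option linter.unusedSectionVars false
set_option linter.dupNamespace false

open Matrix MulAction Subgroup
open scoped LinearAlgebra.Projectivization

namespace Cfsg.Agent.PSL2

section Groups

/-- Two non-commuting elements of odd order. -/
def OddPair (G : Type*) [Group G] : Prop :=
  ∃ x y : G, Odd (orderOf x) ∧ Odd (orderOf y) ∧ x * y ≠ y * x

theorem OddPair.map {G H : Type*} [Group G] [Group H] (h : OddPair G) (f : G →* H)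
    (hf : Function.Injective f) : OddPair H := by
  obtain ⟨x, y, hx, hy, hxy⟩ := h
  refine ⟨f x, f y, ?_, ?_, fun e => hxy (hf (by rw [map_mul, map_mul, e]))⟩
  · rwa [orderOf_injective f hf]
  · rwa [orderOf_injective f hf]

theorem OddPair.of_le {G : Type*} [Group G] {H M : Subgroup G} (h : OddPair H) (hle : H ≤ M) :
    OddPair M :=
  h.map (Subgroup.inclusion hle) (Subgroup.inclusion_injective hle)

theorem OddPair.of_equiv {G H : Type*} [Group G] [Group H] (h : OddPair G) (e : H ≃* G) :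
    OddPair H :=
  h.map e.symm.toMonoidHom e.symm.injective

theorem OddPair.not_cyclic {G : Type*} [Group G] (h : OddPair G) : ¬ IsCyclic G := by
  intro hc
  obtain ⟨x, y, -, -, hxy⟩ := h
  obtain ⟨g, hg⟩ := hc.exists_generator
  obtain ⟨i, rfl⟩ := hg x
  obtain ⟨j, rfl⟩ := hg y
  exact hxy ((Commute.refl g).zpow_zpow i j).eq

theorem OddPair.not_dihedral {n : ℕ} (h : OddPair (DihedralGroup n)) : False := by
  obtain ⟨x, y, hx, hy, hxy⟩ := h
  rcases x with i | i
  · rcases y with j | j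
    · exact hxy (by rw [DihedralGroup.r_mul_r, DihedralGroup.r_mul_r, add_comm])
    · rw [DihedralGroup.orderOf_sr] at hy; exact absurd hy (by decide)
  · rw [DihedralGroup.orderOf_sr] at hx; exact absurd hx (by decide)

theorem OddPair.not_dihedral_equiv {G : Type*} [Group G] {n : ℕ} (h : OddPair G)
    (e : G ≃* DihedralGroup n) : False :=
  (h.of_equiv e.symm).not_dihedral

theorem oddPair_altFour : OddPair (alternatingGroup (Fin 4)) := by
  have h : ∃ x y : alternatingGroup (Fin 4), x ^ 3 = 1 ∧ y ^ 3 = 1 ∧ x * y ≠ y * x := by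
    refine ⟨⟨Equiv.swap 0 1 * Equiv.swap 1 2, Equiv.Perm.mem_alternatingGroup.2 (by decide)⟩, ⟨Equiv.swap 0 1 * Equiv.swap 1 3, Equiv.Perm.mem_alternatingGroup.2 (by decide)⟩,
      ?_, ?_, ?_⟩ <;> decide
  obtain ⟨x, y, hx, hy, hxy⟩ := h
  have hodd : ∀ z : alternatingGroup (Fin 4), z ^ 3 = 1 → Odd (orderOf z) := fun z hz =>
    Odd.of_dvd_nat (by decide) (orderOf_dvd_of_pow_eq_one hz)
  exact ⟨x, y, hodd x hx, hodd y hy, hxy⟩

theorem oddPair_permFour : OddPair (Equiv.Perm (Fin 4)) :=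
  oddPair_altFour.map (alternatingGroup (Fin 4)).subtype Subtype.coe_injective

theorem oddPair_altFive : OddPair (alternatingGroup (Fin 5)) := by
  obtain ⟨f, hf⟩ := exists_altFour_in_altFive
  exact oddPair_altFour.map f hf

end Groups

section Field

variable {L : Type*} [Field L] [Finite L] (p : ℕ) [Fact p.Prime] [CharP L p]

/-- Semisimple elements do not have order `p`. -/
theorem mk_pow_char_ne_one {g : SL2 L} (h4 : tr g ^ 2 ≠ 4) :
    (QuotientGroup.mk g : PSL2 L) ^ p ≠ 1 := by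
  intro h
  rw [← QuotientGroup.mk_pow, mk_eq_one_iff] at h
  have h' : g ^ (2 * p) = 1 := by
    rw [two_mul, pow_add]
    rcases h with e | e <;> simp [e]
  let φ : L →+* AlgebraicClosure L := algebraMap L _
  have : CharP (AlgebraicClosure L) p := charP_of_injective_ringHom φ.injective p
  obtain ⟨c, hc⟩ := exists_root φ g
  have h1 := (pow_eq_one_iff_root φ hc h4 _).1 h'
  rw [pow_mul] at h1
  have h2 : (c ^ 2 - 1) ^ p = 0 := by rw [sub_pow_char, one_pow, h1, sub_self]
  have h3 : c * c = 1 := by rw [← pow_two]; exact sub_eq_zero.1 (eq_zero_of_pow_eq_zero h2)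
  exact root_ne_inv φ hc h4 (eq_inv_of_mul_eq_one_left h3)

include p in
/-- `PSL_2` has a commutator that is not a `p`-element. -/
theorem exists_commutator_pow_char_ne :
    ∃ x y : PSL2 L, (x * y * x⁻¹ * y⁻¹) ^ p ≠ 1 := by
  obtain ⟨c, hc0, hc4⟩ : ∃ c : L, c ≠ 0 ∧ c ^ 2 + 4 ≠ 0 := by
    by_cases h5 : (5 : L) = 0
    · by_cases h2 : (2 : L) = 0
      · exact absurd (show (1 : L) = 0 by linear_combination h5 - 2 * h2) one_ne_zero
      · refine ⟨2, h2, fun h => one_ne_zero (α := L) ?_⟩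
        linear_combination 2 * h - 3 * h5
    · exact ⟨1, one_ne_zero, fun h => h5 (by linear_combination h)⟩
  obtain ⟨a, ha⟩ : ∃ a : SL2 L, a.1 = !![1, 1; 0, 1] :=
    ⟨⟨!![1, 1; 0, 1], by simp [Matrix.det_fin_two]⟩, rfl⟩
  obtain ⟨b, hb⟩ : ∃ b : SL2 L, b.1 = !![1, 0; c, 1] :=
    ⟨⟨!![1, 0; c, 1], by simp [Matrix.det_fin_two]⟩, rfl⟩
  refine ⟨QuotientGroup.mk a, QuotientGroup.mk b, ?_⟩
  rw [← QuotientGroup.mk_inv, ← QuotientGroup.mk_inv, ← QuotientGroup.mk_mul, ← QuotientGroup.mk_mul,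
    ← QuotientGroup.mk_mul]
  refine mk_pow_char_ne_one p fun h => ?_
  have ht : tr (a * b * a⁻¹ * b⁻¹) = 2 + c ^ 2 := by
    simp [tr, Matrix.SpecialLinearGroup.coe_inv, ha, hb, Matrix.adjugate_fin_two_of,
      Matrix.mul_apply, Fin.sum_univ_two]
    ring
  rw [ht] at h
  exact mul_ne_zero (pow_ne_zero 2 hc0) hc4 (by linear_combination h)

include p in
/-- `PSL_2(L)`, `|L| ≥ 3`, has two non-commuting elements of odd order. -/
theorem oddPair_psl (h3 : 3 ≤ Nat.card L) : OddPair (PSL2 L) := by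
  have hodd : ∀ x : PSL2 L, ∀ n, Odd n → x ^ n = 1 → Odd (orderOf x) := fun x n hn hx =>
    hn.of_dvd_nat (orderOf_dvd_of_pow_eq_one hx)
  by_cases hp : p = 2
  · subst hp
    have h2 : (2 : L) = 0 := by exact_mod_cast CharP.cast_eq_zero L 2
    obtain ⟨r, hr0, hr1⟩ : ∃ r : L, r ≠ 0 ∧ r ≠ 1 := by
      by_contra hh
      push Not at hh
      have hle := Nat.card_le_card_of_injective (fun z : L => (z = 0 : Prop))
        (fun a b hab => by
          simp only [eq_iff_iff] at hab
          by_cases ha : a = 0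
          · rw [ha, hab.1 ha]
          · rw [hh a ha, hh b (fun hb => ha (hab.2 hb))])
      simp at hle
      omega
    obtain ⟨a, ha⟩ : ∃ a : SL2 L, a.1 = !![0, 1; 1, 1] :=
      ⟨⟨!![0, 1; 1, 1], by rw [Matrix.det_fin_two_of]; linear_combination -h2⟩, rfl⟩
    obtain ⟨b, hb⟩ : ∃ b : SL2 L, b.1 = !![0, r; r⁻¹, 1] :=
      ⟨⟨!![0, r; r⁻¹, 1], by
        rw [Matrix.det_fin_two_of]; field_simp; linear_combination -h2⟩, rfl⟩
    have h3 : ∀ g : SL2 L, tr g = 1 → (QuotientGroup.mk g : PSL2 L) ^ 3 = 1 := by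
      intro g hg
      rw [← QuotientGroup.mk_pow, mk_eq_one_iff]
      right
      apply Subtype.ext
      rw [Matrix.SpecialLinearGroup.coe_pow, pow_succ, pow_two, coe_sq, hg, one_smul, sub_mul,
        coe_sq, hg, one_smul, one_mul]
      simp
    refine ⟨QuotientGroup.mk a, QuotientGroup.mk b, hodd _ 3 (by decide) (h3 a (by simp [tr, ha])),
      hodd _ 3 (by decide) (h3 b (by simp [tr, hb])), fun h => ?_⟩
    rw [← QuotientGroup.mk_mul, ← QuotientGroup.mk_mul] at h
    have h1 : (QuotientGroup.mk ((a * b) * (b * a)⁻¹) : PSL2 L) = 1 := by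
      rw [QuotientGroup.mk_mul, h, QuotientGroup.mk_inv, mul_inv_cancel]
    have hneg : (-1 : SL2 L) = 1 := by
      apply Subtype.ext; ext i j; fin_cases i <;> fin_cases j <;> simp <;> linear_combination -h2
    rw [mk_eq_one_iff, hneg, or_self, mul_inv_eq_one] at h1
    have h00 := congrArg (fun g : SL2 L => g.1 0 0) h1
    simp [ha, hb, Matrix.mul_apply, Fin.sum_univ_two] at h00
    have : (r - 1) * (r - 1) = 0 := by
      field_simp at h00
      linear_combination (1 - r) * h2 - h00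
    exact hr1 (sub_eq_zero.1 (mul_self_eq_zero.1 this))
  · have hpo : Odd p := (Fact.out : p.Prime).odd_of_ne_two hp
    obtain ⟨a, ha⟩ : ∃ a : SL2 L, a.1 = !![1, 1; 0, 1] :=
      ⟨⟨!![1, 1; 0, 1], by simp [Matrix.det_fin_two]⟩, rfl⟩
    obtain ⟨b, hb⟩ : ∃ b : SL2 L, b.1 = !![1, 0; 1, 1] :=
      ⟨⟨!![1, 0; 1, 1], by simp [Matrix.det_fin_two]⟩, rfl⟩
    have hp1 : ∀ g : SL2 L, tr g = 2 → (QuotientGroup.mk g : PSL2 L) ^ p = 1 := fun g hg => by
      rw [← QuotientGroup.mk_pow, mk_eq_one_iff]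
      exact pow_char_of_tr_sq p (by rw [hg]; norm_num)
    refine ⟨QuotientGroup.mk a, QuotientGroup.mk b,
      hodd _ p hpo (hp1 a (by simp [tr, ha, one_add_one_eq_two])),
      hodd _ p hpo (hp1 b (by simp [tr, hb, one_add_one_eq_two])), fun h => ?_⟩
    rw [← QuotientGroup.mk_mul, ← QuotientGroup.mk_mul] at h
    have h1 : (QuotientGroup.mk ((a * b) * (b * a)⁻¹) : PSL2 L) = 1 := by
      rw [QuotientGroup.mk_mul, h, QuotientGroup.mk_inv, mul_inv_cancel]
    have h2 : (2 : L) ≠ 0 := by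
      intro e
      exact hp (CharP.eq L inferInstance (CharTwo.of_one_ne_zero_of_two_eq_zero one_ne_zero e))
    rcases mk_eq_one_iff.1 h1 with e | e
    · rw [mul_inv_eq_one] at e
      have h00 := congrArg (fun g : SL2 L => g.1 0 0) e
      simp [ha, hb, Matrix.mul_apply, Fin.sum_univ_two] at h00
    · have e' : a * b = -(b * a) := by rw [mul_inv_eq_iff_eq_mul] at e; simpa using e
      have h01 := congrArg (fun g : SL2 L => g.1 0 1) e'
      simp [ha, hb, Matrix.mul_apply, Fin.sum_univ_two] at h01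
      exact h2 (by linear_combination h01)

end Field

section Stab

variable {F : Type*} [Field F] [Finite F] (p : ℕ) [Fact p.Prime] [CharP F p] {P : Pt F}

theorem exists_borel_hom (P : Pt F) :
    ∃ ψ : stabilizer (PSL2 F) P →* Fˣ, ∀ x, ψ x = 1 ↔ (x : PSL2 F) ^ p = 1 := by
  let f : stabilizer (PSL2 F) P →* stabilizer (⊤ : Subgroup (PGL2 F)) P :=
    { toFun := fun x => ⟨⟨ProjectiveSpecialLinearGroup.toPGL (x : PSL2 F), Subgroup.mem_top _⟩, by
        rw [mem_stabilizer_iff]
        exact (toPGL_smul (x : PSL2 F) P).trans x.2⟩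
      map_one' := by ext; simp
      map_mul' := fun a b => by ext; simp }
  refine ⟨(multH (⊤ : Subgroup (PGL2 F)) P).comp f, fun x => ?_⟩
  rw [MonoidHom.comp_apply, multH_eq_one_iff ⊤ p]
  show ProjectiveSpecialLinearGroup.toPGL (x : PSL2 F) ^ p = 1 ↔ _
  rw [← map_pow]
  exact ⟨fun h => ProjectiveSpecialLinearGroup.toPGL_injective (h.trans (map_one _).symm),
    fun h => by rw [h, map_one]⟩

include p in
/-- Commutators in a point stabiliser are `p`-elements. -/
theorem commutator_pow_char {x y : PSL2 F} (hx : x ∈ stabilizer (PSL2 F) P)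
    (hy : y ∈ stabilizer (PSL2 F) P) : (x * y * x⁻¹ * y⁻¹) ^ p = 1 := by
  obtain ⟨ψ, hψ⟩ := exists_borel_hom p P
  refine (hψ (⟨x, hx⟩ * ⟨y, hy⟩ * ⟨x, hx⟩⁻¹ * ⟨y, hy⟩⁻¹)).1 ?_
  rw [map_mul, map_mul, map_mul, map_inv, map_inv, mul_comm (ψ ⟨x, hx⟩)]
  group

theorem isCyclic_of_le_stabilizer {H : Subgroup (PSL2 F)} (hH : H ≤ stabilizer (PSL2 F) P)
    (hp : ¬ p ∣ Nat.card H) : IsCyclic H := by
  obtain ⟨ψ, hψ⟩ := exists_borel_hom p P
  refine isCyclic_of_injective (ψ.comp (Subgroup.inclusion hH))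
    ((injective_iff_map_eq_one _).2 fun x hx => ?_)
  have hxp : x ^ p = 1 := Subtype.ext ((hψ _).1 hx)
  rcases (Fact.out : p.Prime).eq_one_or_self_of_dvd _ (orderOf_dvd_of_pow_eq_one hxp) with e | e
  · exact orderOf_eq_one_iff.1 e
  · exact absurd (e ▸ _root_.orderOf_dvd_natCard x) hp

include p in
theorem dvd_char_of_commutator {G : Type*} [Group G] (f : G →* PSL2 F) (hf : Function.Injective f)
    (hle : ∀ g, f g ∈ stabilizer (PSL2 F) P) {x y : G} {k : ℕ}
    (hk : orderOf (x * y * x⁻¹ * y⁻¹) = k) : k ∣ p := by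
  rw [← hk, ← orderOf_injective f hf]
  apply orderOf_dvd_of_pow_eq_one
  rw [map_mul, map_mul, map_mul, map_inv, map_inv]
  exact commutator_pow_char p (hle x) (hle y)

include p in
theorem eq_two_of_altFour_le_stabilizer (f : alternatingGroup (Fin 4) →* PSL2 F)
    (hf : Function.Injective f) (hle : ∀ g, f g ∈ stabilizer (PSL2 F) P) : p = 2 := by
  have h := dvd_char_of_commutator p f hf hle
    (x := ⟨Equiv.swap 0 1 * Equiv.swap 1 2, Equiv.Perm.mem_alternatingGroup.2 (by decide)⟩)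
    (y := ⟨Equiv.swap 0 1 * Equiv.swap 1 3, Equiv.Perm.mem_alternatingGroup.2 (by decide)⟩) (k := 2)
    (orderOf_eq_prime (by decide) (by decide))
  exact ((Nat.prime_dvd_prime_iff_eq Nat.prime_two Fact.out).1 h).symm

include p in
theorem not_permFour_le_stabilizer (f : Equiv.Perm (Fin 4) →* PSL2 F)
    (hf : Function.Injective f) (hle : ∀ g, f g ∈ stabilizer (PSL2 F) P) : False := by
  have h2 := eq_two_of_altFour_le_stabilizer p (f.comp (alternatingGroup (Fin 4)).subtype)
    (hf.comp Subtype.coe_injective) (fun g => hle _)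
  have h := dvd_char_of_commutator p f hf hle (x := Equiv.swap 0 1) (y := Equiv.swap 1 2) (k := 3)
    (orderOf_eq_prime (by decide) (by decide))
  subst h2
  norm_num at h

include p in
theorem not_altFive_le_stabilizer (f : alternatingGroup (Fin 5) →* PSL2 F)
    (hf : Function.Injective f) (hle : ∀ g, f g ∈ stabilizer (PSL2 F) P) : False := by
  obtain ⟨g, hg⟩ := exists_altFour_in_altFive
  have h2 := eq_two_of_altFour_le_stabilizer p (f.comp g) (hf.comp hg) (fun a => hle _)
  have h := dvd_char_of_commutator p f hf hle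
    (x := ⟨Equiv.swap 0 1 * Equiv.swap 1 2, Equiv.Perm.mem_alternatingGroup.2 (by decide)⟩)
    (y := ⟨Equiv.swap 2 3 * Equiv.swap 3 4, Equiv.Perm.mem_alternatingGroup.2 (by decide)⟩) (k := 3)
    (orderOf_eq_prime (by decide +kernel) (by decide +kernel))
  subst h2
  norm_num at h

include p in
theorem not_psl_le_stabilizer {L : Type*} [Field L] [Finite L] [CharP L p] (f : PSL2 L →* PSL2 F)
    (hf : Function.Injective f) (hle : ∀ g, f g ∈ stabilizer (PSL2 F) P) : False := by
  obtain ⟨x, y, h⟩ := exists_commutator_pow_char_ne (L := L) p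
  apply h
  apply hf
  rw [map_pow, map_mul, map_mul, map_mul, map_inv, map_inv, map_one]
  exact commutator_pow_char p (hle x) (hle y)

include p in
theorem not_dihedral_le_stabilizer {n : ℕ} (hn : 3 ≤ n) (hpn : ¬ p ∣ n)
    (f : DihedralGroup n →* PSL2 F) (hf : Function.Injective f)
    (hle : ∀ g, f g ∈ stabilizer (PSL2 F) P) : False := by
  have h := dvd_char_of_commutator p f hf hle (x := DihedralGroup.r 1) (y := DihedralGroup.sr 0)
    (k := orderOf (DihedralGroup.r (1 : ZMod n) ^ 2)) (by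
      congr 1
      simp [pow_two, DihedralGroup.inv_r, DihedralGroup.inv_sr]
      try ring_nf)
  rcases (Fact.out : p.Prime).eq_one_or_self_of_dvd _ h with e | e
  · have h2 := Nat.le_of_dvd two_pos (DihedralGroup.orderOf_r_one (n := n) ▸
      orderOf_dvd_of_pow_eq_one (orderOf_eq_one_iff.1 e))
    omega
  · apply hpn
    have h2 : orderOf (DihedralGroup.r (1 : ZMod n) ^ 2) ∣ n := by
      conv_rhs => rw [← DihedralGroup.orderOf_r_one (n := n)]
      exact orderOf_pow_dvd 2
    rwa [e] at h2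

end Stab

end Cfsg.Agent.PSL2
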