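/-
Overgroups of the non-soluble-looking subgroups, and embeddings between `PSL_2`'s.

Main results (namespace `Cfsg.Agent.PSL2`):
* `overgroup_cases`     : Dickson's list for groups containing an `OddPair` outside every Borel subgroup
* `card_psl_split`      : `|PSL_2(q)| = q * x` with `p ∤ x`; `card_pgl_eq`; `eq_top_of_psl`
* `psl_embed_degree`    : `PSL_2(L) ↪ PSL_2(F)` forces `|F|` to be a power of `|L|`
* `isCoatom_of_forall`, `psl_card_le`, `card_psl_lt`
* `subfield_psl_isCoatom` : `PSL_2(q)` is maximal in `PSL_2(q^r)`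
-/
import Cfsg.Agent.Lib.PSL2.Borel

set_option autoImplicit false
set_option linter.unusedSectionVars false
set_option linter.dupNamespace false

open Matrix MulAction Subgroup
open scoped LinearAlgebra.Projectivization

namespace Cfsg.Agent.PSL2

theorem eq_of_mul_pow_eq {p : ℕ} (hp : p.Prime) {a b x y : ℕ} (hx : ¬ p ∣ x) (hy : ¬ p ∣ y)
    (h : p ^ a * x = p ^ b * y) : p ^ a = p ^ b := by
  have key : ∀ a b x y : ℕ, ¬ p ∣ y → p ^ a * x = p ^ b * y → p ^ a ∣ p ^ b := fun a b x y hy h =>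
    ((hp.coprime_iff_not_dvd.2 hy).pow_left a).dvd_of_dvd_mul_right ⟨x, h.symm⟩
  exact Nat.dvd_antisymm (key a b x y hy h) (key b a y x hx h.symm)

variable {F : Type*} [Field F] [Finite F]

theorem card_pgl_eq :
    Nat.card (PGL2 F) = Nat.card F * ((Nat.card F + 1) * (Nat.card F - 1)) := by
  rw [GLOrder.card_PGL_two, GLOrder.sq_sub_one]

theorem psl_card_le :
    Nat.card (PSL2 F) ≤ Nat.card F * ((Nat.card F + 1) * (Nat.card F - 1)) := by
  rw [← card_psl_mul]
  exact Nat.le_mul_of_pos_left _ (Nat.gcd_pos_of_pos_left _ two_pos)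

theorem two_card_psl_ge :
    Nat.card F * ((Nat.card F + 1) * (Nat.card F - 1)) ≤ 2 * Nat.card (PSL2 F) := by
  rw [← card_psl_mul]
  exact Nat.mul_le_mul_right _ (Nat.le_of_dvd two_pos (Nat.gcd_dvd_left _ _))

theorem card_psl_split (p : ℕ) [Fact p.Prime] [CharP F p] :
    ∃ x, ¬ p ∣ x ∧ x ≠ 0 ∧ Nat.card (PSL2 F) = Nat.card F * x ∧
      Nat.gcd 2 (Nat.card F - 1) * x = (Nat.card F + 1) * (Nat.card F - 1) := by
  have hd : Nat.gcd 2 (Nat.card F - 1) ∣ (Nat.card F + 1) * (Nat.card F - 1) :=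
    (Nat.gcd_dvd_right _ _).mul_left _
  obtain ⟨x, hx⟩ := hd
  have hq1 : 1 < Nat.card F := Finite.one_lt_card
  obtain ⟨n, hn, hc⟩ := GLOrder.exists_card_eq_pow (F := F) p
  have hp : p.Prime := Fact.out
  have hpq : p ∣ Nat.card F := hc ▸ dvd_pow_self p hn.ne'
  refine ⟨x, fun h => ?_, fun h => ?_, ?_, hx.symm⟩
  · rcases hp.dvd_mul.1 (hx.symm ▸ h.mul_left _ :
      p ∣ (Nat.card F + 1) * (Nat.card F - 1)) with e | e
    · exact hp.not_dvd_one ((Nat.dvd_add_right hpq).1 e)
    · have := Nat.dvd_sub hpq e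
      rw [show Nat.card F - (Nat.card F - 1) = 1 by omega] at this
      exact hp.not_dvd_one this
  · rw [h, mul_zero] at hx
    rcases mul_eq_zero.1 hx with e | e <;> omega
  · have h := card_psl_mul (F := F)
    rw [hx, mul_left_comm] at h
    exact Nat.eq_of_mul_eq_mul_left (Nat.gcd_pos_of_pos_left _ two_pos) h

theorem not_dvd_card_pgl_part (p : ℕ) [Fact p.Prime] [CharP F p] :
    ¬ p ∣ (Nat.card F + 1) * (Nat.card F - 1) := by
  obtain ⟨x, hx, -, -, hd⟩ := card_psl_split (F := F) p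
  rw [← hd]
  intro h
  rcases (Fact.out : p.Prime).dvd_mul.1 h with e | e
  · obtain ⟨n, -, -, ⟨rfl, -, hg, -⟩ | ⟨hp2, -, hg, -⟩⟩ := q_cases (F := F) p <;> rw [hg] at e
    · norm_num at e
    · exact hp2 ((Nat.prime_dvd_prime_iff_eq Fact.out Nat.prime_two).1 e)
  · exact hx e

theorem card_psl_congr {R : Type*} [Field R] [Finite R] (h : Nat.card R = Nat.card F) :
    Nat.card (PSL2 R) = Nat.card (PSL2 F) := by
  have h1 := card_psl_mul (F := R)
  have h2 := card_psl_mul (F := F)
  rw [h, ← h2] at h1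
  exact Nat.eq_of_mul_eq_mul_left (Nat.gcd_pos_of_pos_left _ two_pos) h1

theorem eq_top_of_psl {R : Type*} [Field R] [Finite R] {M : Subgroup (PSL2 F)}
    (h : Nat.card R = Nat.card F) (e : M ≃* PSL2 R) : M = ⊤ :=
  Subgroup.eq_top_of_card_eq _ ((Nat.card_congr e.toEquiv).trans (card_psl_congr h))

/-- A proper subgroup equal to all its proper overgroups is maximal. -/
theorem isCoatom_of_forall {G : Type*} [Group G] {H : Subgroup G} (hH : H ≠ ⊤)
    (h : ∀ M, H ≤ M → M ≠ ⊤ → M = H) : IsCoatom H :=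
  ⟨hH, fun M hM => by_contra fun hne => hM.ne (h M hM.le hne).symm⟩

theorem eq_of_le_of_card {G : Type*} [Group G] [Finite G] {H M : Subgroup G} (hle : H ≤ M)
    (hc : Nat.card M ≤ Nat.card H) : M = H :=
  (Subgroup.eq_of_le_of_card_ge hle hc).symm

variable (p : ℕ) [Fact p.Prime] [CharP F p]

/-- Dickson's list above a group with an `OddPair` that lies in no Borel subgroup. -/
theorem overgroup_cases {H M : Subgroup (PSL2 F)} (hle : H ≤ M) (hodd : OddPair H)
    (hb : ∀ P : Pt F, ¬ H ≤ stabilizer (PSL2 F) P) :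
    (¬ p ∣ Nat.card M ∧ (Nonempty (M ≃* alternatingGroup (Fin 4)) ∨
      Nonempty (M ≃* Equiv.Perm (Fin 4)) ∨ Nonempty (M ≃* alternatingGroup (Fin 5)))) ∨
    (p = 3 ∧ Nat.card M = 60 ∧ Nonempty (M ≃* alternatingGroup (Fin 5))) ∨
    (∃ R : Subfield F, ∃ m, 1 ≤ m ∧ Nat.card R ^ m = Nat.card F ∧
      (Nonempty (M ≃* PSL2 R) ∨ (p ≠ 2 ∧ Even m ∧ Nonempty (M ≃* PGL2 R)))) := by
  rcases psl_dickson p M with ⟨-, S, hS⟩ | ⟨-, hc, -⟩ | ⟨n, -, -, -, -, -, ⟨e⟩⟩ | h | h | h
  · obtain ⟨P, hP⟩ := normalizer_sylow_le p S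
    exact absurd ((hle.trans hS).trans hP) (hb P)
  · exact absurd hc (hodd.of_le hle).not_cyclic
  · exact ((hodd.of_le hle).not_dihedral_equiv e).elim
  · exact Or.inl h
  · exact Or.inr (Or.inl h)
  · exact Or.inr (Or.inr h)

theorem charP_subfield (R : Subfield F) : CharP R p :=
  (R.subtype).charP R.subtype.injective p

theorem not_range_le_stabilizer {L : Type*} [Field L] [Finite L] [CharP L p] (f : PSL2 L →* PSL2 F)
    (hf : Function.Injective f) (P : Pt F) : ¬ f.range ≤ stabilizer (PSL2 F) P := fun h =>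
  not_psl_le_stabilizer p f hf (fun g => h ⟨g, rfl⟩)

theorem dvd_card_of_psl_le {L : Type*} [Field L] [Finite L] [CharP L p] (f : PSL2 L →* PSL2 F)
    (hf : Function.Injective f) {M : Subgroup (PSL2 F)} (hle : f.range ≤ M) :
    Nat.card (PSL2 L) ∣ Nat.card M := by
  rw [Nat.card_congr (MonoidHom.ofInjective hf).toEquiv]
  exact Subgroup.card_dvd_of_le hle

include p in
/-- `PSL_2(L) ↪ PSL_2(F)` forces `|F|` to be a power of `|L|`. -/
theorem psl_embed_degree {L : Type*} [Field L] [Finite L] [CharP L p] (h3 : 3 ≤ Nat.card L)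
    (f : PSL2 L →* PSL2 F) (hf : Function.Injective f) :
    ∃ m, 1 ≤ m ∧ Nat.card L ^ m = Nat.card F := by
  have hodd : OddPair f.range :=
    (oddPair_psl p h3).map (MonoidHom.ofInjective hf).toMonoidHom (MonoidHom.ofInjective hf).injective
  have hcard : Nat.card f.range = Nat.card (PSL2 L) :=
    (Nat.card_congr (MonoidHom.ofInjective hf).toEquiv).symm
  rcases overgroup_cases p le_rfl hodd (not_range_le_stabilizer p f hf) with
    ⟨hp, -⟩ | ⟨h3', h60, -⟩ | ⟨R, m, hm, hR, h⟩
  · exact absurd (hcard ▸ dvd_card_psl p) hp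
  · exfalso
    subst h3'
    obtain ⟨a, ha, hLa⟩ := GLOrder.exists_card_eq_pow (F := L) 3
    have h1 := two_card_psl_ge (F := L)
    have h2 := psl_card_le (F := L)
    rw [← hcard, h60] at h1 h2
    rw [hLa] at h1 h2
    rcases Nat.lt_or_ge a 2 with ha2 | ha2
    · obtain rfl : a = 1 := by omega
      norm_num at h2
    · have h9 : 9 ≤ 3 ^ a := (Nat.pow_le_pow_right (by norm_num) ha2).trans' (by norm_num)
      have h10 : 9 * (10 * 8) ≤ 3 ^ a * ((3 ^ a + 1) * (3 ^ a - 1)) :=
        Nat.mul_le_mul h9 (Nat.mul_le_mul (by omega) (by omega))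
      omega
  · refine ⟨m, hm, ?_⟩
    rw [← hR]
    congr 1
    have := charP_subfield p R
    obtain ⟨a, -, hLa⟩ := GLOrder.exists_card_eq_pow (F := L) p
    obtain ⟨b, -, hRb⟩ := GLOrder.exists_card_eq_pow (F := R) p
    obtain ⟨x, hx, -, hLx, -⟩ := card_psl_split (F := L) p
    obtain ⟨y, hy, hy'⟩ : ∃ y, ¬ p ∣ y ∧ Nat.card f.range = Nat.card R * y := by
      rcases h with ⟨⟨e⟩⟩ | ⟨-, -, ⟨e⟩⟩
      · obtain ⟨y, hy, -, hRy, -⟩ := card_psl_split (F := R) p
        exact ⟨y, hy, (Nat.card_congr e.toEquiv).trans hRy⟩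
      · exact ⟨_, not_dvd_card_pgl_part p, (Nat.card_congr e.toEquiv).trans card_pgl_eq⟩
    rw [hLa, hRb]
    refine eq_of_mul_pow_eq Fact.out hx hy ?_
    rw [← hLa, ← hRb, ← hLx, ← hy', hcard]

include p in
/-- `PSL_2(q)` is maximal in `PSL_2(q^r)`, `r` prime, odd if `q` is odd, `q ≥ 3`. -/
theorem subfield_psl_isCoatom {L : Type*} [Field L] [Finite L] {r : ℕ} (hr : r.Prime)
    (hF : Nat.card F = Nat.card L ^ r) (h3 : 3 ≤ Nat.card L) (hodd : Odd (Nat.card L) → Odd r) :
    ∃ H : Subgroup (PSL2 F), IsCoatom H ∧ Nonempty (H ≃* PSL2 L) := by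
  obtain ⟨φ⟩ := exists_ringHom_of_card_pow hF.symm
  have : CharP L p := (RingHom.charP_iff φ φ.injective p).2 inferInstance
  obtain ⟨f, hf⟩ := exists_pslMap φ
  refine ⟨f.range, isCoatom_of_forall ?_ ?_, ⟨(MonoidHom.ofInjective hf).symm⟩⟩
  · intro htop
    have h1 : Nat.card (PSL2 L) = Nat.card (PSL2 F) := by
      rw [Nat.card_congr (MonoidHom.ofInjective hf).toEquiv, htop, Subgroup.card_top]
    obtain ⟨x, hx, -, hLx, -⟩ := card_psl_split (F := L) p
    obtain ⟨y, hy, -, hFy, -⟩ := card_psl_split (F := F) p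
    obtain ⟨a, -, hLa⟩ := GLOrder.exists_card_eq_pow (F := L) p
    obtain ⟨b, -, hFb⟩ := GLOrder.exists_card_eq_pow (F := F) p
    have h2 := eq_of_mul_pow_eq (a := a) (b := b) Fact.out hx hy (by rw [← hLa, ← hFb, ← hLx, ← hFy, h1])
    rw [← hLa, ← hFb, hF] at h2
    exact hr.ne_one ((Nat.pow_right_injective (by omega : 2 ≤ Nat.card L)) (h2.symm.trans (pow_one _).symm))
  · intro M hle hne
    have hoddM : OddPair f.range :=
      (oddPair_psl p h3).map (MonoidHom.ofInjective hf).toMonoidHom (MonoidHom.ofInjective hf).injective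
    have hdvd := dvd_card_of_psl_le p f hf hle
    rcases overgroup_cases p hle hoddM (not_range_le_stabilizer p f hf) with
      ⟨hp, -⟩ | ⟨h3', h60, ⟨e⟩⟩ | ⟨R, m, hm, hR, h⟩
    · exact absurd ((dvd_card_psl p).trans hdvd) hp
    · exfalso
      subst h3'
      obtain ⟨a, ha, hLa⟩ := GLOrder.exists_card_eq_pow (F := L) 3
      have hle60 := Nat.le_of_dvd (by omega) hdvd
      rw [h60] at hle60
      have h1 := two_card_psl_ge (F := L)
      rw [hLa] at h1
      rcases Nat.lt_or_ge a 2 with ha2 | ha2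
      · obtain rfl : a = 1 := by omega
        rw [pow_one] at hLa
        obtain ⟨j, rfl⟩ := hodd (hLa ▸ by decide)
        have h5 := exists_alternatingFive_sub_iff.1 ⟨M, ⟨e⟩⟩
        rw [hF, hLa] at h5
        rcases (Nat.Prime.dvd_mul (by norm_num)).1 h5 with h | h
        · have := Nat.Prime.dvd_of_dvd_pow (by norm_num : (5 : ℕ).Prime) h
          norm_num at this
        · have h5' : (3 ^ (2 * j + 1)) ^ 2 % 5 = 4 := by
            rw [← pow_mul, show (2 * j + 1) * 2 = 4 * j + 2 by ring, pow_add, pow_mul, Nat.mul_mod,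
              Nat.pow_mod]
            norm_num
          omega
      · have h9 : 9 ≤ 3 ^ a := (Nat.pow_le_pow_right (by norm_num) ha2).trans' (by norm_num)
        have h10 : 9 * (10 * 8) ≤ 3 ^ a * ((3 ^ a + 1) * (3 ^ a - 1)) :=
          Nat.mul_le_mul h9 (Nat.mul_le_mul (by omega) (by omega))
        omega
    · have := charP_subfield p R
      rcases h with ⟨⟨e⟩⟩ | ⟨hp2, ⟨i, hi⟩, ⟨e⟩⟩
      · obtain ⟨j, hj1, hj⟩ := psl_embed_degree (F := R) p h3
          (e.toMonoidHom.comp ((Subgroup.inclusion hle).comp f.rangeRestrict))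
          (e.injective.comp ((Subgroup.inclusion_injective hle).comp
            (MonoidHom.rangeRestrict_injective_iff.2 hf)))
        rw [← hj, ← pow_mul, hF] at hR
        have hjm := Nat.pow_right_injective (by omega : 2 ≤ Nat.card L) hR
        rcases (Nat.dvd_prime hr).1 ⟨m, hjm.symm⟩ with rfl | rfl
        · refine eq_of_le_of_card hle ?_
          rw [Nat.card_congr e.toEquiv, ← Nat.card_congr (MonoidHom.ofInjective hf).toEquiv,
            card_psl_congr (F := L) (by rw [← hj, pow_one])]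
        · exact absurd (eq_top_of_psl (by rw [← hj, hF]) e) hne
      · exfalso
        have hLodd : Odd (Nat.card L) := by
          obtain ⟨n, -, -, ⟨h2, -⟩ | ⟨-, ho, -⟩⟩ := q_cases (F := L) p
          · exact absurd h2 hp2
          · exact ho
        obtain ⟨j, hj⟩ := hodd hLodd
        obtain ⟨a, ha, hLa⟩ := GLOrder.exists_card_eq_pow (F := L) p
        set l := Nat.card L with hl
        set s := Nat.card R with hs
        -- `(l + 1)` divides `2 (s^2 - 1)` and `l^r + 1`
        have hd : l + 1 ∣ 2 * (s * ((s + 1) * (s - 1))) := by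
          have hd2 : l + 1 ∣ 2 * Nat.card (PSL2 L) := by
            obtain ⟨n, -, -, ⟨h2, -⟩ | ⟨-, -, hg, -⟩⟩ := q_cases (F := L) p
            · exact absurd h2 hp2
            · rw [← hg, card_psl_mul]
              exact (Nat.dvd_mul_right _ _).mul_left _
          refine hd2.trans (Nat.mul_dvd_mul_left 2 (hdvd.trans (dvd_of_eq ?_)))
          rw [Nat.card_congr e.toEquiv, card_pgl_eq]
        have hcop : Nat.Coprime (l + 1) s := by
          obtain ⟨b, -, hRb⟩ := GLOrder.exists_card_eq_pow (F := R) p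
          rw [hs, hRb]
          refine Nat.Coprime.pow_right b ?_
          rw [Nat.coprime_comm, (Fact.out : p.Prime).coprime_iff_not_dvd]
          intro h
          exact (Fact.out : p.Prime).not_dvd_one
            ((Nat.dvd_add_right (hLa ▸ dvd_pow_self p ha.ne')).1 h)
        rw [mul_left_comm] at hd
        have hd' := hcop.dvd_of_dvd_mul_left hd
        have hsr : (s + 1) * (s - 1) ∣ l ^ r - 1 := by
          rw [← Nat.sq_sub_sq s 1, one_pow]
          rw [hi, ← two_mul, pow_mul, hF] at hR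
          rw [← hR]
          exact Nat.sub_one_dvd_pow_sub_one _ _
        have hlr : l + 1 ∣ l ^ r + 1 := by
          have h := Odd.nat_add_dvd_pow_add_pow l 1 (⟨j, hj⟩ : Odd r)
          rwa [one_pow] at h
        have h4 : l + 1 ∣ 4 := by
          have h1 := hd'.trans (Nat.mul_dvd_mul_left 2 hsr)
          have h2 : l + 1 ∣ 2 * (l ^ r + 1) := hlr.mul_left 2
          have h := Nat.dvd_sub h2 h1
          have hl1 : 1 ≤ l ^ r := Nat.one_le_pow _ _ (by omega)
          rwa [show 2 * (l ^ r + 1) - 2 * (l ^ r - 1) = 4 by omega] at h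
        have := Nat.le_of_dvd (by norm_num) h4
        have hl3 : l = 3 := by omega
        rw [hi, ← two_mul, mul_comm, pow_mul, hF, hl3] at hR
        obtain ⟨k, -, hk⟩ := (Nat.dvd_prime_pow Nat.prime_three).1
          (⟨s ^ i, by rw [← hR, pow_two]⟩ : s ^ i ∣ 3 ^ r)
        rw [hk, ← pow_mul] at hR
        have := Nat.pow_right_injective (by norm_num : 2 ≤ 3) hR
        omega

end Cfsg.Agent.PSL2
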