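/-
Conjugacy of four-groups and icosahedral subgroups under `PGL_2(q)`, `q` odd.

Main results (namespace `Cfsg.Agent.PSL2`):
* `outConj u`, `outConj_mk`    : the automorphism of `PSL_2` induced by `u ∈ GL_2`
* `exists_lift_involution`, `exists_lift_pair` : involutions and commuting involutions in trace zero form
* `pair_conj`                  : anticommuting pairs of trace zero elements are conjugate under `GL_2`
* `klein_conj`                 : four-groups are conjugate under `PGL_2`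
* `altFive_std`, `altFive_conj`: icosahedral subgroups are conjugate under `PGL_2`
-/
import Cfsg.Agent.Lib.PSL2.Overgroups
import Cfsg.Agent.Lib.AutPSL.Basic

set_option autoImplicit false
set_option linter.unusedSectionVars false
set_option linter.dupNamespace false

open Matrix Subgroup

namespace Cfsg.Agent.PSL2

variable {F : Type*} [Field F]

/-- The automorphism of `PSL_2` induced by conjugation with `u ∈ GL_2`. -/
noncomputable def outConj (u : GL (Fin 2) F) : MulAut (PSL2 F) := AutPSL.semi u (RingEquiv.refl F)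

theorem outConj_mk (u : GL (Fin 2) F) {s s' : SL2 F}
    (h : (u : Matrix (Fin 2) (Fin 2) F) * s.1 = s'.1 * (u : Matrix (Fin 2) (Fin 2) F)) :
    outConj u (QuotientGroup.mk s) = QuotientGroup.mk s' := by
  refine AutPSL.semi_proj_eq u (RingEquiv.refl F) (s := s) (s' := s') ?_
  have hm : s.1.map (RingEquiv.refl F) = s.1 := by ext i j; rfl
  rw [hm, h, mul_assoc, Units.mul_inv, mul_one]

theorem mk_neg (s : SL2 F) : (QuotientGroup.mk (-s) : PSL2 F) = QuotientGroup.mk s := by
  have h : (QuotientGroup.mk (-1 : SL2 F) : PSL2 F) = 1 :=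
    (QuotientGroup.eq_one_iff _).2 (mem_center_iff'.2 (Or.inr rfl))
  rw [neg_eq_neg_one_mul, QuotientGroup.mk_mul, h, one_mul]

theorem mk_one_iff {g : SL2 F} : (QuotientGroup.mk g : PSL2 F) = 1 ↔ g = 1 ∨ g = -1 := by
  rw [QuotientGroup.eq_one_iff, mem_center_iff']

theorem mk_eq_mk_iff {g h : SL2 F} :
    (QuotientGroup.mk g : PSL2 F) = QuotientGroup.mk h ↔ g = h ∨ g = -h := by
  rw [← mul_inv_eq_one, ← QuotientGroup.mk_inv, ← QuotientGroup.mk_mul, mk_one_iff, mul_inv_eq_one,
    mul_inv_eq_iff_eq_mul, neg_one_mul]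

theorem exists_lift_involution (h2 : (2 : F) ≠ 0) {x : PSL2 F} (h1 : x ≠ 1) (hsq : x * x = 1) :
    ∃ g : SL2 F, (QuotientGroup.mk g : PSL2 F) = x ∧ tr g = 0 := by
  obtain ⟨g, rfl⟩ := QuotientGroup.mk_surjective x
  refine ⟨g, rfl, ?_⟩
  rw [← QuotientGroup.mk_mul, mk_one_iff] at hsq
  rcases hsq with e | e
  · exact absurd (mk_one_iff.2 (mem_center_iff'.1 (mem_center_of_mul_self h2 e))) h1
  · have e' : tr g • g.1 = 0 := by
      have h := coe_sq g
      rw [← Matrix.SpecialLinearGroup.coe_mul, e, Matrix.SpecialLinearGroup.coe_neg,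
        Matrix.SpecialLinearGroup.coe_one] at h
      exact (left_eq_add.1 (h.trans (sub_eq_neg_add _ _))).trans rfl
    rcases smul_eq_zero.1 e' with h | h
    · exact h
    · have := det_eq g
      simp [h] at this

theorem ne_one_of_tr_zero (h2 : (2 : F) ≠ 0) {g : SL2 F} (h : tr g = 0) :
    (QuotientGroup.mk g : PSL2 F) ≠ 1 := by
  intro e
  rcases mk_one_iff.1 e with rfl | rfl
  · rw [tr_one] at h; exact h2 h
  · rw [tr_neg, tr_one, neg_eq_zero] at h; exact h2 h

/-- Two trace zero elements anticommute iff their product has trace zero. -/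
theorem anticomm_mat {X Y : Matrix (Fin 2) (Fin 2) F} (hX : X.trace = 0) (hY : Y.trace = 0) :
    X * Y + Y * X = (X * Y).trace • (1 : Matrix (Fin 2) (Fin 2) F) := by
  rw [Matrix.trace_fin_two] at hX hY
  ext i j
  fin_cases i <;> fin_cases j <;> simp [Matrix.mul_apply, Fin.sum_univ_two, Matrix.trace_fin_two]
  · linear_combination Y 0 0 * hX - X 1 1 * hY
  · linear_combination Y 0 1 * hX + X 0 1 * hY
  · linear_combination Y 1 0 * hX + X 1 0 * hY
  · linear_combination X 1 1 * hY - Y 0 0 * hX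

/-- Two distinct commuting involutions lift to an anticommuting pair. -/
theorem exists_lift_pair (h2 : (2 : F) ≠ 0) {a b : PSL2 F} (ha : a ≠ 1) (hb : b ≠ 1)
    (ha2 : a * a = 1) (hb2 : b * b = 1) (hab : a * b = b * a) (hne : a ≠ b) :
    ∃ A B : SL2 F, (QuotientGroup.mk A : PSL2 F) = a ∧ (QuotientGroup.mk B : PSL2 F) = b ∧
      tr A = 0 ∧ tr B = 0 ∧ A * B = -(B * A) := by
  obtain ⟨A, rfl, hA⟩ := exists_lift_involution h2 ha ha2
  obtain ⟨B, rfl, hB⟩ := exists_lift_involution h2 hb hb2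
  refine ⟨A, B, rfl, rfl, hA, hB, ?_⟩
  rw [← QuotientGroup.mk_mul, ← QuotientGroup.mk_mul, mk_eq_mk_iff] at hab
  refine hab.resolve_left fun e => hne ?_
  have hsq : (A * B) * (A * B) = 1 := by
    rw [show (A * B) * (A * B) = (A * B) * (B * A) by rw [e],
      show (A * B) * (B * A) = A * (B * B) * A by simp [mul_assoc], sq_eq_neg_one_of_tr_zero hB]
    simp [sq_eq_neg_one_of_tr_zero hA]
  have h1 : (QuotientGroup.mk A : PSL2 F) * QuotientGroup.mk B = 1 := by
    rw [← QuotientGroup.mk_mul]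
    exact mk_one_iff.2 (mem_center_iff'.1 (mem_center_of_mul_self h2 hsq))
  exact mul_right_cancel (h1.trans hb2.symm)

theorem coe_anticomm {A B : SL2 F} (h : A * B = -(B * A)) : A.1 * B.1 = -(B.1 * A.1) := by
  have := congrArg Subtype.val h
  simpa using this

theorem coe_sq_neg_one {A : SL2 F} (h : tr A = 0) : A.1 * A.1 = -1 := by
  rw [coe_sq, h, zero_smul, zero_sub]

/-- Anticommuting pairs of trace zero elements are conjugate in `GL_2`. -/
theorem pair_conj (h2 : (2 : F) ≠ 0) {A B A' B' : SL2 F} (hA : tr A = 0) (hB : tr B = 0)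
    (hA' : tr A' = 0) (hB' : tr B' = 0) (hAB : A * B = -(B * A)) (hAB' : A' * B' = -(B' * A')) :
    ∃ u : GL (Fin 2) F,
      (u : Matrix (Fin 2) (Fin 2) F) * A.1 = A'.1 * (u : Matrix (Fin 2) (Fin 2) F) ∧
      (u : Matrix (Fin 2) (Fin 2) F) * B.1 = B'.1 * (u : Matrix (Fin 2) (Fin 2) F) := by
  have hns : ∀ g : SL2 F, tr g = 0 → ¬ TwoByTwo.IsScalar (g : Matrix (Fin 2) (Fin 2) F) := by
    intro g hg hs
    have hd := det_eq g
    have hs2 : g.1 0 0 = g.1 1 1 := hs.2.2
    have h0 : (2 : F) * g.1 0 0 = 0 := by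
      rw [tr, ← hs2] at hg; linear_combination hg
    rw [hs.1, ← hs2, (mul_eq_zero.1 h0).resolve_left h2] at hd
    simp at hd
  obtain ⟨c, hc⟩ := isConj_iff.1 (TwoByTwo.gl_isConj_of_eq
    (A := (A : GL (Fin 2) F)) (B := (A' : GL (Fin 2) F)) (hns A hA) (hns A' hA')
    (by simp only [Matrix.SpecialLinearGroup.coe_GL_coe_matrix]; rw [← tr_eq_trace, ← tr_eq_trace, hA, hA'])
    (by simp only [Matrix.SpecialLinearGroup.coe_GL_coe_matrix]; rw [A.2, A'.2]))
  have hcA : (c : Matrix (Fin 2) (Fin 2) F) * A.1 = A'.1 * (c : Matrix (Fin 2) (Fin 2) F) := by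
    have := congrArg Units.val (mul_inv_eq_iff_eq_mul.1 hc)
    simpa using this
  set C : Matrix (Fin 2) (Fin 2) F := (c : Matrix (Fin 2) (Fin 2) F) with hC
  set D : Matrix (Fin 2) (Fin 2) F := ((c⁻¹ : GL (Fin 2) F) : Matrix (Fin 2) (Fin 2) F) with hD
  have hCD : C * D = 1 := Units.mul_inv c
  have hDC : D * C = 1 := Units.inv_mul c
  let B1 : SL2 F := ⟨C * B.1 * D, by rw [hC, hD, Matrix.det_units_conj, B.2]⟩
  have hcB : C * B.1 = B1.1 * C := by
    show C * B.1 = C * B.1 * D * C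
    rw [mul_assoc (C * B.1), hDC, mul_one]
  have hB1 : tr B1 = 0 := by
    rw [tr_eq_trace, ← hB, tr_eq_trace]
    show (C * B.1 * D).trace = _
    rw [Matrix.trace_mul_comm, ← mul_assoc, hDC, one_mul]
  have hA'1 : A'.1 = C * A.1 * D := by rw [hcA, mul_assoc, hCD, mul_one]
  have hanti : A'.1 * B1.1 = -(B1.1 * A'.1) := by
    rw [hA'1]
    show C * A.1 * D * (C * B.1 * D) = -(C * B.1 * D * (C * A.1 * D))
    rw [show C * A.1 * D * (C * B.1 * D) = C * (A.1 * (D * C) * B.1) * D by simp only [mul_assoc],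
      show C * B.1 * D * (C * A.1 * D) = C * (B.1 * (D * C) * A.1) * D by simp only [mul_assoc],
      hDC, mul_one, mul_one, coe_anticomm hAB, mul_neg, neg_mul]
  -- a second conjugation fixing `A'`
  suffices ∃ x : GL (Fin 2) F,
      (x : Matrix (Fin 2) (Fin 2) F) * A'.1 = A'.1 * (x : Matrix (Fin 2) (Fin 2) F) ∧
      (x : Matrix (Fin 2) (Fin 2) F) * B1.1 = B'.1 * (x : Matrix (Fin 2) (Fin 2) F) by
    obtain ⟨x, hx1, hx2⟩ := this
    refine ⟨x * c, ?_, ?_⟩
    · rw [Units.val_mul, mul_assoc, ← hC, hcA, ← mul_assoc, hx1, mul_assoc]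
    · rw [Units.val_mul, mul_assoc, ← hC, hcB, ← mul_assoc, hx2, mul_assoc]
  set W : SL2 F := B' * B1 with hW
  have hWc : W.1 * A'.1 = A'.1 * W.1 := by
    rw [hW, Matrix.SpecialLinearGroup.coe_mul, mul_assoc, ← neg_neg (B1.1 * A'.1), ← hanti, mul_neg,
      ← mul_assoc, ← neg_mul, ← coe_anticomm hAB', mul_assoc]
  by_cases hW2 : tr W = 2
  · -- then `B' = -B1`
    have hA'c : A' ∉ Subgroup.center (SL2 F) := fun h => ne_one_of_tr_zero h2 hA'
      ((QuotientGroup.eq_one_iff _).2 h)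
    obtain ⟨a, b, hab⟩ := exists_lin_of_commute hA'c hWc
    have htr : tr W = 2 * a := by
      rw [tr_eq_trace, hab, lin, Matrix.trace_add, Matrix.trace_smul, Matrix.trace_smul,
        Matrix.trace_one, ← tr_eq_trace, hA', Fintype.card_fin, smul_eq_mul, smul_eq_mul]
      push_cast; ring
    have ha : a = 1 := mul_left_cancel₀ h2 (by rw [← htr, hW2, mul_one])
    have hb : b = 0 := by
      have hd : a ^ 2 + tr A' * a * b + b ^ 2 = 1 := by rw [← det_lin, ← hab]; exact W.2
      rw [ha, hA'] at hd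
      exact eq_zero_of_pow_eq_zero (n := 2) (by linear_combination hd)
    have hW1 : W = 1 := Subtype.ext (by rw [hab, ha, hb]; simp [lin])
    have hB'1 : B' = -B1 := by
      have h := sq_eq_neg_one_of_tr_zero hB1
      rw [hW] at hW1
      have : B' * (B1 * B1) = B1 := by rw [← mul_assoc, hW1, one_mul]
      rw [h] at this
      rw [← this]; simp
    refine ⟨(A' : GL (Fin 2) F), rfl, ?_⟩
    rw [hB'1, Matrix.SpecialLinearGroup.coe_GL_coe_matrix, Matrix.SpecialLinearGroup.coe_neg, neg_mul]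
    exact hanti
  · have hdet : ((1 : Matrix (Fin 2) (Fin 2) F) - W.1).det ≠ 0 := by
      have hl : (1 : Matrix (Fin 2) (Fin 2) F) - W.1 = lin W 1 (-1) := by
        simp [lin, sub_eq_add_neg]
      rw [hl, det_lin]
      intro h
      exact hW2 (by linear_combination -h)
    refine ⟨GeneralLinearGroup.mkOfDetNeZero _ hdet, ?_, ?_⟩
    · show (1 - W.1) * A'.1 = A'.1 * (1 - W.1)
      rw [sub_mul, mul_sub, one_mul, mul_one, hWc]
    · show (1 - W.1) * B1.1 = B'.1 * (1 - W.1)
      rw [sub_mul, mul_sub, one_mul, mul_one, hW, Matrix.SpecialLinearGroup.coe_mul, mul_assoc,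
        coe_sq_neg_one hB1, ← mul_assoc, coe_sq_neg_one hB', mul_neg, mul_one, neg_mul, one_mul,
        sub_neg_eq_add, sub_neg_eq_add, add_comm]

theorem map_closure_pair {G : Type*} [Group G] (f : G →* G) (a b : G) :
    (closure ({a, b} : Set G)).map f = closure {f a, f b} := by
  rw [MonoidHom.map_closure, Set.image_pair]

/-- The lifts of the generators of a four-group. -/
theorem klein_data (h2 : (2 : F) ≠ 0) {V : Subgroup (PSL2 F)} (hV : IsKleinFour V) :
    ∃ A B : SL2 F, tr A = 0 ∧ tr B = 0 ∧ A * B = -(B * A) ∧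
      V = closure {(QuotientGroup.mk A : PSL2 F), QuotientGroup.mk B} := by
  have h4 : Nat.card V = 4 := hV.card_four
  have : Finite V := Nat.finite_of_card_ne_zero (by omega)
  have : Fintype V := Fintype.ofFinite V
  have hsq : ∀ x : V, x * x = 1 := fun x => by
    have h := Monoid.pow_exponent_eq_one x
    rw [hV.exponent_two, pow_two] at h
    exact h
  obtain ⟨x, hx⟩ : ∃ x : V, x ≠ 1 := by
    have : Nontrivial V := Finite.one_lt_card_iff_nontrivial.1 (by omega)
    exact exists_ne 1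
  obtain ⟨y, hy1, hyx⟩ : ∃ y : V, y ≠ 1 ∧ y ≠ x := by
    by_contra h
    push Not at h
    have hle : Nat.card V ≤ Nat.card Bool := Nat.card_le_card_of_surjective
      (fun b : Bool => if b then x else 1) (fun z => by
        by_cases hz : z = 1
        · exact ⟨false, hz.symm⟩
        · exact ⟨true, (h z hz).symm⟩)
    rw [h4, Nat.card_eq_fintype_card (α := Bool), Fintype.card_bool] at hle
    omega
  have hxy : x * y = y * x := by
    rw [eq_comm, ← mul_inv_eq_one, _root_.mul_inv_rev, inv_eq_of_mul_eq_one_right (hsq x),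
      inv_eq_of_mul_eq_one_right (hsq y)]
    exact hsq (y * x)
  obtain ⟨A, B, hA, hB, htA, htB, hAB⟩ := exists_lift_pair h2 (a := (x : PSL2 F)) (b := (y : PSL2 F))
    (fun e => hx (Subtype.ext e)) (fun e => hy1 (Subtype.ext e)) (congrArg Subtype.val (hsq x))
    (congrArg Subtype.val (hsq y)) (congrArg Subtype.val hxy) (fun e => hyx (Subtype.ext e.symm))
  refine ⟨A, B, htA, htB, hAB, ?_⟩
  rw [hA, hB]
  set C := closure {(x : PSL2 F), (y : PSL2 F)} with hC
  have hCV : C ≤ V := by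
    rw [hC, closure_le]
    rintro z (rfl | rfl) <;> exact Subtype.prop _
  have hxC : (x : PSL2 F) ∈ C := subset_closure (Or.inl rfl)
  have hyC : (y : PSL2 F) ∈ C := subset_closure (Or.inr rfl)
  refine (eq_of_le_of_card_ge hCV ?_).symm
  have : Finite C := Finite.of_injective _ (Subgroup.inclusion_injective hCV)
  let f : Bool × Bool → C := fun b =>
    (if b.1 then ⟨_, hxC⟩ else 1) * (if b.2 then ⟨_, hyC⟩ else 1)
  have hf : Function.Injective f := by
    have hne : (x : PSL2 F) * (y : PSL2 F) ≠ 1 := fun e => hyx (by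
      have : x * y = 1 := Subtype.ext e
      rw [← inv_eq_of_mul_eq_one_right this, inv_eq_of_mul_eq_one_right (hsq x)])
    have hx' : (x : PSL2 F) ≠ 1 := fun e => hx (Subtype.ext e)
    have hy' : (y : PSL2 F) ≠ 1 := fun e => hy1 (Subtype.ext e)
    have hxy' : (x : PSL2 F) ≠ y := fun e => hyx (Subtype.ext e.symm)
    rintro ⟨_ | _, _ | _⟩ ⟨_ | _, _ | _⟩ h <;>
      simp [f, Subtype.ext_iff, hx', hy', hxy', hxy'.symm, hx'.symm, hy'.symm, hne, hne.symm] at h ⊢
  have := Nat.card_le_card_of_injective f hf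
  rw [Nat.card_prod, Nat.card_eq_fintype_card (α := Bool), Fintype.card_bool] at this
  omega

/-- Four-groups are conjugate under `PGL_2`. -/
theorem klein_conj (h2 : (2 : F) ≠ 0) {V W : Subgroup (PSL2 F)} (hV : IsKleinFour V)
    (hW : IsKleinFour W) : ∃ u : GL (Fin 2) F, V.map (outConj u).toMonoidHom = W := by
  obtain ⟨A, B, hA, hB, hAB, rfl⟩ := klein_data h2 hV
  obtain ⟨A', B', hA', hB', hAB', rfl⟩ := klein_data h2 hW
  obtain ⟨u, h1, h2'⟩ := pair_conj h2 hA hB hA' hB' hAB hAB'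
  refine ⟨u, ?_⟩
  rw [map_closure_pair]
  show closure {outConj u _, outConj u _} = _
  rw [outConj_mk u h1, outConj_mk u h2']

/-- A concrete generating triple of `A_5`. -/
theorem altFive_gens :
    ∃ a b s : alternatingGroup (Fin 5), a ≠ 1 ∧ b ≠ 1 ∧ a ≠ b ∧ s ≠ 1 ∧ a * a = 1 ∧ b * b = 1 ∧
      s * s = 1 ∧ a * b = b * a ∧ (s * a) ^ 3 = 1 ∧ s * a ≠ 1 ∧ (s * b) ^ 5 = 1 ∧ s * b ≠ 1 ∧
      (s * (a * b)) ^ 5 = 1 ∧ s * (a * b) ≠ 1 := by
  refine ⟨⟨Equiv.swap 0 1 * Equiv.swap 2 3, Equiv.Perm.mem_alternatingGroup.2 (by decide)⟩,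
    ⟨Equiv.swap 0 2 * Equiv.swap 1 3, Equiv.Perm.mem_alternatingGroup.2 (by decide)⟩,
    ⟨Equiv.swap 0 1 * Equiv.swap 2 4, Equiv.Perm.mem_alternatingGroup.2 (by decide)⟩, ?_⟩
  decide +kernel

theorem tr_sq_eq_one_of_pow_three {g : SL2 F}
    (h : (QuotientGroup.mk g : PSL2 F) ^ 3 = 1) (h1 : (QuotientGroup.mk g : PSL2 F) ≠ 1) :
    tr g ^ 2 = 1 := by
  have hg : g ∉ Subgroup.center (SL2 F) := fun hc => h1 ((QuotientGroup.eq_one_iff _).2 hc)
  have hl : g.1 ^ 3 = lin g (-tr g) (tr g ^ 2 - 1) := by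
    rw [pow_succ, pow_two, coe_sq, sub_mul, smul_mul_assoc, coe_sq, one_mul, lin]
    module
  rw [← QuotientGroup.mk_pow, mk_one_iff] at h
  obtain ⟨e, he⟩ : ∃ e : F, lin g (-tr g) (tr g ^ 2 - 1) = lin g e 0 := by
    rw [← hl]
    rcases h with h | h <;> have h' := congrArg Subtype.val h
    · exact ⟨1, by simpa [lin] using h'⟩
    · exact ⟨-1, by simpa [lin] using h'⟩
  have := lin_right_zero hg he
  linear_combination this

theorem tr_of_pow_five {g : SL2 F}
    (h : (QuotientGroup.mk g : PSL2 F) ^ 5 = 1) (h1 : (QuotientGroup.mk g : PSL2 F) ≠ 1) :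
    tr g ^ 4 - 3 * tr g ^ 2 + 1 = 0 := by
  have hg : g ∉ Subgroup.center (SL2 F) := fun hc => h1 ((QuotientGroup.eq_one_iff _).2 hc)
  rw [← QuotientGroup.mk_pow, mk_one_iff] at h
  obtain ⟨e, he⟩ : ∃ e : F,
      lin g (-(tr g ^ 3 - 2 * tr g)) (tr g ^ 4 - 3 * tr g ^ 2 + 1) = lin g e 0 := by
    rw [← exists_lin_pow_five]
    rcases h with h | h <;> have h' := congrArg Subtype.val h
    · exact ⟨1, by simpa [lin] using h'⟩
    · exact ⟨-1, by simpa [lin] using h'⟩
  exact lin_right_zero hg he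

/-- Coordinates of a trace zero element with respect to an anticommuting pair. -/
theorem expand_tr_zero (h2 : (2 : F) ≠ 0) {A B S : SL2 F} (hA : tr A = 0) (hB : tr B = 0)
    (hS : tr S = 0) (hAB : A * B = -(B * A)) :
    ∃ α β γ : F, S.1 = α • A.1 + β • B.1 + γ • (A.1 * B.1) ∧ tr (S * A) = -2 * α ∧
      tr (S * B) = -2 * β ∧ tr (S * (A * B)) = -2 * γ ∧ α ^ 2 + β ^ 2 + γ ^ 2 = 1 := by
  have hAA := coe_sq_neg_one hA
  have hBB := coe_sq_neg_one hB
  have hBA : B.1 * A.1 = -(A.1 * B.1) := by rw [coe_anticomm hAB, neg_neg]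
  have tA : Matrix.trace A.1 = 0 := by rw [← tr_eq_trace, hA]
  have tB : Matrix.trace B.1 = 0 := by rw [← tr_eq_trace, hB]
  have tS : Matrix.trace S.1 = 0 := by rw [← tr_eq_trace, hS]
  have tC : Matrix.trace (A.1 * B.1) = 0 := by
    have h : (2 : F) * Matrix.trace (A.1 * B.1) = 0 := by
      have h' := Matrix.trace_mul_comm B.1 A.1
      rw [hBA, Matrix.trace_neg] at h'
      linear_combination -h'
    exact (mul_eq_zero.1 h).resolve_left h2
  set α := -(Matrix.trace (S.1 * A.1)) / 2 with hα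
  set β := -(Matrix.trace (S.1 * B.1)) / 2 with hβ
  set γ := -(Matrix.trace (S.1 * (A.1 * B.1))) / 2 with hγ
  set C := A.1 * B.1 with hC
  have hCC : C * C = -1 := by
    rw [hC, show A.1 * B.1 * (A.1 * B.1) = A.1 * (B.1 * A.1) * B.1 by simp only [mul_assoc], hBA,
      mul_neg, neg_mul, ← mul_assoc, hAA, neg_mul, one_mul, neg_mul, neg_neg, hBB]
  have hAC : A.1 * C = -B.1 := by rw [hC, ← mul_assoc, hAA, neg_mul, one_mul]
  have hCA : C * A.1 = B.1 := by rw [hC, mul_assoc, hBA, mul_neg, ← mul_assoc, hAA, neg_mul, one_mul, neg_neg]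
  have hBC : B.1 * C = A.1 := by
    rw [hC, ← mul_assoc, hBA, neg_mul, mul_assoc, hBB, mul_neg, mul_one, neg_neg]
  have hCB : C * B.1 = -A.1 := by rw [hC, mul_assoc, hBB, mul_neg, mul_one]
  set D := S.1 - (α • A.1 + β • B.1 + γ • C) with hD
  have tD : Matrix.trace D = 0 := by
    simp [hD, Matrix.trace_sub, Matrix.trace_add, Matrix.trace_smul, tA, tB, tC, tS]
  have t1 : Matrix.trace (1 : Matrix (Fin 2) (Fin 2) F) = 2 := by simp
  have hDA : Matrix.trace (D * A.1) = 0 := by
    simp [hD, sub_mul, add_mul, smul_mul_assoc, hAA, hBA, hCA, Matrix.trace_sub, Matrix.trace_add,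
      Matrix.trace_smul, Matrix.trace_neg, tB, tC, hα]
    field_simp
    ring
  have hDB : Matrix.trace (D * B.1) = 0 := by
    simp [hD, sub_mul, add_mul, smul_mul_assoc, hBB, hCB, Matrix.trace_sub, Matrix.trace_add,
      Matrix.trace_smul, Matrix.trace_neg, tA, tC, hβ, ← hC]
    field_simp
    ring
  have hDC : Matrix.trace (D * C) = 0 := by
    simp [hD, sub_mul, add_mul, smul_mul_assoc, hAC, hBC, hCC, Matrix.trace_sub, Matrix.trace_add,
      Matrix.trace_smul, Matrix.trace_neg, tA, tB, hγ]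
    field_simp
    ring
  have antiA := anticomm_mat tD tA
  have antiB := anticomm_mat tD tB
  have antiC := anticomm_mat tD tC
  rw [hDA, zero_smul] at antiA
  rw [hDB, zero_smul] at antiB
  rw [hDC, zero_smul] at antiC
  have hDC0 : D * C = 0 := by
    have e : D * C = C * D := by
      rw [hC, ← mul_assoc, eq_neg_of_add_eq_zero_left antiA, neg_mul, mul_assoc,
        eq_neg_of_add_eq_zero_left antiB, mul_neg, neg_neg, mul_assoc]
    rw [← e, ← two_smul F] at antiC
    exact (smul_eq_zero.1 antiC).resolve_left h2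
  have hD0 : D = 0 := by
    have h := congrArg (· * C) hDC0
    simp only [mul_assoc, hCC, mul_neg, mul_one, zero_mul, neg_eq_zero] at h
    exact h
  have hSe : S.1 = α • A.1 + β • B.1 + γ • C := sub_eq_zero.1 hD0
  refine ⟨α, β, γ, hSe, ?_, ?_, ?_, ?_⟩
  · rw [tr_eq_trace, Matrix.SpecialLinearGroup.coe_mul, hα]; field_simp
  · rw [tr_eq_trace, Matrix.SpecialLinearGroup.coe_mul, hβ]; field_simp
  · rw [tr_eq_trace, Matrix.SpecialLinearGroup.coe_mul, Matrix.SpecialLinearGroup.coe_mul, hγ]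
    field_simp
    rfl
  · have h := coe_sq_neg_one hS
    rw [hSe] at h
    simp only [add_mul, mul_add, smul_mul_assoc, mul_smul_comm, hAA, hBB, hCC, hAC, hCA, hBC, hCB,
      ← hC, hBA] at h
    have h00 := congrFun (congrFun h 0) 0
    simp at h00
    linear_combination -h00

/-- Normal form of an icosahedral subgroup. -/
theorem altFive_std (h2 : (2 : F) ≠ 0) {w : F} (hw : w ^ 2 = 1 + w) {M : Subgroup (PSL2 F)}
    (e : M ≃* alternatingGroup (Fin 5)) :
    ∃ A B S : SL2 F, tr A = 0 ∧ tr B = 0 ∧ A * B = -(B * A) ∧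
      S.1 = (2 : F)⁻¹ • (A.1 + w • B.1 + (1 - w) • (A.1 * B.1)) ∧
      M = closure {(QuotientGroup.mk A : PSL2 F), QuotientGroup.mk B, QuotientGroup.mk S} := by
  obtain ⟨a, b, s, ha, hb, hne, hs, ha2, hb2, hs2, hab, hsa, hsa1, hsb, hsb1, hsab, hsab1⟩ :=
    altFive_gens
  let f : alternatingGroup (Fin 5) →* PSL2 F := M.subtype.comp e.symm.toMonoidHom
  have hf : Function.Injective f := Subtype.coe_injective.comp e.symm.injective
  have hf1 : ∀ {x}, x ≠ 1 → f x ≠ 1 := fun hx h => hx (hf (h.trans (map_one f).symm))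
  obtain ⟨A, B, hA, hB, htA, htB, hAB⟩ := exists_lift_pair h2 (hf1 ha) (hf1 hb)
    (by rw [← map_mul, ha2, map_one]) (by rw [← map_mul, hb2, map_one])
    (by rw [← map_mul, ← map_mul, hab]) (fun h => hne (hf h))
  obtain ⟨S, hS, htS⟩ := exists_lift_involution h2 (hf1 hs) (by rw [← map_mul, hs2, map_one])
  obtain ⟨α, β, γ, hSe, hα, hβ, hγ, hsum⟩ := expand_tr_zero h2 htA htB htS hAB
  have t1 : tr (S * A) ^ 2 = 1 := tr_sq_eq_one_of_pow_three
    (by rw [QuotientGroup.mk_mul, hS, hA, ← map_mul, ← map_pow, hsa, map_one])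
    (by rw [QuotientGroup.mk_mul, hS, hA, ← map_mul]; exact hf1 hsa1)
  have t2 : tr (S * B) ^ 4 - 3 * tr (S * B) ^ 2 + 1 = 0 := tr_of_pow_five
    (by rw [QuotientGroup.mk_mul, hS, hB, ← map_mul, ← map_pow, hsb, map_one])
    (by rw [QuotientGroup.mk_mul, hS, hB, ← map_mul]; exact hf1 hsb1)
  rw [hα] at t1
  rw [hβ] at t2
  have hgen : M = closure {(QuotientGroup.mk A : PSL2 F), QuotientGroup.mk B, QuotientGroup.mk S} := by
    have htop : closure ({a, b, s} : Set (alternatingGroup (Fin 5))) = ⊤ := by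
      apply Subgroup.eq_top_of_card_eq
      set C := closure ({a, b, s} : Set (alternatingGroup (Fin 5))) with hC
      have mA : a ∈ C := subset_closure (Or.inl rfl)
      have mB : b ∈ C := subset_closure (Or.inr (Or.inl rfl))
      have mS : s ∈ C := subset_closure (Or.inr (Or.inr rfl))
      have h3 : 3 ∣ Nat.card C := by
        have := _root_.orderOf_dvd_natCard (⟨s * a, mul_mem mS mA⟩ : C)
        rwa [Subgroup.orderOf_mk, orderOf_eq_prime (p := 3) hsa hsa1] at this
      have h5 : 5 ∣ Nat.card C := by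
        have := _root_.orderOf_dvd_natCard (⟨s * b, mul_mem mS mB⟩ : C)
        have h5' : Fact (Nat.Prime 5) := ⟨by norm_num⟩
        rwa [Subgroup.orderOf_mk, orderOf_eq_prime (p := 5) hsb hsb1] at this
      have h4 : 4 ∣ Nat.card C := by
        have hle : closure ({a, b} : Set (alternatingGroup (Fin 5))) ≤ C := by
          rw [closure_le]; rintro z (rfl | rfl)
          · exact mA
          · exact mB
        refine Dvd.dvd.trans ?_ (Subgroup.card_dvd_of_le hle)
        set V := closure ({a, b} : Set (alternatingGroup (Fin 5))) with hV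
        have va : a ∈ V := subset_closure (Or.inl rfl)
        have vb : b ∈ V := subset_closure (Or.inr rfl)
        have hab1 : a * b ≠ 1 := fun h => hne (by
          rw [← inv_eq_of_mul_eq_one_right h, inv_eq_of_mul_eq_one_right ha2])
        have hp : IsPGroup 2 V := by
          have hcomm : ∀ x ∈ ({a, b} : Set (alternatingGroup (Fin 5))),
              ∀ y ∈ ({a, b} : Set (alternatingGroup (Fin 5))), x * y = y * x := by
            rintro x (rfl | rfl) y (rfl | rfl) <;> simp [hab]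
          have := Subgroup.isMulCommutative_closure hcomm
          intro z
          refine ⟨1, Subtype.ext ?_⟩
          rw [pow_one, Subgroup.coe_pow, Subgroup.coe_one]
          refine Subgroup.closure_induction (p := fun x _ => x ^ 2 = 1) ?_ ?_ ?_ ?_ z.2
          · rintro x (rfl | rfl) <;> simpa [pow_two]
          · simp
          · intro x y hx hy h1 h2
            have hc : (⟨x, hx⟩ : V) * ⟨y, hy⟩ = ⟨y, hy⟩ * ⟨x, hx⟩ := mul_comm' _ _
            rw [(show Commute x y from congrArg Subtype.val hc).mul_pow, h1, h2, one_mul]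
          · intro x _ h1; rw [inv_pow, h1, inv_one]
        obtain ⟨k, hk⟩ := hp.exists_card_eq
        have h3' : 3 ≤ Nat.card V := by
          let g : Fin 3 → V := ![1, ⟨a, va⟩, ⟨b, vb⟩]
          have hg : Function.Injective g := by
            intro i j h
            fin_cases i <;> fin_cases j <;>
              simp [g, Subtype.ext_iff, ha, hb, hne, hne.symm, ha.symm, hb.symm] at h ⊢
          have := Nat.card_le_card_of_injective g hg
          simpa using this
        rw [hk] at h3' ⊢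
        rcases Nat.lt_or_ge k 2 with hk2 | hk2
        · interval_cases k <;> simp at h3'
        · exact pow_dvd_pow 2 hk2
      have h60 : 60 ∣ Nat.card C := by
        have h15 := Nat.Coprime.mul_dvd_of_dvd_of_dvd (by norm_num : Nat.Coprime 3 5) h3 h5
        exact Nat.Coprime.mul_dvd_of_dvd_of_dvd (by norm_num : Nat.Coprime 4 15) h4 h15
      refine Nat.dvd_antisymm (Subgroup.card_subgroup_dvd_card C) ?_
      rw [card_alt_five]
      exact h60
    have h := congrArg (Subgroup.map f) htop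
    rw [MonoidHom.map_closure, ← MonoidHom.range_eq_map] at h
    have hrange : f.range = M := by
      rw [MonoidHom.range_comp, MonoidHom.range_eq_top.2 e.symm.surjective, ← MonoidHom.range_eq_map,
        Subgroup.range_subtype]
    rw [hrange] at h
    rw [← h, hA, hB, hS]
    congr 1
    simp [Set.image_insert_eq]
  -- move to the standard signs
  obtain ⟨sa, hsa', hsaα⟩ : ∃ sa : F, (sa = 1 ∨ sa = -1) ∧ 2 * α = sa :=
    ⟨2 * α, mul_self_eq_one_iff.1 (by linear_combination t1), rfl⟩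
  have hw' : ((2 * β) ^ 2 - w ^ 2) * ((2 * β) ^ 2 - (1 - w) ^ 2) = 0 := by
    linear_combination t2 + (-2 * (2 * β) ^ 2 + w ^ 2 - w + 1) * hw
  have hγ2 : (2 * β) ^ 2 + (2 * γ) ^ 2 = w ^ 2 + (1 - w) ^ 2 := by
    linear_combination 4 * hsum - t1 - 2 * hw
  have final : ∀ (A B : SL2 F) (β γ : F), tr A = 0 → tr B = 0 → A * B = -(B * A) →
      S.1 = α • A.1 + β • B.1 + γ • (A.1 * B.1) → (2 * β) ^ 2 = w ^ 2 → (2 * γ) ^ 2 = (1 - w) ^ 2 →
      ∃ A' B' S' : SL2 F, tr A' = 0 ∧ tr B' = 0 ∧ A' * B' = -(B' * A') ∧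
        S'.1 = (2 : F)⁻¹ • (A'.1 + w • B'.1 + (1 - w) • (A'.1 * B'.1)) ∧
        (QuotientGroup.mk A' : PSL2 F) = QuotientGroup.mk A ∧
        (QuotientGroup.mk B' : PSL2 F) = QuotientGroup.mk B ∧
        (QuotientGroup.mk S' : PSL2 F) = QuotientGroup.mk S := by
    intro A B β γ htA htB hAB hSe hb2 hc2
    have hmul : ∀ s : F, (s = 1 ∨ s = -1) → ∀ g : SL2 F, ∃ g' : SL2 F, g'.1 = s • g.1 ∧
        (QuotientGroup.mk g' : PSL2 F) = QuotientGroup.mk g := by
      rintro s (rfl | rfl) g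
      · exact ⟨g, (one_smul F g.1).symm, rfl⟩
      · exact ⟨-g, by rw [Matrix.SpecialLinearGroup.coe_neg, neg_one_smul], mk_neg g⟩
    obtain ⟨sb, hsb', hsbβ⟩ : ∃ sb : F, (sb = 1 ∨ sb = -1) ∧ 2 * β = sb * w := by
      rcases sq_eq_sq_iff_eq_or_eq_neg.1 hb2 with e | e
      · exact ⟨1, Or.inl rfl, by rw [e, one_mul]⟩
      · exact ⟨-1, Or.inr rfl, by rw [e, neg_one_mul]⟩
    obtain ⟨sc, hsc', hscγ⟩ : ∃ sc : F, (sc = 1 ∨ sc = -1) ∧ 2 * γ = sc * (1 - w) := by
      rcases sq_eq_sq_iff_eq_or_eq_neg.1 hc2 with e | e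
      · exact ⟨1, Or.inl rfl, by rw [e, one_mul]⟩
      · exact ⟨-1, Or.inr rfl, by rw [e, neg_one_mul]⟩
    have hs : sa * sb * sc = 1 ∨ sa * sb * sc = -1 := by
      rcases hsa' with h | h <;> rcases hsb' with h' | h' <;> rcases hsc' with h'' | h'' <;>
        simp [h, h', h'']
    have hprod : ∀ {x y : F}, (x = 1 ∨ x = -1) → (y = 1 ∨ y = -1) → x * y = 1 ∨ x * y = -1 := by
      rintro x y (rfl | rfl) (rfl | rfl) <;> simp
    obtain ⟨A', hA1, hA2⟩ := hmul _ (hprod hs hsa') A
    obtain ⟨B', hB1, hB2⟩ := hmul _ (hprod hs hsb') B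
    obtain ⟨S', hS1, hS2⟩ := hmul _ hs S
    have htr : ∀ {g g' : SL2 F} {s : F}, g'.1 = s • g.1 → tr g = 0 → tr g' = 0 := fun h h0 => by
      rw [tr_eq_trace, h, Matrix.trace_smul, ← tr_eq_trace, h0, smul_zero]
    refine ⟨A', B', S', htr hA1 htA, htr hB1 htB, ?_, ?_, hA2, hB2, hS2⟩
    · apply Subtype.ext
      rw [Matrix.SpecialLinearGroup.coe_neg, Matrix.SpecialLinearGroup.coe_mul,
        Matrix.SpecialLinearGroup.coe_mul, hA1, hB1, smul_mul_smul_comm, smul_mul_smul_comm,
        coe_anticomm hAB, smul_neg, mul_comm]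
    · have q1 : sa * sa = 1 := by rcases hsa' with h | h <;> simp [h]
      have q2 : sb * sb = 1 := by rcases hsb' with h | h <;> simp [h]
      have q3 : sc * sc = 1 := by rcases hsc' with h | h <;> simp [h]
      rw [hS1, hSe, hA1, hB1, smul_mul_smul_comm]
      match_scalars
      · field_simp
        linear_combination sa * sb * sc * hsaα
      · field_simp
        linear_combination sa * sb * sc * hsbβ
      · field_simp
        linear_combination sa * sb * sc * hscγ + (-(sa * sb * sc ^ 2 * (1 - w) * sb ^ 2)) * q1 + (-(sa * sb * sc ^ 2 * (1 - w))) * q2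
  rcases mul_eq_zero.1 hw' with h | h
  · obtain ⟨A', B', S', h1, h2', h3, h4, eA, eB, eS⟩ := final A B β γ htA htB hAB hSe
      (sub_eq_zero.1 h) (by linear_combination hγ2 - h)
    exact ⟨A', B', S', h1, h2', h3, h4, by rw [eA, eB, eS, hgen]⟩
  · -- exchange `B` and `A B`
    have hC : tr (A * B) = 0 := by
      have h' := tr_mul_comm A B
      nth_rewrite 1 [hAB] at h'
      rw [tr_neg] at h'
      have : (2 : F) * tr (B * A) = 0 := by linear_combination -h'
      rw [hAB, tr_neg, (mul_eq_zero.1 this).resolve_left h2, neg_zero]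
    have hAC : A * (A * B) = -(A * B * A) := by
      have h' : A * B * A = -(B * A * A) := by rw [hAB, neg_mul]
      rw [h', neg_neg, ← mul_assoc, sq_eq_neg_one_of_tr_zero htA, mul_assoc B,
        sq_eq_neg_one_of_tr_zero htA, neg_mul, one_mul, mul_neg, mul_one]
    obtain ⟨A', B', S', h1, h2', h3, h4, eA, eB, eS⟩ := final A (A * B) γ (-β) htA hC hAC
      (by
        rw [hSe, Matrix.SpecialLinearGroup.coe_mul, ← mul_assoc, coe_sq_neg_one htA, neg_mul,
          one_mul]
        module)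
      (by linear_combination hγ2 - h) (by linear_combination h)
    refine ⟨A', B', S', h1, h2', h3, h4, ?_⟩
    rw [eA, eB, eS, hgen, QuotientGroup.mk_mul]
    refine le_antisymm ?_ ?_ <;> rw [closure_le] <;> rintro z (rfl | rfl | rfl)
    · exact subset_closure (Or.inl rfl)
    · have h := mul_mem (inv_mem (subset_closure
        (k := {(QuotientGroup.mk A : PSL2 F), QuotientGroup.mk A * QuotientGroup.mk B,
          QuotientGroup.mk S}) (Or.inl rfl))) (subset_closure (Or.inr (Or.inl rfl)))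
      rwa [inv_mul_cancel_left] at h
    · exact subset_closure (Or.inr (Or.inr rfl))
    · exact subset_closure (Or.inl rfl)
    · exact mul_mem (subset_closure (Or.inl rfl)) (subset_closure (Or.inr (Or.inl rfl)))
    · exact subset_closure (Or.inr (Or.inr rfl))

variable [Finite F]

/-- Icosahedral subgroups are conjugate under `PGL_2`. -/
theorem altFive_conj (h2 : (2 : F) ≠ 0) {M M' : Subgroup (PSL2 F)}
    (e : M ≃* alternatingGroup (Fin 5)) (e' : M' ≃* alternatingGroup (Fin 5)) :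
    ∃ u : GL (Fin 2) F, M.map (outConj u).toMonoidHom = M' := by
  obtain ⟨w, hw⟩ := exists_sq_eq_one_add h2 (exists_alternatingFive_sub_iff.1 ⟨M, ⟨e⟩⟩)
  obtain ⟨A, B, S, hA, hB, hAB, hS, rfl⟩ := altFive_std h2 hw e
  obtain ⟨A', B', S', hA', hB', hAB', hS', rfl⟩ := altFive_std h2 hw e'
  obtain ⟨u, h1, h1'⟩ := pair_conj h2 hA hB hA' hB' hAB hAB'
  refine ⟨u, ?_⟩
  have h3 : (u : Matrix (Fin 2) (Fin 2) F) * S.1 = S'.1 * (u : Matrix (Fin 2) (Fin 2) F) := by
    rw [hS, hS', mul_smul_comm, smul_mul_assoc]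
    congr 1
    simp only [mul_add, add_mul, mul_smul_comm, smul_mul_assoc, ← mul_assoc, h1, h1']
    rw [mul_assoc (A'.1) (u : Matrix (Fin 2) (Fin 2) F) B.1, h1', ← mul_assoc]
  rw [MonoidHom.map_closure]
  congr 1
  simp only [Set.image_insert_eq, Set.image_singleton, MulEquiv.coe_toMonoidHom]
  rw [outConj_mk u h1, outConj_mk u h1', outConj_mk u h3]

end Cfsg.Agent.PSL2
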