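/-
Involutions of `PSL_2(q)` and elements of order four of `SL_2(q)`, `q` odd.

Main results (namespace `Cfsg.Agent.PSL2`):
* `trZero_conj`      : trace zero elements of `SL_2` are conjugate
* `card_trZero`      : there are `q (q ± 1)` of them
* `card_centralizer_trZero`, `card_normalizer_trZero`
* `trZero_of_orderOf_four`, `sl_order_four_subgroup`, `involution_isConj`
-/
import Cfsg.Agent.Lib.PSL2.Conjugacy

set_option autoImplicit false
set_option linter.unusedSectionVars false
set_option linter.dupNamespace false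

open Matrix Subgroup

namespace Cfsg.Agent.PSL2

variable {F : Type*} [Field F] [Finite F]

theorem exists_sq_add_sq_eq (h2 : (2 : F) ≠ 0) (d : F) : ∃ a b : F, a ^ 2 + b ^ 2 = d := by
  have := Fintype.ofFinite F
  have hne : ringChar F ≠ 2 := fun h => by
    have : CharP F 2 := ringChar.of_eq h
    exact h2 (by exact_mod_cast CharP.cast_eq_zero F 2)
  obtain ⟨a, b, hab⟩ := FiniteField.exists_root_sum_quadratic (f := (Polynomial.X ^ 2 : Polynomial F))
    (g := Polynomial.X ^ 2 - Polynomial.C d) (Polynomial.degree_X_pow 2)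
    (Polynomial.degree_X_pow_sub_C two_pos d) (FiniteField.odd_card_of_char_ne_two hne)
  refine ⟨a, b, ?_⟩
  simp at hab
  linear_combination hab

/-- Trace zero elements are conjugate in `SL_2`. -/
theorem trZero_conj (h2 : (2 : F) ≠ 0) {A A' : SL2 F} (hA : tr A = 0) (hA' : tr A' = 0) :
    ∃ s : SL2 F, s * A * s⁻¹ = A' := by
  have hns : ∀ g : SL2 F, tr g = 0 → ¬ TwoByTwo.IsScalar (g : Matrix (Fin 2) (Fin 2) F) := by
    intro g hg hs
    have hd := det_eq g
    have hs2 : g.1 0 0 = g.1 1 1 := hs.2.2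
    have h0 : (2 : F) * g.1 0 0 = 0 := by rw [tr, ← hs2] at hg; linear_combination hg
    rw [hs.1, ← hs2, (mul_eq_zero.1 h0).resolve_left h2] at hd
    simp at hd
  obtain ⟨c, hc⟩ := isConj_iff.1 (TwoByTwo.gl_isConj_of_eq
    (A := (A : GL (Fin 2) F)) (B := (A' : GL (Fin 2) F)) (hns A hA) (hns A' hA')
    (by simp only [Matrix.SpecialLinearGroup.coe_GL_coe_matrix]; rw [← tr_eq_trace, ← tr_eq_trace, hA, hA'])
    (by simp only [Matrix.SpecialLinearGroup.coe_GL_coe_matrix]; rw [A.2, A'.2]))
  have hcA : (c : Matrix (Fin 2) (Fin 2) F) * A.1 = A'.1 * (c : Matrix (Fin 2) (Fin 2) F) := by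
    have := congrArg Units.val (mul_inv_eq_iff_eq_mul.1 hc)
    simpa using this
  -- correct the determinant inside the centraliser of `A'`
  have hd0 : (c : Matrix (Fin 2) (Fin 2) F).det ≠ 0 := by
    rw [← GeneralLinearGroup.val_det_apply]; exact Units.ne_zero _
  obtain ⟨a, b, hab⟩ := exists_sq_add_sq_eq h2 (c : Matrix (Fin 2) (Fin 2) F).det⁻¹
  let s : SL2 F := ⟨lin A' a b * (c : Matrix (Fin 2) (Fin 2) F), by
    rw [Matrix.det_mul, det_lin, hA', zero_mul, zero_mul, add_zero, hab, inv_mul_cancel₀ hd0]⟩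
  refine ⟨s, mul_inv_eq_iff_eq_mul.2 (Subtype.ext ?_)⟩
  show lin A' a b * (c : Matrix (Fin 2) (Fin 2) F) * A.1 = A'.1 * (lin A' a b * (c : Matrix (Fin 2) (Fin 2) F))
  rw [mul_assoc, hcA, ← mul_assoc, ← mul_assoc]
  congr 1
  simp [lin, mul_add, add_mul]

/-- A trace zero element is a triple `(a, b, c)` with `-a^2 - bc = 1`. -/
theorem card_trZero (h2 : (2 : F) ≠ 0) :
    Nat.card {g : SL2 F // tr g = 0} =
      Nat.card F * (Nat.card F - 1) + Nat.card F * Nat.card {a : F // a ^ 2 = -1} := by
  classical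
  have := Fintype.ofFinite F
  let e : {g : SL2 F // tr g = 0} ≃ Σ a : F, {v : F × F // v.1 * v.2 = -1 - a ^ 2} :=
    { toFun := fun g => ⟨g.1.1 0 0, (g.1.1 0 1, g.1.1 1 0), by
        have hd := det_eq g.1
        have ht : g.1.1 0 0 + g.1.1 1 1 = 0 := g.2
        linear_combination -hd + g.1.1 0 0 * ht⟩
      invFun := fun x => ⟨⟨!![x.1, x.2.1.1; x.2.1.2, -x.1], by
        rw [Matrix.det_fin_two_of]; linear_combination -x.2.2⟩, by simp [tr]⟩
      left_inv := fun g => by
        have ht : g.1.1 1 1 = -g.1.1 0 0 := by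
          have ht : g.1.1 0 0 + g.1.1 1 1 = 0 := g.2
          linear_combination ht
        ext i j
        fin_cases i <;> fin_cases j <;> simp [ht]
      right_inv := fun x => by
        obtain ⟨a, ⟨b, c⟩, h⟩ := x
        simp }
  have hfib : ∀ d : F, Nat.card {v : F × F // v.1 * v.2 = d} =
      (Nat.card F - 1) + if d = 0 then Nat.card F else 0 := by
    intro d
    rw [Nat.card_eq_fintype_card, Nat.card_eq_fintype_card, Fintype.card_subtype]
    by_cases hd : d = 0
    · subst hd
      have hset : (Finset.univ.filter fun v : F × F => v.1 * v.2 = 0) =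
          (Finset.univ.image fun c : F => ((0 : F), c)) ∪
            ((Finset.univ.erase (0 : F)).image fun b : F => (b, (0 : F))) := by
        ext ⟨b, c⟩
        simp only [Finset.mem_filter, Finset.mem_univ, true_and, Finset.mem_union, Finset.mem_image,
          Prod.mk.injEq, Finset.mem_erase, ne_eq, and_true, mul_eq_zero]
        constructor
        · intro h
          by_cases hb : b = 0
          · exact Or.inl ⟨c, hb.symm, rfl⟩
          · exact Or.inr ⟨b, hb, rfl, (h.resolve_left hb).symm⟩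
        · rintro (⟨x, h, -⟩ | ⟨x, -, -, h⟩)
          · exact Or.inl h.symm
          · exact Or.inr h.symm
      rw [hset, Finset.card_union_of_disjoint, Finset.card_image_of_injective,
        Finset.card_image_of_injective, Finset.card_erase_of_mem (Finset.mem_univ _), Finset.card_univ,
        if_pos rfl]
      · omega
      · exact fun x y h => congrArg Prod.fst h
      · exact fun x y h => congrArg Prod.snd h
      · rw [Finset.disjoint_left]
        intro v hv hv'
        obtain ⟨x, -, rfl⟩ := Finset.mem_image.1 hv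
        obtain ⟨y, hy, hxy⟩ := Finset.mem_image.1 hv'
        exact (Finset.mem_erase.1 hy).1 (congrArg Prod.fst hxy)
    · have hset : (Finset.univ.filter fun v : F × F => v.1 * v.2 = d) =
          (Finset.univ.erase (0 : F)).image fun b : F => (b, d / b) := by
        ext ⟨b, c⟩
        simp only [Finset.mem_filter, Finset.mem_univ, true_and, Finset.mem_image, Prod.mk.injEq,
          Finset.mem_erase, ne_eq, and_true]
        constructor
        · intro h
          have hb : b ≠ 0 := fun e => hd (by rw [← h, e, zero_mul])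
          exact ⟨b, hb, rfl, by rw [← h, mul_div_cancel_left₀ c hb]⟩
        · rintro ⟨x, hx, rfl, rfl⟩
          exact mul_div_cancel₀ d hx
      rw [hset, Finset.card_image_of_injective, Finset.card_erase_of_mem (Finset.mem_univ _),
        Finset.card_univ, if_neg hd, add_zero]
      exact fun x y h => congrArg Prod.fst h
  rw [Nat.card_congr e, Nat.card_sigma]
  simp only [hfib, Finset.sum_add_distrib, Finset.sum_const, smul_eq_mul, Finset.card_univ]
  rw [← Nat.card_eq_fintype_card, Finset.sum_ite, Finset.sum_const_zero, add_zero, Finset.sum_const,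
    smul_eq_mul, mul_comm (Finset.card _)]
  congr 2
  rw [Nat.card_eq_fintype_card (α := {a : F // a ^ 2 = -1}), Fintype.card_subtype]
  congr 1
  ext a
  simp only [Finset.mem_filter, Finset.mem_univ, true_and]
  constructor <;> intro h <;> linear_combination -h

theorem card_sq_eq_neg_one (hodd : Odd (Nat.card F)) :
    Nat.card {a : F // a ^ 2 = -1} = if Nat.card F % 4 = 1 then 2 else 0 := by
  classical
  have := Fintype.ofFinite F
  have h2 : (2 : F) ≠ 0 := two_ne_zero_iff_odd.2 hodd
  rw [Nat.odd_iff] at hodd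
  have hiff : IsSquare (-1 : F) ↔ Nat.card F % 4 = 1 := by
    rw [FiniteField.isSquare_neg_one_iff, Nat.card_eq_fintype_card]
    rw [Nat.card_eq_fintype_card] at hodd
    omega
  split_ifs with h
  · obtain ⟨i, hi⟩ := hiff.2 h
    have hi0 : i ≠ 0 := fun e => by rw [e, mul_zero] at hi; exact neg_ne_zero.2 one_ne_zero hi
    have hset : {a : F | a ^ 2 = -1} = {i, -i} := by
      ext a
      simp only [Set.mem_setOf_eq, Set.mem_insert_iff, Set.mem_singleton_iff, ← sq_eq_sq_iff_eq_or_eq_neg]
      rw [hi, pow_two i]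
    show Nat.card ↥{a : F | a ^ 2 = -1} = 2
    rw [hset, Nat.card_coe_set_eq, Set.ncard_pair]
    intro e
    have : (2 : F) * i = 0 := by linear_combination e
    exact hi0 ((mul_eq_zero.1 this).resolve_left h2)
  · rw [Nat.card_eq_zero]
    left
    exact ⟨fun a => h (hiff.1 ⟨a.1, by rw [← pow_two, a.2]⟩)⟩

theorem card_centralizer_trZero (hodd : Odd (Nat.card F)) {A : SL2 F} (hA : tr A = 0) :
    (Nat.card F % 4 = 1 → Nat.card (centralizer ({A} : Set (SL2 F))) = Nat.card F - 1) ∧
    (Nat.card F % 4 = 3 → Nat.card (centralizer ({A} : Set (SL2 F))) = Nat.card F + 1) := by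
  have h2 : (2 : F) ≠ 0 := two_ne_zero_iff_odd.2 hodd
  have horb : MulAction.orbit (ConjAct (SL2 F)) A = {g | tr g = 0} := by
    ext g
    rw [ConjAct.mem_orbit_conjAct, Set.mem_setOf_eq, isConj_iff]
    constructor
    · rintro ⟨c, hc⟩
      have := tr_conj g c
      rw [hc, hA] at this
      exact this.symm
    · intro hg; exact trZero_conj h2 hg hA
  have hstab : MulAction.stabilizer (ConjAct (SL2 F)) A =
      (centralizer ({A} : Set (SL2 F))).map (ConjAct.toConjAct : SL2 F ≃* ConjAct (SL2 F)).toMonoidHom := by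
    ext x
    rw [Subgroup.mem_map_equiv, Subgroup.mem_centralizer_singleton_iff, MulAction.mem_stabilizer_iff,
      ConjAct.smul_def, mul_inv_eq_iff_eq_mul]
    exact ⟨fun h => h, fun h => h⟩
  have hcard := MulAction.index_stabilizer (G := ConjAct (SL2 F)) (x := A)
  rw [horb] at hcard
  have hmul := (MulAction.stabilizer (ConjAct (SL2 F)) A).index_mul_card
  rw [hcard, hstab, ← Nat.card_congr (Subgroup.equivMapOfInjective _ _
    (ConjAct.toConjAct : SL2 F ≃* ConjAct (SL2 F)).injective).toEquiv,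
    ← Nat.card_coe_set_eq, show Nat.card (ConjAct (SL2 F)) = Nat.card (SL2 F) from rfl,
    GLOrder.card_SL_two, GLOrder.sq_sub_one] at hmul
  rw [show Nat.card ↥{g : SL2 F | tr g = 0} = Nat.card {g : SL2 F // tr g = 0} from rfl,
    card_trZero h2, card_sq_eq_neg_one hodd] at hmul
  have hq : 1 < Nat.card F := Finite.one_lt_card
  constructor <;> intro h4
  · rw [if_pos h4, ← Nat.mul_add, show Nat.card F - 1 + 2 = Nat.card F + 1 by omega, mul_assoc] at hmul
    exact Nat.eq_of_mul_eq_mul_left (by omega)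
      (Nat.eq_of_mul_eq_mul_left (by omega) hmul)
  · rw [if_neg (by omega), mul_zero, add_zero, mul_comm (Nat.card F + 1), mul_assoc] at hmul
    exact Nat.eq_of_mul_eq_mul_left (by omega)
      (Nat.eq_of_mul_eq_mul_left (by omega) hmul)

theorem mem_normalizer_trZero {A : SL2 F} (h2 : (2 : F) ≠ 0) (hA : tr A = 0) {s : SL2 F} :
    s ∈ normalizer (zpowers A : Set (SL2 F)) ↔ s * A * s⁻¹ = A ∨ s * A * s⁻¹ = A⁻¹ := by
  classical
  have hA2 := sq_eq_neg_one_of_tr_zero hA
  have hA4 : A ^ 4 = 1 := by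
    rw [show 4 = 2 * 2 from rfl, pow_mul, pow_two A, hA2, pow_two, neg_mul_neg, one_mul]
  have hA1 : A ≠ 1 := fun e => by rw [e, tr_one] at hA; exact h2 hA
  have hneg : (-1 : SL2 F) ≠ 1 := fun e => by
    have := congrArg tr e
    rw [tr_neg, tr_one] at this
    exact h2 ((mul_eq_zero.1 (show (2 : F) * 2 = 0 by linear_combination -this)).elim id id)
  have ho : orderOf A = 4 := orderOf_eq_prime_pow (p := 2) (n := 1)
    (by rw [pow_one, pow_two, hA2]; exact hneg) hA4
  rw [Subgroup.mem_normalizer_iff_map_conj_eq]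
  show (zpowers A).map (MulAut.conj s).toMonoidHom = zpowers A ↔ _
  rw [MonoidHom.map_zpowers]
  show zpowers (s * A * s⁻¹) = zpowers A ↔ _
  constructor
  · intro h
    have hm : s * A * s⁻¹ ∈ zpowers A := h ▸ mem_zpowers _
    rw [mem_zpowers_iff_mem_range_orderOf, ho, Finset.mem_image] at hm
    obtain ⟨i, hi, hi'⟩ := hm
    rw [Finset.mem_range] at hi
    have htr : tr (A ^ i) = 0 := by rw [hi', tr_conj, hA]
    interval_cases i
    · rw [pow_zero, tr_one] at htr; exact absurd htr h2
    · exact Or.inl (by rw [← hi', pow_one])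
    · rw [pow_two, hA2, tr_neg, tr_one, neg_eq_zero] at htr; exact absurd htr h2
    · exact Or.inr (by rw [← hi', eq_inv_of_mul_eq_one_left (a := A ^ 3) (b := A) (by rw [← pow_succ, hA4])])
  · rintro (h | h) <;> rw [h]
    exact zpowers_inv

theorem card_normalizer_trZero (hodd : Odd (Nat.card F)) {A : SL2 F} (hA : tr A = 0) :
    Nat.card (normalizer (zpowers A : Set (SL2 F))) =
      2 * Nat.card (centralizer ({A} : Set (SL2 F))) := by
  have h2 : (2 : F) ≠ 0 := two_ne_zero_iff_odd.2 hodd
  obtain ⟨w, hw, hwA⟩ := exists_inverting_elt (g := A) (by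
    rw [hA, zero_pow two_ne_zero, show (4 : F) = 2 * 2 by norm_num]; exact (mul_ne_zero h2 h2).symm)
  have hwinv := conj_eq_inv_of_tr_zero hw hwA
  set N := normalizer (zpowers A : Set (SL2 F))
  set C := centralizer ({A} : Set (SL2 F))
  have hCN : C ≤ N := fun s hs => (mem_normalizer_trZero h2 hA).2 (Or.inl (by
    rw [mem_centralizer_singleton_iff] at hs; rw [hs, mul_inv_cancel_right]))
  have hwN : w ∈ N := (mem_normalizer_trZero h2 hA).2 (Or.inr hwinv)
  have hAne : A ≠ A⁻¹ := fun e => by
    have h := congrArg (fun g => g * A) e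
    simp only [inv_mul_cancel, sq_eq_neg_one_of_tr_zero hA] at h
    have := congrArg tr h
    rw [tr_neg, tr_one] at this
    exact h2 ((mul_eq_zero.1 (show (2 : F) * 2 = 0 by linear_combination -this)).elim id id)
  have hmemC : ∀ s : SL2 F, s ∈ C ↔ s * A * s⁻¹ = A := fun s => by
    rw [mem_centralizer_singleton_iff, mul_inv_eq_iff_eq_mul]
  have hidx : (C.subgroupOf N).index = 2 := by
    rw [Subgroup.index_eq_two_iff]
    refine ⟨⟨w, hwN⟩, fun s => ?_⟩
    rw [Subgroup.mem_subgroupOf, Subgroup.mem_subgroupOf, hmemC, hmemC, Subgroup.coe_mul]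
    have hsw : (s : SL2 F) * w * A * ((s : SL2 F) * w)⁻¹ = ((s : SL2 F) * A * (s : SL2 F)⁻¹)⁻¹ := by
      rw [show (s : SL2 F) * w * A * ((s : SL2 F) * w)⁻¹ = s * (w * A * w⁻¹) * (s : SL2 F)⁻¹ by group,
        hwinv]
      group
    rw [hsw]
    rcases (mem_normalizer_trZero h2 hA).1 s.2 with h | h
    · exact Or.inr ⟨h, fun e => hAne (by rw [h] at e; exact e.symm)⟩
    · exact Or.inl ⟨by rw [h, inv_inv], fun e => hAne (by rw [h] at e; exact e.symm)⟩
  have hmul := (C.subgroupOf N).index_mul_card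
  rw [hidx, Nat.card_congr (Subgroup.subgroupOfEquivOfLe hCN).toEquiv] at hmul
  exact hmul.symm

theorem sl_order_four_subgroup (hodd : Odd (Nat.card F)) (A : Subgroup (SL2 F))
    (hA : Nat.card A = 4) : ∃ g : SL2 F, tr g = 0 ∧ A = zpowers g := by
  have h2 : (2 : F) ≠ 0 := two_ne_zero_iff_odd.2 hodd
  have hpow : ∀ x ∈ A, x * x * (x * x) = 1 := fun x hx => by
    have h : (⟨x, hx⟩ : A) ^ Nat.card A = 1 := pow_card_eq_one'
    rw [hA, show 4 = 2 * 2 from rfl, pow_mul, pow_two, pow_two] at h
    exact congrArg Subtype.val h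
  obtain ⟨g, hgA, hg⟩ : ∃ g ∈ A, g * g ≠ 1 := by
    by_contra hall
    push Not at hall
    have hle : A ≤ center (SL2 F) := fun x hx => mem_center_of_mul_self h2 (hall x hx)
    have hcen : Nat.card A ≤ 2 := by
      calc Nat.card A ≤ Nat.card ↥({1, -1} : Set (SL2 F)) :=
            Nat.card_le_card_of_injective (fun x => ⟨x.1, mem_center_iff'.1 (hle x.2)⟩)
              fun a b h => Subtype.ext (congrArg (fun z : ↥({1, -1} : Set (SL2 F)) => z.1) h)
        _ ≤ 2 := by rw [Nat.card_coe_set_eq]; exact (Set.ncard_insert_le _ _).trans (by simp)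
    omega
  have hg2 : g * g = -1 :=
    (mem_center_iff'.1 (mem_center_of_mul_self h2 (hpow g hgA))).resolve_left hg
  have htr : tr g = 0 := by
    have h' := congrArg Subtype.val hg2
    rw [Matrix.SpecialLinearGroup.coe_mul, coe_sq, Matrix.SpecialLinearGroup.coe_neg,
      Matrix.SpecialLinearGroup.coe_one, sub_eq_neg_self, smul_eq_zero] at h'
    refine h'.resolve_right fun e => ?_
    have := congrArg Matrix.det e
    rw [g.2, Matrix.det_zero] at this
    exact one_ne_zero this
  refine ⟨g, htr, (Subgroup.eq_of_le_of_card_ge (zpowers_le.2 hgA) ?_).symm⟩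
  rw [Nat.card_zpowers, hA]
  refine le_of_eq (orderOf_eq_prime_pow (p := 2) (n := 1) ?_ ?_).symm
  · rwa [pow_one, pow_two]
  · rw [show 2 ^ (1 + 1) = 2 * 2 from rfl, pow_mul, pow_two, pow_two]
    exact hpow g hgA

theorem involution_isConj (hodd : Odd (Nat.card F)) {x y : PSL2 F} (hx : orderOf x = 2)
    (hy : orderOf y = 2) : IsConj x y := by
  have h2 : (2 : F) ≠ 0 := two_ne_zero_iff_odd.2 hodd
  have hx1 : x ≠ 1 := fun e => by rw [e, orderOf_one] at hx; omega
  have hy1 : y ≠ 1 := fun e => by rw [e, orderOf_one] at hy; omega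
  obtain ⟨X, rfl, hX⟩ := exists_lift_involution h2 hx1
    (by rw [← pow_two]; exact orderOf_dvd_iff_pow_eq_one.1 hx.dvd)
  obtain ⟨Y, rfl, hY⟩ := exists_lift_involution h2 hy1
    (by rw [← pow_two]; exact orderOf_dvd_iff_pow_eq_one.1 hy.dvd)
  obtain ⟨s, hs⟩ := trZero_conj h2 hX hY
  exact isConj_iff.2 ⟨QuotientGroup.mk s, by rw [← hs]; simp⟩

end Cfsg.Agent.PSL2
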