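/-
Maximal subgroups of `PGL_2(q)`, `q` odd, not containing `PSL_2(q)`.

Main results (namespace `Cfsg.Agent.PSL2`):
* `stabilizer_isCoatom`        : point stabilisers are maximal in `PSL_2`
* `Inter`, `inter_of_isCoatom` : the section `M ∩ L`
* `pgl_isCoatom_cases`         : the list
-/
import Cfsg.Agent.Lib.PSL2.PGL

set_option autoImplicit false
set_option linter.unusedSectionVars false
set_option linter.dupNamespace false

open Matrix MulAction Subgroup
open scoped LinearAlgebra.Projectivization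

namespace Cfsg.Agent.PSL2

variable {F : Type*} [Field F]

local notation "φ" => (ProjectiveSpecialLinearGroup.toPGL : PSL2 F →* PGL2 F)

instance isPretransitive_pgl : IsPretransitive (PGL2 F) (Pt F) := ⟨fun P Q => by
  obtain ⟨g, hg⟩ := MulAction.exists_smul_eq (PSL2 F) P Q
  exact ⟨φ g, by rw [toPGL_smul, hg]⟩⟩

/-- Elements of order `p` fix only one point. -/
theorem eq_of_fix_pow_char (p : ℕ) [Fact p.Prime] [CharP F p] {g : PGL2 F} (hg : g ≠ 1)
    (hp : g ^ p = 1) {P Q : Pt F} (hP : g • P = P) (hQ : g • Q = Q) : P = Q := by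
  by_contra hne
  obtain ⟨k, hkP, hkQ⟩ := exists_map_two hne
  have hP' : k⁻¹ • (pinf : Pt F) = P := by rw [← hkP, inv_smul_smul]
  have hQ' : k⁻¹ • (pt (0 : F)) = Q := by rw [← hkQ, inv_smul_smul]
  obtain ⟨a, b, hab⟩ := exists_aff_of_fix (g := k * g * k⁻¹)
    (by rw [mul_smul, mul_smul, hP', hP, hkP])
  have h0 : aff a b • pt (0 : F) = pt (0 : F) := by
    rw [← hab, mul_smul, mul_smul, hQ', hQ, hkQ]
  rw [aff_smul_pt, pt_inj, mul_zero, zero_add] at h0
  have ha : (aff a b) ^ p = 1 := by rw [← hab, conj_pow, hp, mul_one, mul_inv_cancel]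
  rw [aff_pow_char_iff p] at ha
  rw [ha, h0, aff_one_zero, mul_inv_eq_one, mul_eq_left] at hab
  exact hg hab

theorem isCoatom_stabilizer_psl [Finite F] (P : Pt F) : IsCoatom (stabilizer (PSL2 F) P) := by
  refine isCoatom_of_forall (stabilizer_ne_top P) fun K hle hK => le_antisymm ?_ hle
  intro k hk
  by_contra hP
  rw [mem_stabilizer_iff] at hP
  apply hK
  have hreach : ∀ R : Pt F, ∃ g ∈ K, g • P = R := by
    intro R
    by_cases hR : R = P
    · exact ⟨1, one_mem K, by rw [one_smul, hR]⟩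
    obtain ⟨g, hg⟩ := exists_map_pinf P
    rcases pt_cases (g • (k • P)) with hQ | ⟨x, hQ⟩
    · exact absurd (MulAction.injective g (hQ.trans hg.symm)) hP
    rcases pt_cases (g • R) with hR' | ⟨y, hR'⟩
    · exact absurd (MulAction.injective g (hR'.trans hg.symm)) hR
    have hn := range_toPGL_normal (F := F)
    obtain ⟨s, hs⟩ : g⁻¹ * aff 1 (y - x) * g⁻¹⁻¹ ∈ (φ).range :=
      hn.conj_mem _ (mem_range_toPGL ⟨1, by simp⟩) g⁻¹
    rw [inv_inv] at hs
    have hsP : s • P = P := by
      rw [← toPGL_smul, hs, mul_smul, mul_smul, hg, aff_smul_pinf, ← hg, inv_smul_smul]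
    have hsQ : s • (k • P) = R := by
      rw [← toPGL_smul, hs, mul_smul, mul_smul, hQ, aff_smul_pt, Units.val_one, one_mul,
        show x + (y - x) = y by ring, ← hR', inv_smul_smul]
    exact ⟨s * k, mul_mem (hle hsP) hk, by rw [mul_smul, hsQ]⟩
  refine eq_top_iff.2 fun g _ => ?_
  obtain ⟨k', hk', he⟩ := hreach (g • P)
  have : k'⁻¹ * g ∈ stabilizer (PSL2 F) P := by
    rw [mem_stabilizer_iff, mul_smul, ← he, inv_smul_smul]
  simpa using mul_mem hk' (hle this)

/-- What is known about `N = M ∩ L` for a maximal subgroup `M` of `PGL_2` not containing `L`. -/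
structure Inter (M : Subgroup (PGL2 F)) (N : Subgroup (PSL2 F)) : Prop where
  comap_eq : M.comap φ = N
  ne_top : N ≠ ⊤
  card_eq : Nat.card M = 2 * Nat.card N
  not_le : ¬ M ≤ (φ).range
  fix : ∀ u : GL (Fin 2) F, ProjGenLinGroup.mk u ∈ M → N.map (outConj u).toMonoidHom = N
  norm : ∀ C : Subgroup (PSL2 F), C ≠ ⊥ → C ≤ N →
    (∀ u : GL (Fin 2) F, ProjGenLinGroup.mk u ∈ M → C.map (outConj u).toMonoidHom ≤ C) →
    normalizer (C : Set (PSL2 F)) ≤ N ∧ normalizer ((C.map φ : Subgroup (PGL2 F)) : Set (PGL2 F)) = M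

theorem map_toPGL_outConj (u : GL (Fin 2) F) (C : Subgroup (PSL2 F)) :
    (C.map (outConj u).toMonoidHom).map φ =
      (C.map φ).map (MulAut.conj (ProjGenLinGroup.mk u)).toMonoidHom := by
  rw [Subgroup.map_map, Subgroup.map_map]
  congr 1
  exact MonoidHom.ext fun x => toPGL_outConj u x

variable [Finite F]

theorem inter_of_isCoatom (hodd : Odd (Nat.card F)) (h4 : 4 ≤ Nat.card F)
    {M : Subgroup (PGL2 F)} (hM : IsCoatom M) (hML : ¬ (φ).range ≤ M) :
    Inter M (M.comap φ) := by
  set L := (φ).range with hL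
  have : L.Normal := range_toPGL_normal
  have hd : Nat.gcd 2 (Nat.card F - 1) = 2 := by
    obtain ⟨i, hi⟩ := hodd; exact Nat.gcd_eq_left (by omega)
  have hLtop : L ≠ ⊤ := fun h => by
    have := index_range_toPGL (F := F)
    rw [← hL, h, Subgroup.index_top, hd] at this
    omega
  have hnle : ¬ M ≤ L := fun h => by
    rcases eq_or_lt_of_le h with e | e
    · exact hML e.ge
    · exact hLtop (hM.2 _ e)
  have hinj : Function.Injective φ := ProjectiveSpecialLinearGroup.toPGL_injective
  have hfix : ∀ u : GL (Fin 2) F, ProjGenLinGroup.mk u ∈ M →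
      (M.comap φ).map (outConj u).toMonoidHom = M.comap φ := by
    intro u hu
    refine Subgroup.eq_of_le_of_card_ge ?_ (card_map_mulEquiv _ _).ge
    rintro _ ⟨x, hx, rfl⟩
    rw [Subgroup.mem_comap, MulEquiv.coe_toMonoidHom, toPGL_outConj]
    exact mul_mem (mul_mem hu hx) (inv_mem hu)
  refine ⟨rfl, ?_, ?_, hnle, hfix, ?_⟩
  · intro h
    apply hML
    rintro _ ⟨x, rfl⟩
    exact Subgroup.mem_comap.1 (h ▸ Subgroup.mem_top x)
  · have h2 : L.relIndex M = 2 := by
      have hdvd := Subgroup.relIndex_dvd_index_of_normal L M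
      rw [index_range_toPGL, hd] at hdvd
      rcases (Nat.dvd_prime Nat.prime_two).1 hdvd with h1 | h1
      · exact absurd (Subgroup.relIndex_eq_one.1 h1) hnle
      · exact h1
    have hmul := (L.subgroupOf M).index_mul_card
    have hc : Nat.card (L.subgroupOf M) = Nat.card (M.comap φ) := by
      rw [Nat.card_congr (Subgroup.equivMapOfInjective (L.subgroupOf M) M.subtype
        (Subgroup.subtype_injective M)).toEquiv, Subgroup.subgroupOf_map_subtype,
        Nat.card_congr (Subgroup.equivMapOfInjective (M.comap φ) φ hinj).toEquiv,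
        Subgroup.map_comap_eq]
    rw [show (L.subgroupOf M).index = L.relIndex M from rfl, h2, hc] at hmul
    exact hmul.symm
  · intro C hC hCN hinv
    have hle : M ≤ normalizer ((C.map φ : Subgroup (PGL2 F)) : Set (PGL2 F)) := by
      intro m hm
      obtain ⟨u, rfl⟩ := ProjGenLinGroup.mk_surjective m
      rw [Subgroup.mem_normalizer_iff_map_conj_eq]
      show (C.map φ).map (MulAut.conj (ProjGenLinGroup.mk u)).toMonoidHom = C.map φ
      rw [← map_toPGL_outConj,
        Subgroup.eq_of_le_of_card_ge (hinv u hm) (card_map_mulEquiv _ _).ge]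
    have hne : normalizer ((C.map φ : Subgroup (PGL2 F)) : Set (PGL2 F)) ≠ ⊤ := by
      intro h
      have := isSimpleGroup_psl h4
      have hn : C.Normal := ⟨fun c hc x => by
        have h' := Subgroup.mem_normalizer_iff.1 (h ▸ Subgroup.mem_top (φ x)) (φ c)
        rw [← map_inv, ← map_mul, ← map_mul, Subgroup.mem_map_iff_mem hinj,
          Subgroup.mem_map_iff_mem hinj] at h'
        exact h'.1 hc⟩
      rcases hn.eq_bot_or_eq_top with e | e
      · exact hC e
      · apply hML
        rintro _ ⟨x, rfl⟩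
        exact Subgroup.mem_comap.1 (hCN (e ▸ Subgroup.mem_top x))
    have heq : normalizer ((C.map φ : Subgroup (PGL2 F)) : Set (PGL2 F)) = M := by
      rcases eq_or_lt_of_le hle with e | e
      · exact e.symm
      · exact absurd (hM.2 _ e) hne
    refine ⟨fun x hx => ?_, heq⟩
    rw [Subgroup.mem_comap, ← heq, Subgroup.mem_normalizer_iff]
    intro y
    constructor
    · rintro ⟨c, hc, rfl⟩
      exact ⟨x * c * x⁻¹, (Subgroup.mem_normalizer_iff.1 hx c).1 hc, by simp⟩
    · rintro ⟨c, hc, hy⟩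
      refine ⟨x⁻¹ * c * x, ?_, ?_⟩
      · apply (Subgroup.mem_normalizer_iff.1 hx _).2
        simpa [mul_assoc] using hc
      · rw [map_mul, map_mul, map_inv, hy]
        group

variable (p : ℕ) [Fact p.Prime] [CharP F p]

theorem inter_borel {M : Subgroup (PGL2 F)} (hM : IsCoatom M) {N : Subgroup (PSL2 F)}
    (hI : Inter M N) (hp : p ∣ Nat.card N) {P : Pt F} (hP : N ≤ stabilizer (PSL2 F) P) :
    Nat.card M = Nat.card F * (Nat.card F - 1) ∧ IsCoatom N := by
  obtain ⟨⟨x, hxN⟩, hx⟩ := exists_prime_orderOf_dvd_card' (G := N) p hp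
  rw [Subgroup.orderOf_mk] at hx
  have hx1 : φ x ≠ 1 := fun e => by
    rw [← map_one φ] at e
    rw [ProjectiveSpecialLinearGroup.toPGL_injective e, orderOf_one] at hx
    exact (Fact.out : p.Prime).ne_one hx.symm
  have hxp : φ x ^ p = 1 := by rw [← map_pow, ← hx, pow_orderOf_eq_one, map_one]
  have hle : M ≤ stabilizer (PGL2 F) P := by
    intro m hm
    obtain ⟨u, rfl⟩ := ProjGenLinGroup.mk_surjective m
    refine mem_stabilizer_iff.2 (eq_of_fix_pow_char p hx1 hxp ?_ ?_)
    · obtain ⟨z, hz, hzx⟩ := (hI.fix u hm).symm ▸ hxN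
      rw [← hzx, MulEquiv.coe_toMonoidHom, toPGL_outConj, mul_smul, mul_smul, inv_smul_smul,
        toPGL_smul, mem_stabilizer_iff.1 (hP hz)]
    · rw [toPGL_smul, mem_stabilizer_iff.1 (hP hxN)]
  have hne : stabilizer (PGL2 F) P ≠ ⊤ := by
    intro h
    have hi : (stabilizer (PGL2 F) P).index = Nat.card F + 1 := by
      rw [index_stabilizer_of_transitive, card_pt]
    rw [h, Subgroup.index_top] at hi
    have : 0 < Nat.card F := Nat.card_pos
    omega
  have heq : M = stabilizer (PGL2 F) P := by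
    rcases eq_or_lt_of_le hle with e | e
    · exact e
    · exact absurd (hM.2 _ e) hne
  constructor
  · have h := (stabilizer (PGL2 F) P).index_mul_card
    rw [index_stabilizer_of_transitive, card_pt, card_pgl_eq] at h
    rw [heq]
    refine Nat.eq_of_mul_eq_mul_left (show 0 < Nat.card F + 1 by omega) (h.trans ?_)
    ring
  · have : N = stabilizer (PSL2 F) P := by
      rw [← hI.comap_eq, heq]
      ext z
      rw [Subgroup.mem_comap, mem_stabilizer_iff, mem_stabilizer_iff, toPGL_smul]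
    rw [this]
    exact isCoatom_stabilizer_psl P

include p in
theorem inter_cyclic (hp2 : p ≠ 2) {M : Subgroup (PGL2 F)} (hM : IsCoatom M)
    {N : Subgroup (PSL2 F)} (hI : Inter M N) (hc : IsCyclic N) (hpN : ¬ p ∣ Nat.card N) : False := by
  obtain ⟨⟨x, hxN⟩, hx⟩ := hc.exists_ofOrder_eq_natCard
  rw [Subgroup.orderOf_mk] at hx
  have hC : zpowers x = N :=
    Subgroup.eq_of_le_of_card_ge (zpowers_le.2 hxN) (by rw [Nat.card_zpowers, hx])
  rcases Nat.lt_or_ge (Nat.card N) 3 with hlt | hge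
  · -- a `2`-group is not maximal
    have := Fact.mk Nat.prime_two
    have hN0 : 0 < Nat.card N := Nat.card_pos
    obtain ⟨k, hk⟩ : ∃ k, Nat.card M = 2 ^ k := by
      rw [hI.card_eq]
      rcases (show Nat.card N = 1 ∨ Nat.card N = 2 by omega) with h | h <;> rw [h]
      exacts [⟨1, rfl⟩, ⟨2, rfl⟩]
    have : Finite (PGL2 F) := Finite.of_surjective _ ProjGenLinGroup.mk_surjective
    obtain ⟨S, hS⟩ := (IsPGroup.of_card hk).exists_le_sylow
    have hodd : Nat.card F % 2 = 1 := by
      obtain ⟨a, -, hq⟩ := GLOrder.exists_card_eq_pow (F := F) p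
      rw [hq, Nat.pow_mod]
      rw [Nat.odd_iff.1 ((Fact.out : p.Prime).odd_of_ne_two hp2)]
      simp
    have h8 : 8 ∣ Nat.card (PGL2 F) := by
      rw [card_pgl_eq]
      refine Dvd.dvd.mul_left ?_ _
      obtain ⟨i, hi⟩ : ∃ i, Nat.card F = 2 * i + 1 := ⟨Nat.card F / 2, by omega⟩
      rw [hi, Nat.add_sub_cancel, show (2 * i + 1 + 1) * (2 * i) = 4 * (i * (i + 1)) by ring,
        show 8 = 4 * 2 from rfl]
      exact mul_dvd_mul_left 4 (Nat.even_mul_succ_self i).two_dvd
    have h8S : 8 ∣ Nat.card (S : Subgroup (PGL2 F)) := S.pow_dvd_card_of_pow_dvd_card (n := 3) h8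
    rcases eq_or_lt_of_le hS with e | e
    · rw [← e, hI.card_eq] at h8S
      have := Nat.le_of_dvd (by omega) h8S
      omega
    · obtain ⟨j, hj⟩ := IsPGroup.iff_card.1 S.isPGroup'
      have htop := hM.2 _ e
      rw [htop, Subgroup.card_top] at hj
      have hpd : p ∣ Nat.card (PGL2 F) := by
        rw [card_pgl_eq]
        obtain ⟨a, ha, hq⟩ := GLOrder.exists_card_eq_pow (F := F) p
        exact Dvd.dvd.mul_right (hq ▸ dvd_pow_self p ha.ne') _
      rw [hj] at hpd
      exact hp2 ((Nat.prime_dvd_prime_iff_eq Fact.out Nat.prime_two).1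
        ((Fact.out : p.Prime).dvd_of_dvd_pow hpd))
  · have hxp : ¬ orderOf x ∣ p := by rw [hx]; exact not_dvd_char_of_order p (by omega) hpN
    obtain ⟨hn, -⟩ := hI.norm N (fun h => by rw [h, Subgroup.card_bot] at hge; omega) le_rfl
      (fun u hu => (hI.fix u hu).le)
    obtain ⟨w, -, hw⟩ := exists_inverting p hxp
    have hwN : w ∈ N := hn (by
      rw [← hC, Subgroup.mem_normalizer_iff_map_conj_eq]
      show (zpowers x).map (MulAut.conj w).toMonoidHom = zpowers x
      rw [MonoidHom.map_zpowers]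
      show zpowers (w * x * w⁻¹) = zpowers x
      rw [hw, Subgroup.zpowers_inv])
    obtain ⟨i, rfl⟩ : w ∈ zpowers x := hC ▸ hwN
    rw [((Commute.refl x).zpow_left i).eq, mul_inv_cancel_right] at hw
    have h2 : x ^ 2 = 1 := by rw [pow_two]; nth_rewrite 1 [hw]; exact inv_mul_cancel x
    have := Nat.le_of_dvd two_pos (orderOf_dvd_of_pow_eq_one h2)
    omega

end Cfsg.Agent.PSL2
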