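/-
Centralisers in `PSL_2(q)` and the conjugacy class sizes.

Main results (namespace `Cfsg.Agent.PSL2`):
* `centralizer_torus`, `card_centralizer_char`, `card_centralizer_involution`
* `class_sizes_even`, `class_sizes_odd`
-/
import Cfsg.Agent.Lib.PSL2.Involutions
import Cfsg.Agent.Lib.PSL2.PGLMaximal

set_option autoImplicit false
set_option linter.unusedSectionVars false
set_option linter.dupNamespace false

open Matrix MulAction Subgroup
open scoped LinearAlgebra.Projectivization

namespace Cfsg.Agent.PSL2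

variable {F : Type*} [Field F] [Finite F]

local notation "φ" => (ProjectiveSpecialLinearGroup.toPGL : PSL2 F →* PGL2 F)

theorem centralizer_torus {x : PSL2 F} (p : ℕ) [Fact p.Prime] [CharP F p] (hx : ¬ orderOf x ∣ p)
    (hx3 : 3 ≤ orderOf x) :
    ∃ y : PSL2 F, x ∈ zpowers y ∧ centralizer ({x} : Set (PSL2 F)) = zpowers y ∧
      (orderOf y = (Nat.card F - 1) / Nat.gcd 2 (Nat.card F - 1) ∨
        orderOf y = (Nat.card F + 1) / Nat.gcd 2 (Nat.card F - 1)) := by
  obtain ⟨y, hxy, hy⟩ := exists_torus_gen p hx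
  refine ⟨y, hxy, le_antisymm (fun z hz => ?_) ?_, hy⟩
  · exact mem_zpowers_of_commute_torus hy hxy hx3 (mem_centralizer_singleton_iff.1 hz)
  · rw [zpowers_le, mem_centralizer_singleton_iff]
    obtain ⟨i, rfl⟩ := hxy
    exact ((Commute.refl y).zpow_right i).eq

theorem card_centralizer_char (p : ℕ) [Fact p.Prime] [CharP F p] {x : PSL2 F} (hx : orderOf x = p) :
    Nat.card (centralizer ({x} : Set (PSL2 F))) = Nat.card F := by
  have hx1 : φ x ≠ 1 := fun e => by
    rw [← map_one φ] at e
    rw [ProjectiveSpecialLinearGroup.toPGL_injective e, orderOf_one] at hx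
    exact (Fact.out : p.Prime).ne_one hx.symm
  have hxp : φ x ^ p = 1 := by rw [← map_pow, orderOf_dvd_iff_pow_eq_one.1 hx.dvd, map_one]
  obtain ⟨P, hP⟩ := exists_fix_of_pow_char p (z := x) (orderOf_dvd_iff_pow_eq_one.1 hx.dvd)
  rw [← toPGL_smul] at hP
  obtain ⟨k, hk⟩ := exists_map_pinf P
  have hk' : k⁻¹ • (pinf : Pt F) = P := by rw [← hk, inv_smul_smul]
  obtain ⟨a, c, hac⟩ := exists_aff_of_fix (g := k * φ x * k⁻¹)
    (by rw [mul_smul, mul_smul, hk', hP, hk])
  have ha : a = 1 := (aff_pow_char_iff p).1 (by rw [← hac, conj_pow, hxp, mul_one, mul_inv_cancel])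
  subst ha
  have hc : c ≠ 0 := by
    rintro rfl
    rw [aff_one_zero, mul_inv_eq_one, mul_eq_left] at hac
    exact hx1 hac
  have hn := range_toPGL_normal (F := F)
  have hback : ∀ b : F, ∃ z : PSL2 F, φ z = k⁻¹ * aff 1 b * k⁻¹⁻¹ := fun b =>
    hn.conj_mem _ (mem_range_toPGL ⟨1, by simp⟩) k⁻¹
  choose f hf using hback
  have hfC : ∀ b, f b ∈ centralizer ({x} : Set (PSL2 F)) := fun b => by
    rw [mem_centralizer_singleton_iff]
    apply ProjectiveSpecialLinearGroup.toPGL_injective (n := Fin 2) (R := F)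
    rw [map_mul, map_mul, hf, inv_inv]
    have hx' : φ x = k⁻¹ * aff 1 c * k := by rw [← hac]; group
    rw [hx']
    have hcc : aff (1 : Fˣ) b * aff 1 c = aff 1 c * aff 1 b := by
      rw [aff_mul_aff, aff_mul_aff, aff_inj]; exact ⟨rfl, by simp [add_comm]⟩
    calc k⁻¹ * aff 1 b * k * (k⁻¹ * aff 1 c * k) = k⁻¹ * (aff 1 b * aff 1 c) * k := by group
      _ = k⁻¹ * (aff 1 c * aff 1 b) * k := by rw [hcc]
      _ = _ := by group
  have hbij : Function.Bijective (fun b : F => (⟨f b, hfC b⟩ : centralizer ({x} : Set (PSL2 F)))) := by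
    constructor
    · intro b b' h
      have h' := congrArg (fun z : centralizer ({x} : Set (PSL2 F)) => φ z) h
      simp only [hf] at h'
      exact (aff_inj.1 (mul_left_cancel (mul_right_cancel h'))).2
    · rintro ⟨z, hz⟩
      rw [mem_centralizer_singleton_iff] at hz
      have hzx : φ z * φ x = φ x * φ z := by rw [← map_mul, ← map_mul, hz]
      have hzP : φ z • P = P := eq_of_fix_pow_char p hx1 hxp
        (by rw [← mul_smul, ← hzx, mul_smul, hP]) hP
      obtain ⟨a, b, hab⟩ := exists_aff_of_fix (g := k * φ z * k⁻¹)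
        (by rw [mul_smul, mul_smul, hk', hzP, hk])
      have h : aff a b * aff 1 c = aff 1 c * aff a b := by
        rw [← hab, ← hac]
        calc k * φ z * k⁻¹ * (k * φ x * k⁻¹) = k * (φ z * φ x) * k⁻¹ := by group
          _ = k * (φ x * φ z) * k⁻¹ := by rw [hzx]
          _ = _ := by group
      rw [aff_mul_aff, aff_mul_aff, aff_inj] at h
      have ha : a = 1 := by
        apply Units.ext
        have h' := h.2
        rw [Units.val_one] at h' ⊢
        exact mul_right_cancel₀ hc (by linear_combination h')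
      subst ha
      refine ⟨b, Subtype.ext (ProjectiveSpecialLinearGroup.toPGL_injective ?_)⟩
      rw [hf, ← hab]
      group
  exact (Nat.card_congr (Equiv.ofBijective _ hbij)).symm

theorem card_centralizer_involution (hodd : Odd (Nat.card F)) {x : PSL2 F} (hx : orderOf x = 2) :
    (Nat.card F % 4 = 1 → Nat.card (centralizer ({x} : Set (PSL2 F))) = Nat.card F - 1) ∧
    (Nat.card F % 4 = 3 → Nat.card (centralizer ({x} : Set (PSL2 F))) = Nat.card F + 1) := by
  have h2 : (2 : F) ≠ 0 := two_ne_zero_iff_odd.2 hodd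
  have hx1 : x ≠ 1 := fun e => by rw [e, orderOf_one] at hx; omega
  obtain ⟨A, rfl, hA⟩ := exists_lift_involution h2 hx1
    (by rw [← pow_two]; exact orderOf_dvd_iff_pow_eq_one.1 hx.dvd)
  have hA2 := sq_eq_neg_one_of_tr_zero hA
  have hAinv : A⁻¹ = -A := inv_eq_of_mul_eq_one_right (by rw [mul_neg, hA2, neg_neg])
  have hcomap : (centralizer ({(QuotientGroup.mk A : PSL2 F)} : Set (PSL2 F))).comap
      (QuotientGroup.mk' (center (SL2 F))) = normalizer (zpowers A : Set (SL2 F)) := by
    ext s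
    rw [mem_normalizer_trZero h2 hA, Subgroup.mem_comap, mem_centralizer_singleton_iff, hAinv,
      QuotientGroup.mk'_apply, ← QuotientGroup.mk_mul, ← QuotientGroup.mk_mul, mk_eq_mk_iff,
      mul_inv_eq_iff_eq_mul, mul_inv_eq_iff_eq_mul, neg_mul]
  have hcen : Nat.card (center (SL2 F)) = 2 := by
    rw [show Nat.card (center (SL2 F)) = Nat.card ↥({1, -1} : Set (SL2 F)) from
      Nat.card_congr (Equiv.subtypeEquivRight fun g => mem_center_iff'), Nat.card_coe_set_eq,
      Set.ncard_pair]
    intro e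
    have := congrArg tr e
    rw [tr_neg, tr_one] at this
    exact h2 ((mul_eq_zero.1 (show (2 : F) * 2 = 0 by linear_combination this)).elim id id)
  have hC := (centralizer ({(QuotientGroup.mk A : PSL2 F)} : Set (PSL2 F))).index_mul_card
  have hN := (normalizer (zpowers A : Set (SL2 F))).index_mul_card
  rw [← hcomap, Subgroup.index_comap_of_surjective _ (QuotientGroup.mk'_surjective _), hcomap,
    card_normalizer_trZero hodd hA, Subgroup.card_eq_card_quotient_mul_card_subgroup (center (SL2 F)),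
    hcen] at hN
  change _ = Nat.card (PSL2 F) * 2 at hN
  rw [← hC, mul_comm 2, ← mul_assoc] at hN
  have hN' := Nat.eq_of_mul_eq_mul_right two_pos hN
  have hidx : 0 < (centralizer ({(QuotientGroup.mk A : PSL2 F)} : Set (PSL2 F))).index :=
    Nat.pos_of_ne_zero Subgroup.index_ne_zero_of_finite
  obtain ⟨h1, h3⟩ := card_centralizer_trZero hodd hA
  exact ⟨fun h => h1 h ▸ (Nat.eq_of_mul_eq_mul_left hidx hN').symm,
    fun h => h3 h ▸ (Nat.eq_of_mul_eq_mul_left hidx hN').symm⟩

theorem centralizer_one_index : (centralizer ({1} : Set (PSL2 F))).index = 1 := by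
  rw [Subgroup.index_eq_one, eq_top_iff]
  exact fun z _ => mem_centralizer_singleton_iff.2 (by simp)

theorem class_sizes_even (h4 : 4 ≤ Nat.card F) (he : Even (Nat.card F)) :
    Set.range (fun g : PSL2 F => (centralizer ({g} : Set (PSL2 F))).index) =
      {1, Nat.card F * (Nat.card F - 1), Nat.card F ^ 2 - 1, Nat.card F * (Nat.card F + 1)} := by
  obtain ⟨p, hp⟩ := CharP.exists F
  have : Fact p.Prime := ⟨CharP.char_is_prime F p⟩
  obtain ⟨n, hn, hq, ⟨rfl, -, hd, -⟩ | ⟨-, ho, -, -⟩⟩ := q_cases (F := F) p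
  swap
  · exact absurd he (Nat.not_even_iff_odd.2 ho)
  have hG := card_psl_mul (F := F)
  rw [hd, one_mul] at hG
  rw [Nat.even_iff] at he
  have hidx : ∀ (g : PSL2 F) (c r : ℕ), Nat.card (centralizer ({g} : Set (PSL2 F))) = c → 0 < c →
      r * c = Nat.card F * ((Nat.card F + 1) * (Nat.card F - 1)) →
      (centralizer ({g} : Set (PSL2 F))).index = r := fun g c r hc hc0 hr => by
    have h := (centralizer ({g} : Set (PSL2 F))).index_mul_card
    rw [hc, hG] at h
    exact Nat.eq_of_mul_eq_mul_right hc0 (h.trans hr.symm)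
  have hu : ∀ g : PSL2 F, orderOf g = 2 →
      (centralizer ({g} : Set (PSL2 F))).index = Nat.card F ^ 2 - 1 := fun g hg =>
    hidx g _ _ (card_centralizer_char 2 hg) (by omega) (by rw [GLOrder.sq_sub_one]; ring)
  have ht : ∀ g : PSL2 F, g ≠ 1 → (orderOf g ∣ Nat.card F - 1 ∨ orderOf g ∣ Nat.card F + 1) →
      ((orderOf g ∣ Nat.card F - 1 →
          (centralizer ({g} : Set (PSL2 F))).index = Nat.card F * (Nat.card F + 1)) ∧
        (orderOf g ∣ Nat.card F + 1 →
          (centralizer ({g} : Set (PSL2 F))).index = Nat.card F * (Nat.card F - 1))) := by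
    intro g hg1 hg
    have h1 : orderOf g ≠ 1 := fun e => hg1 (orderOf_eq_one_iff.1 e)
    have h2 : ¬ 2 ∣ orderOf g := fun h => by rcases hg with e | e <;> have := h.trans e <;> omega
    have hgp : ¬ orderOf g ∣ 2 := fun h => by
      rcases (Nat.dvd_prime Nat.prime_two).1 h with e | e
      · exact h1 e
      · exact h2 e.symm.dvd
    have h3 : 3 ≤ orderOf g := by have := orderOf_pos g; omega
    obtain ⟨y, hgy, hC, hy⟩ := centralizer_torus 2 hgp h3
    have hdy := orderOf_dvd_of_mem_zpowers hgy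
    rw [hd, Nat.div_one, Nat.div_one] at hy
    have hcop : ∀ m, m ∣ Nat.card F - 1 → m ∣ Nat.card F + 1 → m = 1 := fun m a b => by
      have h := Nat.dvd_sub b a
      rw [show Nat.card F + 1 - (Nat.card F - 1) = 2 by omega] at h
      rcases (Nat.dvd_prime Nat.prime_two).1 h with e | e
      · exact e
      · rw [e] at a; omega
    constructor <;> intro hside
    · refine hidx g (Nat.card F - 1) _ ?_ (by omega) (by ring)
      rw [hC, Nat.card_zpowers]
      exact hy.resolve_right fun e => h1 (hcop _ hside (e ▸ hdy))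
    · refine hidx g (Nat.card F + 1) _ ?_ (by omega) (by ring)
      rw [hC, Nat.card_zpowers]
      exact hy.resolve_left fun e => h1 (hcop _ (e ▸ hdy) hside)
  ext v
  simp only [Set.mem_range, Set.mem_insert_iff, Set.mem_singleton_iff]
  constructor
  · rintro ⟨g, rfl⟩
    by_cases hg1 : g = 1
    · exact Or.inl (hg1 ▸ centralizer_one_index)
    rcases psl_orderOf_cases 2 g with h | h | h
    · rw [hd, Nat.div_one] at h
      exact Or.inr (Or.inr (Or.inr ((ht g hg1 (Or.inl h)).1 h)))
    · rw [hd, Nat.div_one] at h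
      exact Or.inr (Or.inl ((ht g hg1 (Or.inr h)).2 h))
    · exact Or.inr (Or.inr (Or.inl (hu g (((Nat.dvd_prime Nat.prime_two).1 h).resolve_left
        fun e => hg1 (orderOf_eq_one_iff.1 e)))))
  · rintro (rfl | rfl | rfl | rfl)
    · exact ⟨1, centralizer_one_index⟩
    · obtain ⟨g, hg⟩ := exists_psl_orderOf (F := F) 2 (m := Nat.card F + 1)
        (Or.inr (Or.inr (by rw [hd, Nat.div_one])))
      have hg1 : g ≠ 1 := fun e => by rw [e, orderOf_one] at hg; omega
      exact ⟨g, (ht g hg1 (Or.inr hg.dvd)).2 hg.dvd⟩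
    · obtain ⟨g, hg⟩ := exists_psl_orderOf_char (F := F) 2
      exact ⟨g, hu g hg⟩
    · obtain ⟨g, hg⟩ := exists_psl_orderOf (F := F) 2 (m := Nat.card F - 1)
        (Or.inr (Or.inl (by rw [hd, Nat.div_one])))
      have hg1 : g ≠ 1 := fun e => by rw [e, orderOf_one] at hg; omega
      exact ⟨g, (ht g hg1 (Or.inl hg.dvd)).1 hg.dvd⟩

theorem class_sizes_odd (h7 : 7 ≤ Nat.card F) (ho : Odd (Nat.card F)) :
    (Nat.card F % 4 = 1 →
      Set.range (fun g : PSL2 F => (centralizer ({g} : Set (PSL2 F))).index) =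
        {1, (Nat.card F ^ 2 - 1) / 2, Nat.card F * (Nat.card F + 1) / 2,
          Nat.card F * (Nat.card F - 1), Nat.card F * (Nat.card F + 1)}) ∧
    (Nat.card F % 4 = 3 →
      Set.range (fun g : PSL2 F => (centralizer ({g} : Set (PSL2 F))).index) =
        {1, (Nat.card F ^ 2 - 1) / 2, Nat.card F * (Nat.card F - 1) / 2,
          Nat.card F * (Nat.card F + 1), Nat.card F * (Nat.card F - 1)}) := by
  obtain ⟨p, hp⟩ := CharP.exists F
  have : Fact p.Prime := ⟨CharP.char_is_prime F p⟩
  obtain ⟨n, hn, hq, ⟨-, he, -, -⟩ | ⟨hp2, -, hd, -⟩⟩ := q_cases (F := F) p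
  · exact absurd he (Nat.not_even_iff_odd.2 ho)
  have hG := card_psl_mul (F := F)
  rw [hd] at hG
  have hodd := ho
  rw [Nat.odd_iff] at ho
  have hsq : Nat.card F ^ 2 - 1 = (Nat.card F + 1) * (Nat.card F - 1) := GLOrder.sq_sub_one _
  have hidx : ∀ (g : PSL2 F) (c r : ℕ), Nat.card (centralizer ({g} : Set (PSL2 F))) = c → 0 < c →
      2 * (r * c) = Nat.card F * ((Nat.card F + 1) * (Nat.card F - 1)) →
      (centralizer ({g} : Set (PSL2 F))).index = r := fun g c r hc hc0 hr => by
    have h := (centralizer ({g} : Set (PSL2 F))).index_mul_card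
    rw [hc] at h
    refine Nat.eq_of_mul_eq_mul_right hc0 (Nat.eq_of_mul_eq_mul_left two_pos ?_)
    rw [h, hr, hG]
  obtain ⟨a, ha⟩ : ∃ a, Nat.card F = 2 * a + 1 := ⟨Nat.card F / 2, by omega⟩
  have hu : ∀ g : PSL2 F, orderOf g = p →
      (centralizer ({g} : Set (PSL2 F))).index = (Nat.card F ^ 2 - 1) / 2 := fun g hg =>
    hidx g _ _ (card_centralizer_char p hg) (by omega) (by
      rw [hsq, ha, Nat.add_sub_cancel, show (2 * a + 1 + 1) * (2 * a) = 2 * ((2 * a + 1 + 1) * a) by ring,
        Nat.mul_div_cancel_left _ two_pos]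
      ring)
  have hinv1 : Nat.card F % 4 = 1 → ∀ g : PSL2 F, orderOf g = 2 →
      (centralizer ({g} : Set (PSL2 F))).index = Nat.card F * (Nat.card F + 1) / 2 := fun h4 g hg =>
    hidx g _ _ ((card_centralizer_involution hodd hg).1 h4) (by omega) (by
      rw [ha, Nat.add_sub_cancel, show (2 * a + 1) * (2 * a + 1 + 1) = 2 * ((2 * a + 1) * (a + 1)) by ring,
        Nat.mul_div_cancel_left _ two_pos]
      ring)
  have hinv3 : Nat.card F % 4 = 3 → ∀ g : PSL2 F, orderOf g = 2 →
      (centralizer ({g} : Set (PSL2 F))).index = Nat.card F * (Nat.card F - 1) / 2 := fun h4 g hg =>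
    hidx g _ _ ((card_centralizer_involution hodd hg).2 h4) (by omega) (by
      rw [ha, Nat.add_sub_cancel, show (2 * a + 1) * (2 * a) = 2 * ((2 * a + 1) * a) by ring,
        Nat.mul_div_cancel_left _ two_pos]
      ring)
  have ht : ∀ g : PSL2 F, 3 ≤ orderOf g →
      ((orderOf g ∣ (Nat.card F - 1) / 2 →
          (centralizer ({g} : Set (PSL2 F))).index = Nat.card F * (Nat.card F + 1)) ∧
        (orderOf g ∣ (Nat.card F + 1) / 2 →
          (centralizer ({g} : Set (PSL2 F))).index = Nat.card F * (Nat.card F - 1))) := by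
    intro g h3
    have hcop : ∀ m, m ∣ (Nat.card F - 1) / 2 → m ∣ (Nat.card F + 1) / 2 → m = 1 := fun m a b => by
      have h := Nat.dvd_sub b a
      rw [show (Nat.card F + 1) / 2 - (Nat.card F - 1) / 2 = 1 by omega] at h
      exact Nat.dvd_one.1 h
    constructor <;> intro hside
    all_goals
      have hgp : ¬ orderOf g ∣ p := fun h => by
        rcases (Fact.out : p.Prime).eq_one_or_self_of_dvd _ h with e | e
        · omega
        · have hpq : p ∣ Nat.card F := hq ▸ dvd_pow_self p (by omega)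
          rw [e] at hside
          have h1 := hside.trans (Nat.div_dvd_of_dvd (by omega))
          first
          | (have h2 := Nat.dvd_sub hpq h1
             rw [show Nat.card F - (Nat.card F - 1) = 1 by omega] at h2
             exact (Fact.out : p.Prime).not_dvd_one h2)
          | exact (Fact.out : p.Prime).not_dvd_one ((Nat.dvd_add_right hpq).1 h1)
      obtain ⟨y, hgy, hC, hy⟩ := centralizer_torus p hgp h3
      have hdy := orderOf_dvd_of_mem_zpowers hgy
      rw [hd] at hy
    · refine hidx g ((Nat.card F - 1) / 2) _ ?_ (by omega) ?_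
      · rw [hC, Nat.card_zpowers]
        exact hy.resolve_right fun e => by have := hcop _ hside (e ▸ hdy); omega
      · rw [ha, Nat.add_sub_cancel, Nat.mul_div_cancel_left _ two_pos]; ring
    · refine hidx g ((Nat.card F + 1) / 2) _ ?_ (by omega) ?_
      · rw [hC, Nat.card_zpowers]
        exact hy.resolve_left fun e => by have := hcop _ (e ▸ hdy) hside; omega
      · rw [ha, Nat.add_sub_cancel, show 2 * a + 1 + 1 = 2 * (a + 1) by ring,
          Nat.mul_div_cancel_left _ two_pos]; ring
  have hex : (∃ g : PSL2 F, (centralizer ({g} : Set (PSL2 F))).index = Nat.card F * (Nat.card F + 1)) ∧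
      (∃ g : PSL2 F, (centralizer ({g} : Set (PSL2 F))).index = Nat.card F * (Nat.card F - 1)) := by
    constructor
    · obtain ⟨g, hg⟩ := exists_psl_orderOf (F := F) p (m := (Nat.card F - 1) / 2)
        (Or.inr (Or.inl (by rw [hd])))
      exact ⟨g, (ht g (by omega)).1 hg.dvd⟩
    · obtain ⟨g, hg⟩ := exists_psl_orderOf (F := F) p (m := (Nat.card F + 1) / 2)
        (Or.inr (Or.inr (by rw [hd])))
      exact ⟨g, (ht g (by omega)).2 hg.dvd⟩
  have hexu : ∃ g : PSL2 F, (centralizer ({g} : Set (PSL2 F))).index = (Nat.card F ^ 2 - 1) / 2 := by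
    obtain ⟨g, hg⟩ := exists_psl_orderOf_char (F := F) p
    exact ⟨g, hu g hg⟩
  have hexi : ∃ g : PSL2 F, orderOf g = 2 :=
    exists_psl_orderOf (F := F) p (Or.inr (by rw [hd]; omega))
  have hcases : ∀ g : PSL2 F, g = 1 ∨ orderOf g = 2 ∨ orderOf g = p ∨
      (3 ≤ orderOf g ∧ (orderOf g ∣ (Nat.card F - 1) / 2 ∨ orderOf g ∣ (Nat.card F + 1) / 2)) := by
    intro g
    rcases Nat.lt_or_ge (orderOf g) 3 with h | h3
    · have := orderOf_pos g
      rcases (show orderOf g = 1 ∨ orderOf g = 2 by omega) with e | e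
      · exact Or.inl (orderOf_eq_one_iff.1 e)
      · exact Or.inr (Or.inl e)
    rcases psl_orderOf_cases p g with h | h | h
    · rw [hd] at h
      exact Or.inr (Or.inr (Or.inr ⟨h3, Or.inl h⟩))
    · rw [hd] at h
      exact Or.inr (Or.inr (Or.inr ⟨h3, Or.inr h⟩))
    · exact Or.inr (Or.inr (Or.inl (((Fact.out : p.Prime).eq_one_or_self_of_dvd _ h).resolve_left
        (by omega))))
  constructor <;> intro h4 <;> ext v <;>
    simp only [Set.mem_range, Set.mem_insert_iff, Set.mem_singleton_iff]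
  · constructor
    · rintro ⟨g, rfl⟩
      rcases hcases g with rfl | h | h | ⟨h3, h | h⟩
      · exact Or.inl centralizer_one_index
      · exact Or.inr (Or.inr (Or.inl (hinv1 h4 g h)))
      · exact Or.inr (Or.inl (hu g h))
      · exact Or.inr (Or.inr (Or.inr (Or.inr ((ht g h3).1 h))))
      · exact Or.inr (Or.inr (Or.inr (Or.inl ((ht g h3).2 h))))
    · rintro (rfl | rfl | rfl | rfl | rfl)
      · exact ⟨1, centralizer_one_index⟩
      · exact hexu
      · obtain ⟨g, hg⟩ := hexi; exact ⟨g, hinv1 h4 g hg⟩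
      · exact hex.2
      · exact hex.1
  · constructor
    · rintro ⟨g, rfl⟩
      rcases hcases g with rfl | h | h | ⟨h3, h | h⟩
      · exact Or.inl centralizer_one_index
      · exact Or.inr (Or.inr (Or.inl (hinv3 h4 g h)))
      · exact Or.inr (Or.inl (hu g h))
      · exact Or.inr (Or.inr (Or.inr (Or.inl ((ht g h3).1 h))))
      · exact Or.inr (Or.inr (Or.inr (Or.inr ((ht g h3).2 h))))
    · rintro (rfl | rfl | rfl | rfl | rfl)
      · exact ⟨1, centralizer_one_index⟩
      · exact hexu
      · obtain ⟨g, hg⟩ := hexi; exact ⟨g, hinv3 h4 g hg⟩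
      · exact hex.1
      · exact hex.2

end Cfsg.Agent.PSL2
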