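/-
Soluble and insoluble subgroups of `PSL_2(q)`.

Main results (namespace `Cfsg.Agent.PSL2`):
* `isSimpleGroup_psl`, `not_isSolvable_psl` (`q ≥ 4`), `not_isSolvable_altFive`
* `isSolvable_dihedral`, `isSolvable_of_le_stabilizer`, `isSolvable_of_card_two_three`
-/
import Cfsg.Agent.Lib.PSL2.Overgroups
import Cfsg.Agent.Lib.CharApp.Burnside

set_option autoImplicit false
set_option linter.unusedSectionVars false
set_option linter.dupNamespace false

open Matrix MulAction Subgroup
open scoped LinearAlgebra.Projectivization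

namespace Cfsg.Agent.PSL2

theorem isSolvable_dihedral (n : ℕ) : Group.IsSolvable (DihedralGroup n) := by
  let g : DihedralGroup n →* Multiplicative (ZMod 2) :=
    { toFun := fun x => match x with
        | .r _ => Multiplicative.ofAdd 0
        | .sr _ => Multiplicative.ofAdd 1
      map_one' := rfl
      map_mul' := by
        rintro (a | a) (b | b) <;>
          simp only [DihedralGroup.r_mul_r, DihedralGroup.r_mul_sr, DihedralGroup.sr_mul_r,
            DihedralGroup.sr_mul_sr] <;> decide }
  let f : Multiplicative (ZMod n) →* DihedralGroup n :=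
    { toFun := fun x => DihedralGroup.r x.toAdd
      map_one' := rfl
      map_mul' := fun a b => by simp [DihedralGroup.r_mul_r] }
  refine Group.isSolvable_of_ker_le_range f g fun x hx => ?_
  rcases x with a | a
  · exact ⟨Multiplicative.ofAdd a, rfl⟩
  · exact absurd (MonoidHom.mem_ker.1 hx) (show Multiplicative.ofAdd (1 : ZMod 2) ≠ 1 by decide)

universe v in
theorem isSolvable_of_card_two_three {G : Type v} [Group G] [Finite G]
    (h : Nat.card G ∈ ({6, 12, 24} : Finset ℕ)) : Group.IsSolvable G := by
  simp only [Finset.mem_insert, Finset.mem_singleton] at h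
  rcases h with h | h | h
  · exact CharApp.isSolvable_of_card_eq_prime_pow_mul 2 3 Nat.prime_two Nat.prime_three _ G h 1 1 rfl
  · exact CharApp.isSolvable_of_card_eq_prime_pow_mul 2 3 Nat.prime_two Nat.prime_three _ G h 2 1 rfl
  · exact CharApp.isSolvable_of_card_eq_prime_pow_mul 2 3 Nat.prime_two Nat.prime_three _ G h 3 1 rfl

theorem not_isSolvable_altFive : ¬ Group.IsSolvable (alternatingGroup (Fin 5)) := by
  intro h
  obtain ⟨x, y, -, -, hxy⟩ := oddPair_altFive
  exact hxy ((IsSimpleGroup.comm_iff_isSolvable.2 h) x y)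

section

variable {L : Type*} [Field L] [Finite L]

theorem isSimpleGroup_psl (h : 4 ≤ Nat.card L) : IsSimpleGroup (PSL2 L) :=
  Matrix.ProjectiveSpecialLinearGroup.rank_two_simple h

theorem not_comm_psl (h : 3 ≤ Nat.card L) : ¬ ∀ a b : PSL2 L, a * b = b * a := by
  obtain ⟨p, hp⟩ := CharP.exists L
  have : Fact p.Prime := ⟨CharP.char_is_prime L p⟩
  obtain ⟨x, y, -, -, hxy⟩ := oddPair_psl (L := L) p h
  exact fun hc => hxy (hc x y)

theorem not_isSolvable_psl (h : 4 ≤ Nat.card L) : ¬ Group.IsSolvable (PSL2 L) := fun hs => by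
  have := isSimpleGroup_psl h
  exact not_comm_psl (by omega) (IsSimpleGroup.comm_iff_isSolvable.2 hs)

end

theorem isSolvable_of_le_stabilizer {F : Type*} [Field F] [Finite F] (p : ℕ) [Fact p.Prime]
    [CharP F p] {P : Pt F} {H : Subgroup (PSL2 F)} (hH : H ≤ stabilizer (PSL2 F) P) :
    Group.IsSolvable H := by
  obtain ⟨ψ, hψ⟩ := exists_borel_hom p P
  let g := ψ.comp (Subgroup.inclusion hH)
  have hker : IsPGroup p g.ker := fun x => ⟨1, by
    rw [pow_one]
    exact Subtype.ext (Subtype.ext ((hψ _).1 x.2))⟩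
  have : Group.IsNilpotent g.ker := hker.isNilpotent
  exact Group.isSolvable_of_ker_le_range g.ker.subtype g (by rw [Subgroup.range_subtype])

end Cfsg.Agent.PSL2
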