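/-
Four-groups of `PSL_2(q)`, `q` odd.

Main results (namespace `Cfsg.Agent.PSL2`):
* `card_normalizer_klein`        : the normaliser of a four-group in `PGL_2(q)` has order 24
* `card_klein`                   : `12 * #four-groups = |PSL_2(q)|`
* `klein_classes`                : the one or two classes
-/
import Cfsg.Agent.Lib.PSL2.PGL

set_option autoImplicit false
set_option linter.unusedSectionVars false
set_option linter.dupNamespace false

open Matrix Subgroup
open scoped Pointwise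

namespace Cfsg.Agent.PSL2

theorem card_pairs_fin_four : ∀ c : Fin 4,
    Fintype.card {ab : Fin 4 × Fin 4 // ab.1 ≠ c ∧ ab.2 ≠ c ∧ ab.1 ≠ ab.2} = 6 := by
  decide

variable {F : Type*} [Field F] [Finite F]

local notation "φ" => (ProjectiveSpecialLinearGroup.toPGL : PSL2 F →* PGL2 F)

theorem klein_gen {V : Subgroup (PSL2 F)} (hV : IsKleinFour V) {a b : PSL2 F} (ha : a ∈ V)
    (hb : b ∈ V) (ha1 : a ≠ 1) (hb1 : b ≠ 1) (hne : a ≠ b) : V = closure {a, b} := by
  have hle : closure {a, b} ≤ V := by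
    rw [closure_le]
    rintro z (rfl | rfl)
    exacts [ha, hb]
  refine (Subgroup.eq_of_le_of_card_ge hle ?_).symm
  have hdvd := Subgroup.card_dvd_of_le hle
  rw [hV.card_four] at hdvd ⊢
  have h3 : Nat.card ↥({1, a, b} : Set (PSL2 F)) ≤ Nat.card (closure {a, b}) :=
    Nat.card_le_card_of_injective (fun z => ⟨z.1, by
      rcases z.2 with e | e | e <;> rw [e]
      exacts [one_mem _, subset_closure (Or.inl rfl), subset_closure (Or.inr rfl)]⟩)
      fun x y h => Subtype.ext (congrArg (fun w : closure {a, b} => (w : PSL2 F)) h)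
  rw [Nat.card_coe_set_eq, Set.ncard_eq_three.2 ⟨1, a, b, ha1.symm, hb1.symm, hne, rfl⟩] at h3
  have h4 := Nat.le_of_dvd (by norm_num) hdvd
  rcases (show Nat.card (closure {a, b}) = 3 ∨ Nat.card (closure {a, b}) = 4 by omega) with e | e
  · rw [e] at hdvd; norm_num at hdvd
  · omega

theorem klein_comm {V : Subgroup (PSL2 F)} (hV : IsKleinFour V) {a b : PSL2 F} (ha : a ∈ V)
    (hb : b ∈ V) : a * a = 1 ∧ a * b = b * a := by
  have h : ∀ x : V, x * x = 1 := fun x => by
    have h := Monoid.pow_exponent_eq_one x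
    rw [hV.exponent_two, pow_two] at h
    exact h
  refine ⟨congrArg Subtype.val (h ⟨a, ha⟩), ?_⟩
  have hab := congrArg Subtype.val (h (⟨a, ha⟩ * ⟨b, hb⟩))
  have hba : a⁻¹ = a := inv_eq_of_mul_eq_one_right (congrArg Subtype.val (h ⟨a, ha⟩))
  have hbb : b⁻¹ = b := inv_eq_of_mul_eq_one_right (congrArg Subtype.val (h ⟨b, hb⟩))
  calc a * b = (a * b)⁻¹ := (inv_eq_of_mul_eq_one_right hab).symm
    _ = b * a := by rw [_root_.mul_inv_rev, hba, hbb]

theorem mk_commute_iff {u : GL (Fin 2) F} {A : SL2 F}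
    (h : ProjGenLinGroup.mk u * φ (QuotientGroup.mk A) = φ (QuotientGroup.mk A) * ProjGenLinGroup.mk u) :
    (u : Matrix (Fin 2) (Fin 2) F) * A.1 = A.1 * (u : Matrix (Fin 2) (Fin 2) F) ∨
      (u : Matrix (Fin 2) (Fin 2) F) * A.1 = -(A.1 * (u : Matrix (Fin 2) (Fin 2) F)) := by
  rw [ProjectiveSpecialLinearGroup.toPGL_mk, ← map_mul, ← map_mul, ProjGenLinGroup.mk_eq_mk_iff] at h
  obtain ⟨r, hr⟩ := h
  have hm := congrArg (fun g : GL (Fin 2) F => (g : Matrix (Fin 2) (Fin 2) F)) hr
  simp at hm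
  have hd := congrArg Matrix.det hm
  simp [Matrix.det_mul] at hd
  have hr2 : (r : F) * r = 1 := by
    have hu : (u : Matrix (Fin 2) (Fin 2) F).det ≠ 0 := by
      rw [← GeneralLinearGroup.val_det_apply]; exact Units.ne_zero _
    apply mul_left_cancel₀ hu
    linear_combination hd
  rcases mul_self_eq_one_iff.1 hr2 with e | e <;> rw [e] at hm
  · simp at hm; exact Or.inl hm
  · right
    rw [show (Matrix.diagonal fun _ : Fin 2 => (-1 : F)) = -1 by
      ext i j; fin_cases i <;> fin_cases j <;> simp, mul_neg, mul_one] at hm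
    rw [← hm, neg_neg]

theorem card_centralizer_klein (h2 : (2 : F) ≠ 0) {V : Subgroup (PSL2 F)} (hV : IsKleinFour V)
    {a b : PSL2 F} (ha : a ∈ V) (hb : b ∈ V) (ha1 : a ≠ 1) (hb1 : b ≠ 1) (hne : a ≠ b) :
    Nat.card (centralizer ({φ a, φ b} : Set (PGL2 F))) = 4 := by
  classical
  have hinj : Function.Injective φ := ProjectiveSpecialLinearGroup.toPGL_injective
  have : Finite (PGL2 F) := Finite.of_surjective _ ProjGenLinGroup.mk_surjective
  have hgen := klein_gen hV ha hb ha1 hb1 hne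
  obtain ⟨A, B, rfl, rfl, hA, hB, hAB⟩ := exists_lift_pair h2 ha1 hb1 (klein_comm hV ha ha).1
    (klein_comm hV hb hb).1 (klein_comm hV ha hb).2 hne
  set C := centralizer ({φ (QuotientGroup.mk A), φ (QuotientGroup.mk B)} : Set (PGL2 F))
  have hlow : 4 ≤ Nat.card C := by
    rw [← hV.card_four]
    refine Nat.card_le_card_of_injective (fun v => ⟨φ v.1, ?_⟩)
      fun x y h => Subtype.ext (hinj (congrArg (fun w : C => (w : PGL2 F)) h))
    rw [mem_centralizer_iff]
    rintro z (rfl | rfl) <;> rw [← map_mul, ← map_mul]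
    exacts [congrArg φ (klein_comm hV ha v.2).2, congrArg φ (klein_comm hV hb v.2).2]
  choose rep hrep using fun g : PGL2 F => ProjGenLinGroup.mk_surjective g
  have hC : ∀ g ∈ C, ∀ {X : SL2 F}, X = A ∨ X = B →
      (rep g : Matrix (Fin 2) (Fin 2) F) * X.1 = X.1 * (rep g : Matrix (Fin 2) (Fin 2) F) ∨
      (rep g : Matrix (Fin 2) (Fin 2) F) * X.1 = -(X.1 * (rep g : Matrix (Fin 2) (Fin 2) F)) := by
    intro g hg X hX
    apply mk_commute_iff
    rw [hrep g]
    rw [mem_centralizer_iff] at hg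
    rcases hX with rfl | rfl
    exacts [(hg _ (Or.inl rfl)).symm, (hg _ (Or.inr rfl)).symm]
  let sgn : C → Bool × Bool := fun g =>
    (decide ((rep g.1 : Matrix (Fin 2) (Fin 2) F) * A.1 = A.1 * (rep g.1 : Matrix (Fin 2) (Fin 2) F)),
     decide ((rep g.1 : Matrix (Fin 2) (Fin 2) F) * B.1 = B.1 * (rep g.1 : Matrix (Fin 2) (Fin 2) F)))
  have hsgn : Function.Injective sgn := by
    intro g g' h
    have hcomm : ∀ {X : SL2 F}, X = A ∨ X = B →
        (decide ((rep g.1 : Matrix (Fin 2) (Fin 2) F) * X.1 = X.1 * (rep g.1 : Matrix (Fin 2) (Fin 2) F)) =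
          decide ((rep g'.1 : Matrix (Fin 2) (Fin 2) F) * X.1 = X.1 * (rep g'.1 : Matrix (Fin 2) (Fin 2) F))) →
        ((rep g'.1)⁻¹ * rep g.1 : GL (Fin 2) F).1 * X.1 = X.1 * ((rep g'.1)⁻¹ * rep g.1 : GL (Fin 2) F).1 := by
      intro X hX h
      rw [decide_eq_decide] at h
      have key : ∀ ε : F, (rep g.1 : Matrix (Fin 2) (Fin 2) F) * X.1 = ε • (X.1 * (rep g.1 : Matrix (Fin 2) (Fin 2) F)) →
          (rep g'.1 : Matrix (Fin 2) (Fin 2) F) * X.1 = ε • (X.1 * (rep g'.1 : Matrix (Fin 2) (Fin 2) F)) →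
          ((rep g'.1)⁻¹ * rep g.1 : GL (Fin 2) F).1 * X.1 = X.1 * ((rep g'.1)⁻¹ * rep g.1 : GL (Fin 2) F).1 := by
        intro ε h1 h2'
        have h3 : ((rep g'.1)⁻¹ : GL (Fin 2) F).1 * (rep g'.1 : Matrix (Fin 2) (Fin 2) F) = 1 :=
          Units.inv_mul _
        have h4 : (rep g'.1 : Matrix (Fin 2) (Fin 2) F) * ((rep g'.1)⁻¹ : GL (Fin 2) F).1 = 1 :=
          Units.mul_inv _
        have hε : ((rep g'.1)⁻¹ : GL (Fin 2) F).1 * (ε • X.1) = X.1 * ((rep g'.1)⁻¹ : GL (Fin 2) F).1 := by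
          calc _ = ((rep g'.1)⁻¹ : GL (Fin 2) F).1 * (ε • (X.1 * (rep g'.1 : Matrix (Fin 2) (Fin 2) F))) *
                ((rep g'.1)⁻¹ : GL (Fin 2) F).1 := by
                rw [Matrix.mul_smul, Matrix.mul_smul, Matrix.smul_mul, mul_assoc, mul_assoc, h4, mul_one]
            _ = _ := by rw [← h2', ← mul_assoc, h3, one_mul]
        rw [Units.val_mul, mul_assoc, h1, ← Matrix.smul_mul, ← mul_assoc, hε, mul_assoc]
      rcases hC g.1 g.2 hX with e | e
      · exact key 1 (by rw [one_smul]; exact e) (by rw [one_smul]; exact h.1 e)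
      · by_cases e' : (rep g.1 : Matrix (Fin 2) (Fin 2) F) * X.1 = X.1 * (rep g.1 : Matrix (Fin 2) (Fin 2) F)
        · exact key 1 (by rw [one_smul]; exact e') (by rw [one_smul]; exact h.1 e')
        · refine key (-1) (by rw [neg_one_smul]; exact e) ?_
          rw [neg_one_smul]
          exact (hC g'.1 g'.2 hX).resolve_left fun h' => e' (h.2 h')
    set w : GL (Fin 2) F := (rep g'.1)⁻¹ * rep g.1 with hw
    have hwA := hcomm (Or.inl rfl) (congrArg Prod.fst h)
    have hwB := hcomm (Or.inr rfl) (congrArg Prod.snd h)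
    have hAc : A ∉ Subgroup.center (SL2 F) := fun hc =>
      ne_one_of_tr_zero h2 hA ((QuotientGroup.eq_one_iff _).2 hc)
    obtain ⟨x, y, hxy⟩ := exists_lin_of_commute hAc hwA
    have hy : y = 0 := by
      rw [hxy, lin] at hwB
      have h' : (2 * y) • (A.1 * B.1) = 0 := by
        rw [add_mul, mul_add, smul_mul_assoc, smul_mul_assoc, one_mul, mul_smul_comm, mul_smul_comm,
          mul_one, add_right_inj, show B.1 * A.1 = -(A.1 * B.1) by rw [coe_anticomm hAB, neg_neg],
          smul_neg] at hwB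
        rw [mul_smul, two_smul]
        nth_rewrite 1 [hwB]
        exact neg_add_cancel _
      rcases smul_eq_zero.1 h' with e | e
      · exact (mul_eq_zero.1 e).resolve_left h2
      · have := congrArg Matrix.det e
        rw [Matrix.det_mul, A.2, B.2, Matrix.det_zero, one_mul] at this
        exact absurd this one_ne_zero
    rw [hy, lin, zero_smul, add_zero] at hxy
    have hwc : ProjGenLinGroup.mk w = 1 := by
      have hx : x ≠ 0 := fun e => by
        have := congrArg Matrix.det hxy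
        rw [e, zero_smul, Matrix.det_zero, ← GeneralLinearGroup.val_det_apply] at this
        exact Units.ne_zero _ this
      have : w = GeneralLinearGroup.scalar (Fin 2) (Units.mk0 x hx) := Units.ext (by
        rw [hxy]
        ext i j
        fin_cases i <;> fin_cases j <;> simp)
      rw [this, ProjGenLinGroup.mk_scalar]
    rw [hw, map_mul, map_inv, hrep, hrep, inv_mul_eq_one] at hwc
    exact Subtype.ext hwc.symm
  have hup := Nat.card_le_card_of_injective sgn hsgn
  rw [Nat.card_prod, Nat.card_eq_fintype_card (α := Bool), Fintype.card_bool] at hup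
  omega

theorem klein_map_eq {V W : Subgroup (PSL2 F)} {u : GL (Fin 2) F}
    (h : V.map (outConj u).toMonoidHom = W) :
    (V.map φ).map (MulAut.conj (ProjGenLinGroup.mk u)).toMonoidHom = W.map φ := by
  rw [← h, Subgroup.map_map, Subgroup.map_map]
  congr 1
  exact MonoidHom.ext fun x => (toPGL_outConj u x).symm

theorem card_normalizer_klein (h2 : (2 : F) ≠ 0) {V : Subgroup (PSL2 F)} (hV : IsKleinFour V) :
    Nat.card (normalizer ((V.map φ : Subgroup (PGL2 F)) : Set (PGL2 F))) = 24 := by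
  classical
  have hinj : Function.Injective φ := ProjectiveSpecialLinearGroup.toPGL_injective
  have : Finite (PGL2 F) := Finite.of_surjective _ ProjGenLinGroup.mk_surjective
  have := Fintype.ofFinite V
  obtain ⟨eV⟩ : Nonempty (V ≃ Fin 4) := ⟨Fintype.equivFinOfCardEq (by
    rw [← Nat.card_eq_fintype_card]; exact hV.card_four)⟩
  let T := {ab : V × V // ab.1 ≠ 1 ∧ ab.2 ≠ 1 ∧ ab.1 ≠ ab.2}
  have hT : Nat.card T = 6 := by
    rw [Nat.card_congr ((Equiv.prodCongr eV eV).subtypeEquiv (q := fun xy : Fin 4 × Fin 4 =>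
      xy.1 ≠ eV 1 ∧ xy.2 ≠ eV 1 ∧ xy.1 ≠ xy.2) (fun ab => by simp)), Nat.card_eq_fintype_card]
    exact card_pairs_fin_four _
  obtain ⟨⟨⟨a, b⟩, ha, hb, hab⟩⟩ : Nonempty T := Finite.card_pos_iff.1 (by omega)
  have ha1 : (a : PSL2 F) ≠ 1 := fun e => ha (Subtype.ext e)
  have hb1 : (b : PSL2 F) ≠ 1 := fun e => hb (Subtype.ext e)
  have hne : (a : PSL2 F) ≠ b := fun e => hab (Subtype.ext e)
  set N := normalizer ((V.map φ : Subgroup (PGL2 F)) : Set (PGL2 F)) with hN
  set C := centralizer ({φ a, φ b} : Set (PGL2 F)) with hC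
  have hgen := klein_gen hV a.2 b.2 ha1 hb1 hne
  have hmapgen : V.map φ = closure {φ a, φ b} := by
    conv_lhs => rw [hgen]
    rw [MonoidHom.map_closure, Set.image_pair]
  have hCN : C ≤ N := by
    intro g hg
    refine centralizer_le_normalizer _ ?_
    rwa [hmapgen, Subgroup.centralizer_closure]
  have hmem : ∀ g ∈ N, ∀ v : V, ∃ v' : V, φ v' = g * φ v * g⁻¹ := fun g hg v => by
    obtain ⟨v', hv', e⟩ := (Subgroup.mem_normalizer_iff.1 hg (φ v)).1 ⟨_, v.2, rfl⟩
    exact ⟨⟨v', hv'⟩, e⟩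
  choose act hact using hmem
  have hact1 : ∀ g hg, ∀ v w : V, act g hg v = act g hg w → v = w := fun g hg v w h => by
    have h1 := congrArg (fun z : V => φ z) h
    simp only [hact] at h1
    exact Subtype.ext (hinj (mul_left_cancel (mul_right_cancel h1)))
  have hone : ∀ g hg, ∀ v : V, act g hg v = 1 → v = 1 := fun g hg v h => hact1 g hg v 1 (by
    rw [h]; apply Subtype.ext; apply hinj; rw [hact]; simp)
  let Φ : N → T := fun g => ⟨(act g.1 g.2 a, act g.1 g.2 b),
    fun h => ha (hone _ _ _ h), fun h => hb (hone _ _ _ h), fun h => hab (hact1 _ _ _ _ h)⟩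
  have hfib : ∀ g g' : N, Φ g = Φ g' ↔ (g : PGL2 F)⁻¹ * g' ∈ C := by
    intro g g'
    have hv : ∀ v : V, act g.1 g.2 v = act g'.1 g'.2 v ↔
        φ v * ((g : PGL2 F)⁻¹ * g') = ((g : PGL2 F)⁻¹ * g') * φ v := fun v => by
      rw [Subtype.ext_iff, ← hinj.eq_iff, hact, hact]
      constructor <;> intro h
      · calc φ v * ((g : PGL2 F)⁻¹ * g') = (g : PGL2 F)⁻¹ * (g * φ v * (g : PGL2 F)⁻¹) * g' := by group
          _ = _ := by rw [h]; group
      · calc (g : PGL2 F) * φ v * (g : PGL2 F)⁻¹ =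
            g * (φ v * ((g : PGL2 F)⁻¹ * g')) * (g' : PGL2 F)⁻¹ := by group
          _ = _ := by rw [h]; group
    rw [Subtype.ext_iff, Prod.ext_iff, mem_centralizer_iff]
    simp only [Φ, hv, Set.mem_insert_iff, Set.mem_singleton_iff, forall_eq_or_imp, forall_eq]
  have hsurj : Function.Surjective Φ := by
    rintro ⟨⟨x, y⟩, hx, hy, hxy⟩
    have hx1 : (x : PSL2 F) ≠ 1 := fun e => hx (Subtype.ext e)
    have hy1 : (y : PSL2 F) ≠ 1 := fun e => hy (Subtype.ext e)
    have hxy1 : (x : PSL2 F) ≠ y := fun e => hxy (Subtype.ext e)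
    obtain ⟨A, B, hAa, hBb, hA, hB, hAB⟩ := exists_lift_pair h2 ha1 hb1 (klein_comm hV a.2 a.2).1
      (klein_comm hV b.2 b.2).1 (klein_comm hV a.2 b.2).2 hne
    obtain ⟨X, Y, hXx, hYy, hX, hY, hXY⟩ := exists_lift_pair h2 hx1 hy1 (klein_comm hV x.2 x.2).1
      (klein_comm hV y.2 y.2).1 (klein_comm hV x.2 y.2).2 hxy1
    obtain ⟨u, hu1, hu2⟩ := pair_conj h2 hA hB hX hY hAB hXY
    have hua : outConj u (a : PSL2 F) = x := by rw [← hAa, outConj_mk u hu1, hXx]
    have hub : outConj u (b : PSL2 F) = y := by rw [← hBb, outConj_mk u hu2, hYy]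
    have hVu : V.map (outConj u).toMonoidHom = V := by
      conv_lhs => rw [hgen, MonoidHom.map_closure, Set.image_pair]
      conv_rhs => rw [klein_gen hV x.2 y.2 hx1 hy1 hxy1]
      simp [hua, hub]
    have huN : ProjGenLinGroup.mk u ∈ N := by
      rw [hN, Subgroup.mem_normalizer_iff_map_conj_eq]
      exact klein_map_eq hVu
    refine ⟨⟨_, huN⟩, Subtype.ext (Prod.ext ?_ ?_)⟩ <;> apply Subtype.ext <;> apply hinj
    · show φ (act _ _ a) = φ x
      rw [hact, ← toPGL_outConj, hua]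
    · show φ (act _ _ b) = φ y
      rw [hact, ← toPGL_outConj, hub]
  let Φ' : N ⧸ C.subgroupOf N → T := Quotient.lift Φ fun g g' h =>
    (hfib g g').2 (by simpa [Subgroup.mem_subgroupOf] using QuotientGroup.leftRel_apply.1 h)
  have hbij : Function.Bijective Φ' := by
    constructor
    · intro z z'
      induction z using QuotientGroup.induction_on with
      | H g =>
        induction z' using QuotientGroup.induction_on with
        | H g' =>
          intro h
          rw [QuotientGroup.eq, Subgroup.mem_subgroupOf]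
          exact (hfib g g').1 h
    · intro t
      obtain ⟨g, hg⟩ := hsurj t
      exact ⟨QuotientGroup.mk g, hg⟩
  have hmul := (C.subgroupOf N).index_mul_card
  rw [show (C.subgroupOf N).index = Nat.card (N ⧸ C.subgroupOf N) from rfl,
    Nat.card_congr (Equiv.ofBijective Φ' hbij), hT,
    Nat.card_congr (Subgroup.subgroupOfEquivOfLe hCN).toEquiv,
    card_centralizer_klein h2 hV a.2 b.2 ha1 hb1 hne] at hmul
  omega

theorem card_klein (hodd : Odd (Nat.card F)) :
    12 * Nat.card {V : Subgroup (PSL2 F) // IsKleinFour V} = Nat.card (PSL2 F) := by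
  have h2 : (2 : F) ≠ 0 := two_ne_zero_iff_odd.2 hodd
  have hinj : Function.Injective φ := ProjectiveSpecialLinearGroup.toPGL_injective
  obtain ⟨A₀, ⟨eA⟩⟩ := exists_alternatingFour_sub (F := F) h2
  obtain ⟨V₀, hV₀, -, -, -⟩ := exists_four A₀ (Or.inl ⟨eA⟩)
  let N := normalizer ((V₀.map φ : Subgroup (PGL2 F)) : Set (PGL2 F))
  have hstab : MulAction.stabilizer (ConjAct (PGL2 F)) (V₀.map φ) =
      N.map (ConjAct.toConjAct : PGL2 F ≃* ConjAct (PGL2 F)).toMonoidHom := by
    ext x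
    rw [Subgroup.mem_map_equiv, Subgroup.mem_normalizer_iff_map_conj_eq, MulAction.mem_stabilizer_iff]
    exact ⟨fun h => h, fun h => h⟩
  have horb : MulAction.orbit (ConjAct (PGL2 F)) (V₀.map φ) =
      (fun V : Subgroup (PSL2 F) => V.map φ) '' {V | IsKleinFour V} := by
    ext W
    constructor
    · rintro ⟨g, rfl⟩
      obtain ⟨u, hu⟩ := ProjGenLinGroup.mk_surjective (ConjAct.ofConjAct g)
      refine ⟨V₀.map (outConj u).toMonoidHom, ?_, ?_⟩
      · have e := Subgroup.equivMapOfInjective V₀ (outConj u).toMonoidHom (outConj u).injective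
        exact ⟨(Nat.card_congr e.toEquiv).symm.trans hV₀.card_four, by
          rw [← Monoid.exponent_eq_of_mulEquiv e, hV₀.exponent_two]⟩
      · show (V₀.map (outConj u).toMonoidHom).map φ = g • V₀.map φ
        rw [← klein_map_eq rfl, hu]
        rfl
    · rintro ⟨V, hV, rfl⟩
      obtain ⟨u, hu⟩ := klein_conj h2 hV₀ hV
      exact ⟨ConjAct.toConjAct (ProjGenLinGroup.mk u), klein_map_eq hu⟩
  have hcard := MulAction.index_stabilizer (G := ConjAct (PGL2 F)) (x := V₀.map φ)
  rw [horb, Set.ncard_image_of_injective _ (Subgroup.map_injective hinj)] at hcard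
  have hmul := (MulAction.stabilizer (ConjAct (PGL2 F)) (V₀.map φ)).index_mul_card
  rw [hcard, hstab, ← Nat.card_congr (Subgroup.equivMapOfInjective _ _
    (ConjAct.toConjAct : PGL2 F ≃* ConjAct (PGL2 F)).injective).toEquiv,
    card_normalizer_klein h2 hV₀, ← Nat.card_coe_set_eq,
    show Nat.card (ConjAct (PGL2 F)) = Nat.card (PGL2 F) from rfl, card_pgl_eq, ← card_psl_mul,
    Nat.gcd_eq_left (by obtain ⟨i, hi⟩ := hodd; omega : 2 ∣ Nat.card F - 1)] at hmul
  show 12 * Nat.card ↥{V : Subgroup (PSL2 F) | IsKleinFour V} = _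
  omega

theorem klein_normalizer_le_iff (hodd : Odd (Nat.card F)) {V : Subgroup (PSL2 F)}
    (hV : IsKleinFour V) :
    normalizer ((V.map φ : Subgroup (PGL2 F)) : Set (PGL2 F)) ≤ (φ).range ↔
      (Nat.card F % 8 = 1 ∨ Nat.card F % 8 = 7) := by
  have h2 : (2 : F) ≠ 0 := two_ne_zero_iff_odd.2 hodd
  have hinj : Function.Injective φ := ProjectiveSpecialLinearGroup.toPGL_injective
  have : Finite (PGL2 F) := Finite.of_surjective _ ProjGenLinGroup.mk_surjective
  rw [Nat.odd_iff] at hodd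
  constructor
  · intro hle
    have hdvd := Subgroup.card_dvd_of_le hle
    rw [card_normalizer_klein h2 hV, ← Nat.card_congr (MonoidHom.ofInjective hinj).toEquiv] at hdvd
    have hc := card_psl_mul (F := F)
    rw [Nat.gcd_eq_left (by omega : 2 ∣ Nat.card F - 1)] at hc
    have h16 : 16 ∣ Nat.card F * ((Nat.card F + 1) * (Nat.card F - 1)) := by
      rw [← hc, show 16 = 2 * 8 from rfl]
      exact mul_dvd_mul_left 2 (Dvd.dvd.trans (by norm_num) hdvd)
    have h16' : 16 ∣ (Nat.card F + 1) * (Nat.card F - 1) :=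
      (Nat.Coprime.pow_left 4 (Nat.prime_two.coprime_iff_not_dvd.2 (by omega))).dvd_of_dvd_mul_left h16
    rw [← GLOrder.sq_sub_one] at h16'
    have hsq : Nat.card F ^ 2 % 16 = 1 := by
      have : 1 ≤ Nat.card F ^ 2 := Nat.one_le_pow _ _ Nat.card_pos
      omega
    rw [Nat.pow_mod] at hsq
    rcases (show Nat.card F % 16 = 1 ∨ Nat.card F % 16 = 3 ∨ Nat.card F % 16 = 5 ∨
      Nat.card F % 16 = 7 ∨ Nat.card F % 16 = 9 ∨ Nat.card F % 16 = 11 ∨ Nat.card F % 16 = 13 ∨
      Nat.card F % 16 = 15 by omega) with r | r | r | r | r | r | r | r <;>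
      rw [r] at hsq <;> norm_num at hsq <;> omega
  · intro h8
    obtain ⟨S, ⟨eS⟩⟩ := exists_permFour_sub_iff.2 (show Nat.card F ^ 2 % 16 = 1 by
      rw [Nat.pow_mod]
      rcases (show Nat.card F % 16 = 1 ∨ Nat.card F % 16 = 7 ∨ Nat.card F % 16 = 9 ∨
        Nat.card F % 16 = 15 by omega) with r | r | r | r <;> rw [r] <;> norm_num)
    obtain ⟨V', hV', -, hSV, -⟩ := exists_four S (Or.inr ⟨eS⟩)
    obtain ⟨u, hu⟩ := klein_conj h2 hV' hV
    have hle : (S.map (outConj u).toMonoidHom).map φ ≤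
        normalizer ((V.map φ : Subgroup (PGL2 F)) : Set (PGL2 F)) := by
      rw [← hu]
      exact (Subgroup.map_mono (map_normalizer_le _ hSV)).trans (Subgroup.le_normalizer_map φ)
    have heq := Subgroup.eq_of_le_of_card_ge hle (by
      rw [card_normalizer_klein h2 hV, ← Nat.card_congr (Subgroup.equivMapOfInjective _ φ hinj).toEquiv,
        card_map_mulEquiv, Nat.card_congr eS.toEquiv, card_perm_four])
    rw [← heq]
    exact Subgroup.map_le_range _ _

theorem klein_classes (hodd : Odd (Nat.card F)) :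
    ((Nat.card F % 8 = 3 ∨ Nat.card F % 8 = 5) → ∀ V W : Subgroup (PSL2 F), IsKleinFour V →
      IsKleinFour W → ∃ g : PSL2 F, W = V.map (MulAut.conj g).toMonoidHom) ∧
    ((Nat.card F % 8 = 1 ∨ Nat.card F % 8 = 7) → ∃ V₁ V₂ : Subgroup (PSL2 F), IsKleinFour V₁ ∧
      IsKleinFour V₂ ∧ (¬ ∃ g : PSL2 F, V₂ = V₁.map (MulAut.conj g).toMonoidHom) ∧
      ∀ W : Subgroup (PSL2 F), IsKleinFour W →
        (∃ g : PSL2 F, W = V₁.map (MulAut.conj g).toMonoidHom) ∨
        (∃ g : PSL2 F, W = V₂.map (MulAut.conj g).toMonoidHom)) := by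
  have h2 : (2 : F) ≠ 0 := two_ne_zero_iff_odd.2 hodd
  constructor
  · intro h8 V W hV hW
    obtain ⟨u, hu⟩ := klein_conj h2 hV hW
    by_cases hd : IsSquare ((GeneralLinearGroup.det u : Fˣ) : F)
    · obtain ⟨g, hg⟩ := exists_outConj_eq_conj hd
      exact ⟨g, by rw [← hu, hg]⟩
    have hn : ¬ normalizer ((V.map φ : Subgroup (PGL2 F)) : Set (PGL2 F)) ≤ (φ).range := fun h => by
      have := (klein_normalizer_le_iff hodd hV).1 h; omega
    obtain ⟨m, hm, hm'⟩ := SetLike.not_le_iff_exists.1 hn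
    obtain ⟨v, rfl⟩ := ProjGenLinGroup.mk_surjective m
    rw [mk_mem_range_iff] at hm'
    rw [Subgroup.mem_normalizer_iff_map_conj_eq] at hm
    have hv : V.map (outConj v).toMonoidHom = V :=
      Subgroup.map_injective ProjectiveSpecialLinearGroup.toPGL_injective ((klein_map_eq rfl).symm.trans hm)
    obtain ⟨g, hg⟩ := exists_outConj_eq_conj (u := u * v) (by
      have := mul_mk_mem_range_iff u⁻¹ v (fun h => hd (by
        rw [map_inv, Units.val_inv_eq_inv_val] at h; simpa using h.inv)) hm'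
      rwa [inv_inv] at this)
    exact ⟨g, by rw [← hu, ← hg, map_outConj_mul, hv]⟩
  · intro h8
    obtain ⟨A₀, ⟨eA⟩⟩ := exists_alternatingFour_sub (F := F) h2
    obtain ⟨V₁, hV₁, -, -, -⟩ := exists_four A₀ (Or.inl ⟨eA⟩)
    obtain ⟨u₀, hu₀⟩ := exists_nonsquare_gl (F := F) hodd
    have e := Subgroup.equivMapOfInjective V₁ (outConj u₀).toMonoidHom (outConj u₀).injective
    refine ⟨V₁, V₁.map (outConj u₀).toMonoidHom, hV₁,
      ⟨(Nat.card_congr e.toEquiv).symm.trans hV₁.card_four, by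
        rw [← Monoid.exponent_eq_of_mulEquiv e, hV₁.exponent_two]⟩, ?_, fun W hW => ?_⟩
    · rintro ⟨g, hg⟩
      apply hu₀
      have hmem : (φ g)⁻¹ * ProjGenLinGroup.mk u₀ ∈
          normalizer ((V₁.map φ : Subgroup (PGL2 F)) : Set (PGL2 F)) := by
        rw [Subgroup.mem_normalizer_iff_map_conj_eq]
        show (V₁.map φ).map (MulAut.conj ((φ g)⁻¹ * ProjGenLinGroup.mk u₀)).toMonoidHom = V₁.map φ
        have h1 := klein_map_eq (V := V₁) (u := u₀) rfl
        rw [hg] at h1
        rw [show (MulAut.conj ((φ g)⁻¹ * ProjGenLinGroup.mk u₀)).toMonoidHom =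
          (MulAut.conj (φ g)⁻¹).toMonoidHom.comp (MulAut.conj (ProjGenLinGroup.mk u₀)).toMonoidHom from
            MonoidHom.ext fun x => by simp [mul_assoc],
          ← Subgroup.map_map, h1, Subgroup.map_map, Subgroup.map_map]
        congr 1
        exact MonoidHom.ext fun x => by simp [mul_assoc]
      have hr := (klein_normalizer_le_iff hodd hV₁).2 h8 hmem
      rw [← mk_mem_range_iff]
      simpa using mul_mem (⟨g, rfl⟩ : φ g ∈ (φ).range) hr
    · obtain ⟨u, hu⟩ := klein_conj h2 hV₁ hW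
      by_cases hd : IsSquare ((GeneralLinearGroup.det u : Fˣ) : F)
      · obtain ⟨g, hg⟩ := exists_outConj_eq_conj hd
        exact Or.inl ⟨g, by rw [← hu, hg]⟩
      · obtain ⟨g, hg⟩ := exists_outConj_eq_conj (u := u * u₀⁻¹) (by
          have hd' : ¬ IsSquare ((GeneralLinearGroup.det u⁻¹ : Fˣ) : F) := fun h => hd (by
            rw [map_inv, Units.val_inv_eq_inv_val] at h; simpa using h.inv)
          have hu' : ¬ IsSquare ((GeneralLinearGroup.det u₀⁻¹ : Fˣ) : F) := fun h => hu₀ (by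
            rw [map_inv, Units.val_inv_eq_inv_val] at h; simpa using h.inv)
          have := mul_mk_mem_range_iff u⁻¹ u₀⁻¹ hd' hu'
          rwa [inv_inv] at this)
        refine Or.inr ⟨g, ?_⟩
        rw [← hg, ← map_outConj_mul, inv_mul_cancel_right, hu]

end Cfsg.Agent.PSL2
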