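/-
`PSL_2(q)`, `q` odd, with abelian Sylow 2-subgroups (owner: helper44).

Main results (namespace `Cfsg.Agent.PSL2`):
* `mod_eight_of_comm`      : abelian Sylow 2-subgroups force `q ≡ ±3 (mod 8)`
* `commute_of_commute_mk`  : centralisers of elements of order at least three are abelian
* `aut_fixing_klein`       : a 2-automorphism fixing a four group pointwise is inner by it
* `FourData`, `fourData`   : the summary used for groups isomorphic to such `PSL_2(q)`
-/
import Cfsg.Agent.Lib.PSL2.Centralizers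
import Cfsg.Agent.Lib.PSL2.Klein
import Cfsg.Agent.Lib.PSL2.Soluble
import Cfsg.Agent.Lib.AutPSL.Count
import Cfsg.Agent.S0276

set_option autoImplicit false
set_option linter.unusedSectionVars false
set_option linter.dupNamespace false

open Matrix Subgroup

namespace Cfsg.Agent.PSL2

variable {F : Type} [Field F] [Finite F]

theorem mod_eight_of_comm (hodd : Odd (Nat.card F))
    (hab : ∀ P : Sylow 2 (PSL2 F), IsMulCommutative (P : Subgroup (PSL2 F))) :
    Nat.card F % 8 = 3 ∨ Nat.card F % 8 = 5 := by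
  by_contra hne
  have h2 := Nat.odd_iff.1 hodd
  have hg : Nat.gcd 2 (Nat.card F - 1) = 2 :=
    Nat.gcd_eq_left (by obtain ⟨k, hk⟩ := hodd; omega)
  have h4 : 4 ∣ (Nat.card F - 1) / Nat.gcd 2 (Nat.card F - 1) ∨
      4 ∣ (Nat.card F + 1) / Nat.gcd 2 (Nat.card F - 1) := by
    rw [hg]; omega
  obtain ⟨H, ⟨e⟩⟩ := exists_dihedral_sub (F := F) (n := 4) (by norm_num) h4
  have hp : IsPGroup 2 H := IsPGroup.of_card (n := 3) (by
    rw [Nat.card_congr e.toEquiv, DihedralGroup.nat_card]; norm_num)
  obtain ⟨P, hP⟩ := hp.exists_le_sylow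
  have := hab P
  have hc : ∀ a b : DihedralGroup 4, a * b = b * a := fun a b => by
    apply e.symm.injective
    rw [map_mul, map_mul]
    exact Subtype.ext (congrArg Subtype.val (this.is_comm.comm
      (⟨_, hP (e.symm a).2⟩ : (P : Subgroup (PSL2 F))) ⟨_, hP (e.symm b).2⟩) :)
  exact absurd hc (by decide)

/-- Centralisers of elements of order at least three are abelian. -/
theorem commute_of_commute_mk {a x y : PSL2 F} (ha : 3 ≤ orderOf a) (hx : Commute x a)
    (hy : Commute y a) : Commute x y := by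
  obtain ⟨A, rfl⟩ := QuotientGroup.mk_surjective a
  obtain ⟨X, rfl⟩ := QuotientGroup.mk_surjective x
  obtain ⟨Y, rfl⟩ := QuotientGroup.mk_surjective y
  have hA : A ∉ Subgroup.center (SL2 F) := fun hc => by
    rw [(QuotientGroup.eq_one_iff A).2 hc, orderOf_one] at ha
    omega
  exact (commute_of_commute hA (commute_lift hx.eq ha) (commute_lift hy.eq ha)).map
    (QuotientGroup.mk' _)

local notation "φ" => (ProjectiveSpecialLinearGroup.toPGL : PSL2 F →* PGL2 F)

/-- What centralises a four group in `PGL_2` lies in it. -/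
theorem mem_map_klein (h2 : (2 : F) ≠ 0) {V : Subgroup (PSL2 F)} (hV : IsKleinFour V) {z : PGL2 F}
    (hz : ∀ v ∈ V, φ v * z = z * φ v) : z ∈ V.map φ := by
  classical
  obtain ⟨a, ha, b, hb, hne, ha1, hb1⟩ : ∃ a ∈ V, ∃ b ∈ V, a ≠ b ∧ a ≠ 1 ∧ b ≠ 1 := by
    have h4 := hV.card_four
    have := Fintype.ofFinite V
    rw [Nat.card_eq_fintype_card] at h4
    have hc : 1 < Fintype.card {v : V // v ≠ 1} := by
      rw [Fintype.card_subtype_compl, Fintype.card_subtype_eq, h4]; norm_num
    obtain ⟨a, b, hab⟩ := Fintype.exists_pair_of_one_lt_card hc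
    exact ⟨a.1, a.1.2, b.1, b.1.2, fun e => hab (Subtype.ext (Subtype.ext e)),
      fun e => a.2 (Subtype.ext e), fun e => b.2 (Subtype.ext e)⟩
  have hcard := card_centralizer_klein h2 hV ha hb ha1 hb1 hne
  set C := Subgroup.centralizer ({φ a, φ b} : Set (PGL2 F))
  have hVC : V.map φ = C := by
    haveI : Finite C := Nat.finite_of_card_ne_zero (by rw [hcard]; norm_num)
    refine Subgroup.eq_of_le_of_card_ge ?_ ?_
    · rintro _ ⟨v, hv, rfl⟩
      rw [Subgroup.mem_centralizer_iff]
      rintro w (rfl | rfl) <;> rw [← map_mul, ← map_mul]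
      exacts [congrArg φ (klein_comm hV ha hv).2, congrArg φ (klein_comm hV hb hv).2]
    · rw [hcard, Subgroup.card_map_of_injective ProjectiveSpecialLinearGroup.toPGL_injective,
        hV.card_four]
  rw [hVC, Subgroup.mem_centralizer_iff]
  rintro w (rfl | rfl)
  exacts [hz a ha, hz b hb]

/-- An automorphism of 2-power order fixing a four group pointwise is inner by an element of it
(for `q` prime any automorphism fixing the four group is). -/
theorem aut_fixing_klein (hodd : Odd (Nat.card F)) (hq : Nat.card F % 8 = 3 ∨ Nat.card F % 8 = 5)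
    {V : Subgroup (PSL2 F)} (hV : IsKleinFour V) {α : MulAut (PSL2 F)}
    (hα : (∃ k : ℕ, α ^ (2 ^ k) = 1) ∨ (Nat.card F).Prime) (hfix : ∀ v ∈ V, α v = v) :
    ∃ v ∈ V, α = MulAut.conj v := by
  classical
  have := Fintype.ofFinite F
  have h2 : (2 : F) ≠ 0 := two_ne_zero_iff_odd.2 hodd
  obtain ⟨g, σ, rfl⟩ := AutPSL.exists_semi_of_two α
  have hpow : ∀ n : ℕ, ∃ h, (AutPSL.semi g σ) ^ n = AutPSL.semi h (σ ^ n) := by
    intro n
    induction n with
    | zero => exact ⟨1, by rw [pow_zero, pow_zero]; exact AutPSL.semi_one.symm⟩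
    | succ n ih =>
      obtain ⟨h, hh⟩ := ih
      refine ⟨g * Matrix.GeneralLinearGroup.map (σ : F →+* F) h, ?_⟩
      rw [pow_succ', hh, AutPSL.semi_mul, pow_succ']
      rfl
  have hσ : σ = RingEquiv.refl F := by
    obtain ⟨p, hp⟩ := CharP.exists F
    haveI : Fact p.Prime := ⟨CharP.char_is_prime F p⟩
    obtain ⟨f, hf, hcard⟩ := FiniteField.card F p
    obtain ⟨-, hA⟩ := AutPSL.fieldAut_facts (F := F) p f f.pos hcard
    rw [← Nat.card_eq_fintype_card] at hcard
    rcases hα with ⟨k, hk⟩ | hprime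
    · obtain ⟨h, hh⟩ := hpow (2 ^ k)
      have h1 : σ ^ (2 ^ k) = 1 := (AutPSL.semi_eq_one_iff.1 (hh.symm.trans hk)).1
      have hoddf : Odd (f : ℕ) := by
        by_contra hne
        obtain ⟨j, hj⟩ := Nat.not_odd_iff_even.1 hne
        have hpo : p % 2 = 1 := by
          by_contra h0
          have : 2 ∣ Nat.card F := hcard ▸ dvd_pow (show 2 ∣ p by omega) f.pos.ne'
          rw [Nat.odd_iff] at hodd
          omega
        have : Nat.card F % 8 = 1 := by
          rw [hcard, hj, ← two_mul, pow_mul, Nat.pow_mod,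
            show p ^ 2 % 8 = 1 by
              rw [Nat.pow_mod]
              have := Nat.mod_lt p (show 8 > 0 by norm_num)
              have : p % 8 % 2 = 1 := by omega
              interval_cases h : p % 8 <;> simp_all]
          simp
        omega
      have ho : orderOf σ ∣ 2 ^ k := orderOf_dvd_of_pow_eq_one h1
      have ho' : orderOf σ ∣ (f : ℕ) := hA ▸ orderOf_dvd_natCard σ
      have : orderOf σ = 1 := Nat.eq_one_of_dvd_coprimes
        ((Nat.coprime_two_left.2 hoddf).pow_left k) ho ho'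
      exact orderOf_eq_one_iff.1 this
    · have hf1 : (f : ℕ) = 1 := by
        rw [hcard] at hprime
        exact hprime.eq_one_of_pow
      have : orderOf σ = 1 := Nat.dvd_one.1 (hf1 ▸ hA ▸ orderOf_dvd_natCard σ)
      exact orderOf_eq_one_iff.1 this
  subst hσ
  have hφ : Function.Injective φ := ProjectiveSpecialLinearGroup.toPGL_injective
  have hmem : ProjGenLinGroup.mk g ∈ V.map φ := by
    refine mem_map_klein h2 hV fun v hv => ?_
    have h1 : φ (outConj g v) = φ v := congrArg φ (hfix v hv)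
    rw [toPGL_outConj, mul_inv_eq_iff_eq_mul] at h1
    exact h1.symm
  obtain ⟨v, hv, hvg⟩ := hmem
  refine ⟨v, hv, MulEquiv.ext fun x => hφ ?_⟩
  show φ (outConj g x) = φ (MulAut.conj v x)
  rw [toPGL_outConj, MulAut.conj_apply, map_mul, map_mul, map_inv, hvg]

/-- What is used of `PSL_2(q)`, `q ≡ ±3 (mod 8)`. -/
structure FourData (K : Type*) [Group K] : Prop where
  sylow : ∀ P : Sylow 2 K, IsKleinFour (P : Subgroup K)
  conj : ∀ x y : K, orderOf x = 2 → orderOf y = 2 → IsConj x y
  comm : ∀ a x y : K, 3 ≤ orderOf a → Commute x a → Commute y a → Commute x y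
  cent : ∀ V : Subgroup K, IsKleinFour V → ∀ x : K, (∀ v ∈ V, Commute x v) → x ∈ V
  aut : ∀ V : Subgroup K, IsKleinFour V → ∀ α : MulAut K,
    ((∃ k : ℕ, α ^ (2 ^ k) = 1) ∨ Nat.card K = 12) → (∀ v ∈ V, α v = v) →
    ∃ v ∈ V, α = MulAut.conj v
  simple : Nat.card K = 12 ∨ (IsSimpleGroup K ∧ ¬ ∀ a b : K, a * b = b * a)

theorem fourData (hodd : Odd (Nat.card F))
    (hab : ∀ P : Sylow 2 (PSL2 F), IsMulCommutative (P : Subgroup (PSL2 F))) :
    FourData (PSL2 F) := by
  have := Fintype.ofFinite F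
  have hq := mod_eight_of_comm hodd hab
  have h2 : (2 : F) ≠ 0 := two_ne_zero_iff_odd.2 hodd
  have hcardK : 2 * Nat.card (PSL2 F) = Nat.card F * (Nat.card F ^ 2 - 1) :=
    GLOrder.card_PSL_two_of_odd (F := F) hodd
  refine ⟨fun P => Cfsg.Agent.S0276.result Nat.card_eq_fintype_card.symm hq P,
    fun x y => involution_isConj hodd, fun a x y => commute_of_commute_mk, fun V hV x hx => ?_,
    fun V hV α hα hfix => aut_fixing_klein hodd hq hV (hα.imp_right fun h12 => ?_) hfix, ?_⟩
  · obtain ⟨v, hv, e⟩ := mem_map_klein h2 hV (z := φ x) fun v hv => by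
      rw [← map_mul, ← map_mul, (hx v hv).eq]
    exact ProjectiveSpecialLinearGroup.toPGL_injective e ▸ hv
  · have : Nat.card F = 3 := by
      rw [h12] at hcardK
      rcases Nat.lt_or_ge (Nat.card F) 4 with h | h
      · rw [Nat.odd_iff] at hodd
        omega
      · exfalso
        have h16 : 16 - 1 ≤ Nat.card F ^ 2 - 1 := Nat.sub_le_sub_right
          (by calc 16 = 4 ^ 2 := by norm_num
              _ ≤ Nat.card F ^ 2 := Nat.pow_le_pow_left h 2) 1
        have := Nat.mul_le_mul h h16
        omega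
    rw [this]; norm_num
  · rcases Nat.lt_or_ge (Nat.card F) 4 with h | h
    · left
      have h3 : Nat.card F = 3 := by rw [Nat.odd_iff] at hodd; omega
      rw [h3] at hcardK
      norm_num at hcardK ⊢
      omega
    · exact Or.inr ⟨isSimpleGroup_psl h, not_comm_psl (by omega)⟩

end Cfsg.Agent.PSL2
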