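/-
Overgroups of Sylow 2-subgroups of `PSL_2(2^n)`.

Main result (namespace `Cfsg.Agent.PSL2`):
* `even_sylow_overgroup` : the Borel subgroup is the only maximal subgroup over a Sylow 2-subgroup
-/
import Cfsg.Agent.Lib.PSL2.PGLMaximal

set_option autoImplicit false
set_option linter.unusedSectionVars false
set_option linter.dupNamespace false

open Matrix MulAction Subgroup
open scoped LinearAlgebra.Projectivization

namespace Cfsg.Agent.PSL2

variable {F : Type*} [Field F] [Finite F] [CharP F 2]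

theorem even_sylow_overgroup (h4 : 4 ≤ Nat.card F) (Q : Sylow 2 (PSL2 F)) :
    IsCoatom (normalizer ((Q : Subgroup (PSL2 F)) : Set (PSL2 F))) ∧
      ∀ K : Subgroup (PSL2 F), K ≠ ⊤ → (Q : Subgroup (PSL2 F)) ≤ K →
        K ≤ normalizer ((Q : Subgroup (PSL2 F)) : Set (PSL2 F)) := by
  obtain ⟨n, hn, hq, ⟨-, he, hd, -⟩ | ⟨h, -⟩⟩ := q_cases (F := F) 2
  swap
  · exact absurd rfl h
  obtain ⟨P, hP⟩ := normalizer_sylow_le 2 Q
  have hGc := card_psl_mul (F := F)
  rw [hd, one_mul] at hGc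
  have hqodd : ∀ q : ℕ, Even q → 1 ≤ q → ¬ 2 ∣ (q + 1) * (q - 1) := fun q he h1 h => by
    rw [Nat.even_iff] at he
    rcases Nat.prime_two.dvd_mul.1 h with h' | h' <;> omega
  have hQc : Nat.card (Q : Subgroup (PSL2 F)) = Nat.card F := by
    rw [SmallOrders.card_sylow_subgroup (e := n) (m := (Nat.card F + 1) * (Nat.card F - 1))
      (by rw [hGc, hq]) (hqodd _ he (by omega)) Q, hq]
  have hQP : (Q : Subgroup (PSL2 F)) ≤ stabilizer (PSL2 F) P := Subgroup.le_normalizer.trans hP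
  -- the stabiliser normalises `Q`
  have hstab : stabilizer (PSL2 F) P ≤ normalizer ((Q : Subgroup (PSL2 F)) : Set (PSL2 F)) := by
    obtain ⟨ψ, hψ⟩ := exists_borel_hom 2 P
    have hker : ψ.ker.map (stabilizer (PSL2 F) P).subtype = (Q : Subgroup (PSL2 F)) := by
      refine Q.3 ?_ ?_
      · rintro ⟨_, x, hx, rfl⟩
        exact ⟨1, Subtype.ext ((hψ x).1 hx)⟩
      · intro x hx
        refine ⟨⟨x, hQP hx⟩, ?_, rfl⟩
        obtain ⟨k, hk⟩ := Q.isPGroup' ⟨x, hx⟩
        rw [SetLike.mem_coe, MonoidHom.mem_ker, ← orderOf_eq_one_iff]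
        have h1 : orderOf (ψ ⟨x, hQP hx⟩) ∣ 2 ^ k := orderOf_dvd_of_pow_eq_one (by
          rw [← map_pow, show (⟨x, hQP hx⟩ : stabilizer (PSL2 F) P) ^ (2 ^ k) = 1 from
            Subtype.ext (by simpa using congrArg Subtype.val hk), map_one])
        have h2 : orderOf (ψ ⟨x, hQP hx⟩) ∣ Nat.card F - 1 := by
          rw [← Nat.card_units]; exact _root_.orderOf_dvd_natCard _
        refine Nat.eq_one_of_dvd_one (Nat.dvd_gcd h1 h2 |>.trans (dvd_of_eq ?_))
        exact Nat.Coprime.pow_left k (Nat.prime_two.coprime_iff_not_dvd.2 (by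
          rw [Nat.even_iff] at he; omega))
    intro g hg
    rw [← hker]
    rw [Subgroup.mem_normalizer_iff]
    intro y
    constructor
    · rintro ⟨x, hx, rfl⟩
      exact ⟨⟨g, hg⟩ * x * ⟨g, hg⟩⁻¹, ψ.normal_ker.conj_mem x hx _, rfl⟩
    · rintro ⟨x, hx, hxy⟩
      refine ⟨⟨g, hg⟩⁻¹ * x * ⟨g, hg⟩⁻¹⁻¹, ψ.normal_ker.conj_mem x hx _, ?_⟩
      simp only [map_mul, map_inv, hxy, Subgroup.coe_subtype]
      group
  have heq : normalizer ((Q : Subgroup (PSL2 F)) : Set (PSL2 F)) = stabilizer (PSL2 F) P :=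
    le_antisymm hP hstab
  refine ⟨heq ▸ isCoatom_stabilizer_psl P, fun K hK hQK => ?_⟩
  rw [heq]
  have hdvd : 2 ^ n ∣ Nat.card K := by rw [← hq, ← hQc]; exact Subgroup.card_dvd_of_le hQK
  have h2K : 2 ∣ Nat.card K := (dvd_pow_self 2 (by omega)).trans hdvd
  have hn2 : 2 ≤ n := by
    by_contra hlt
    rw [hq, show n = 1 by omega] at h4
    norm_num at h4
  rcases psl_dickson 2 K with ⟨-, S, hS⟩ | ⟨h, -, -⟩ | ⟨k, -, hk, -, hKc, -, -⟩ | ⟨h, -⟩ |
    ⟨h, -, -⟩ | ⟨R, m, -, hR, h⟩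
  · obtain ⟨P', hP'⟩ := normalizer_sylow_le 2 S
    have hKP' := hS.trans hP'
    have : P' = P := by
      obtain ⟨⟨x, hx⟩, hxo⟩ := exists_prime_orderOf_dvd_card' (G := (Q : Subgroup (PSL2 F))) 2
        (by rw [hQc, hq]; exact dvd_pow_self 2 (by omega))
      rw [Subgroup.orderOf_mk] at hxo
      refine eq_of_fix_pow_char 2 (g := ProjectiveSpecialLinearGroup.toPGL x) (fun e => ?_)
        (by rw [← map_pow, orderOf_dvd_iff_pow_eq_one.1 hxo.dvd, map_one]) ?_ ?_
      · rw [← map_one (ProjectiveSpecialLinearGroup.toPGL : PSL2 F →* PGL2 F)] at e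
        rw [ProjectiveSpecialLinearGroup.toPGL_injective e, orderOf_one] at hxo
        omega
      · rw [toPGL_smul, mem_stabilizer_iff.1 (hKP' (hQK hx))]
      · rw [toPGL_smul, mem_stabilizer_iff.1 (hQP hx)]
    exact this ▸ hKP'
  · exact absurd h2K h
  · exfalso
    rw [hKc, show n = n - 1 + 1 by omega, pow_succ', Nat.mul_dvd_mul_iff_left two_pos] at hdvd
    exact hk ((dvd_pow_self 2 (by omega)).trans hdvd)
  · exact absurd h2K h
  · exact absurd h (by norm_num)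
  · exfalso
    rcases h with ⟨⟨e⟩⟩ | ⟨h, -, -⟩
    swap
    · exact h rfl
    have := charP_subfield 2 R
    obtain ⟨l, hl, hRl, ⟨-, heR, hdR, -⟩ | ⟨h', -⟩⟩ := q_cases (F := R) 2
    swap
    · exact h' rfl
    have hc := card_psl_mul (F := R)
    rw [hdR, one_mul, ← Nat.card_congr e.toEquiv] at hc
    rw [hc] at hdvd
    have hr1 : 1 < Nat.card R := Finite.one_lt_card
    have h' : 2 ^ n ∣ Nat.card R := Nat.Coprime.dvd_of_dvd_mul_right
      (Nat.Coprime.pow_left n (Nat.prime_two.coprime_iff_not_dvd.2 (hqodd _ heR (by omega)))) hdvd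
    have hle : Nat.card F ≤ Nat.card R := hq ▸ Nat.le_of_dvd (by omega) h'
    have hle' : Nat.card R ≤ Nat.card F :=
      Nat.card_le_card_of_injective _ R.subtype.injective
    exact hK (eq_top_of_psl (le_antisymm hle' hle) e)

end Cfsg.Agent.PSL2
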