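/-
Tools for solubilisers in `PSL_2(q)`, `q = 2^r` or `3^r` with `r` prime.

Main results (namespace `Cfsg.Agent.PSL2`):
* `isSolvable_two_involutions`, `isSolvable_tetra`, `isSolvable_normalizer_torus`
* `soluble_cases`
* `stab_two`, `fix_torus`, `translations`, `card_involutions`
-/
import Cfsg.Agent.Lib.PSL2.Centralizers
import Cfsg.Agent.Lib.PSL2.EvenSylow

set_option autoImplicit false
set_option linter.unusedSectionVars false
set_option linter.dupNamespace false

open Matrix MulAction Subgroup
open scoped LinearAlgebra.Projectivization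

namespace Cfsg.Agent.PSL2

section Group

variable {G : Type*} [Group G]

/-- A subgroup generated over a soluble normalised subgroup by one element is soluble. -/
theorem isSolvable_of_insert {C : Subgroup G} {x : G} (hC : Group.IsSolvable C)
    (hx : x ∈ normalizer (C : Set G)) :
    Group.IsSolvable ↥(C ⊔ zpowers x) := by
  have hle : zpowers x ≤ normalizer (C : Set G) := zpowers_le.2 hx
  have hCle : C ≤ C ⊔ zpowers x := le_sup_left
  have hn : (C.subgroupOf (C ⊔ zpowers x)).Normal :=
    (Subgroup.normal_subgroupOf_iff_le_normalizer hCle).2 (sup_le Subgroup.le_normalizer hle)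
  let f : C →* ↥(C ⊔ zpowers x) := Subgroup.inclusion hCle
  let g := QuotientGroup.mk' (C.subgroupOf (C ⊔ zpowers x))
  have hquot : Group.IsSolvable (↥(C ⊔ zpowers x) ⧸ C.subgroupOf (C ⊔ zpowers x)) := by
    have hgen : ∀ a, a ∈ zpowers (g ⟨x, (le_sup_right : zpowers x ≤ _) (mem_zpowers x)⟩) := by
      intro a
      obtain ⟨⟨a, ha⟩, rfl⟩ := QuotientGroup.mk'_surjective _ a
      have ha' := ha
      rw [← SetLike.mem_coe, Subgroup.coe_mul_of_right_le_normalizer_left C (zpowers x) hle] at ha'
      obtain ⟨c, hc, w, hw, rfl⟩ := ha'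
      obtain ⟨i, rfl⟩ := hw
      refine ⟨i, ?_⟩
      show (g ⟨x, _⟩) ^ i = g ⟨c * x ^ i, ha⟩
      have e : (⟨c * x ^ i, ha⟩ : ↥(C ⊔ zpowers x)) =
          ⟨c, hCle hc⟩ * ⟨x, (le_sup_right : zpowers x ≤ _) (mem_zpowers x)⟩ ^ i :=
        Subtype.ext (by simp)
      rw [e, map_mul, map_zpow,
        show g ⟨c, hCle hc⟩ = 1 from (QuotientGroup.eq_one_iff _).2 (by
          rw [Subgroup.mem_subgroupOf]; exact hc), one_mul]
    exact Group.isSolvable_of_comm fun a b => by
      obtain ⟨i, hi⟩ := hgen a
      obtain ⟨j, hj⟩ := hgen b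
      rw [← hi, ← hj]
      exact ((Commute.refl _).zpow_zpow i j).eq
  have := hquot
  exact Group.isSolvable_of_ker_le_range f g fun z hz => by
    rw [QuotientGroup.ker_mk', Subgroup.mem_subgroupOf] at hz
    exact ⟨⟨z, hz⟩, rfl⟩

theorem isSolvable_le {H K : Subgroup G} (h : Group.IsSolvable K) (hle : H ≤ K) : Group.IsSolvable H :=
  Group.isSolvable_of_isSolvable_injective (f := Subgroup.inclusion hle) (Subgroup.inclusion_injective hle)

theorem isSolvable_closure_comm {a b : G} (h : a * b = b * a) :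
    Group.IsSolvable ↥(closure ({a, b} : Set G)) := by
  have ha : a ∈ centralizer ((closure ({a, b} : Set G) : Subgroup G) : Set G) := by
    rw [Subgroup.centralizer_closure, mem_centralizer_iff]
    rintro z (rfl | rfl)
    exacts [rfl, h.symm]
  have hb : b ∈ centralizer ((closure ({a, b} : Set G) : Subgroup G) : Set G) := by
    rw [Subgroup.centralizer_closure, mem_centralizer_iff]
    rintro z (rfl | rfl)
    exacts [h, rfl]
  have hle : closure ({a, b} : Set G) ≤
      centralizer ((closure ({a, b} : Set G) : Subgroup G) : Set G) := by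
    rw [closure_le]; rintro z (rfl | rfl) <;> assumption
  exact Group.isSolvable_of_comm fun u v => Subtype.ext (mem_centralizer_iff.1 (hle v.2) u u.2)

/-- Two involutions generate a soluble group. -/
theorem isSolvable_two_involutions {x z : G} (hx : x * x = 1) (hz : z * z = 1) :
    Group.IsSolvable ↥(closure ({x, z} : Set G)) := by
  have hxi : x⁻¹ = x := inv_eq_of_mul_eq_one_right hx
  have hzi : z⁻¹ = z := inv_eq_of_mul_eq_one_right hz
  have hC : Group.IsSolvable ↥(zpowers (x * z)) := Group.isSolvable_of_comm fun a b => by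
    obtain ⟨a, i, rfl⟩ := a
    obtain ⟨b, j, rfl⟩ := b
    exact Subtype.ext ((Commute.refl (x * z)).zpow_zpow i j).eq
  have hx' : x ∈ normalizer (zpowers (x * z) : Set G) := by
    rw [Subgroup.mem_normalizer_iff_map_conj_eq]
    show (zpowers (x * z)).map (MulAut.conj x).toMonoidHom = zpowers (x * z)
    rw [MonoidHom.map_zpowers]
    show zpowers (x * (x * z) * x⁻¹) = zpowers (x * z)
    rw [hxi, ← mul_assoc, hx, one_mul, show z * x = (x * z)⁻¹ by rw [_root_.mul_inv_rev, hxi, hzi],
      Subgroup.zpowers_inv]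
  refine isSolvable_le (isSolvable_of_insert hC hx') ?_
  rw [closure_le]
  rintro w (rfl | rfl)
  · exact (le_sup_right : zpowers w ≤ _) (mem_zpowers w)
  · have h1 : x ∈ zpowers (x * w) ⊔ zpowers x := (le_sup_right : zpowers x ≤ _) (mem_zpowers x)
    have h2 : x * w ∈ zpowers (x * w) ⊔ zpowers x := (le_sup_left : zpowers (x * w) ≤ _) (mem_zpowers _)
    have := mul_mem h1 h2
    rwa [← mul_assoc, hx, one_mul] at this

/-- `x² = y³ = (xy)³ = 1` generates a soluble group. -/
theorem isSolvable_tetra {x y : G} (hx : x * x = 1) (hy : y ^ 3 = 1) (hxy : (x * y) ^ 3 = 1) :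
    Group.IsSolvable ↥(closure ({x, y} : Set G)) := by
  have hxi : x⁻¹ = x := inv_eq_of_mul_eq_one_right hx
  have hy3 : y * y * y = 1 := by rw [← hy, pow_succ, pow_two]
  have hyi : y⁻¹ = y * y := inv_eq_of_mul_eq_one_right (by rw [← mul_assoc]; exact hy3)
  set a := y * x * y⁻¹ with ha
  have hkey : y * x * y * x * y = x := by
    have h : x * y * x * y * x * y = 1 := by
      rw [← hxy, pow_succ, pow_two]; simp only [mul_assoc]
    calc y * x * y * x * y = (x * x) * (y * x * y * x * y) := by rw [hx, one_mul]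
      _ = x * (x * y * x * y * x * y) := by simp only [mul_assoc]
      _ = x := by rw [h, mul_one]
  have hxa : x * a = y⁻¹ * x * y := by
    have h1 : x * y * x = (y⁻¹ * x * y⁻¹) := by
      calc x * y * x = y⁻¹ * (y * x * y * x * y) * y⁻¹ := by group
        _ = _ := by rw [hkey]
    calc x * a = (x * y * x) * y⁻¹ := by rw [ha]; group
      _ = y⁻¹ * x * (y⁻¹ * y⁻¹) := by rw [h1]; group
      _ = y⁻¹ * x * y := by rw [← _root_.mul_inv_rev, ← hyi, inv_inv]
  have ha2 : a * a = 1 := by
    rw [ha, show y * x * y⁻¹ * (y * x * y⁻¹) = y * (x * x) * y⁻¹ by group, hx, mul_one, mul_inv_cancel]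
  have hb2 : (y⁻¹ * x * y) * (y⁻¹ * x * y) = 1 := by
    rw [show y⁻¹ * x * y * (y⁻¹ * x * y) = y⁻¹ * (x * x) * y by group, hx, mul_one, inv_mul_cancel]
  have hcomm : x * a = a * x := by
    have h1 : (x * a)⁻¹ = x * a := by rw [hxa]; exact inv_eq_of_mul_eq_one_right hb2
    rw [_root_.mul_inv_rev, hxi, inv_eq_of_mul_eq_one_right ha2] at h1
    exact h1.symm
  have hV := isSolvable_closure_comm hcomm
  have hny : y ∈ normalizer ((closure ({x, a} : Set G) : Subgroup G) : Set G) := by
    rw [Subgroup.mem_normalizer_iff_map_conj_eq]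
    show (closure ({x, a} : Set G)).map (MulAut.conj y).toMonoidHom = closure ({x, a} : Set G)
    rw [MonoidHom.map_closure, Set.image_pair]
    show closure ({y * x * y⁻¹, y * a * y⁻¹} : Set G) = closure ({x, a} : Set G)
    have hb : y * a * y⁻¹ = x * a := by
      rw [hxa, ha, show y * (y * x * y⁻¹) * y⁻¹ = (y * y) * x * (y * y)⁻¹ by group, ← hyi, inv_inv]
    rw [← ha, hb]
    refine le_antisymm ?_ ?_ <;> rw [closure_le] <;> rintro w (rfl | rfl)
    · exact subset_closure (Or.inr rfl)
    · exact mul_mem (subset_closure (Or.inl rfl)) (subset_closure (Or.inr rfl))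
    · have h1 : w * a ∈ closure ({a, w * a} : Set G) := subset_closure (Or.inr rfl)
      have h2 : a ∈ closure ({a, w * a} : Set G) := subset_closure (Or.inl rfl)
      have := mul_mem h1 h2
      rwa [mul_assoc, ha2, mul_one] at this
    · exact subset_closure (Or.inl rfl)
  refine isSolvable_le (isSolvable_of_insert hV hny) ?_
  rw [closure_le]
  rintro w (rfl | rfl)
  · exact (le_sup_left : closure ({w, a} : Set G) ≤ _) (subset_closure (Or.inl rfl))
  · exact (le_sup_right : zpowers w ≤ _) (mem_zpowers w)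

end Group

variable {F : Type*} [Field F] [Finite F]

local notation "φ" => (ProjectiveSpecialLinearGroup.toPGL : PSL2 F →* PGL2 F)

/-- The normaliser of a semisimple cyclic subgroup is soluble. -/
theorem isSolvable_normalizer_torus (p : ℕ) [Fact p.Prime] [CharP F p] {x : PSL2 F}
    (hx : ¬ orderOf x ∣ p) (hx3 : 3 ≤ orderOf x) :
    Group.IsSolvable ↥(normalizer (zpowers x : Set (PSL2 F))) := by
  obtain ⟨y, -, hC, -⟩ := centralizer_torus p hx hx3
  set N := normalizer (zpowers x : Set (PSL2 F))
  let h := Subgroup.normalizerMonoidHom (zpowers x)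
  have hcomm : ∀ a b : MulAut (zpowers x), a * b = b * a := by
    intro a b
    have hap : ∀ e : MulAut (zpowers x), ∃ i : ℤ, ∀ w, e w = w ^ i := by
      intro e
      obtain ⟨i, hi⟩ := (e ⟨x, mem_zpowers x⟩).2
      refine ⟨i, fun w => ?_⟩
      obtain ⟨w, j, rfl⟩ := w
      have hw : (⟨x ^ j, j, rfl⟩ : zpowers x) = ⟨x, mem_zpowers x⟩ ^ j := Subtype.ext (by simp)
      have he : e ⟨x, mem_zpowers x⟩ = ⟨x, mem_zpowers x⟩ ^ i := Subtype.ext (by simpa using hi.symm)
      rw [hw, map_zpow, he, ← _root_.zpow_mul, ← _root_.zpow_mul, mul_comm]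
    obtain ⟨i, hi⟩ := hap a
    obtain ⟨j, hj⟩ := hap b
    refine MulEquiv.ext fun w => ?_
    show a (b w) = b (a w)
    rw [hi, hj, hj, hi, ← _root_.zpow_mul, ← _root_.zpow_mul, mul_comm]
  have hA : Group.IsSolvable (MulAut (zpowers x)) := Group.isSolvable_of_comm hcomm
  have hK : Group.IsSolvable (zpowers y) := Group.isSolvable_of_comm fun a b => by
    obtain ⟨a, i, rfl⟩ := a
    obtain ⟨b, j, rfl⟩ := b
    exact Subtype.ext ((Commute.refl y).zpow_zpow i j).eq
  have hle : zpowers y ≤ N := by
    rw [← hC]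
    refine le_trans ?_ (centralizer_le_normalizer _)
    intro z hz
    rw [mem_centralizer_singleton_iff] at hz
    rw [mem_centralizer_iff]
    rintro w ⟨i, rfl⟩
    exact ((show Commute z x from hz).zpow_right i).eq.symm
  refine Group.isSolvable_of_ker_le_range (Subgroup.inclusion hle) h fun z hz => ?_
  rw [Subgroup.normalizerMonoidHom_ker, Subgroup.mem_subgroupOf] at hz
  refine ⟨⟨z.1, ?_⟩, rfl⟩
  rw [← hC, mem_centralizer_singleton_iff]
  exact (mem_centralizer_iff.1 hz x (mem_zpowers x)).symm

/-- Soluble subgroups when `q` is `2^r` or `3^r`, `r` prime (odd if `p = 3`). -/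
theorem soluble_cases (p : ℕ) [Fact p.Prime] [CharP F p] {r : ℕ} (hr : r.Prime)
    (hq : Nat.card F = p ^ r) (hp : p = 2 ∨ (p = 3 ∧ Odd r)) {H : Subgroup (PSL2 F)}
    (hH : Group.IsSolvable H) :
    (∃ P : Pt F, H ≤ stabilizer (PSL2 F) P) ∨ (¬ p ∣ Nat.card H ∧ IsCyclic H) ∨
    (∃ k, 2 ≤ k ∧ ¬ p ∣ k ∧
      (k ∣ (Nat.card F - 1) / Nat.gcd 2 (Nat.card F - 1) ∨
        k ∣ (Nat.card F + 1) / Nat.gcd 2 (Nat.card F - 1)) ∧ Nonempty (H ≃* DihedralGroup k)) ∨
    (p = 3 ∧ Nonempty (H ≃* alternatingGroup (Fin 4))) := by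
  have h4 : 4 ≤ Nat.card F := by
    rw [hq]
    calc 4 = 2 ^ 2 := rfl
      _ ≤ p ^ 2 := Nat.pow_le_pow_left (Fact.out : p.Prime).two_le 2
      _ ≤ p ^ r := Nat.pow_le_pow_right (Fact.out : p.Prime).pos hr.two_le
  have hH' := hH
  rcases psl_dickson p H with ⟨-, S, hS⟩ | ⟨hpH, hc, -⟩ | ⟨k, hk2, hk, hside, -, -, hd⟩ | ⟨hpH, h⟩ |
    ⟨-, -, ⟨e⟩⟩ | ⟨R, m, hm, hR, h⟩
  · obtain ⟨P, hP⟩ := normalizer_sylow_le p S
    exact Or.inl ⟨P, hS.trans hP⟩
  · exact Or.inr (Or.inl ⟨hpH, hc⟩)
  · exact Or.inr (Or.inr (Or.inl ⟨k, hk2, hk, hside, hd⟩))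
  · exfalso
    rcases hp with rfl | ⟨rfl, -⟩ <;> apply hpH <;>
      rcases h with ⟨⟨e⟩⟩ | ⟨⟨e⟩⟩ | ⟨⟨e⟩⟩ <;> rw [Nat.card_congr e.toEquiv] <;>
      first
      | (rw [card_alt_four]; norm_num; done)
      | (rw [card_perm_four]; norm_num; done)
      | (rw [card_alt_five]; norm_num)
  · exact absurd (Group.isSolvable_of_isSolvable_injective (f := e.symm.toMonoidHom) e.symm.injective)
      not_isSolvable_altFive
  · have := charP_subfield p R
    obtain ⟨l, hl, hRl, -⟩ := q_cases (F := R) p
    rw [hRl, ← pow_mul, hq] at hR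
    have hlm : l * m = r := Nat.pow_right_injective (Fact.out : p.Prime).two_le hR
    rcases (Nat.dvd_prime hr).1 (hlm ▸ Nat.dvd_mul_right l m) with rfl | rfl
    · rcases h with ⟨⟨e⟩⟩ | ⟨hp2, hme, -⟩
      swap
      · exfalso
        rcases hp with rfl | ⟨-, ho⟩
        · exact hp2 rfl
        · rw [one_mul] at hlm
          exact Nat.not_even_iff_odd.2 ho (hlm ▸ hme)
      rw [pow_one] at hRl
      rcases hp with rfl | ⟨rfl, -⟩
      · -- `PSL_2(2) ≅ D_6`
        obtain ⟨_, -, -, ⟨-, -, hd, -⟩ | ⟨hh, -⟩⟩ := q_cases (F := F) 2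
        swap
        · exact absurd rfl hh
        obtain ⟨_, -, -, ⟨-, -, hdR, -⟩ | ⟨hh, -⟩⟩ := q_cases (F := R) 2
        swap
        · exact absurd rfl hh
        have hH6 : Nat.card H = 6 := by
          have h' := card_psl_mul (F := R)
          rw [hdR, one_mul, hRl] at h'
          rw [Nat.card_congr e.toEquiv, h']
        have : Fact (Nat.Prime 3) := ⟨Nat.prime_three⟩
        obtain ⟨c, hc⟩ := exists_prime_orderOf_dvd_card' (G := H) 3 (by rw [hH6]; norm_num)
        obtain ⟨t, ht⟩ := exists_prime_orderOf_dvd_card' (G := H) 2 (by rw [hH6]; norm_num)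
        have hidx : (zpowers c).index = 2 := by
          have h := (zpowers c).index_mul_card
          rw [Nat.card_zpowers, hc, hH6] at h
          omega
        have hn := Subgroup.normal_of_index_eq_two hidx
        have htc : t ∉ zpowers c := fun h => by
          have := orderOf_dvd_of_mem_zpowers h
          rw [ht, hc] at this
          norm_num at this
        have hct : t * c * t = c⁻¹ := by
          have hti : t⁻¹ = t := inv_eq_of_mul_eq_one_right
            (by rw [← pow_two]; exact orderOf_dvd_iff_pow_eq_one.1 ht.dvd)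
          have hm := hn.conj_mem c (mem_zpowers c) t
          rw [hti] at hm
          classical
          rw [mem_zpowers_iff_mem_range_orderOf, hc, Finset.mem_image] at hm
          obtain ⟨i, hi, hi'⟩ := hm
          rw [Finset.mem_range] at hi
          interval_cases i
          · exfalso
            rw [pow_zero] at hi'
            have : t * c * t⁻¹ = 1 := by rw [hti, hi']
            rw [mul_inv_eq_one, mul_eq_left] at this
            rw [this, orderOf_one] at hc
            omega
          · exfalso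
            rw [pow_one] at hi'
            have hcomm : Commute t c := by
              have : t * c * t⁻¹ = c := by rw [hti, ← hi']
              exact mul_inv_eq_iff_eq_mul.1 this
            have h6 := hcomm.orderOf_mul_eq_mul_orderOf_of_coprime (by rw [ht, hc]; norm_num)
            rw [ht, hc, ← Subgroup.orderOf_coe] at h6
            rcases psl_orderOf_cases 2 ((t * c : H) : PSL2 F) with h | h | h <;> rw [h6] at h
            · rw [hd, Nat.div_one, hq] at h
              have := (show 2 ∣ 6 by norm_num).trans h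
              have : 2 ∣ 2 ^ (1 * m) := dvd_pow_self 2 (by omega)
              have := Nat.one_le_two_pow (n := 1 * m)
              rw [hlm] at *
              omega
            · rw [hd, Nat.div_one, hq] at h
              have := (show 2 ∣ 6 by norm_num).trans h
              have : 2 ∣ 2 ^ (1 * m) := dvd_pow_self 2 (by omega)
              rw [hlm] at *
              omega
            · norm_num at h
          · rw [← hi', eq_inv_iff_mul_eq_one, ← pow_succ]
            exact orderOf_dvd_iff_pow_eq_one.1 hc.dvd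
        refine Or.inr (Or.inr (Or.inl ⟨3, by norm_num, by norm_num, ?_,
          mulEquiv_dihedral hH6 (by norm_num) c t hc ht hct htc⟩))
        rw [hd, Nat.div_one, Nat.div_one, hq]
        have hr0 : 1 ≤ 2 ^ r := Nat.one_le_two_pow
        have h3 : 2 ^ r % 3 ≠ 0 := fun h => by
          have := Nat.prime_three.dvd_of_dvd_pow (Nat.dvd_of_mod_eq_zero h)
          norm_num at this
        omega
      · -- `PSL_2(3) ≅ A_4`
        have h2 : (2 : R) ≠ 0 := two_ne_zero_iff_odd.2 (by rw [hRl]; decide)
        obtain ⟨A, ⟨eA⟩⟩ := exists_alternatingFour_sub (F := R) h2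
        have hA : A = ⊤ := Subgroup.eq_top_of_card_eq _ (by
          have h' := card_psl_mul (F := R)
          rw [hRl] at h'
          norm_num at h'
          rw [Nat.card_congr eA.toEquiv, card_alt_four]
          omega)
        exact Or.inr (Or.inr (Or.inr ⟨rfl,
          ⟨e.trans (Subgroup.topEquiv.symm.trans ((MulEquiv.subgroupCongr hA.symm).trans eA))⟩⟩))
    · exfalso
      have hR4 : 4 ≤ Nat.card R := by rw [hRl, ← hq]; exact h4
      rcases h with ⟨⟨e⟩⟩ | ⟨-, -, ⟨e⟩⟩
      · exact not_isSolvable_psl hR4 (Group.isSolvable_of_isSolvable_injective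
          (f := e.symm.toMonoidHom) e.symm.injective)
      · exact not_isSolvable_psl hR4 (Group.isSolvable_of_isSolvable_injective
          (f := e.symm.toMonoidHom.comp ProjectiveSpecialLinearGroup.toPGL)
          (e.symm.injective.comp ProjectiveSpecialLinearGroup.toPGL_injective))

end Cfsg.Agent.PSL2
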