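/-
Fixed points and counts for solubilisers in `PSL_2(q)`.

Main results (namespace `Cfsg.Agent.PSL2`):
* `solSet`, `mem_solSet_of_le`
* `card_charFix`, `card_orderOf_char`, `centralizer_char_eq`
* `torus_split`, `torus_nonsplit`, `normalizer_torus_card`, `solSet_torus`
-/
import Cfsg.Agent.Lib.PSL2.SolTools

set_option autoImplicit false
set_option linter.unusedSectionVars false
set_option linter.dupNamespace false

open Matrix MulAction Subgroup
open scoped LinearAlgebra.Projectivization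

namespace Cfsg.Agent.PSL2

variable {F : Type*} [Field F] [Finite F] (p : ℕ) [Fact p.Prime] [CharP F p]

local notation "φ" => (ProjectiveSpecialLinearGroup.toPGL : PSL2 F →* PGL2 F)

/-- The solubiliser. -/
def solSet (x : PSL2 F) : Set (PSL2 F) := {y | Group.IsSolvable ↥(closure ({x, y} : Set (PSL2 F)))}

theorem mem_solSet_of_le {x y : PSL2 F} {K : Subgroup (PSL2 F)} (hK : Group.IsSolvable K)
    (hx : x ∈ K) (hy : y ∈ K) : y ∈ solSet x :=
  isSolvable_le hK (by rw [closure_le]; rintro z (rfl | rfl) <;> assumption)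

theorem mem_closure_left (x y : PSL2 F) : x ∈ closure ({x, y} : Set (PSL2 F)) :=
  subset_closure (Or.inl rfl)

theorem mem_closure_right (x y : PSL2 F) : y ∈ closure ({x, y} : Set (PSL2 F)) :=
  subset_closure (Or.inr rfl)

theorem mem_solSet_stabilizer {x y : PSL2 F} {P : Pt F} (hx : x • P = P) (hy : y • P = P) :
    y ∈ solSet x := by
  obtain ⟨l, hl⟩ := CharP.exists F
  have := hl
  have : Fact l.Prime := ⟨CharP.char_is_prime F l⟩
  exact mem_solSet_of_le (isSolvable_of_le_stabilizer l (le_refl (stabilizer (PSL2 F) P))) hx hy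

include p in
theorem card_charFix (P : Pt F) :
    Nat.card {z : PSL2 F // z ^ p = 1 ∧ z • P = P} = Nat.card F ∧
    ∀ z w : PSL2 F, z ^ p = 1 → z • P = P → w ^ p = 1 → w • P = P → z * w = w * z := by
  obtain ⟨k, hk⟩ := exists_map_pinf P
  have hk' : k⁻¹ • (pinf : Pt F) = P := by rw [← hk, inv_smul_smul]
  have hn := range_toPGL_normal (F := F)
  have hback : ∀ b : F, ∃ z : PSL2 F, φ z = k⁻¹ * aff 1 b * k⁻¹⁻¹ := fun b =>
    hn.conj_mem _ (mem_range_toPGL ⟨1, by simp⟩) k⁻¹
  choose f hf using hback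
  have hfmem : ∀ b, f b ^ p = 1 ∧ f b • P = P := fun b => by
    constructor
    · apply ProjectiveSpecialLinearGroup.toPGL_injective (n := Fin 2) (R := F)
      rw [map_pow, map_one, hf, conj_pow, (aff_pow_char_iff p).2 rfl, mul_one, mul_inv_cancel]
    · rw [← toPGL_smul, hf, inv_inv, mul_smul, mul_smul, hk, aff_smul_pinf, hk']
  have hsurj : ∀ z : PSL2 F, z ^ p = 1 → z • P = P → ∃ b, f b = z := fun z hz hzP => by
    obtain ⟨a, b, hab⟩ := exists_aff_of_fix (g := k * φ z * k⁻¹)
      (by rw [mul_smul, mul_smul, hk', toPGL_smul, hzP, hk])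
    have ha : a = 1 := (aff_pow_char_iff p).1 (by
      rw [← hab, conj_pow, ← map_pow, hz, map_one, mul_one, mul_inv_cancel])
    subst ha
    refine ⟨b, ProjectiveSpecialLinearGroup.toPGL_injective ?_⟩
    rw [hf, ← hab]
    group
  refine ⟨?_, fun z w hz hzP hw hwP => ?_⟩
  · refine (Nat.card_congr (Equiv.ofBijective (fun b : F =>
      (⟨f b, hfmem b⟩ : {z : PSL2 F // z ^ p = 1 ∧ z • P = P})) ⟨fun b b' h => ?_, fun z => ?_⟩)).symm
    · have h' := congrArg (fun z : {z : PSL2 F // z ^ p = 1 ∧ z • P = P} => φ z.1) h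
      simp only [hf] at h'
      exact (aff_inj.1 (mul_left_cancel (mul_right_cancel h'))).2
    · obtain ⟨b, hb⟩ := hsurj z.1 z.2.1 z.2.2
      exact ⟨b, Subtype.ext hb⟩
  · obtain ⟨b, rfl⟩ := hsurj z hz hzP
    obtain ⟨c, rfl⟩ := hsurj w hw hwP
    apply ProjectiveSpecialLinearGroup.toPGL_injective (n := Fin 2) (R := F)
    rw [map_mul, map_mul, hf, hf]
    have hcc : aff (1 : Fˣ) b * aff 1 c = aff 1 c * aff 1 b := by
      rw [aff_mul_aff, aff_mul_aff, aff_inj]; exact ⟨rfl, by simp [add_comm]⟩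
    calc k⁻¹ * aff 1 b * k⁻¹⁻¹ * (k⁻¹ * aff 1 c * k⁻¹⁻¹)
        = k⁻¹ * (aff 1 b * aff 1 c) * k⁻¹⁻¹ := by group
      _ = k⁻¹ * (aff 1 c * aff 1 b) * k⁻¹⁻¹ := by rw [hcc]
      _ = _ := by group

include p in
theorem fix_unique {z : PSL2 F} (hz : orderOf z = p) {P Q : Pt F} (hP : z • P = P) (hQ : z • Q = Q) :
    P = Q :=
  eq_of_fix_pow_char p (g := φ z) (fun e => by
    rw [← map_one φ] at e
    rw [ProjectiveSpecialLinearGroup.toPGL_injective e, orderOf_one] at hz
    exact (Fact.out : p.Prime).ne_one hz.symm)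
    (by rw [← map_pow, orderOf_dvd_iff_pow_eq_one.1 hz.dvd, map_one])
    (by rw [toPGL_smul, hP]) (by rw [toPGL_smul, hQ])

include p in
/-- There are `q² - 1` elements of order `p`. -/
theorem card_orderOf_char : Nat.card {z : PSL2 F // orderOf z = p} = (Nat.card F + 1) * (Nat.card F - 1) := by
  classical
  have := Fintype.ofFinite (Pt F)
  have hfix : ∀ z : {z : PSL2 F // orderOf z = p}, ∃ P : Pt F, z.1 • P = P := fun z =>
    exists_fix_of_pow_char p (orderOf_dvd_iff_pow_eq_one.1 z.2.dvd)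
  choose pt' hpt using hfix
  let e : {z : PSL2 F // orderOf z = p} ≃
      Σ P : Pt F, {z : {z : PSL2 F // z ^ p = 1 ∧ z • P = P} // z.1 ≠ 1} :=
    { toFun := fun z => ⟨pt' z, ⟨⟨z.1, orderOf_dvd_iff_pow_eq_one.1 z.2.dvd, hpt z⟩, fun e => by
        have h := z.2
        rw [show z.1 = 1 from e, orderOf_one] at h
        exact (Fact.out : p.Prime).ne_one h.symm⟩⟩
      invFun := fun s => ⟨s.2.1.1, orderOf_eq_prime s.2.1.2.1 s.2.2⟩
      left_inv := fun z => rfl
      right_inv := by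
        rintro ⟨P, ⟨⟨z, hz, hzP⟩, hz1⟩⟩
        have hz' : orderOf z = p := orderOf_eq_prime hz hz1
        have hP : pt' ⟨z, hz'⟩ = P := fix_unique p hz' (hpt ⟨z, hz'⟩) hzP
        subst hP
        rfl }
  rw [Nat.card_congr e, Nat.card_sigma]
  have hfib : ∀ P : Pt F, Nat.card {z : {z : PSL2 F // z ^ p = 1 ∧ z • P = P} // z.1 ≠ 1} =
      Nat.card F - 1 := fun P => by
    have := Fintype.ofFinite {z : PSL2 F // z ^ p = 1 ∧ z • P = P}
    rw [← (card_charFix p P).1, Nat.card_eq_fintype_card, Nat.card_eq_fintype_card]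
    rw [Fintype.card_subtype, show (Finset.univ.filter fun z : {z : PSL2 F // z ^ p = 1 ∧ z • P = P} =>
      z.1 ≠ 1) = Finset.univ.erase ⟨1, one_pow p, one_smul _ P⟩ by ext z; simp [Subtype.ext_iff],
      Finset.card_erase_of_mem (Finset.mem_univ _), Finset.card_univ]
  simp only [hfib, Finset.sum_const, Finset.card_univ, smul_eq_mul]
  rw [← Nat.card_eq_fintype_card, card_pt]

include p in
theorem centralizer_char_eq {x : PSL2 F} (hx : orderOf x = p) {P : Pt F} (hP : x • P = P)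
    {z : PSL2 F} : z * x = x * z ↔ z ^ p = 1 ∧ z • P = P := by
  have hsub : {z : PSL2 F | z ^ p = 1 ∧ z • P = P} ⊆ (centralizer ({x} : Set (PSL2 F)) : Set (PSL2 F)) :=
    fun z hz => mem_centralizer_singleton_iff.2
      ((card_charFix p P).2 z x hz.1 hz.2 (orderOf_dvd_iff_pow_eq_one.1 hx.dvd) hP)
  have heq := Set.eq_of_subset_of_ncard_le hsub (by
    rw [← Nat.card_coe_set_eq, ← Nat.card_coe_set_eq]
    show Nat.card (centralizer ({x} : Set (PSL2 F))) ≤ _
    rw [card_centralizer_char p hx]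
    exact (card_charFix p P).1.ge) (Set.toFinite _)
  rw [← mem_centralizer_singleton_iff, ← SetLike.mem_coe, ← heq]
  rfl

include p in
theorem not_dvd_of_torus {x : PSL2 F} (h1 : x ≠ 1)
    (h : orderOf x ∣ (Nat.card F - 1) / Nat.gcd 2 (Nat.card F - 1) ∨
      orderOf x ∣ (Nat.card F + 1) / Nat.gcd 2 (Nat.card F - 1)) : ¬ orderOf x ∣ p := by
  intro hd
  rcases (Fact.out : p.Prime).eq_one_or_self_of_dvd _ hd with e | e
  · exact h1 (orderOf_eq_one_iff.1 e)
  · rw [e] at h
    exact coprime_char_of_torus p h dvd_rfl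

include p in
/-- A split torus element fixes two points, and its centraliser is their stabiliser. -/
theorem torus_split {x : PSL2 F} (hx3 : 3 ≤ orderOf x)
    (hx : orderOf x ∣ (Nat.card F - 1) / Nat.gcd 2 (Nat.card F - 1)) :
    ∃ P Q : Pt F, P ≠ Q ∧ x • P = P ∧ x • Q = Q ∧
      (∀ R : Pt F, x • R = R → R = P ∨ R = Q) ∧
      centralizer ({x} : Set (PSL2 F)) = stabilizer (PSL2 F) P ⊓ stabilizer (PSL2 F) Q ∧
      Nat.card (centralizer ({x} : Set (PSL2 F))) = (Nat.card F - 1) / Nat.gcd 2 (Nat.card F - 1) := by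
  have hx1 : x ≠ 1 := fun e => by rw [e, orderOf_one] at hx3; omega
  have hxp := not_dvd_of_torus p hx1 (Or.inl hx)
  obtain ⟨y, hxy, hC, hy⟩ := centralizer_torus p hxp hx3
  set m := (Nat.card F - 1) / Nat.gcd 2 (Nat.card F - 1) with hm
  have hym : orderOf y = m := hy.resolve_right fun e => by
    have h1 : orderOf x ∣ (Nat.card F + 1) / Nat.gcd 2 (Nat.card F - 1) :=
      e ▸ orderOf_dvd_of_mem_zpowers hxy
    have := Nat.dvd_gcd hx h1
    rw [coprime_torus, Nat.dvd_one] at this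
    omega
  -- the two-point stabiliser
  set T := stabilizer (PSL2 F) (pinf : Pt F) ⊓ stabilizer (PSL2 F) (pt (0 : F)) with hT
  have hTm : Nat.card T = m ∧ IsCyclic T := by
    have hB := card_borel_mul (F := F) (pinf : Pt F)
    set B := stabilizer (PSL2 F) (pinf : Pt F)
    have htrans : ∀ R : Pt F, R ≠ pinf → ∃ s ∈ B, s • pt (0 : F) = R := fun R hR => by
      rcases pt_cases R with e | ⟨b, rfl⟩
      · exact absurd e hR
      obtain ⟨s, hs⟩ := (mem_range_toPGL (a := 1) (b := b) (c := 0) (d := 1) (h := by simp) ⟨1, by simp⟩ :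
        mob (1 : F) b 0 1 (by simp) ∈ (φ).range)
      refine ⟨s, ?_, ?_⟩
      · rw [mem_stabilizer_iff, ← toPGL_smul, hs, mob_smul_pinf_eq_pinf]
      · rw [← toPGL_smul, hs, mob_smul_pt_eq_pt]; ring
    have horb : orbit B (pt (0 : F)) = {R | R ≠ pinf} := by
      ext R
      constructor
      · rintro ⟨⟨s, hs⟩, rfl⟩ e
        change s • pt (0 : F) = pinf at e
        have : s • pt (0 : F) = s • pinf := e.trans (mem_stabilizer_iff.1 hs).symm
        exact pt_ne_pinf 0 (MulAction.injective s this)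
      · intro hR
        obtain ⟨s, hs, hsR⟩ := htrans R hR
        exact ⟨⟨s, hs⟩, hsR⟩
    have hi := MulAction.index_stabilizer (G := B) (x := pt (0 : F))
    rw [horb] at hi
    have hnc : ({R : Pt F | R ≠ pinf}).ncard = Nat.card F := by
      have := Set.ncard_compl ({pinf} : Set (Pt F))
      rw [Set.ncard_singleton, card_pt] at this
      rw [show ({R : Pt F | R ≠ pinf}) = ({pinf} : Set (Pt F))ᶜ from rfl, this]
      omega
    rw [hnc] at hi
    have hmul := (stabilizer B (pt (0 : F))).index_mul_card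
    rw [hi] at hmul
    have hstab : Nat.card (stabilizer B (pt (0 : F))) = Nat.card T :=
      Nat.card_congr
        { toFun := fun s => ⟨s.1.1, s.1.2, s.2⟩
          invFun := fun t => ⟨⟨t.1, t.2.1⟩, t.2.2⟩
          left_inv := fun _ => rfl
          right_inv := fun _ => rfl }
    rw [hstab] at hmul
    have hd : Nat.gcd 2 (Nat.card F - 1) ∣ Nat.card F - 1 := Nat.gcd_dvd_right _ _
    have hd0 : 0 < Nat.gcd 2 (Nat.card F - 1) := Nat.gcd_pos_of_pos_left _ two_pos
    have hTc : Nat.card T = m := by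
      rw [← hmul, mul_left_comm] at hB
      have h1 := Nat.eq_of_mul_eq_mul_left Nat.card_pos hB
      rw [hm]
      generalize Nat.gcd 2 (Nat.card F - 1) = d at h1 hd0 ⊢
      rw [← h1, Nat.mul_div_cancel_left _ hd0]
    refine ⟨hTc, isCyclic_of_le_stabilizer p (inf_le_left : T ≤ B) ?_⟩
    rw [hTc]
    exact coprime_char_of_torus p (Or.inl dvd_rfl)
  obtain ⟨⟨t, htT⟩, ht⟩ := hTm.2.exists_ofOrder_eq_natCard
  rw [Subgroup.orderOf_mk, hTm.1] at ht
  have hyp : ¬ orderOf y ∣ p := fun h => hxp ((orderOf_dvd_of_mem_zpowers hxy).trans h)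
  obtain ⟨g, hg⟩ := conj_zpowers p hyp (x' := t) (by rw [hym, ht])
  have hT' : zpowers t = T := Subgroup.eq_of_le_of_card_ge (zpowers_le.2 htT)
    (by rw [Nat.card_zpowers, ht, hTm.1])
  set P := g⁻¹ • (pinf : Pt F) with hP
  set Q := g⁻¹ • pt (0 : F) with hQ
  have hPQ : P ≠ Q := fun e => pt_ne_pinf 0 (MulAction.injective g⁻¹ e).symm
  have hmemC : ∀ z : PSL2 F, z ∈ zpowers y ↔ z ∈ stabilizer (PSL2 F) P ⊓ stabilizer (PSL2 F) Q := by
    intro z
    have h1 : z ∈ zpowers y ↔ g * z * g⁻¹ ∈ T := by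
      rw [← hT', ← hg]
      constructor
      · rintro ⟨i, rfl⟩
        exact ⟨i, conj_zpow⟩
      · rintro ⟨i, hi⟩
        refine ⟨i, ?_⟩
        simp only [conj_zpow] at hi ⊢
        exact mul_left_cancel (mul_right_cancel hi)
    rw [h1, hT, Subgroup.mem_inf, Subgroup.mem_inf, mem_stabilizer_iff, mem_stabilizer_iff,
      mem_stabilizer_iff, mem_stabilizer_iff, hP, hQ, mul_smul, mul_smul, mul_smul, mul_smul]
    rw [smul_eq_iff_eq_inv_smul g, smul_eq_iff_eq_inv_smul g]
  have hxC := (hmemC x).1 hxy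
  refine ⟨P, Q, hPQ, hxC.1, hxC.2, fun R hR => ?_, ?_, ?_⟩
  · by_contra hne
    push Not at hne
    have := eq_one_of_fix_three (g := φ x) hPQ hne.1.symm hne.2.symm
      (by rw [toPGL_smul]; exact hxC.1) (by rw [toPGL_smul]; exact hxC.2) (by rw [toPGL_smul, hR])
    rw [← map_one φ] at this
    exact hx1 (ProjectiveSpecialLinearGroup.toPGL_injective this)
  · rw [hC]; exact Subgroup.ext hmemC
  · rw [hC, Nat.card_zpowers, hym]

include p in
/-- A non-split torus element fixes no point. -/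
theorem torus_nonsplit {x : PSL2 F} (hx3 : 3 ≤ orderOf x)
    (hx : orderOf x ∣ (Nat.card F + 1) / Nat.gcd 2 (Nat.card F - 1)) :
    (∀ P : Pt F, x • P ≠ P) ∧
      Nat.card (centralizer ({x} : Set (PSL2 F))) = (Nat.card F + 1) / Nat.gcd 2 (Nat.card F - 1) := by
  have hx1 : x ≠ 1 := fun e => by rw [e, orderOf_one] at hx3; omega
  have hxp := not_dvd_of_torus p hx1 (Or.inr hx)
  have hcop : Nat.Coprime (orderOf x) p :=
    ((Fact.out : p.Prime).coprime_iff_not_dvd.2 fun h => coprime_char_of_torus p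
      (n := orderOf x) (Or.inr hx) h).symm
  constructor
  · intro P hP
    obtain ⟨ψ, hψ⟩ := exists_borel_hom p P
    have h1 : x ^ (Nat.card F - 1) = 1 := by
      have hu : ψ ⟨x, hP⟩ ^ (Nat.card F - 1) = 1 := by
        rw [← Nat.card_units]; exact pow_card_eq_one'
      rw [← map_pow] at hu
      have h2 := (hψ _).1 hu
      rw [Subgroup.coe_pow, ← pow_mul] at h2
      exact orderOf_dvd_iff_pow_eq_one.1 (hcop.dvd_of_dvd_mul_right (orderOf_dvd_of_pow_eq_one h2))
    have hdvd := orderOf_dvd_of_pow_eq_one h1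
    have hq : 1 < Nat.card F := Finite.one_lt_card
    have h2 := Nat.dvd_sub (hx.trans (Nat.div_dvd_of_dvd (gcdTwo_dvd (Or.inr rfl)))) hdvd
    rw [show Nat.card F + 1 - (Nat.card F - 1) = 2 by omega] at h2
    have := Nat.le_of_dvd two_pos h2
    omega
  · obtain ⟨y, hxy, hC, hy⟩ := centralizer_torus p hxp hx3
    rw [hC, Nat.card_zpowers]
    refine hy.resolve_left fun e => ?_
    have h1 : orderOf x ∣ (Nat.card F - 1) / Nat.gcd 2 (Nat.card F - 1) :=
      e ▸ orderOf_dvd_of_mem_zpowers hxy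
    have := Nat.dvd_gcd h1 hx
    rw [coprime_torus, Nat.dvd_one] at this
    omega

include p in
theorem normalizer_torus_card {r : ℕ} (hr : r.Prime) (hq : Nat.card F = p ^ r)
    (hp : p = 2 ∨ (p = 3 ∧ Odd r)) {x : PSL2 F} (hx3 : 3 ≤ orderOf x) (hxp : ¬ p ∣ orderOf x) :
    Nat.card (normalizer (zpowers x : Set (PSL2 F))) =
        2 * Nat.card (centralizer ({x} : Set (PSL2 F))) ∧
      (∀ P : Pt F, ¬ normalizer (zpowers x : Set (PSL2 F)) ≤ stabilizer (PSL2 F) P) ∧
      centralizer ({x} : Set (PSL2 F)) ≤ normalizer (zpowers x : Set (PSL2 F)) := by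
  have hxd : ¬ orderOf x ∣ p := fun h => by
    rcases (Fact.out : p.Prime).eq_one_or_self_of_dvd _ h with e | e
    · omega
    · exact hxp (e ▸ dvd_rfl)
  obtain ⟨y, hxy, hC, hy⟩ := centralizer_torus p hxd hx3
  obtain ⟨w, hw2, hw⟩ := exists_inverting p hxd
  set N := normalizer (zpowers x : Set (PSL2 F)) with hN
  have hwN : w ∈ N := by
    rw [hN, Subgroup.mem_normalizer_iff_map_conj_eq]
    show (zpowers x).map (MulAut.conj w).toMonoidHom = zpowers x
    rw [MonoidHom.map_zpowers]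
    show zpowers (w * x * w⁻¹) = zpowers x
    rw [hw, Subgroup.zpowers_inv]
  have hxN : x ∈ N := Subgroup.le_normalizer (mem_zpowers x)
  have hnotcomm : w * x ≠ x * w := fun e => by
    rw [e, mul_inv_cancel_right] at hw
    have h2 : x ^ 2 = 1 := by rw [pow_two]; nth_rewrite 1 [hw]; exact inv_mul_cancel x
    have := Nat.le_of_dvd two_pos (orderOf_dvd_of_pow_eq_one h2)
    omega
  have hCN : centralizer ({x} : Set (PSL2 F)) ≤ N := by
    refine le_trans ?_ (centralizer_le_normalizer _)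
    intro z hz
    rw [mem_centralizer_singleton_iff] at hz
    rw [mem_centralizer_iff]
    rintro v ⟨i, rfl⟩
    exact ((show Commute z x from hz).zpow_right i).eq.symm
  have hnb : ∀ P : Pt F, ¬ N ≤ stabilizer (PSL2 F) P := by
    intro P hle
    have h := commutator_pow_char p (hle hxN) (hle hwN)
    have e : x * w * x⁻¹ * w⁻¹ = x * (w * x * w⁻¹)⁻¹ := by group
    rw [e, hw, inv_inv, ← pow_two, ← pow_mul] at h
    have hd := orderOf_dvd_of_pow_eq_one h
    have := Nat.le_of_dvd two_pos (((Fact.out : p.Prime).coprime_iff_not_dvd.2 hxp).symm.dvd_of_dvd_mul_right hd)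
    omega
  refine ⟨?_, hnb, hCN⟩
  have hy3 : 3 ≤ orderOf y :=
    hx3.trans (Nat.le_of_dvd (orderOf_pos y) (orderOf_dvd_of_mem_zpowers hxy))
  have hyN : y ∈ N := hCN (hC ▸ mem_zpowers y)
  rcases soluble_cases p hr hq hp (isSolvable_normalizer_torus p hxd hx3) with ⟨P, hP⟩ | ⟨-, hc⟩ |
    ⟨k, hk2, hpk, hside, ⟨e⟩⟩ | ⟨hp3, ⟨e⟩⟩
  · exact absurd hP (hnb P)
  · exact absurd (congrArg Subtype.val (hc.commGroup.mul_comm ⟨w, hwN⟩ ⟨x, hxN⟩)) hnotcomm
  · have hdvd : orderOf y ∣ k := dvd_of_orderOf_dihedral (x := e ⟨y, hyN⟩)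
      (by rw [MulEquiv.orderOf_eq, Subgroup.orderOf_mk]) hy3
    have hk : k = orderOf y := by
      refine Nat.dvd_antisymm ?_ hdvd
      rcases hside with h | h <;> rcases hy with h' | h'
      · exact h' ▸ h
      · exfalso
        have := Nat.dvd_gcd (hdvd.trans h) (dvd_of_eq h')
        rw [coprime_torus, Nat.dvd_one] at this
        omega
      · exfalso
        have := Nat.dvd_gcd (dvd_of_eq h') (hdvd.trans h)
        rw [coprime_torus, Nat.dvd_one] at this
        omega
      · exact h' ▸ h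
    rw [Nat.card_congr e.toEquiv, DihedralGroup.nat_card, hC, Nat.card_zpowers, hk]
  · exfalso
    rcases altFour_orders (e ⟨x, hxN⟩) with h | h <;>
      have h' := orderOf_dvd_of_pow_eq_one h <;>
      rw [MulEquiv.orderOf_eq, Subgroup.orderOf_mk] at h'
    · have := Nat.le_of_dvd two_pos h'; omega
    · exact hxd (hp3 ▸ h')

include p in
/-- The solubiliser of a semisimple element of order at least three. -/
theorem solSet_torus {r : ℕ} (hr : r.Prime) (hq : Nat.card F = p ^ r)
    (hp : p = 2 ∨ (p = 3 ∧ Odd r)) {x : PSL2 F} (hx3 : 3 ≤ orderOf x) (hxp : ¬ p ∣ orderOf x) :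
    solSet x = {y | ∃ P : Pt F, x • P = P ∧ y • P = P} ∪
      (normalizer (zpowers x : Set (PSL2 F)) : Set (PSL2 F)) := by
  have hxd : ¬ orderOf x ∣ p := fun h => by
    rcases (Fact.out : p.Prime).eq_one_or_self_of_dvd _ h with e | e
    · omega
    · exact hxp (e ▸ dvd_rfl)
  ext y
  constructor
  · intro hy
    have hxH := mem_closure_left x y
    have hyH := mem_closure_right x y
    rcases soluble_cases p hr hq hp hy with ⟨P, hP⟩ | ⟨-, hc⟩ | ⟨k, -, -, -, ⟨e⟩⟩ | ⟨hp3, ⟨e⟩⟩
    · exact Or.inl ⟨P, hP hxH, hP hyH⟩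
    · refine Or.inr (centralizer_le_normalizer _ ?_)
      rw [mem_centralizer_iff]
      rintro v ⟨i, rfl⟩
      have hc' : Commute x y := congrArg Subtype.val (hc.commGroup.mul_comm ⟨x, hxH⟩ ⟨y, hyH⟩)
      exact (hc'.zpow_left i).eq
    · right
      obtain ⟨i, hi⟩ : ∃ i, e ⟨x, hxH⟩ = DihedralGroup.r i := by
        rcases h : e ⟨x, hxH⟩ with i | i
        · exact ⟨i, rfl⟩
        · exfalso
          have h' := congrArg orderOf h
          rw [MulEquiv.orderOf_eq, Subgroup.orderOf_mk, DihedralGroup.orderOf_sr] at h'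
          omega
      have hconj : y * x * y⁻¹ ∈ zpowers x := by
        have hcases : e ⟨y, hyH⟩ * e ⟨x, hxH⟩ * (e ⟨y, hyH⟩)⁻¹ = e ⟨x, hxH⟩ ∨
            e ⟨y, hyH⟩ * e ⟨x, hxH⟩ * (e ⟨y, hyH⟩)⁻¹ = (e ⟨x, hxH⟩)⁻¹ := by
          rw [hi]
          rcases e ⟨y, hyH⟩ with j | j
          · left; simp [add_comm]
          · right; simp
        rcases hcases with h | h <;> rw [← map_inv, ← map_mul, ← map_mul] at h
        · have h' : y * x * y⁻¹ = x := by simpa using congrArg Subtype.val (e.injective h)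
          rw [h']; exact mem_zpowers x
        · rw [← map_inv] at h
          have h' : y * x * y⁻¹ = x⁻¹ := by simpa using congrArg Subtype.val (e.injective h)
          rw [h']; exact inv_mem (mem_zpowers x)
      rw [SetLike.mem_coe, Subgroup.mem_normalizer_iff_map_conj_eq]
      show (zpowers x).map (MulAut.conj y).toMonoidHom = zpowers x
      rw [MonoidHom.map_zpowers]
      show zpowers (y * x * y⁻¹) = zpowers x
      exact Subgroup.eq_of_le_of_card_ge (zpowers_le.2 hconj) (by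
        rw [Nat.card_zpowers, Nat.card_zpowers,
          show y * x * y⁻¹ = MulAut.conj y x from rfl, MulEquiv.orderOf_eq])
    · exfalso
      rcases altFour_orders (e ⟨x, hxH⟩) with h | h <;>
        have h' := orderOf_dvd_of_pow_eq_one h <;>
        rw [MulEquiv.orderOf_eq, Subgroup.orderOf_mk] at h'
      · have := Nat.le_of_dvd two_pos h'; omega
      · exact hxd (hp3 ▸ h')
  · rintro (⟨P, hxP, hyP⟩ | hy)
    · exact mem_solSet_stabilizer hxP hyP
    · exact mem_solSet_of_le (isSolvable_normalizer_torus p hxd hx3)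
        (Subgroup.le_normalizer (mem_zpowers x)) hy

end Cfsg.Agent.PSL2
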