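/-
Subgroups of `SL_2(q)`, `q` odd, with two Sylow `p`-subgroups, and two transvections.

Main results (namespace `Cfsg.Agent.PSL2`):
* `mem_of_mk_mem`, `map_mk_top`
* `stdPSL_or_altFive`, `exists_slPrime_le`, `noncommuting_fix_of_two_sylow`
* `sl_sylow_two_quaternion`
-/
import Cfsg.Agent.Lib.PSL2.SolCount
import Cfsg.Agent.Lib.Linear.GenTools
import Cfsg.Agent.Lib.GLOrder.Torus
import Cfsg.Agent.Lib.PGroup.UniqueOrderP

set_option autoImplicit false
set_option linter.unusedSectionVars false
set_option linter.dupNamespace false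

open Matrix MulAction Subgroup
open scoped LinearAlgebra.Projectivization

namespace Cfsg.Agent.PSL2

variable {F : Type*} [Field F] [Finite F] (p : ℕ) [Fact p.Prime] [CharP F p]

local notation "π" => QuotientGroup.mk' (Subgroup.center (SL2 F))

include p in
theorem two_ne_zero_of_char (hp : p ≠ 2) : (2 : F) ≠ 0 := by
  intro h
  have h' := (CharP.cast_eq_zero_iff F p 2).1 (by exact_mod_cast h)
  exact hp ((Nat.prime_dvd_prime_iff_eq Fact.out Nat.prime_two).1 h')

theorem neg_one_ne_one_sl (h2 : (2 : F) ≠ 0) : (-1 : SL2 F) ≠ 1 := fun e => by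
  have := congrArg tr e
  rw [tr_neg, tr_one] at this
  exact h2 ((mul_eq_zero.1 (show (2 : F) * 2 = 0 by linear_combination -this)).elim id id)

include p in
theorem neg_pow_char (hp : p ≠ 2) (g : SL2 F) : (-g) ^ p = -(g ^ p) :=
  ((Fact.out : p.Prime).odd_of_ne_two hp).neg_pow g

include p in
/-- Elements of order `p` of `SL_2` lying over a subgroup lie in it. -/
theorem mem_of_mk_mem (hp : p ≠ 2) {H : Subgroup (SL2 F)} {g : SL2 F} (hg : g ^ p = 1)
    (h : (QuotientGroup.mk g : PSL2 F) ∈ H.map π) : g ∈ H := by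
  obtain ⟨k, hk, hkg⟩ := h
  rcases mk_eq_mk_iff.1 (show (QuotientGroup.mk k : PSL2 F) = QuotientGroup.mk g from hkg) with e | e
  · exact e ▸ hk
  · have h1 : k ^ p = -1 := by rw [e, neg_pow_char p hp, hg]
    have : g = (k ^ p) * k := by rw [h1, e, neg_one_mul, neg_neg]
    rw [this]
    exact mul_mem (pow_mem hk p) hk

include p in
theorem map_mk_top (hp : p ≠ 2) {H : Subgroup (SL2 F)} (h : H.map π = ⊤) : H = ⊤ := by
  rw [eq_top_iff, ← Linear.closure_slTvSet (ι := Fin 2) (F := F), closure_le]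
  rintro _ ⟨i, j, hij, c, rfl⟩
  refine mem_of_mk_mem p hp ?_ (h ▸ mem_top _)
  have key : ∀ k : ℕ, SpecialLinearGroup.transvection hij ((k : F) * c) =
      SpecialLinearGroup.transvection hij c ^ k := by
    intro k
    induction k with
    | zero => simp
    | succ k ih => rw [Nat.cast_succ, add_mul, one_mul, SpecialLinearGroup.transvection_add, pow_succ, ih]
  rw [← key, CharP.cast_eq_zero, zero_mul]
  simp

include p in
/-- A subgroup of order divisible by `p` fixing no point: `A_5` (`p = 3`) or a subfield group. -/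
theorem stdPSL_or_altFive (hp : p ≠ 2) {H : Subgroup (PSL2 F)} (hpH : p ∣ Nat.card H)
    (hb : ∀ P : Pt F, ¬ H ≤ stabilizer (PSL2 F) P) :
    (p = 3 ∧ Nat.card H = 60 ∧ Nonempty (H ≃* alternatingGroup (Fin 5))) ∨
    (∃ R : Subfield F, ∃ m, ∃ u : GL (Fin 2) F, 1 ≤ m ∧ Nat.card R ^ m = Nat.card F ∧
      stdPSL R.subtype ≤ H.map (outConj u).toMonoidHom ∧
      H.map (outConj u).toMonoidHom ≤ stdPGL R.subtype ∧
      (Odd m → H.map (outConj u).toMonoidHom = stdPSL R.subtype)) := by
  rcases psl_dickson_std p H with ⟨-, S, hS⟩ | ⟨h, -⟩ | ⟨n, -, hn, -, hc, -⟩ | ⟨h, -⟩ | h |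
    ⟨R, m, u, hm, hR, h⟩
  · obtain ⟨P, hP⟩ := normalizer_sylow_le p S
    exact absurd (hS.trans hP) (hb P)
  · exact absurd hpH h
  · exfalso
    rw [hc] at hpH
    rcases (Fact.out : p.Prime).dvd_mul.1 hpH with h | h
    · exact hp ((Nat.prime_dvd_prime_iff_eq Fact.out Nat.prime_two).1 h)
    · exact hn h
  · exact absurd hpH h
  · exact Or.inl h
  · refine Or.inr ⟨R, m, u, hm, hR, ?_⟩
    rcases h with h | ⟨-, he, h⟩
    · rw [h]; exact ⟨le_rfl, stdPSL_le_stdPGL _, fun _ => rfl⟩
    · rw [h]; exact ⟨stdPSL_le_stdPGL _, le_rfl, fun ho => absurd he (Nat.not_even_iff_odd.2 ho)⟩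

include p in
/-- In the `A_5` case there is still a subfield group. -/
theorem exists_stdPSL_le (hp : p ≠ 2) {H : Subgroup (PSL2 F)} (hpH : p ∣ Nat.card H)
    (hb : ∀ P : Pt F, ¬ H ≤ stabilizer (PSL2 F) P) :
    ∃ R : Subfield F, ∃ u : GL (Fin 2) F, stdPSL R.subtype ≤ H.map (outConj u).toMonoidHom := by
  rcases stdPSL_or_altFive p hp hpH hb with ⟨rfl, -, ⟨e⟩⟩ | ⟨R, m, u, -, -, h, -⟩
  swap
  · exact ⟨R, u, h⟩
  obtain ⟨f, hf⟩ := exists_altFour_in_altFive
  let g : alternatingGroup (Fin 4) →* PSL2 F := H.subtype.comp (e.symm.toMonoidHom.comp f)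
  have hg : Function.Injective g := Subtype.coe_injective.comp (e.symm.injective.comp hf)
  have hle : g.range ≤ H := by rintro _ ⟨a, rfl⟩; exact Subtype.coe_prop _
  have hc : Nat.card g.range = 12 := by
    rw [← Nat.card_congr (MonoidHom.ofInjective hg).toEquiv, card_alt_four]
  have hb' : ∀ P : Pt F, ¬ g.range ≤ stabilizer (PSL2 F) P := fun P hP => by
    have := eq_two_of_altFour_le_stabilizer 3 g hg (fun a => hP ⟨a, rfl⟩)
    omega
  rcases stdPSL_or_altFive 3 hp (hc ▸ (by norm_num)) hb' with ⟨-, h, -⟩ | ⟨R, m, u, -, -, h, -⟩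
  · omega
  · exact ⟨R, u, h.trans (Subgroup.map_mono hle)⟩

theorem toPGL_map_mem_stdPSL {R : Subfield F} (t : SL2 R) :
    (QuotientGroup.mk (SpecialLinearGroup.map R.subtype t) : PSL2 F) ∈ stdPSL R.subtype := by
  refine ⟨QuotientGroup.mk t, ?_⟩
  rw [toK_apply, ProjectiveSpecialLinearGroup.toPGL_mk, ProjectiveSpecialLinearGroup.toPGL_mk,
    ProjGenLinGroup.map_mk]
  exact congrArg ProjGenLinGroup.mk (Units.ext (Matrix.ext fun i j => rfl))

include p in
/-- A copy of `SL_2(p)` inside a subgroup over a subfield group. -/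
theorem exists_slPrime_le (hp : p ≠ 2) {H : Subgroup (SL2 F)} {R : Subfield F} {u : GL (Fin 2) F}
    (hle : stdPSL R.subtype ≤ (H.map π).map (outConj u).toMonoidHom) :
    ∃ f : SL2 (ZMod p) →* SL2 F, Function.Injective f ∧ f.range ≤ H := by
  have := charP_subfield p R
  let ι : ZMod p →+* F := ZMod.castHom dvd_rfl F
  let ιR : ZMod p →+* R := ZMod.castHom dvd_rfl R
  have hι : ι = R.subtype.comp ιR := Subsingleton.elim _ _
  let c : SL2 F ≃* SL2 F := AutPSL.semiSL u (RingEquiv.refl F)
  let f : SL2 (ZMod p) →* SL2 F := c.symm.toMonoidHom.comp (SpecialLinearGroup.map ι)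
  refine ⟨f, c.symm.injective.comp ?_, ?_⟩
  · intro a b h
    refine Subtype.ext (Matrix.ext fun i j => ι.injective ?_)
    exact congrFun (congrFun (congrArg Subtype.val h) i) j
  rw [MonoidHom.range_eq_map, ← Linear.closure_slTwo_prime p, MonoidHom.map_closure, closure_le]
  rintro _ ⟨t, ht, rfl⟩
  have htp : t ^ p = 1 := by
    have key : ∀ {i j : Fin 2} (hij : i ≠ j) (k : ℕ),
        SpecialLinearGroup.transvection hij (k : ZMod p) =
          SpecialLinearGroup.transvection hij 1 ^ k := by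
      intro i j hij k
      induction k with
      | zero => simp
      | succ k ih => rw [Nat.cast_succ, SpecialLinearGroup.transvection_add, pow_succ, ih]
    rcases ht with rfl | rfl <;> rw [← key, ZMod.natCast_self] <;> simp
  refine mem_of_mk_mem p hp (by rw [← map_pow, htp, map_one]) ?_
  have h1 : (QuotientGroup.mk (SpecialLinearGroup.map ι t) : PSL2 F) ∈ stdPSL R.subtype := by
    have : SpecialLinearGroup.map ι t =
        SpecialLinearGroup.map R.subtype (SpecialLinearGroup.map ιR t) := by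
      refine Subtype.ext (Matrix.ext fun i j => ?_)
      exact RingHom.congr_fun hι (t.1 i j)
    rw [this]
    exact toPGL_map_mem_stdPSL _
  obtain ⟨w, hw, hw'⟩ := hle h1
  have h2 : outConj u (QuotientGroup.mk (f t)) = QuotientGroup.mk (SpecialLinearGroup.map ι t) := by
    show AutPSL.semi u (RingEquiv.refl F) (AutPSL.proj (Fin 2) F (f t)) = _
    rw [AutPSL.semi_proj]
    show QuotientGroup.mk (c (c.symm (SpecialLinearGroup.map ι t))) = _
    rw [MulEquiv.apply_symm_apply]
  rw [← h2] at hw'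
  exact (outConj u).injective hw' ▸ hw

include p in
theorem pow_char_of_pow_pow {g : SL2 F} (hp : p ≠ 2) {k : ℕ} (hg : g ^ p ^ k = 1) : g ^ p = 1 := by
  have h1 : (QuotientGroup.mk g : PSL2 F) ^ p ^ k = 1 := by
    rw [← QuotientGroup.mk_pow, hg, QuotientGroup.mk_one]
  obtain ⟨j, -, hj⟩ := (Nat.dvd_prime_pow Fact.out).1 (orderOf_dvd_of_pow_eq_one h1)
  have hd : orderOf (QuotientGroup.mk g : PSL2 F) ∣ p := by
    rcases psl_orderOf_cases (p := p) (QuotientGroup.mk g : PSL2 F) with h | h | h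
    · rcases j with _ | j
      · rw [hj, pow_zero]; exact one_dvd _
      · exact absurd (hj ▸ dvd_pow_self p j.succ_ne_zero) (coprime_char_of_torus p (Or.inl h))
    · rcases j with _ | j
      · rw [hj, pow_zero]; exact one_dvd _
      · exact absurd (hj ▸ dvd_pow_self p j.succ_ne_zero) (coprime_char_of_torus p (Or.inr h))
    · exact h
  have h2 := orderOf_dvd_iff_pow_eq_one.1 hd
  rw [← QuotientGroup.mk_pow, mk_one_iff] at h2
  refine h2.resolve_right fun e => ?_
  rcases k with _ | k
  · rw [pow_zero, pow_one] at hg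
    rw [hg, one_pow] at e
    exact neg_one_ne_one_sl (two_ne_zero_of_char p hp) e.symm
  · rw [pow_succ', pow_mul, e, ((Fact.out : p.Prime).odd_of_ne_two hp).pow.neg_one_pow] at hg
    exact neg_one_ne_one_sl (two_ne_zero_of_char p hp) hg

include p in
/-- Two Sylow `p`-subgroups: the image is in no Borel subgroup and has order divisible by `p`. -/
theorem no_borel_of_two_sylow (hp : p ≠ 2) {H : Subgroup (SL2 F)} (hH : 1 < Nat.card (Sylow p H)) :
    p ∣ Nat.card (H.map π) ∧ ∀ P : Pt F, ¬ H.map π ≤ stabilizer (PSL2 F) P := by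
  have hkey : ∀ (S : Sylow p H) (x : H), x ∈ (S : Subgroup H) → (x : SL2 F) ^ p = 1 := by
    intro S x hx
    obtain ⟨k, hk⟩ := S.isPGroup' ⟨x, hx⟩
    refine pow_char_of_pow_pow p hp (k := k) ?_
    have := congrArg (fun z : (S : Subgroup H) => ((z : H) : SL2 F)) hk
    simpa using this
  have hsame : ∀ T : Subgroup H, IsPGroup p T → (∀ (S : Sylow p H), (S : Subgroup H) ≤ T) → False := by
    intro T hT hle
    have : Subsingleton (Sylow p H) := ⟨fun S S' => Sylow.ext
      ((S.is_maximal' hT (hle S)).symm.trans (S'.is_maximal' hT (hle S')))⟩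
    have := Finite.card_le_one_iff_subsingleton.2 this
    omega
  constructor
  · by_contra hd
    refine hsame ⊥ IsPGroup.of_bot fun S x hx => ?_
    have hx' := hkey S x hx
    have hm : (QuotientGroup.mk (x : SL2 F) : PSL2 F) = 1 := by
      by_contra hne
      refine hd ?_
      rw [← orderOf_eq_prime (show (QuotientGroup.mk (x : SL2 F) : PSL2 F) ^ p = 1 by
        rw [← QuotientGroup.mk_pow, hx', QuotientGroup.mk_one]) hne]
      exact Subgroup.orderOf_dvd_natCard _ ⟨x, x.2, rfl⟩
    rw [Subgroup.mem_bot]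
    refine Subtype.ext ?_
    rcases mk_one_iff.1 hm with e | e
    · exact e
    · exfalso
      rw [e, ((Fact.out : p.Prime).odd_of_ne_two hp).neg_one_pow] at hx'
      exact neg_one_ne_one_sl (two_ne_zero_of_char p hp) hx'
  · intro P hP
    have hfix : ∀ x : H, (QuotientGroup.mk (x : SL2 F) : PSL2 F) • P = P := fun x => hP ⟨x, x.2, rfl⟩
    have hcomm : ∀ x y : H, (x : SL2 F) ^ p = 1 → (y : SL2 F) ^ p = 1 →
        (x : SL2 F) * y = y * x := by
      intro x y hx hy
      have h := (card_charFix p P).2 (QuotientGroup.mk (x : SL2 F)) (QuotientGroup.mk (y : SL2 F))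
        (by rw [← QuotientGroup.mk_pow, hx, QuotientGroup.mk_one]) (hfix x)
        (by rw [← QuotientGroup.mk_pow, hy, QuotientGroup.mk_one]) (hfix y)
      rw [← QuotientGroup.mk_mul, ← QuotientGroup.mk_mul, mk_eq_mk_iff] at h
      refine h.resolve_right fun e => ?_
      have e' : (x : SL2 F) * y * (x : SL2 F)⁻¹ = -y := by rw [e, neg_mul, mul_inv_cancel_right]
      have := congrArg (· ^ p) e'
      simp only [conj_pow, hy, mul_one, mul_inv_cancel, neg_pow_char p hp] at this
      exact neg_one_ne_one_sl (two_ne_zero_of_char p hp) this.symm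
    let T : Subgroup H :=
      { carrier := {x | (x : SL2 F) ^ p = 1}
        one_mem' := one_pow p
        mul_mem' := fun {x y} hx hy => by
          show ((x * y : H) : SL2 F) ^ p = 1
          rw [Subgroup.coe_mul, (show Commute (x : SL2 F) y from hcomm x y hx hy).mul_pow,
            show (x : SL2 F) ^ p = 1 from hx, show (y : SL2 F) ^ p = 1 from hy, one_mul]
        inv_mem' := fun {x} hx => by
          show ((x⁻¹ : H) : SL2 F) ^ p = 1
          rw [Subgroup.coe_inv, inv_pow, show (x : SL2 F) ^ p = 1 from hx, inv_one] }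
    exact hsame T (fun x => ⟨1, Subtype.ext (Subtype.ext (by
      simpa using show ((x : H) : SL2 F) ^ p = 1 from x.2))⟩) fun S x hx => hkey S x hx

include p in
/-- Sylow `2`-subgroups above a copy of `SL_2(p)` are generalised quaternion. -/
theorem sl_sylow_two_quaternion (hp : p ≠ 2) {H : Subgroup (SL2 F)} {f : SL2 (ZMod p) →* SL2 F}
    (hf : Function.Injective f) (hle : f.range ≤ H) (S : Sylow 2 H) :
    ∃ k : ℕ, 1 ≤ k ∧ Nonempty ((S : Subgroup H) ≃* QuaternionGroup (2 ^ k)) := by
  have h2 : Fact (Nat.Prime 2) := ⟨Nat.prime_two⟩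
  have h20 := two_ne_zero_of_char (F := F) p hp
  obtain ⟨Q⟩ : Nonempty (Sylow 2 (SL2 (ZMod p))) := inferInstance
  obtain ⟨k, hk, ⟨e⟩⟩ := GLOrder.sylow_two_SL_two (F := ZMod p)
    (by rw [Nat.card_zmod]; exact (Fact.out : p.Prime).odd_of_ne_two hp) Q
  let g : QuaternionGroup (2 ^ k) →* H :=
    (f.codRestrict H fun a => hle ⟨a, rfl⟩).comp
      ((Q : Subgroup (SL2 (ZMod p))).subtype.comp e.symm.toMonoidHom)
  have hg : Function.Injective g := by
    intro a b h
    have h' : f (e.symm a : SL2 (ZMod p)) = f (e.symm b : SL2 (ZMod p)) := congrArg Subtype.val h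
    exact e.symm.injective (Subtype.ext (hf h'))
  have : NeZero (2 ^ k) := ⟨by positivity⟩
  have hgp : IsPGroup 2 g.range := by
    have hQ : IsPGroup 2 (QuaternionGroup (2 ^ k)) := Q.isPGroup'.of_equiv e
    exact hQ.of_equiv (MonoidHom.ofInjective hg)
  obtain ⟨S', hS'⟩ := hgp.exists_le_sylow
  obtain ⟨eS⟩ : Nonempty ((S' : Subgroup H) ≃* (S : Subgroup H)) := ⟨Sylow.equiv S' S⟩
  let j : QuaternionGroup (2 ^ k) →* (S : Subgroup H) :=
    eS.toMonoidHom.comp ((Subgroup.inclusion hS').comp g.rangeRestrict)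
  have hj : Function.Injective j := by
    intro a b h
    exact hg (congrArg Subtype.val (Subgroup.inclusion_injective hS' (eS.injective h)))
  have huniq : ∀ x y : (S : Subgroup H), orderOf x = 2 → y ^ 2 = 1 → y ∈ zpowers x := by
    intro x y hx hy
    have hsq : ∀ z : (S : Subgroup H), z ^ 2 = 1 →
        ((z : H) : SL2 F) = 1 ∨ ((z : H) : SL2 F) = -1 := fun z hz =>
      GLOrder.SL2_eq_one_or_neg_one_of_sq h20 (by
        rw [← pow_two]
        simpa using congrArg (fun w : (S : Subgroup H) => ((w : H) : SL2 F)) hz)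
    have hx1 : ((x : H) : SL2 F) = -1 := (hsq x (orderOf_dvd_iff_pow_eq_one.1 hx.dvd)).resolve_left
      fun e => by
        rw [show x = 1 from Subtype.ext (Subtype.ext e), orderOf_one] at hx
        omega
    rcases hsq y hy with h | h
    · rw [show y = 1 from Subtype.ext (Subtype.ext h)]; exact one_mem _
    · rw [show y = x from Subtype.ext (Subtype.ext (h.trans hx1.symm))]; exact mem_zpowers x
  rcases PGroup.unique_order_p_cases S.isPGroup' huniq with hc | ⟨-, n, ⟨es⟩⟩
  · exfalso
    have h := hj (a₁ := QuaternionGroup.xa 0 * QuaternionGroup.a 1)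
      (a₂ := QuaternionGroup.a 1 * QuaternionGroup.xa 0) (by
        rw [map_mul, map_mul]
        exact hc.commGroup.mul_comm _ _)
    simp only [QuaternionGroup.xa_mul_a, QuaternionGroup.a_mul_xa, QuaternionGroup.xa.injEq] at h
    have h2' : ((2 : ℕ) : ZMod (2 * 2 ^ k)) = 0 := by push_cast; linear_combination h
    rw [ZMod.natCast_eq_zero_iff] at h2'
    have := Nat.le_of_dvd two_pos h2'
    have := Nat.pow_le_pow_right two_pos hk
    omega
  · refine ⟨n, ?_, ⟨es⟩⟩
    rcases n with _ | n
    · exfalso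
      have hd : Nat.card (QuaternionGroup (2 ^ k)) ≤ Nat.card (S : Subgroup H) :=
        Nat.card_le_card_of_injective j hj
      rw [Nat.card_congr es.toEquiv, Nat.card_eq_fintype_card, Nat.card_eq_fintype_card,
        QuaternionGroup.card, QuaternionGroup.card] at hd
      have := Nat.pow_le_pow_right two_pos hk
      omega
    · omega

end Cfsg.Agent.PSL2
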