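/-
Two transvections in `SL_2(q)`, `q` odd.

Main results (namespace `Cfsg.Agent.PSL2`):
* `loT`, `upT`, `transvection_image_cases`, `transvection_top_ne`
-/
import Cfsg.Agent.Lib.PSL2.SLSubgroups

set_option autoImplicit false
set_option linter.unusedSectionVars false
set_option linter.dupNamespace false

open Matrix MulAction Subgroup
open scoped LinearAlgebra.Projectivization

namespace Cfsg.Agent.PSL2

variable {F : Type*} [Field F]

local notation "π" => QuotientGroup.mk' (Subgroup.center (SL2 F))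
local notation "φ" => (ProjectiveSpecialLinearGroup.toPGL : PSL2 F →* PGL2 F)

/-- The lower transvection. -/
def loT (c : F) : SL2 F := ⟨!![1, 0; c, 1], by rw [Matrix.det_fin_two_of]; ring⟩

/-- The upper transvection. -/
def upT (c : F) : SL2 F := ⟨!![1, c; 0, 1], by rw [Matrix.det_fin_two_of]; ring⟩

theorem toPGL_upT (c : F) : φ (QuotientGroup.mk (upT c)) = aff 1 c := by
  rw [ProjectiveSpecialLinearGroup.toPGL_mk, aff, mob]
  refine congrArg ProjGenLinGroup.mk (Units.ext ?_)
  rw [Matrix.SpecialLinearGroup.coe_GL_coe_matrix]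
  simp [upT]

theorem toPGL_loT (c : F) : φ (QuotientGroup.mk (loT c)) = mob 1 0 c 1 (by simp) := by
  rw [ProjectiveSpecialLinearGroup.toPGL_mk, mob]
  refine congrArg ProjGenLinGroup.mk (Units.ext ?_)
  rw [Matrix.SpecialLinearGroup.coe_GL_coe_matrix]
  simp [loT]

theorem tr_loT_upT (c : F) : tr (loT 1 * upT c) = 2 + c := by
  rw [tr, Matrix.SpecialLinearGroup.coe_mul]
  simp [loT, upT, Matrix.mul_apply, Fin.sum_univ_two]
  ring

theorem upT_inv (c : F) : (upT c)⁻¹ = upT (-c) :=
  inv_eq_of_mul_eq_one_right (Subtype.ext (by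
    rw [Matrix.SpecialLinearGroup.coe_mul]
    ext i j
    fin_cases i <;> fin_cases j <;> simp [upT, Matrix.mul_apply, Fin.sum_univ_two]))

theorem loT_upT_ne_one (c : F) : (QuotientGroup.mk (loT 1 * upT c) : PSL2 F) ≠ 1 := by
  intro h
  have key : (loT 1 * upT c).1 1 0 = 1 := by
    rw [Matrix.SpecialLinearGroup.coe_mul]
    simp [loT, upT, Matrix.mul_apply, Fin.sum_univ_two]
  rcases mk_one_iff.1 h with e | e <;> rw [e] at key <;> simp at key

theorem tr_semiSL (u : GL (Fin 2) F) (g : SL2 F) :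
    tr (AutPSL.semiSL u (RingEquiv.refl F) g) = tr g := by
  rw [tr_eq_trace, tr_eq_trace, AutPSL.semiSL_coe, Matrix.trace_mul_cycle, Units.inv_mul, one_mul]
  rfl

theorem outConj_mk' (u : GL (Fin 2) F) (g : SL2 F) :
    outConj u (QuotientGroup.mk g) = QuotientGroup.mk (AutPSL.semiSL u (RingEquiv.refl F) g) := rfl

/-- Squared traces in a subfield group lie in the subfield. -/
theorem tr_sq_mem_of_stdPGL {R : Subfield F} {g : SL2 F}
    (h : (QuotientGroup.mk g : PSL2 F) ∈ stdPGL R.subtype) : tr g ^ 2 ∈ R := by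
  obtain ⟨y, hy⟩ := h
  induction y using Matrix.ProjGenLinGroup.induction_on with | mk N => ?_
  rw [ProjGenLinGroup.map_mk, ProjectiveSpecialLinearGroup.toPGL_mk, ProjGenLinGroup.mk_eq_mk_iff] at hy
  obtain ⟨k, hk⟩ := hy
  have hent : ∀ i j, g.1 i j = ((N.1 i j : R) : F) * (k : F) := fun i j => by
    have h' := congrArg (fun M : GL (Fin 2) F => M.1 i j) hk
    fin_cases i <;> fin_cases j <;>
      simpa [Units.val_mul, Matrix.mul_apply, Fin.sum_univ_two, Matrix.scalar_apply] using h'.symm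
  have hd := det_eq g
  rw [hent, hent, hent, hent] at hd
  have hD : (((N.1 0 0 * N.1 1 1 - N.1 0 1 * N.1 1 0 : R)) : F) * (k : F) ^ 2 = 1 := by
    push_cast
    linear_combination hd
  have hk2 : (k : F) ^ 2 = ((N.1 0 0 * N.1 1 1 - N.1 0 1 * N.1 1 0 : R) : F)⁻¹ :=
    eq_inv_of_mul_eq_one_right hD
  rw [tr, hent, hent, ← add_mul, mul_pow, hk2]
  exact mul_mem (pow_mem (add_mem (N.1 0 0).2 (N.1 1 1).2) 2) (inv_mem (Subtype.coe_prop _))

variable [Finite F] (p : ℕ) [Fact p.Prime] [CharP F p]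

include p in
theorem mk_upT_order {c : F} (hc : c ≠ 0) : orderOf (QuotientGroup.mk (upT c) : PSL2 F) = p := by
  refine orderOf_eq_prime ?_ ?_
  · refine ProjectiveSpecialLinearGroup.toPGL_injective ?_
    rw [map_pow, map_one, toPGL_upT, (aff_pow_char_iff p).2 rfl]
  · intro e
    have h := congrArg φ e
    rw [map_one, toPGL_upT, aff_eq_one_iff] at h
    exact hc h.2

theorem card_le_of_pow_eq {n : ℕ} (hn : 2 ≤ n) (h : ∀ x : F, x ^ n = x) : Nat.card F ≤ n := by
  obtain ⟨g, hg⟩ := IsCyclic.exists_ofOrder_eq_natCard (α := Fˣ)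
  have h1 : g ^ (n - 1) = 1 := by
    refine Units.ext ?_
    rw [Units.val_pow_eq_pow_val, Units.val_one]
    refine mul_right_cancel₀ (Units.ne_zero g) ?_
    rw [← pow_succ, show n - 1 + 1 = n by omega, h, one_mul]
  have := Nat.le_of_dvd (by omega) (orderOf_dvd_of_pow_eq_one h1)
  rw [hg, Nat.card_units] at this
  omega

/-- An element with `λ^(3^n) = λ` generating the field bounds its size. -/
theorem card_le_of_gen [CharP F 3] {lam : F} (hgen : Subfield.closure ({lam} : Set F) = ⊤) {n : ℕ}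
    (hn : 1 ≤ n) (h : lam ^ 3 ^ n = lam) : Nat.card F ≤ 3 ^ n := by
  have : Fact (Nat.Prime 3) := ⟨Nat.prime_three⟩
  refine card_le_of_pow_eq (by
    calc 2 ≤ 3 ^ 1 := by norm_num
      _ ≤ 3 ^ n := Nat.pow_le_pow_right (by norm_num) hn) fun x => ?_
  have hle : Subfield.closure ({lam} : Set F) ≤ (iterateFrobenius F 3 n).eqLocusField (RingHom.id F) := by
    rw [Subfield.closure_le, Set.singleton_subset_iff]
    show iterateFrobenius F 3 n lam = lam
    rwa [iterateFrobenius_def]
  have hx : iterateFrobenius F 3 n x = x := hle (hgen ▸ Subfield.mem_top x)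
  rwa [iterateFrobenius_def] at hx

theorem pow_five_char_three [CharP F 3] [Fact (Nat.Prime 3)] {c : F}
    (h : (QuotientGroup.mk (loT 1 * upT c) : PSL2 F) ^ 5 = 1) : (c - 1) ^ 4 + 1 = 0 := by
  have := tr_of_pow_five h (loT_upT_ne_one c)
  rw [tr_loT_upT] at this
  have h3 : (3 : F) = 0 := by exact_mod_cast CharP.cast_eq_zero F 3
  linear_combination this - (4 * c ^ 3 + 5 * c ^ 2 + 8 * c + 1) * h3

theorem sq_eq_neg_one_of_pairs [CharP F 3] [Fact (Nat.Prime 3)] {c : F} (hc : c ≠ 0)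
    (h : (c - 1) ^ 4 + 1 = 0) (h' : (-c - 1) ^ 4 + 1 = 0) : c ^ 2 = -1 := by
  have h2 := two_ne_zero_of_char (F := F) 3 (by norm_num)
  have h8 : (2 : F) ^ 3 * c * (c ^ 2 + 1) = 0 := by linear_combination h' - h
  exact eq_neg_of_add_eq_zero_left
    ((mul_eq_zero.1 h8).resolve_left (mul_ne_zero (pow_ne_zero 3 h2) hc))

include p in
/-- The image of the group generated by two transvections. -/
theorem transvection_image_cases (hp : p ≠ 2) {lam : F} (hlam : lam ≠ 0)
    (hgen : Subfield.closure ({lam} : Set F) = ⊤) {H : Subgroup (PSL2 F)}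
    (ha : QuotientGroup.mk (loT 1) ∈ H) (hb : QuotientGroup.mk (upT lam) ∈ H) :
    H = ⊤ ∨ (p = 3 ∧ Nat.card F = 9 ∧ lam ^ 2 = -1 ∧ Nat.card H = 60) := by
  have h2 := two_ne_zero_of_char (F := F) p hp
  have hbo := mk_upT_order p hlam
  have hpH : p ∣ Nat.card H := hbo ▸ Subgroup.orderOf_dvd_natCard _ hb
  have hnb : ∀ P : Pt F, ¬ H ≤ stabilizer (PSL2 F) P := by
    intro P hP
    have hPinf : P = pinf := fix_unique p hbo (hP hb)
      (by rw [← toPGL_smul, toPGL_upT, aff_smul_pinf])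
    have h := hP ha
    rw [mem_stabilizer_iff, hPinf, ← toPGL_smul, toPGL_loT, mob_smul_pinf_eq_pinf] at h
    exact one_ne_zero h
  rcases stdPSL_or_altFive p hp hpH hnb with ⟨rfl, hcard, ⟨e⟩⟩ | ⟨R, m, u, hm, hR, -, hle, hodd⟩
  · right
    have hne3 : lam ^ 3 ^ 1 ≠ lam := by
      intro h
      have hle := card_le_of_gen hgen le_rfl h
      have hq : 1 < Nat.card F := Finite.one_lt_card
      have hg := card_psl_mul (F := F)
      have hd := Subgroup.card_subgroup_dvd_card H
      rw [hcard] at hd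
      have hq' : Nat.card F = 2 ∨ Nat.card F = 3 := by omega
      rcases hq' with e' | e' <;> rw [e'] at hg <;> norm_num at hg <;>
        have := Nat.le_of_dvd Nat.card_pos hd <;> omega
    have hfive : ∀ c : F, QuotientGroup.mk (upT c) ∈ H → c ^ 3 ≠ c → (c - 1) ^ 4 + 1 = 0 := by
      intro c hc hc3
      have h3 : (3 : F) = 0 := by exact_mod_cast CharP.cast_eq_zero F 3
      have hmem : (QuotientGroup.mk (loT 1 * upT c) : PSL2 F) ∈ H := mul_mem ha hc
      set z : H := ⟨_, hmem⟩ with hz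
      have key : ∀ n : ℕ, e z ^ n = 1 → (QuotientGroup.mk (loT 1 * upT c) : PSL2 F) ^ n = 1 := by
        intro n hn
        rw [← map_pow, ← map_one e] at hn
        exact congrArg Subtype.val (e.injective hn)
      rcases altFive_orders (e z) with h | h | h
      · exfalso
        have h' := key _ h
        rw [pow_two] at h'
        obtain ⟨g, hg, hgt⟩ := exists_lift_involution h2 (loT_upT_ne_one c) h'
        have ht : tr (loT 1 * upT c) = 0 := by
          rcases mk_eq_mk_iff.1 hg with e' | e'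
          · rw [← e', hgt]
          · rw [e', tr_neg, neg_eq_zero] at hgt; exact hgt
        rw [tr_loT_upT] at ht
        rw [eq_sub_of_add_eq' ht] at hc3
        exact hc3 (by linear_combination (-2 : F) * h3)
      · exfalso
        have h' := tr_sq_eq_one_of_pow_three (key _ h) (loT_upT_ne_one c)
        rw [tr_loT_upT] at h'
        rcases sq_eq_one_iff.1 h' with e' | e' <;> apply hc3
        · rw [eq_sub_of_add_eq' e']; ring
        · rw [eq_sub_of_add_eq' e']; linear_combination (-8 : F) * h3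
      · exact pow_five_char_three (key _ h)
    have hinv : (QuotientGroup.mk (upT (-lam)) : PSL2 F) ∈ H := by
      rw [← upT_inv, QuotientGroup.mk_inv]; exact inv_mem hb
    rw [pow_one] at hne3
    have hsq := sq_eq_neg_one_of_pairs hlam (hfive lam hb hne3) (hfive (-lam) hinv (fun h => hne3 (by
      linear_combination -h)))
    refine ⟨rfl, ?_, hsq, hcard⟩
    have h9 : lam ^ 3 ^ 2 = lam := by
      calc lam ^ 3 ^ 2 = (lam ^ 2) ^ 4 * lam := by ring
        _ = lam := by rw [hsq]; ring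
    have hle := card_le_of_gen hgen (by norm_num) h9
    obtain ⟨l, hl, hql, -⟩ := q_cases (F := F) 3
    rw [hql] at hle ⊢
    have hl2 : l ≤ 2 := (Nat.pow_le_pow_iff_right (by norm_num)).1 hle
    interval_cases l
    · exfalso
      refine hne3 ?_
      have : Fintype F := Fintype.ofFinite F
      have h' := FiniteField.pow_card lam
      rwa [← Nat.card_eq_fintype_card, hql, pow_one] at h'
    · norm_num
  · left
    have key : ∀ c : F, QuotientGroup.mk (upT c) ∈ H → (2 + c) ^ 2 ∈ R := by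
      intro c hc
      have h : (QuotientGroup.mk (AutPSL.semiSL u (RingEquiv.refl F) (loT 1 * upT c)) : PSL2 F) ∈
          stdPGL R.subtype := by
        rw [← outConj_mk']
        exact hle ⟨_, mul_mem ha hc, rfl⟩
      have h' := tr_sq_mem_of_stdPGL h
      rwa [tr_semiSL, tr_loT_upT] at h'
    have hinv : (QuotientGroup.mk (upT (-lam)) : PSL2 F) ∈ H := by
      rw [← upT_inv, QuotientGroup.mk_inv]; exact inv_mem hb
    have h8R : (2 : F) ^ 3 ∈ R := pow_mem (by exact_mod_cast natCast_mem R 2) 3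
    have hl : lam ∈ R := by
      have h := mul_mem (inv_mem h8R) (sub_mem (key lam hb) (key (-lam) hinv))
      rwa [show ((2 : F) ^ 3)⁻¹ * ((2 + lam) ^ 2 - (2 + -lam) ^ 2) = lam by field_simp; ring] at h
    have hRtop : R = ⊤ := by
      rw [eq_top_iff, ← hgen, Subfield.closure_le, Set.singleton_subset_iff]; exact hl
    have hRc : Nat.card R = Nat.card F := by
      subst hRtop; exact Nat.card_congr (Subfield.topEquiv (K := F)).toEquiv
    have hm1 : m = 1 := by
      have h := hR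
      rw [hRc] at h
      exact Nat.pow_right_injective Finite.one_lt_card (h.trans (pow_one _).symm)
    have heq := hodd (hm1 ▸ odd_one)
    obtain ⟨es⟩ := nonempty_stdPSL_equiv R.subtype
    exact eq_top_of_psl hRc
      ((Subgroup.equivMapOfInjective H _ (outConj u).injective).trans
        ((MulEquiv.subgroupCongr heq).trans es))

theorem altFive_pair : ∃ x y : alternatingGroup (Fin 5), x ^ 3 = 1 ∧ y ^ 3 = 1 ∧ x ≠ 1 ∧ y ≠ 1 ∧
    x * y ≠ y * x ∧ (x * y) ^ 5 = 1 ∧ (x * y⁻¹) ^ 5 = 1 :=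
  ⟨⟨Equiv.swap 0 2 * Equiv.swap 0 1, Equiv.Perm.mem_alternatingGroup.2 (by decide)⟩,
    ⟨Equiv.swap 2 4 * Equiv.swap 2 3, Equiv.Perm.mem_alternatingGroup.2 (by decide)⟩,
    by decide +kernel, by decide +kernel, by decide +kernel, by decide +kernel, by decide +kernel,
    by decide +kernel, by decide +kernel⟩

/-- For `q = 9` and `λ² = -1` the transvections lie in an `A_5`. -/
theorem transvection_top_ne [CharP F 3] [Fact (Nat.Prime 3)] (h9 : Nat.card F = 9) {lam : F}
    (hsq : lam ^ 2 = -1) {H : Subgroup (PSL2 F)}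
    (hH : H ≤ Subgroup.closure {QuotientGroup.mk (loT 1), QuotientGroup.mk (upT lam)}) :
    H ≠ ⊤ := by
  intro htop
  obtain ⟨M, ⟨e⟩⟩ := exists_alternatingFive_sub_iff.2
    (show 5 ∣ Nat.card F * (Nat.card F ^ 2 - 1) by rw [h9]; norm_num)
  obtain ⟨x, y, hx3, hy3, hx1, hy1, hxy, h5, h5'⟩ := altFive_pair
  let X : PSL2 F := e.symm x
  let Y : PSL2 F := e.symm y
  have hinj : Function.Injective fun a => ((e.symm a : M) : PSL2 F) :=
    Subtype.coe_injective.comp e.symm.injective
  have hpow : ∀ (a : alternatingGroup (Fin 5)) (n : ℕ), a ^ n = 1 →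
      ((e.symm a : M) : PSL2 F) ^ n = 1 := fun a n h => by
    rw [← Subgroup.coe_pow, ← map_pow, h, map_one, Subgroup.coe_one]
  have hne : ∀ a : alternatingGroup (Fin 5), a ≠ 1 → ((e.symm a : M) : PSL2 F) ≠ 1 := fun a ha h =>
    ha (hinj (h.trans (by simp)))
  have hXo : orderOf X = 3 := orderOf_eq_prime (hpow x 3 hx3) (hne x hx1)
  have hYo : orderOf Y = 3 := orderOf_eq_prime (hpow y 3 hy3) (hne y hy1)
  obtain ⟨P, hP⟩ := exists_fix_of_pow_char 3 (hpow x 3 hx3)
  obtain ⟨Q, hQ⟩ := exists_fix_of_pow_char 3 (hpow y 3 hy3)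
  have hPQ : Q ≠ P := by
    rintro rfl
    refine hxy (hinj ?_)
    show ((e.symm (x * y) : M) : PSL2 F) = ((e.symm (y * x) : M) : PSL2 F)
    rw [map_mul, map_mul, Subgroup.coe_mul, Subgroup.coe_mul]
    exact (card_charFix 3 Q).2 X Y (hpow x 3 hx3) hP (hpow y 3 hy3) hQ
  obtain ⟨k, hkQ, hkP⟩ := exists_map_two hPQ
  have hkQ' : k⁻¹ • (pinf : Pt F) = Q := by rw [← hkQ, inv_smul_smul]
  have hkP' : k⁻¹ • pt (0 : F) = P := by rw [← hkP, inv_smul_smul]
  have hpc : ∀ (g : PGL2 F) {a : Fˣ} {b : F} {Z : PSL2 F}, Z ^ 3 = 1 → g * φ Z * g⁻¹ = aff a b →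
      a = 1 := fun g {a b Z} hZ h => (aff_pow_char_iff 3).1 (by
    rw [← h, conj_pow, ← map_pow, hZ, map_one, mul_one, mul_inv_cancel])
  obtain ⟨a, μ, hY⟩ := exists_aff_of_fix (g := k * φ Y * k⁻¹)
    (by rw [mul_smul, mul_smul, hkQ', toPGL_smul, hQ, hkQ])
  obtain rfl : a = 1 := hpc k (hpow y 3 hy3) hY
  let w : PGL2 F := mob 0 1 1 0 (by simp)
  have hw : w • pt (0 : F) = pinf := by rw [mob_smul_pt_eq_pinf]; simp
  have hw' : w⁻¹ • (pinf : Pt F) = pt 0 := by rw [← hw, inv_smul_smul]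
  have hww : w * w = 1 := by rw [mob_mul_mob, mob_eq_one_iff]; simp
  obtain ⟨a, c, hXc⟩ := exists_aff_of_fix (g := w * k * φ X * (w * k)⁻¹)
    (by rw [_root_.mul_inv_rev, mul_smul, mul_smul, mul_smul, mul_smul, hw', hkP', toPGL_smul, hP,
      hkP, hw])
  obtain rfl : a = 1 := hpc (w * k) (hpow x 3 hx3) hXc
  have hc0 : c ≠ 0 := by
    rintro rfl
    rw [aff_one_zero, mul_inv_eq_one, mul_eq_left, ← map_one φ] at hXc
    exact hne x hx1 (ProjectiveSpecialLinearGroup.toPGL_injective hXc)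
  let s : PGL2 F := mob c 0 0 1 (by simpa using hc0)
  have hs : s⁻¹ = mob c⁻¹ 0 0 1 (by simpa using hc0) :=
    inv_eq_of_mul_eq_one_right (by rw [mob_mul_mob, mob_eq_one_iff]; simp [hc0])
  have hXk : k * φ X * k⁻¹ = mob 1 0 c 1 (by simp) := by
    have : k * φ X * k⁻¹ = w⁻¹ * aff 1 c * w⁻¹⁻¹ := by rw [← hXc]; group
    rw [this, inv_eq_of_mul_eq_one_right hww, inv_eq_of_mul_eq_one_right hww, aff, mob_mul_mob,
      mob_mul_mob, mob_eq_mob_iff]
    exact ⟨1, by simp⟩
  obtain ⟨u, hu⟩ : ∃ u : GL (Fin 2) F, ProjGenLinGroup.mk u = s * k := by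
    generalize s * k = g
    induction g using Matrix.ProjGenLinGroup.induction_on with | mk u => exact ⟨u, rfl⟩
  have hXu : outConj u X = QuotientGroup.mk (loT 1) := by
    refine ProjectiveSpecialLinearGroup.toPGL_injective ?_
    rw [toPGL_outConj, hu, toPGL_loT,
      show s * k * φ X * (s * k)⁻¹ = s * (k * φ X * k⁻¹) * s⁻¹ by group, hXk, hs, mob_mul_mob,
      mob_mul_mob, mob_eq_mob_iff]
    exact ⟨1, by simp [hc0]⟩
  have hYu : outConj u Y = QuotientGroup.mk (upT (c * μ)) := by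
    refine ProjectiveSpecialLinearGroup.toPGL_injective ?_
    rw [toPGL_outConj, hu, toPGL_upT,
      show s * k * φ Y * (s * k)⁻¹ = s * (k * φ Y * k⁻¹) * s⁻¹ by group, hY, hs, aff, aff, mob_mul_mob,
      mob_mul_mob, mob_eq_mob_iff]
    exact ⟨1, by simp [hc0]⟩
  have hprod : ∀ d, d = c * μ ∨ d = -(c * μ) → (d - 1) ^ 4 + 1 = 0 := by
    intro d hd
    refine pow_five_char_three ?_
    rw [QuotientGroup.mk_mul]
    rcases hd with rfl | rfl
    · rw [← hXu, ← hYu, ← map_mul, ← map_pow,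
        show (X * Y) ^ 5 = 1 from by simpa using hpow _ 5 h5, map_one]
    · rw [← upT_inv, QuotientGroup.mk_inv, ← hXu, ← hYu, ← map_inv, ← map_mul, ← map_pow,
        show (X * Y⁻¹) ^ 5 = 1 from by simpa using hpow _ 5 h5', map_one]
  have hμ : c * μ ≠ 0 := by
    intro e0
    have h := hYu
    rw [e0, show (QuotientGroup.mk (upT (0 : F)) : PSL2 F) = 1 from
      mk_one_iff.2 (Or.inl (Subtype.ext (by
        rw [Matrix.SpecialLinearGroup.coe_one]; simp [upT, Matrix.one_fin_two]))),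
      MulEquiv.map_eq_one_iff] at h
    exact hne y hy1 h
  have hν := sq_eq_neg_one_of_pairs hμ (hprod _ (Or.inl rfl)) (hprod _ (Or.inr rfl))
  have hle : H ≤ M.map (outConj u).toMonoidHom := by
    refine hH.trans ((closure_le _).2 ?_)
    rintro _ (rfl | rfl)
    · exact ⟨X, Subtype.coe_prop _, hXu⟩
    · rcases sq_eq_sq_iff_eq_or_eq_neg.1 (hsq.trans hν.symm) with h | h
      · exact ⟨Y, Subtype.coe_prop _, by rw [h]; exact hYu⟩
      · refine ⟨Y⁻¹, inv_mem (Subtype.coe_prop _), ?_⟩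
        show outConj u Y⁻¹ = _
        rw [map_inv, hYu, h, ← upT_inv, QuotientGroup.mk_inv]
  rw [htop] at hle
  have hc := Subgroup.card_le_of_le hle
  rw [Subgroup.card_top, show Nat.card (M.map (outConj u).toMonoidHom) = 60 from
    (Nat.card_congr (Subgroup.equivMapOfInjective M _ (outConj u).injective).toEquiv).symm.trans
      ((Nat.card_congr e.toEquiv).trans card_alt_five)] at hc
  have hg := card_psl_mul (F := F)
  rw [h9] at hg
  norm_num at hg
  omega

end Cfsg.Agent.PSL2
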