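/-
Subfield subgroups up to conjugacy under `PGL_2(q)`.

Main results (namespace `Cfsg.Agent.PSL2`):
* `ptMap φ`, `map_smul_ptMap` : the points of the line over a subfield
* `stdPSL φ`, `stdPGL φ`      : the standard images of `PSL_2(L)` and `PGL_2(L)` in `PSL_2(F)`
* `toPGL_outConj`, `exists_outConj_stdPSL`, `psl_dickson_std`
* `stdPGL_le_stdPSL`, `stdPSL_le_stdPGL`, `stdPSL_le_of_subfield`
-/
import Cfsg.Agent.Lib.PSL2.Conjugacy

set_option autoImplicit false
set_option linter.unusedSectionVars false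
set_option linter.dupNamespace false

open Matrix MulAction Subgroup
open scoped LinearAlgebra.Projectivization

namespace Cfsg.Agent.PSL2

section Map

variable {F K : Type*} [Field F] [Field K] (φ : F →+* K)

/-- Coordinatewise `φ`. -/
def vecMap : (Fin 2 → F) →ₛₗ[φ] (Fin 2 → K) where
  toFun v := φ ∘ v
  map_add' u v := by ext i; simp
  map_smul' a v := by ext i; simp

theorem vecMap_injective : Function.Injective (vecMap φ) := fun u v h => by
  ext i; exact φ.injective (congrFun h i)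

/-- The inclusion of the projective lines. -/
noncomputable def ptMap : Pt F → Pt K := Projectivization.map (vecMap φ) (vecMap_injective φ)

theorem ptMap_pinf : ptMap φ (pinf : Pt F) = pinf := by
  rw [ptMap, pinf, Projectivization.map_mk, pinf]
  congr 1
  ext i; fin_cases i <;> simp [vecMap]

theorem ptMap_pt (x : F) : ptMap φ (pt x) = pt (φ x) := by
  rw [ptMap, pt, Projectivization.map_mk, pt]
  congr 1
  ext i; fin_cases i <;> simp [vecMap]

theorem map_smul_ptMap (g : PGL2 F) (P : Pt F) :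
    ProjGenLinGroup.map φ g • ptMap φ P = ptMap φ (g • P) := by
  obtain ⟨a, b, c, d, h, rfl⟩ := exists_mob g
  induction P using Projectivization.ind with | _ v hv => ?_
  rw [map_mob, mob_smul_mk, ptMap, Projectivization.map_mk, mob_smul_mk, Projectivization.map_mk]
  congr 1
  ext i; fin_cases i <;> simp [vecMap]

theorem toK_apply (x : PSL2 F) :
    toK φ x = ProjGenLinGroup.map φ (ProjectiveSpecialLinearGroup.toPGL x) := rfl

theorem toK_smul_ptMap (x : PSL2 F) (P : Pt F) : toK φ x • ptMap φ P = ptMap φ (x • P) := by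
  rw [toK_apply, map_smul_ptMap, toPGL_smul]

end Map

variable {F : Type*} [Field F]

/-- The standard image of `PSL_2(L)`. -/
noncomputable def stdPSL {L : Type*} [Field L] (φ : L →+* F) : Subgroup (PSL2 F) :=
  (toK φ).range.comap (ProjectiveSpecialLinearGroup.toPGL : PSL2 F →* PGL2 F)

/-- The elements of `PSL_2(F)` in the standard image of `PGL_2(L)`. -/
noncomputable def stdPGL {L : Type*} [Field L] (φ : L →+* F) : Subgroup (PSL2 F) :=
  (ProjGenLinGroup.map (n := Fin 2) φ).range.comap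
    (ProjectiveSpecialLinearGroup.toPGL : PSL2 F →* PGL2 F)

theorem stdPSL_le_stdPGL {L : Type*} [Field L] (φ : L →+* F) : stdPSL φ ≤ stdPGL φ := by
  rintro x ⟨y, hy⟩
  exact ⟨_, hy⟩

theorem stdPSL_le_range_toPGL {L : Type*} [Field L] (φ : L →+* F) :
    (toK φ).range ≤ (ProjectiveSpecialLinearGroup.toPGL : PSL2 F →* PGL2 F).range := by
  rintro _ ⟨x, rfl⟩
  obtain ⟨s, rfl⟩ := QuotientGroup.mk_surjective x
  rw [toK_mk]
  refine mem_range_toPGL ⟨1, ?_⟩
  rw [← map_mul, ← map_mul, ← map_sub, det_eq, map_one, mul_one]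

theorem nonempty_stdPSL_equiv {L : Type*} [Field L] (φ : L →+* F) :
    Nonempty (stdPSL φ ≃* PSL2 L) := by
  have h : (stdPSL φ).map ProjectiveSpecialLinearGroup.toPGL = (toK φ).range := by
    rw [stdPSL, Subgroup.map_comap_eq, inf_eq_right]
    exact stdPSL_le_range_toPGL φ
  exact ⟨((Subgroup.equivMapOfInjective _ _ ProjectiveSpecialLinearGroup.toPGL_injective).trans
    (MulEquiv.subgroupCongr h)).trans (MonoidHom.ofInjective (toK_injective φ)).symm⟩

theorem nonempty_stdPGL_equiv {L : Type*} [Field L] (φ : L →+* F) (hsq : ∀ a : L, IsSquare (φ a)) :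
    Nonempty (stdPGL φ ≃* PGL2 L) := by
  have h : (stdPGL φ).map ProjectiveSpecialLinearGroup.toPGL =
      (ProjGenLinGroup.map (n := Fin 2) φ).range := by
    rw [stdPGL, Subgroup.map_comap_eq, inf_eq_right]
    rintro _ ⟨x, rfl⟩
    obtain ⟨a, b, c, d, h, rfl⟩ := exists_mob x
    rw [map_mob]
    exact mem_range_toPGL (by rw [← map_mul, ← map_mul, ← map_sub]; exact hsq _)
  exact ⟨((Subgroup.equivMapOfInjective _ _ ProjectiveSpecialLinearGroup.toPGL_injective).trans
    (MulEquiv.subgroupCongr h)).trans (MonoidHom.ofInjective (pgl_map_injective φ)).symm⟩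

theorem stdPSL_le_of_subfield {L L' : Type*} [Field L] [Field L'] (φ : L' →+* F) (j : L →+* L') :
    stdPSL (φ.comp j) ≤ stdPSL φ := by
  rintro x ⟨y, hy⟩
  have hy' : toK (φ.comp j) y = ProjGenLinGroup.map φ (toK j y) := by
    rw [toK_apply, toK_apply, ProjGenLinGroup.map_comp, MonoidHom.comp_apply]
  obtain ⟨z, hz⟩ := stdPSL_le_range_toPGL j ⟨y, rfl⟩
  refine ⟨z, ?_⟩
  rw [← hy, hy', toK_apply, hz]

theorem stdPGL_le_stdPSL {L L' : Type*} [Field L] [Field L'] (φ : L' →+* F) (j : L →+* L')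
    (hsq : ∀ a : L, IsSquare (j a)) : stdPGL (φ.comp j) ≤ stdPSL φ := by
  rintro x ⟨y, hy⟩
  obtain ⟨a, b, c, d, h, rfl⟩ := exists_mob y
  obtain ⟨z, hz⟩ : ProjGenLinGroup.map j (mob a b c d h) ∈
      (ProjectiveSpecialLinearGroup.toPGL : PSL2 L' →* PGL2 L').range := by
    rw [map_mob]
    exact mem_range_toPGL (by rw [← map_mul, ← map_mul, ← map_sub]; exact hsq _)
  refine ⟨z, ?_⟩
  rw [← hy, toK_apply, hz, ProjGenLinGroup.map_comp, MonoidHom.comp_apply]

theorem toPGL_outConj (u : GL (Fin 2) F) (x : PSL2 F) :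
    ProjectiveSpecialLinearGroup.toPGL (outConj u x) =
      ProjGenLinGroup.mk u * ProjectiveSpecialLinearGroup.toPGL x * (ProjGenLinGroup.mk u)⁻¹ := by
  obtain ⟨s, rfl⟩ := QuotientGroup.mk_surjective x
  let s' : SL2 F := AutPSL.semiSL u (RingEquiv.refl F) s
  have hs' : (u : Matrix (Fin 2) (Fin 2) F) * s.1 = s'.1 * (u : Matrix (Fin 2) (Fin 2) F) := by
    rw [AutPSL.semiSL_coe, mul_assoc, Units.inv_mul, mul_one]
    rfl
  rw [outConj_mk u hs', ProjectiveSpecialLinearGroup.toPGL_mk,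
    ProjectiveSpecialLinearGroup.toPGL_mk, eq_mul_inv_iff_mul_eq, ← map_mul, ← map_mul]
  exact congrArg _ (Units.ext hs'.symm)

variable [Finite F] (p : ℕ) [Fact p.Prime] [CharP F p]

/-- Elements of order `p` fix a rational point. -/
theorem exists_fix_of_pow_char {z : PSL2 F} (hzp : z ^ p = 1) : ∃ P : Pt F, z • P = P := by
  have hz : IsPGroup p (zpowers z) := by
    rintro ⟨w, i, rfl⟩
    refine ⟨1, Subtype.ext ?_⟩
    simp only [pow_one, Subgroup.coe_pow, Subgroup.coe_one]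
    rw [← zpow_natCast, ← _root_.zpow_mul, mul_comm, _root_.zpow_mul, zpow_natCast, hzp,
      _root_.one_zpow]
  obtain ⟨S, hS⟩ := hz.exists_le_sylow
  obtain ⟨P, hP⟩ := normalizer_sylow_le p S
  exact ⟨P, hP (Subgroup.le_normalizer (hS (mem_zpowers z)))⟩

section Ambient

variable {K : Type*} [Field K] [IsAlgClosed K] [CharP K p] (φ : F →+* K) {H : Subgroup (PSL2 F)}
  {R : Subfield K} {g : PGL2 K}

theorem exists_rational_fix {u : PGL2 K} (hu : u ∈ conjH g (H.map (toK φ))) (hu1 : u ≠ 1)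
    (hup : u ^ p = 1) {Q : Pt K} (hQ : u • Q = Q) : ∃ P : Pt F, g⁻¹ • Q = ptMap φ P := by
  rw [mem_conjH] at hu
  obtain ⟨z, -, hz⟩ := hu
  have hz' : toK φ z = g⁻¹ * u * g := hz
  have hzp : z ^ p = 1 := toK_injective φ (by
    rw [map_pow, hz', map_one, show g⁻¹ * u * g = g⁻¹ * u * g⁻¹⁻¹ by group, conj_pow, hup, mul_one,
      mul_inv_cancel])
  obtain ⟨P, hP⟩ := exists_fix_of_pow_char p hzp
  have hne : toK φ z ≠ 1 := by
    rw [hz']
    intro e
    exact hu1 (by rwa [mul_eq_one_iff_eq_inv, mul_eq_left] at e)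
  refine ⟨P, unip_fix_unique p hne (by rw [← map_pow, hzp, map_one]) ?_ (by rw [toK_smul_ptMap, hP])⟩
  rw [hz', mul_smul, mul_smul, smul_inv_smul, hQ]

include p in
/-- The conjugating element is rational. -/
theorem exists_rational_conj [Finite R] (hle : pslImg R ≤ conjH g (H.map (toK φ))) :
    ∃ k : PGL2 F, g = ProjGenLinGroup.map φ k := by
  have : CharP R p := (R.subtype).charP R.subtype.injective p
  have mk : ∀ (s : SL2 R) (a b c d : K) (h : a * d - b * c ≠ 0),
      tr s = 2 → (s.1 0 0 : K) = a → (s.1 0 1 : K) = b → (s.1 1 0 : K) = c → (s.1 1 1 : K) = d →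
      mob a b c d h ∈ pslImg R ∧ (mob a b c d h : PGL2 K) ^ p = 1 := by
    rintro s a b c d h ht rfl rfl rfl rfl
    refine ⟨⟨QuotientGroup.mk s, toK_mk R.subtype s⟩, ?_⟩
    have e := toK_mk R.subtype s
    simp only [Subfield.coe_subtype] at e
    rw [← e, ← map_pow, ← QuotientGroup.mk_pow, mk_one_iff.2 (pow_char_of_tr_sq p (by rw [ht]; norm_num)),
      map_one]
  have e1 : (mob (1 : K) 1 0 1 (by simp) : PGL2 K) ≠ 1 := by rw [ne_eq, mob_eq_one_iff]; simp
  have e2 : (mob (1 : K) 0 1 1 (by simp) : PGL2 K) ≠ 1 := by rw [ne_eq, mob_eq_one_iff]; simp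
  have e3 : (mob (0 : K) 1 (-1) 2 (by simp) : PGL2 K) ≠ 1 := by rw [ne_eq, mob_eq_one_iff]; simp
  have m1 := mk ⟨!![1, 1; 0, 1], by simp [Matrix.det_fin_two]⟩ 1 1 0 1 (by simp)
    (by simp [tr, one_add_one_eq_two]) (by simp) (by simp) (by simp) (by simp)
  have m2 := mk ⟨!![1, 0; 1, 1], by simp [Matrix.det_fin_two]⟩ 1 0 1 1 (by simp)
    (by simp [tr, one_add_one_eq_two]) (by simp) (by simp) (by simp) (by simp)
  have m3 := mk ⟨!![0, 1; -1, 2], by simp [Matrix.det_fin_two]⟩ 0 1 (-1) 2 (by simp)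
    (by simp [tr]) (by simp) (by simp) (by simp) (by simp; rfl)
  obtain ⟨P, hP⟩ := exists_rational_fix p φ (Q := pinf) (hle m1.1) e1 m1.2
    (mob_smul_pinf_eq_pinf.2 rfl)
  obtain ⟨Q, hQ⟩ := exists_rational_fix p φ (Q := pt 0) (hle m2.1) e2 m2.2
    (mob_smul_pt_eq_pt.2 (by simp))
  obtain ⟨S, hS⟩ := exists_rational_fix p φ (Q := pt 1) (hle m3.1) e3 m3.2
    (mob_smul_pt_eq_pt.2 (by norm_num))
  have ne : ∀ {A B : Pt K} {A' B' : Pt F}, A ≠ B → g⁻¹ • A = ptMap φ A' → g⁻¹ • B = ptMap φ B' →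
      A' ≠ B' := fun hAB hA hB e =>
    hAB (MulAction.injective g⁻¹ (hA.trans ((congrArg (ptMap φ) e).trans hB.symm)))
  obtain ⟨k, k1, k2, k3⟩ := exists_map_three
    (ne (pinf_ne_pt 0) hP hQ) (ne (pinf_ne_pt 1) hP hS) (ne (by simp) hQ hS)
  refine ⟨k, ?_⟩
  have h : ProjGenLinGroup.map φ k * g⁻¹ = 1 := by
    refine eq_one_of_fix_three (pinf_ne_pt (0 : K)) (pinf_ne_pt 1) (by simp) ?_ ?_ ?_
    · rw [mul_smul, hP, map_smul_ptMap, k1, ptMap_pinf]
    · rw [mul_smul, hQ, map_smul_ptMap, k2, ptMap_pt, map_zero]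
    · rw [mul_smul, hS, map_smul_ptMap, k3, ptMap_pt, map_one]
  exact (eq_of_mul_inv_eq_one h).symm

end Ambient

/-- Dickson's list with subfield subgroups in standard position up to `PGL_2`. -/
theorem psl_dickson_std (H : Subgroup (PSL2 F)) :
    (p ∣ Nat.card H ∧
      ∃ S : Sylow p (PSL2 F), H ≤ normalizer ((S : Subgroup (PSL2 F)) : Set (PSL2 F))) ∨
    (¬ p ∣ Nat.card H ∧ IsCyclic H ∧
      (Nat.card H ∣ (Nat.card F - 1) / Nat.gcd 2 (Nat.card F - 1) ∨
        Nat.card H ∣ (Nat.card F + 1) / Nat.gcd 2 (Nat.card F - 1))) ∨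
    (∃ n, 2 ≤ n ∧ ¬ p ∣ n ∧
      (n ∣ (Nat.card F - 1) / Nat.gcd 2 (Nat.card F - 1) ∨
        n ∣ (Nat.card F + 1) / Nat.gcd 2 (Nat.card F - 1)) ∧
      Nat.card H = 2 * n ∧ Nonempty (H ≃* DihedralGroup n)) ∨
    (¬ p ∣ Nat.card H ∧ (Nonempty (H ≃* alternatingGroup (Fin 4)) ∨
      Nonempty (H ≃* Equiv.Perm (Fin 4)) ∨ Nonempty (H ≃* alternatingGroup (Fin 5)))) ∨
    (p = 3 ∧ Nat.card H = 60 ∧ Nonempty (H ≃* alternatingGroup (Fin 5))) ∨
    (∃ R : Subfield F, ∃ m, ∃ u : GL (Fin 2) F, 1 ≤ m ∧ Nat.card R ^ m = Nat.card F ∧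
      (H.map (outConj u).toMonoidHom = stdPSL R.subtype ∨
        (p ≠ 2 ∧ Even m ∧ H.map (outConj u).toMonoidHom = stdPGL R.subtype))) := by
  let K := AlgebraicClosure F
  let φ : F →+* K := algebraMap F K
  have : CharP K p := charP_of_injective_ringHom φ.injective p
  let H' := H.map (toK φ)
  let e : H ≃* H' := Subgroup.equivMapOfInjective H _ (toK_injective φ)
  have : Finite H' := Finite.of_equiv _ e.toEquiv
  have hcard : Nat.card H' = Nat.card H := (Nat.card_congr e.toEquiv).symm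
  rcases psl_dickson p H with h | h | ⟨n, h1, h2, h3, h4, -, h5⟩ | h | h | ⟨R₀, m₀, hm₀, hR₀, hiso₀⟩
  · exact Or.inl h
  · exact Or.inr (Or.inl h)
  · exact Or.inr (Or.inr (Or.inl ⟨n, h1, h2, h3, h4, h5⟩))
  · exact Or.inr (Or.inr (Or.inr (Or.inl h)))
  · exact Or.inr (Or.inr (Or.inr (Or.inr (Or.inl h))))
  have := charP_subfield p R₀
  have hpH : p ∣ Nat.card H := by
    rcases hiso₀ with ⟨⟨f⟩⟩ | ⟨-, -, ⟨f⟩⟩
    · rw [Nat.card_congr f.toEquiv]; exact dvd_card_psl p
    · rw [Nat.card_congr f.toEquiv, card_pgl_eq]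
      obtain ⟨a, ha, hca⟩ := GLOrder.exists_card_eq_pow (F := R₀) p
      exact (hca ▸ dvd_pow_self p ha.ne').trans (Nat.dvd_mul_right _ _)
  rcases dickson H' p with ⟨P, hP⟩ | ⟨n, hn2, hpn, hc, hpc, ⟨f⟩⟩ | ⟨h1, -⟩ | ⟨h1, h2, ⟨h3⟩⟩ |
    ⟨R, hR, g, hg⟩
  · exact Or.inl ⟨hpH, le_normalizer_sylow p φ (fun h hh => hP _ ⟨h, hh, rfl⟩) hpH⟩
  · -- a dihedral subfield group
    refine Or.inr (Or.inr (Or.inl ⟨n, hn2, hpn, ?_, hcard ▸ hc, ⟨e.trans f⟩⟩))
    have hx : orderOf ((((e.trans f).symm (DihedralGroup.r 1) : H)) : PSL2 F) = n := by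
      rw [Subgroup.orderOf_coe, MulEquiv.orderOf_eq, DihedralGroup.orderOf_r_one]
    rcases psl_orderOf_cases p ((((e.trans f).symm (DihedralGroup.r 1) : H)) : PSL2 F) with h | h | h
    · exact Or.inl (hx ▸ h)
    · exact Or.inr (hx ▸ h)
    · rw [hx] at h
      rcases (Fact.out : p.Prime).eq_one_or_self_of_dvd _ h with h' | h'
      · omega
      · exact absurd (h' ▸ dvd_rfl) hpn
  · exact absurd (hcard ▸ hpH) h1
  · exact Or.inr (Or.inr (Or.inr (Or.inr (Or.inl ⟨h1, hcard ▸ h2, ⟨e.trans h3⟩⟩))))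
  have hle : pslImg R ≤ conjH g H' := by
    rcases hg with hg | hg <;> rw [hg]
    exact pslImg_le_pglImg R
  have hHr : H' ≤ (toK φ).range := Subgroup.map_le_range _ _
  have hRF : R ≤ φ.fieldRange := subfield_le_fieldRange φ hHr hle
  obtain ⟨k, rfl⟩ := exists_rational_conj p φ hle
  let R' : Subfield F := R.comap φ
  let eR : R' ≃+* R := RingEquiv.ofBijective
    ((φ.comp R'.subtype).codRestrict R fun x => x.2)
    ⟨fun a b h => Subtype.ext (φ.injective (congrArg Subtype.val h)), fun b => by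
      obtain ⟨a, ha⟩ := hRF b.2
      exact ⟨⟨a, show φ a ∈ R from ha ▸ b.2⟩, Subtype.ext ha⟩⟩
  obtain ⟨m, hm1, hm⟩ := exists_pow_card (F := F) R'
  obtain ⟨u, hu⟩ : ∃ u : GL (Fin 2) F, ProjGenLinGroup.mk u = k := by
    induction k using Matrix.ProjGenLinGroup.induction_on with | mk u => exact ⟨u, rfl⟩
  -- translate the equation back to `F`
  have hmem : ∀ y : PSL2 F, y ∈ H.map (outConj u).toMonoidHom ↔
      toK φ y ∈ conjH (ProjGenLinGroup.map φ k) H' := by
    intro y
    rw [mem_conjH, Subgroup.mem_map]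
    constructor
    · rintro ⟨x, hx, rfl⟩
      refine ⟨x, hx, ?_⟩
      show toK φ x = _
      rw [MulEquiv.coe_toMonoidHom, toK_apply φ (outConj u x), toPGL_outConj, hu, map_mul, map_mul,
        map_inv, ← toK_apply]
      group
    · rintro ⟨x, hx, hxy⟩
      refine ⟨x, hx, toK_injective φ ?_⟩
      rw [MulEquiv.coe_toMonoidHom, toK_apply φ (outConj u x), toPGL_outConj, hu, map_mul, map_mul,
        map_inv, ← toK_apply, show toK φ x = _ from hxy]
      group
  have hcomp : R.subtype.comp (eR : R' →+* R) = φ.comp R'.subtype := RingHom.ext fun _ => rfl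
  have himgR : pglImg R = ((ProjGenLinGroup.map (n := Fin 2) φ).comp
      (ProjGenLinGroup.map R'.subtype)).range := by
    rw [pglImg, ← ProjGenLinGroup.map_comp, ← hcomp, ProjGenLinGroup.map_comp,
      MonoidHom.range_comp _ (ProjGenLinGroup.map (eR : R' →+* R)),
      MonoidHom.range_eq_top.2 (pglEquiv eR).surjective, ← MonoidHom.range_eq_map]
  have himgS : pslImg R = ((ProjGenLinGroup.map (n := Fin 2) φ).comp (toK R'.subtype)).range := by
    rw [pslImg_eq_range]
    ext y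
    constructor
    · rintro ⟨x, rfl⟩
      refine ⟨(pslEquiv eR).symm x, ?_⟩
      obtain ⟨s, rfl⟩ := (pslEquiv eR).surjective x
      obtain ⟨s, rfl⟩ := QuotientGroup.mk_surjective s
      rw [MulEquiv.symm_apply_apply, MonoidHom.comp_apply, toK_mk, map_mob,
        show pslEquiv eR (QuotientGroup.mk s) =
          QuotientGroup.mk (Matrix.SpecialLinearGroup.map (eR : R' →+* R) s) from rfl]
      exact (toK_mk R.subtype (Matrix.SpecialLinearGroup.map (eR : R' →+* R) s)).symm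
    · rintro ⟨x, rfl⟩
      refine ⟨pslEquiv eR x, ?_⟩
      obtain ⟨s, rfl⟩ := QuotientGroup.mk_surjective x
      rw [MonoidHom.comp_apply, toK_mk R'.subtype, map_mob,
        show pslEquiv eR (QuotientGroup.mk s) =
          QuotientGroup.mk (Matrix.SpecialLinearGroup.map (eR : R' →+* R) s) from rfl]
      exact toK_mk R.subtype (Matrix.SpecialLinearGroup.map (eR : R' →+* R) s)
  have key : ∀ (A : Subgroup (PGL2 R')) (f : PGL2 R' →* PGL2 F),
      f = ProjGenLinGroup.map R'.subtype →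
      conjH (ProjGenLinGroup.map φ k) H' = (A.map f).map (ProjGenLinGroup.map φ) →
      H.map (outConj u).toMonoidHom = (A.map f).comap ProjectiveSpecialLinearGroup.toPGL := by
    intro A f _ hA
    ext y
    rw [hmem, hA, toK_apply, Subgroup.mem_comap,
      Subgroup.mem_map_iff_mem (pgl_map_injective φ)]
  refine Or.inr (Or.inr (Or.inr (Or.inr (Or.inr ⟨R', m, u, hm1, hm, ?_⟩))))
  rcases hg with hg | hg
  · left
    rw [key (ProjectiveSpecialLinearGroup.toPGL : PSL2 R' →* PGL2 R').range _ rfl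
      (by rw [hg, himgS, MonoidHom.range_comp, toK, MonoidHom.range_comp]), stdPSL, toK,
      MonoidHom.range_comp]
  · by_cases hp2 : p = 2
    · left
      subst hp2
      have hsurj : (ProjectiveSpecialLinearGroup.toPGL : PSL2 R' →* PGL2 R').range = ⊤ := by
        rw [MonoidHom.range_eq_top]
        apply ProjectiveSpecialLinearGroup.toPGL_surj_of_roots
        intro r
        have : CharP R' 2 := (R'.subtype).charP R'.subtype.injective 2
        obtain ⟨y, hy⟩ := (Finite.injective_iff_surjective.1 (frobenius_inj R' 2)) (r : R')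
        have hy0 : y ≠ 0 := by
          rintro rfl
          rw [map_zero] at hy
          exact r.ne_zero hy.symm
        exact ⟨Units.mk0 y hy0, Units.ext (by simpa [frobenius_def] using hy)⟩
      rw [key (ProjectiveSpecialLinearGroup.toPGL : PSL2 R' →* PGL2 R').range _ rfl
        (by rw [hg, himgR, hsurj, ← MonoidHom.range_eq_map, MonoidHom.range_comp]), stdPSL, toK,
        MonoidHom.range_comp]
    · right
      refine ⟨hp2, ?_, ?_⟩
      · let f : H ≃* PGL2 R' := e.trans ((conjHEquiv _ H').trans ((MulEquiv.subgroupCongr hg).trans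
          ((MonoidHom.ofInjective (pgl_map_injective R.subtype)).symm.trans (pglEquiv eR.symm))))
        refine even_degree_of_pgl_le p ?_ hm ((H.subtype).comp f.symm.toMonoidHom)
          (Subtype.coe_injective.comp f.symm.injective)
        obtain ⟨l, -, -, ⟨h2, -⟩ | ⟨-, ho, -⟩⟩ := q_cases (F := F) p
        · exact absurd h2 hp2
        · exact ho
      · rw [key ⊤ _ rfl (by rw [hg, himgR, ← MonoidHom.range_eq_map, MonoidHom.range_comp]), stdPGL,
          MonoidHom.range_eq_map]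

end Cfsg.Agent.PSL2
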