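import Cfsg.Agent.Lib.PSL2.PresentationCore
import Cfsg.Agent.Lib.PSL2.Transvections
import Cfsg.Agent.Lib.GLOrder.Torus
import Cfsg.Agent.Lib.Transfer.AbelianHall

/-
Presentations of `SL_2(q)` and `PSL_2(q)` with three generators and nine relations, five in
characteristic two.

Main results (namespace `Cfsg.Agent.PSL2.Pres`): `exists_pres_odd`, `exists_pres_two`.

The translates of the root element commute by two commutator relations and one relation
`a_m = a a₁⁻² a₂`, where `t^m = (1 - t)²`.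
-/

set_option autoImplicit false
set_option linter.unusedSectionVars false
set_option linter.dupNamespace false

open Polynomial
open scoped MatrixGroups

namespace Cfsg.Agent.PSL2.Pres

section generic

variable {G : Type*} [Group G]

theorem E_zero {E : ℤ[X] → G} (hadd : ∀ P Q, E (P + Q) = E P * E Q) : E 0 = 1 := by
  have h := hadd 0 0
  rw [add_zero] at h
  exact left_eq_mul.mp h

theorem E_sub {E : ℤ[X] → G} (hadd : ∀ P Q, E (P + Q) = E P * E Q) (P Q : ℤ[X]) :
    E (P - Q) = E P * (E Q)⁻¹ := by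
  rw [eq_mul_inv_iff_mul_eq, ← hadd, sub_add_cancel]

theorem E_pow {E : ℤ[X] → G} {a b : G} (hX : ∀ P, b * E P * b⁻¹ = E (X * P)) (h1 : E 1 = a) :
    ∀ i : ℕ, E (X ^ i) = cj a b i
  | 0 => by rw [pow_zero, h1, Nat.cast_zero, cj_zero]
  | i + 1 => by
    rw [pow_succ', ← hX, E_pow hX h1 i, show ((i + 1 : ℕ) : ℤ) = 1 + (i : ℤ) by omega, cj_add,
      zpow_one]
    rfl

theorem E_natC {E : ℤ[X] → G} (hadd : ∀ P Q, E (P + Q) = E P * E Q) {a : G} (h1 : E 1 = a) :
    ∀ n : ℕ, E (C (n : ℤ)) = a ^ n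
  | 0 => by rw [Nat.cast_zero, C_0, E_zero hadd, pow_zero]
  | n + 1 => by rw [Nat.cast_succ, C_add, C_1, hadd, E_natC hadd h1 n, h1, pow_succ]

/-- Conjugation by powers of `b`. -/
theorem E_conj_pow {E : ℤ[X] → G} {b : G} (hX : ∀ P, b * E P * b⁻¹ = E (X * P)) :
    ∀ (i : ℕ) (P : ℤ[X]), b ^ i * E P * (b ^ i)⁻¹ = E (X ^ i * P)
  | 0, P => by simp
  | i + 1, P => by
    rw [pow_succ' X, mul_assoc X, ← hX, ← E_conj_pow hX i P, pow_succ']
    group

variable {F : Type*} [Field F] [Finite F] {p : ℕ} [Fact p.Prime] [CharP F p]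

/-- Borel relations, two Weyl relations and the polynomial give the Bruhat bound. -/
theorem bound (a b w : G) (t : F) (ht : t ≠ 0) (hc : ∀ i j : ℤ, Commute (cj a b i) (cj a b j))
    (hap : a ^ p = 1) {f : ℤ[X]}
    (hf : f.map (Int.castRingHom (ZMod p)) = @minpoly (ZMod p) F _ _ (ZMod.algebra F p) t)
    (hsurj : Function.Surjective fun P : ℤ[X] => aeval t P) (hWf : word a b f = 1)
    (hwb : w * b * w⁻¹ = b⁻¹) {M : ℕ} (hM : 0 < M) (hbM : b ^ M = 1) (k : ℤ) (hw2 : w * w = b ^ k)
    (htk : t ^ k = 1) (h3 : (a * w) ^ 3 = 1) {ν : F} (g h : ℤ[X]) (hg : aeval t g = ν)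
    (hcover : ∀ r : F, r ≠ 0 → ∃ i : ℕ, r = t ^ i * 1 ∨ r = t ^ i * ν)
    (hν : ν = 1 ∨ ∃ j : ℤ, w * word a b g * w⁻¹ = word a b h * b ^ j * w * word a b h)
    (hgen : Subgroup.closure ({a, b, w} : Set G) = ⊤) :
    Finite G ∧ Nat.card G ≤ Nat.card F * M * (Nat.card F + 1) := by
  obtain ⟨E, hadd, hX, h1, hW, -, hker, -⟩ := exists_eval_hom a b hc
  obtain ⟨u, hu, huadd⟩ := exists_add_hom E hadd hker ((E_natC hadd h1 p).trans hap) hf
    ((hW f).symm.trans hWf) hsurj
  have hu1 : u 1 = a := by rw [← map_one (aeval t : ℤ[X] →ₐ[ℤ] F), hu, h1]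
  have hbu : ∀ r, b * u r * b⁻¹ = u (t * r) := by
    intro r
    obtain ⟨P, rfl⟩ := hsurj r
    simp only
    rw [hu, hX, ← hu, map_mul, aeval_X]
  have hu0 : u 0 = 1 := by
    have h := huadd 0 0
    rw [add_zero] at h
    exact left_eq_mul.mp h
  have hun : u (-1) = a⁻¹ := eq_inv_of_mul_eq_one_left (by rw [← hu1, ← huadd, neg_add_cancel, hu0])
  -- the relation for the unit
  have hone : w * u 1 * w⁻¹ = u (-1) * b ^ (0 : ℤ) * w * u (-1) := by
    have hbk : ∀ (i : ℤ) (r : F), b ^ i * u r * b ^ (-i) = u (t ^ i * r) := by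
      intro i
      induction i with
      | zero => intro r; simp
      | succ n ih =>
        intro r
        rw [zpow_add_one₀ ht, mul_assoc (t ^ _), ← ih, ← hbu]
        simp only [zpow_add_one, neg_add, zpow_add, zpow_neg_one]
        group
      | pred n ih =>
        intro r
        have h := hbu (t⁻¹ * r)
        rw [← mul_assoc t, mul_inv_cancel₀ ht, one_mul] at h
        rw [zpow_sub_one₀ ht, mul_assoc (t ^ _), ← ih]
        conv_lhs => rw [← h]
        group
    have h3' : a * w * (a * w) * (a * w) = 1 := by rw [← h3, pow_three, mul_assoc]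
    have hwaw : w * a * w = a⁻¹ * w⁻¹ * a⁻¹ := by
      calc w * a * w = a⁻¹ * (a * w * (a * w) * (a * w)) * w⁻¹ * a⁻¹ := by group
        _ = a⁻¹ * w⁻¹ * a⁻¹ := by rw [h3', mul_one]
    have hwi : w⁻¹ = w * b ^ (-k) := inv_eq_of_mul_eq_one_right
      (by rw [← mul_assoc, hw2, ← zpow_add, add_neg_cancel, zpow_zero])
    have hwk : w * w * u (-1) * (w * w)⁻¹ = u (-1) := by
      rw [hw2, ← zpow_neg, hbk, htk, one_mul]
    rw [zpow_zero, mul_one, hu1, hun]
    calc w * a * w⁻¹ = (w * a * w) * (w * w)⁻¹ := by group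
      _ = a⁻¹ * w⁻¹ * a⁻¹ * (w * w)⁻¹ := by rw [hwaw]
      _ = a⁻¹ * w * ((w * w)⁻¹ * u (-1) * (w * w)⁻¹) := by rw [hun]; group
      _ = a⁻¹ * w * ((w * w)⁻¹ * (w * w)⁻¹ * (w * w * u (-1) * (w * w)⁻¹)) := by group
      _ = a⁻¹ * w * ((w * w)⁻¹ * (w * w)⁻¹ * a⁻¹) := by rw [hwk, hun]
      _ = a⁻¹ * w * a⁻¹ := by
          have h4 : (w * w) * (w * w) = 1 := by
            have hk' : w * b ^ k * w⁻¹ = b ^ (-k) := by
              rw [← conj_zpow, hwb, inv_zpow, zpow_neg]
            rw [← hw2] at hk'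
            have h5 : w * w = b ^ (-k) := by rw [← hk']; group
            nth_rewrite 2 [h5]
            rw [hw2, ← zpow_add, add_neg_cancel, zpow_zero]
          rw [← _root_.mul_inv_rev, h4, inv_one, one_mul]
  refine card_le a b w u t ht huadd hu1 hbu hwb hM hbM k hw2 (fun r hr => ?_) hgen
  obtain ⟨i, e | e⟩ := hcover r hr
  · exact ⟨i, 1, -1, 0, -1, e, hone⟩
  · rcases hν with hν | ⟨j, hν⟩
    · exact ⟨i, 1, -1, 0, -1, hν ▸ e, hone⟩
    · refine ⟨i, ν, aeval t h, j, aeval t h, e, ?_⟩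
      rw [← hg, hu, hu, ← hW, ← hW]
      exact hν

/-- The three relations making the translates commute, with their polynomial. -/
theorem comm_rels (a b : G) (m : ℕ) (h1 : Commute (cj a b 0) (cj a b 1))
    (h2 : Commute (cj a b 0) (cj a b 2))
    (hm : cj a b m = cj a b 0 * (cj a b 1 * cj a b 1)⁻¹ * cj a b 2) :
    (∀ i j : ℤ, Commute (cj a b i) (cj a b j)) ∧
      ∀ (N : ℕ) (f : ℤ[X]), b ^ N = word a b f → word a b f = 1 := by
  have hc := commute_all_two a b h1 h2 m hm
  refine ⟨hc, fun N f hN => ?_⟩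
  obtain ⟨E, hadd, hX, hE1, hW, -, hker, -⟩ := exists_eval_hom a b hc
  rw [hW] at hN ⊢
  set g : ℤ[X] := 1 - (X + X) + X ^ 2 - X ^ m with hg
  have hEg : E g = 1 := by
    have hp := E_pow hX hE1
    have e1 : E X = cj a b 1 := by simpa using hp 1
    rw [hg, E_sub hadd, hadd, E_sub hadd, hadd, hp 2, hp m, e1, hm, hE1]
    rw [cj_zero]; group
  have h1f : E ((X - 1) * f) = 1 := by
    rw [sub_mul, one_mul, E_sub hadd, ← hX, ← hN]
    group
  have he : g.eval 1 = -1 := by simp [hg]
  obtain ⟨A, hA⟩ : X - C (1 : ℤ) ∣ g - C (g.eval 1) := X_sub_C_dvd_sub_C_eval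
  rw [he, C_1, C_neg, C_1] at hA
  have hfe : f = A * ((X - 1) * f) + (-f) * g := by
    rw [eq_add_of_sub_eq hA]
    ring
  rw [hfe, hadd, hker _ _ h1f, hker _ _ hEg, one_mul]

/-- The derivation in characteristic two. -/
theorem two_rels (a b w : G) (m K : ℕ) (f : ℤ[X]) (ha : a * a = 1)
    (hm : cj a b m = cj a b 0 * cj a b 1) (hwb : b * w * b * w = 1) (hw2 : w * w = b ^ K)
    (h3 : (a * w) ^ 3 = word a b f) :
    (∀ i j : ℤ, Commute (cj a b i) (cj a b j)) ∧ word a b f = 1 := by
  have hsq : ∀ i, cj a b i * cj a b i = 1 := fun i => by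
    simp only [cj]
    rw [show b ^ i * a * (b ^ i)⁻¹ * (b ^ i * a * (b ^ i)⁻¹) = b ^ i * (a * a) * (b ^ i)⁻¹ by group,
      ha, mul_one, mul_inv_cancel]
  have hinv : ∀ i, (cj a b i)⁻¹ = cj a b i := fun i => inv_eq_of_mul_eq_one_right (hsq i)
  have h1 : Commute (cj a b 0) (cj a b 1) := by
    have := congrArg (fun z => z⁻¹) hm
    simp only [hinv, _root_.mul_inv_rev] at this
    exact hm.symm.trans this
  have hc := commute_all_one a b h1 m hm
  refine ⟨hc, ?_⟩
  obtain ⟨E, hadd, hX, hE1, hW, hEc, hker, -⟩ := exists_eval_hom a b hc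
  rw [hW] at h3 ⊢
  set P := E f with hP
  have hp := E_pow hX hE1
  have hbE := E_conj_pow hX
  have haw : a * w * a * w * a * w = P := by rw [← h3, pow_three]; group
  have hainv : a⁻¹ = a := inv_eq_of_mul_eq_one_right ha
  have haP : a * P * a⁻¹ = P := by
    rw [mul_inv_eq_iff_eq_mul]
    exact hE1 ▸ hEc 1 f
  have hwaw : w * a * w * a * w * a = P := by
    calc w * a * w * a * w * a = a⁻¹ * (a * w * a * w * a * w) * a := by group
      _ = a * P * a⁻¹ := by rw [haw, hainv]
      _ = P := haP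
  have hwP : w * P * w⁻¹ = P := by
    calc w * P * w⁻¹ = w * (a * w * a * w * a * w) * w⁻¹ := by rw [haw]
      _ = w * a * w * a * w * a := by group
      _ = P := hwaw
  have hwb' : w * b * w⁻¹ = b⁻¹ * (b ^ K)⁻¹ := by
    rw [← hw2]
    calc w * b * w⁻¹ = b⁻¹ * (b * w * b * w) * (w * w)⁻¹ := by group
      _ = b⁻¹ * (w * w)⁻¹ := by rw [hwb, mul_one]
  have hwinvb : w⁻¹ * b * w = (b ^ K)⁻¹ * b⁻¹ := by
    rw [← hw2]
    calc w⁻¹ * b * w = (w * w)⁻¹ * (w * b * w * b) * b⁻¹ := by group
      _ = (w * w)⁻¹ * b⁻¹ := by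
        rw [show w * b * w * b = b⁻¹ * (b * w * b * w) * b by group, hwb, mul_one, inv_mul_cancel,
          mul_one]
  -- the two root groups
  -- `X f` is central for both root groups
  have hcom : ∀ Q, Commute (E (X * f)) (w * E Q * w⁻¹) := by
    intro Q
    have e1 : E (X * f) = b * P * b⁻¹ := (hX f).symm
    have hcP : ∀ R, Commute P (w * E R * w⁻¹) := fun R => by
      have := (hEc f R).map (MulAut.conj w)
      simp only [MulAut.conj_apply] at this
      rwa [hwP] at this
    -- `b` normalises the lower root group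
    have e2 : w * E (X ^ (K + 1) * Q) * w⁻¹ = b⁻¹ * (w * E Q * w⁻¹) * b := by
      have hb' : b⁻¹ * w = w * b ^ (K + 1) := by
        have := congrArg (fun z => w * z⁻¹) hwinvb
        simp only [_root_.mul_inv_rev, inv_inv] at this
        rw [pow_succ', ← this]
        group
      rw [← hbE (K + 1) Q]
      calc w * (b ^ (K + 1) * E Q * (b ^ (K + 1))⁻¹) * w⁻¹
          = (w * b ^ (K + 1)) * E Q * (w * b ^ (K + 1))⁻¹ := by group
        _ = (b⁻¹ * w) * E Q * (b⁻¹ * w)⁻¹ := by rw [hb']
        _ = _ := by group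
    have h := (hcP (X ^ (K + 1) * Q)).map (MulAut.conj b)
    simp only [MulAut.conj_apply] at h
    rw [e2, ← e1] at h
    rwa [show b * (b⁻¹ * (w * E Q * w⁻¹) * b) * b⁻¹ = w * E Q * w⁻¹ by group] at h
  have hcw3 : Commute (E (X * f)) (w * w * w) := by
    have e2 : b ^ K * a * (b ^ K)⁻¹ = E (X ^ K) := by
      rw [← hE1, hbE, mul_one]
    have key : a * (w * a * w⁻¹) * E (X ^ K) * (w * w * w) = P := by
      rw [← e2, ← hw2, ← haw]
      group
    have e3 : w * w * w = (a * (w * a * w⁻¹) * E (X ^ K))⁻¹ * P := by rw [← key]; group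
    rw [e3, ← hE1]
    exact (((hEc _ _).mul_right (hcom 1)).mul_right (hEc _ _)).inv_right.mul_right (hEc _ _)
  have hXf : E (X * f) = b * P * b⁻¹ := (hX f).symm
  have h2 : E (X ^ 2 * f) = P := by
    have l1 : w * E (X * f) * w⁻¹ = b⁻¹ * (b ^ K)⁻¹ * P * (b⁻¹ * (b ^ K)⁻¹)⁻¹ := by
      rw [hXf, ← hwb']
      conv_rhs => rw [← hwP]
      group
    have l2 : w * E (X * f) * w⁻¹ = (b ^ K)⁻¹ * (b * P * b⁻¹) * b ^ K := by
      rw [← hXf, ← hw2]
      calc w * E (X * f) * w⁻¹ = (w * w)⁻¹ * (w * w * w * E (X * f)) * w⁻¹ := by group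
        _ = (w * w)⁻¹ * (E (X * f) * (w * w * w)) * w⁻¹ := by rw [hcw3.eq]
        _ = _ := by group
    have h := congrArg (fun z => b * (b ^ K * z * (b ^ K)⁻¹) * b⁻¹) (l1.symm.trans l2)
    rw [pow_two, mul_assoc, ← hX, hXf]
    calc b * (b * P * b⁻¹) * b⁻¹
        = b * (b ^ K * ((b ^ K)⁻¹ * (b * P * b⁻¹) * b ^ K) * (b ^ K)⁻¹) * b⁻¹ := by
          simp only [mul_assoc, inv_mul_cancel_left, mul_inv_cancel_left, mul_inv_cancel, mul_one]
      _ = b * (b ^ K * (b⁻¹ * (b ^ K)⁻¹ * P * (b⁻¹ * (b ^ K)⁻¹)⁻¹) * (b ^ K)⁻¹) * b⁻¹ := h.symm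
      _ = P := by group
  -- coprimality with `X^m + X + 1`
  have hg0 : E (X ^ m + X + 1) = 1 := by
    have e1 : E X = cj a b 1 := by simpa using hp 1
    have e0 : cj a b 0 = a := cj_zero a b
    rw [hadd, hadd, hp m, e1, hE1, hm, e0, mul_assoc a, hsq 1, mul_one, ha]
  have hm2 : E ((X ^ 2 - 1) * f) = 1 := by
    rw [sub_mul, one_mul, E_sub hadd, h2, mul_inv_cancel]
  have htwo : E (C (2 : ℤ)) = 1 := by
    have := E_natC hadd hE1 2
    rw [pow_two, ha] at this
    exact_mod_cast this
  obtain ⟨A, hA⟩ : X - C (1 : ℤ) ∣ (X ^ m + X + 1) - C ((X ^ m + X + 1 : ℤ[X]).eval 1) :=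
    X_sub_C_dvd_sub_C_eval
  rw [show ((X ^ m + X + 1 : ℤ[X]).eval 1) = 3 by simp, C_1] at hA
  set g : ℤ[X] := X ^ m + X + 1
  have hfe : f = (A * A) * ((X ^ 2 - 1) * f) + (f * (g - (X - 1) * A - (X - 1) * A)) * g +
      (-(f * A * A * (X - 1)) - f * C 4) * C 2 := by
    have hg' : g = (X - 1) * A + C (3 : ℤ) := eq_add_of_sub_eq hA
    rw [hg']
    simp only [map_ofNat]
    ring
  rw [hP, hfe, hadd, hadd, hker _ _ hm2, hker _ _ hg0, hker _ _ htwo, one_mul, one_mul]

end generic

section target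

variable {F : Type*} [Field F]

/-- The diagonal matrices. -/
def dg : Fˣ →* SL(2, F) where
  toFun d := ⟨!![(d : F), 0; 0, ((d⁻¹ : Fˣ) : F)], by rw [Matrix.det_fin_two_of]; simp⟩
  map_one' := Subtype.ext (by ext i j; fin_cases i <;> fin_cases j <;> simp)
  map_mul' d e := Subtype.ext (by
    show _ = !![(d : F), 0; 0, ((d⁻¹ : Fˣ) : F)] * !![(e : F), 0; 0, ((e⁻¹ : Fˣ) : F)]
    ext i j; fin_cases i <;> fin_cases j <;> simp [Matrix.mul_apply, Fin.sum_univ_two, mul_comm])

theorem dg_coe (d : Fˣ) : (dg d).1 = !![(d : F), 0; 0, ((d⁻¹ : Fˣ) : F)] := rfl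

theorem upT_coe (r : F) : (upT r).1 = !![1, r; 0, 1] := rfl

/-- The Weyl element. -/
def wM : SL(2, F) := ⟨!![0, 1; -1, 0], by rw [Matrix.det_fin_two_of]; ring⟩

theorem wM_coe : (wM : SL(2, F)).1 = !![0, 1; -1, 0] := rfl

theorem upT_add (r s : F) : upT (r + s) = upT r * upT s := by
  refine Subtype.ext ?_
  simp only [Matrix.SpecialLinearGroup.coe_mul, Matrix.SpecialLinearGroup.coe_one, dg_coe, upT_coe, wM_coe, Matrix.mul_fin_two]
  ext i j
  fin_cases i <;> fin_cases j <;> simp [add_comm]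

/-- The upper transvections, as a homomorphism. -/
def upHom : Multiplicative F →* SL(2, F) where
  toFun r := upT r.toAdd
  map_one' := Subtype.ext (by ext i j; fin_cases i <;> fin_cases j <;> simp [upT])
  map_mul' r s := upT_add _ _

theorem upT_zpow (r : F) (z : ℤ) : upT r ^ z = upT (z * r) := by
  have h := map_zpow (upHom (F := F)) (Multiplicative.ofAdd r) z
  rw [← ofAdd_zsmul] at h
  show upHom (Multiplicative.ofAdd r) ^ z = _
  rw [← h, zsmul_eq_mul]
  rfl

theorem dg_conj (d : Fˣ) (r : F) : dg d * upT r * (dg d)⁻¹ = upT ((d : F) ^ 2 * r) := by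
  rw [mul_inv_eq_iff_eq_mul]
  refine Subtype.ext ?_
  simp only [Matrix.SpecialLinearGroup.coe_mul, Matrix.SpecialLinearGroup.coe_one, dg_coe, upT_coe, wM_coe, Matrix.mul_fin_two]
  ext i j
  fin_cases i <;> fin_cases j <;> simp
  field_simp

theorem cj_target (ω : Fˣ) (i : ℕ) :
    cj (upT (1 : F)) (dg ω) (i : ℤ) = upT (((ω : F) ^ 2) ^ i) := by
  rw [cj, zpow_natCast, ← map_pow, dg_conj, mul_one, Units.val_pow_eq_pow_val, ← pow_mul, ← pow_mul,
    mul_comm i]

theorem word_target (ω : Fˣ) (P : ℤ[X]) :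
    word (upT (1 : F)) (dg ω) P = upT (aeval ((ω : F) ^ 2) P) := by
  rw [word, aeval_eq_sum_range]
  induction P.natDegree + 1 with
  | zero =>
    rw [Finset.range_zero, Finset.sum_empty]
    exact (map_one (upHom (F := F))).symm
  | succ n ih =>
    rw [List.range_succ, List.map_append, List.prod_append, List.map_singleton, List.prod_singleton,
      Finset.sum_range_succ, upT_add, ih, cj_target, upT_zpow, zsmul_eq_mul]

theorem wM_sq : wM * wM = dg (-1 : Fˣ) := by
  refine Subtype.ext ?_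
  simp only [Matrix.SpecialLinearGroup.coe_mul, Matrix.SpecialLinearGroup.coe_one, dg_coe, upT_coe, wM_coe, Matrix.mul_fin_two]
  ext i j
  fin_cases i <;> fin_cases j <;> simp

theorem wM_dg (d : Fˣ) : wM * dg d * wM⁻¹ = (dg d)⁻¹ := by
  rw [mul_inv_eq_iff_eq_mul, ← map_inv]
  refine Subtype.ext ?_
  simp only [Matrix.SpecialLinearGroup.coe_mul, Matrix.SpecialLinearGroup.coe_one, dg_coe, upT_coe, wM_coe, Matrix.mul_fin_two]
  ext i j
  fin_cases i <;> fin_cases j <;> simp

theorem upT_wM_cube : (upT (1 : F) * wM) ^ 3 = 1 := by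
  rw [pow_three]
  refine Subtype.ext ?_
  simp only [Matrix.SpecialLinearGroup.coe_mul, Matrix.SpecialLinearGroup.coe_one, dg_coe, upT_coe, wM_coe, Matrix.mul_fin_two]
  ext i j
  fin_cases i <;> fin_cases j <;> simp

theorem wM_upT (d : Fˣ) :
    wM * upT (d : F) * wM⁻¹ =
      upT (-((d⁻¹ : Fˣ) : F)) * dg d⁻¹ * wM * upT (-((d⁻¹ : Fˣ) : F)) := by
  rw [mul_inv_eq_iff_eq_mul]
  refine Subtype.ext ?_
  simp only [Matrix.SpecialLinearGroup.coe_mul, Matrix.SpecialLinearGroup.coe_one, dg_coe, upT_coe, wM_coe, Matrix.mul_fin_two]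
  ext i j
  fin_cases i <;> fin_cases j <;> simp

variable [Finite F]

theorem closure_target (ω : Fˣ) (hω : ∀ x : Fˣ, x ∈ Subgroup.zpowers ω)
    (hsurj : Function.Surjective fun P : ℤ[X] => aeval ((ω : F) ^ 2) P) :
    Subgroup.closure (Set.range ![upT (1 : F), dg ω, wM]) = ⊤ := by
  set H := Subgroup.closure (Set.range ![upT (1 : F), dg ω, wM]) with hH
  have ha : upT (1 : F) ∈ H := Subgroup.subset_closure ⟨0, rfl⟩
  have hb : dg ω ∈ H := Subgroup.subset_closure ⟨1, rfl⟩
  have hw : wM ∈ H := Subgroup.subset_closure ⟨2, rfl⟩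
  have hu : ∀ r : F, upT r ∈ H := by
    intro r
    obtain ⟨P, rfl⟩ := hsurj r
    simp only
    rw [← word_target]
    refine Subgroup.list_prod_mem _ fun x hx => ?_
    obtain ⟨i, -, rfl⟩ := List.mem_map.mp hx
    exact zpow_mem (mul_mem (mul_mem (zpow_mem hb _) ha) (inv_mem (zpow_mem hb _))) _
  have hd : ∀ d : Fˣ, dg d ∈ H := fun d => by
    obtain ⟨i, rfl⟩ := Subgroup.mem_zpowers_iff.mp (hω d)
    rw [map_zpow]
    exact zpow_mem hb i
  rw [eq_top_iff]
  intro M _
  have hdet : M.1 0 0 * M.1 1 1 - M.1 0 1 * M.1 1 0 = 1 := by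
    rw [← Matrix.det_fin_two]; exact M.2
  by_cases hc : M.1 1 0 = 0
  · rw [hc, mul_zero, sub_zero] at hdet
    obtain ⟨d, hd'⟩ : ∃ d : Fˣ, (d : F) = M.1 0 0 :=
      ⟨Units.mkOfMulEqOne _ _ hdet, rfl⟩
    have e : M = upT (M.1 0 1 * M.1 0 0) * dg d := by
      have h11 : ((d⁻¹ : Fˣ) : F) = M.1 1 1 := by
        rw [Units.val_inv_eq_inv_val, hd']
        exact inv_eq_of_mul_eq_one_right hdet
      refine Subtype.ext ?_
      simp only [Matrix.SpecialLinearGroup.coe_mul, dg_coe, upT_coe, Matrix.mul_fin_two]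
      ext i j
      fin_cases i <;> fin_cases j <;> simp [hd', hc, h11]
      · rw [mul_assoc, hdet, mul_one]
    rw [e]
    exact mul_mem (hu _) (hd d)
  · obtain ⟨d, hd'⟩ : ∃ d : Fˣ, (d : F) = -(M.1 1 0)⁻¹ :=
      ⟨Units.mk0 _ (neg_ne_zero.mpr (inv_ne_zero hc)), rfl⟩
    have e : M = upT (M.1 0 0 / M.1 1 0) * dg d * wM * upT (M.1 1 1 / M.1 1 0) := by
      refine Subtype.ext ?_
      simp only [Matrix.SpecialLinearGroup.coe_mul, dg_coe, upT_coe, wM_coe, Matrix.mul_fin_two]
      ext i j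
      fin_cases i <;> fin_cases j <;> simp [hd']
      · field_simp
      · field_simp
        linear_combination -hdet
      · field_simp
    rw [e]
    exact mul_mem (mul_mem (mul_mem (hu _) (hd d)) hw) (hu _)

end target

section presented

/-- A list of relations presents a group satisfying them, if it bounds the order. -/
theorem presented_equiv {T : Type*} [Group T] [Finite T] (g : Fin 3 → T)
    (l : List (FreeGroup (Fin 3))) (hsat : ∀ r ∈ l, FreeGroup.lift g r = 1)
    (hgen : Subgroup.closure (Set.range g) = ⊤)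
    (hbound : ∀ (G : Type) [Group G] (x : Fin 3 → G), Subgroup.closure (Set.range x) = ⊤ →
      (∀ r ∈ l, FreeGroup.lift x r = 1) → (∃ φ : G →* T, Function.Surjective φ ∧ ∀ i, φ (x i) = g i) →
      Finite G ∧ Nat.card G ≤ Nat.card T) :
    ∃ rels : Finset (FreeGroup (Fin 3)), rels.card ≤ l.length ∧
      ∃ e : PresentedGroup (↑rels : Set (FreeGroup (Fin 3))) ≃* T,
        ∀ i, e (PresentedGroup.of i) = g i := by
  classical
  refine ⟨l.toFinset, l.toFinset_card_le, ?_⟩
  have hs : ∀ r ∈ (↑l.toFinset : Set (FreeGroup (Fin 3))), FreeGroup.lift g r = 1 :=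
    fun r hr => hsat r (List.mem_toFinset.mp hr)
  have hlift : FreeGroup.lift (PresentedGroup.of (rels := (↑l.toFinset : Set (FreeGroup (Fin 3))))) =
      PresentedGroup.mk _ := FreeGroup.ext_hom _ _ fun i => by rw [FreeGroup.lift_apply_of]; rfl
  let φ := PresentedGroup.toGroup hs
  have hφ : Function.Surjective φ := by
    rw [← MonoidHom.range_eq_top, eq_top_iff, ← hgen, Subgroup.closure_le]
    rintro _ ⟨i, rfl⟩
    exact ⟨PresentedGroup.of i, PresentedGroup.toGroup.of hs⟩
  obtain ⟨hfin, hcard⟩ := hbound _ PresentedGroup.of (PresentedGroup.closure_range_of _)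
    (fun r hr => by
      rw [hlift]
      exact PresentedGroup.one_of_mem (List.mem_toFinset.mpr hr))
    ⟨φ, hφ, fun i => PresentedGroup.toGroup.of hs⟩
  exact ⟨MulEquiv.ofBijective φ (hφ.bijective_of_nat_card_le hcard), fun i => PresentedGroup.toGroup.of hs⟩

theorem range_fin_three {G : Type*} (x : Fin 3 → G) : Set.range x = {x 0, x 1, x 2} := by
  ext y
  simp only [Set.mem_range, Set.mem_insert_iff, Set.mem_singleton_iff]
  constructor
  · rintro ⟨i, rfl⟩; fin_cases i <;> simp
  · rintro (rfl | rfl | rfl) <;> exact ⟨_, rfl⟩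

/-- The first generator. -/
abbrev gA : FreeGroup (Fin 3) := FreeGroup.of 0
/-- The second generator. -/
abbrev gB : FreeGroup (Fin 3) := FreeGroup.of 1
/-- The third generator. -/
abbrev gW : FreeGroup (Fin 3) := FreeGroup.of 2

theorem lift_word {G : Type*} [Group G] (x : Fin 3 → G) (P : ℤ[X]) :
    FreeGroup.lift x (word gA gB P) = word (x 0) (x 1) P := by
  rw [map_word, FreeGroup.lift_apply_of, FreeGroup.lift_apply_of]

theorem lift_cj {G : Type*} [Group G] (x : Fin 3 → G) (i : ℤ) :
    FreeGroup.lift x (cj gA gB i) = cj (x 0) (x 1) i := by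
  simp [cj]

variable {F : Type*} [Field F] [Finite F] {p : ℕ} [Fact p.Prime] [CharP F p]

theorem exists_lift_minpoly (t : F) :
    ∃ f : ℤ[X], f.map (Int.castRingHom (ZMod p)) = @minpoly (ZMod p) F _ _ (ZMod.algebra F p) t ∧
      aeval t f = 0 := by
  let : Algebra (ZMod p) F := ZMod.algebra F p
  obtain ⟨f, hf⟩ := Polynomial.map_surjective (Int.castRingHom (ZMod p))
    (ZMod.intCast_surjective) (minpoly (ZMod p) t)
  refine ⟨f, hf, ?_⟩
  have := minpoly.aeval (ZMod p) t
  rwa [← hf, ← algebraMap_int_eq, aeval_map_algebraMap] at this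

theorem exists_generator : ∃ ω : Fˣ, (∀ x : Fˣ, x ∈ Subgroup.zpowers ω) ∧
    orderOf ω = Nat.card F - 1 := by
  obtain ⟨ω, hω⟩ := IsCyclic.exists_generator (α := Fˣ)
  exact ⟨ω, hω, by rw [orderOf_eq_card_of_forall_mem_zpowers hω, Nat.card_units]⟩

theorem exists_pow_eq {ω : Fˣ} (hω : ∀ x : Fˣ, x ∈ Subgroup.zpowers ω) (r : F) (hr : r ≠ 0) :
    ∃ n : ℕ, (ω : F) ^ n = r := by
  obtain ⟨n, hn⟩ := mem_powers_iff_mem_zpowers.mpr (hω (Units.mk0 r hr))
  simp only at hn
  exact ⟨n, by rw [← Units.val_pow_eq_pow_val, hn, Units.val_mk0]⟩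

theorem card_SL_eq : Nat.card SL(2, F) = Nat.card F * (Nat.card F - 1) * (Nat.card F + 1) := by
  rw [GLOrder.card_SL_two']; ring

/-- Odd characteristic. -/
theorem exists_pres_odd (hp2 : p ≠ 2) :
    (∃ (ω : Fˣ) (rels : Finset (FreeGroup (Fin 3))), (∀ x : Fˣ, x ∈ Subgroup.zpowers ω) ∧
      rels.card ≤ 9 ∧ ∃ e : PresentedGroup (↑rels : Set (FreeGroup (Fin 3))) ≃* SL(2, F),
        ∀ i, e (PresentedGroup.of i) = ![upT (1 : F), dg ω, wM] i) ∧
    ∃ rels : Finset (FreeGroup (Fin 3)), rels.card ≤ 9 ∧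
      Nonempty (PresentedGroup (↑rels : Set (FreeGroup (Fin 3))) ≃*
        Matrix.ProjectiveSpecialLinearGroup (Fin 2) F) := by
  classical
  obtain ⟨ω, hω, hord⟩ := exists_generator (F := F)
  have hq3 : 3 ≤ Nat.card F := by
    obtain ⟨n, hn, hq⟩ := GLOrder.exists_card_eq_pow (F := F) p
    have := (Fact.out : p.Prime).two_le
    have : p ≤ p ^ n := Nat.le_self_pow (by omega) p
    omega
  have hqodd : Nat.card F % 2 = 1 := by
    obtain ⟨n, hn, hq⟩ := GLOrder.exists_card_eq_pow (F := F) p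
    rw [hq]
    exact Nat.odd_iff.mp ((Fact.out : p.Prime).odd_of_ne_two hp2).pow
  obtain ⟨N, hN⟩ : ∃ N, Nat.card F = 2 * N + 1 := ⟨Nat.card F / 2, by omega⟩
  have h2 : (2 : F) ≠ 0 := by
    intro h
    have : ((2 : ℕ) : F) = 0 := by exact_mod_cast h
    rw [CharP.cast_eq_zero_iff F p] at this
    exact hp2 ((Nat.prime_dvd_prime_iff_eq Fact.out Nat.prime_two).mp this)
  set t : F := (ω : F) ^ 2 with ht
  have hωN : ω ^ N = -1 := by
    have h1 : ((ω ^ N : Fˣ) : F) * ((ω ^ N : Fˣ) : F) = 1 := by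
      rw [← Units.val_mul, ← pow_add, show N + N = orderOf ω by omega, pow_orderOf_eq_one,
        Units.val_one]
    rcases mul_self_eq_one_iff.mp h1 with h | h
    · exfalso
      have := Nat.le_of_dvd (by omega) (orderOf_dvd_of_pow_eq_one (Units.ext h : ω ^ N = 1))
      omega
    · exact Units.ext h
  have htN : t ^ N = 1 := by
    rw [ht, ← pow_mul, show 2 * N = orderOf ω by omega, ← Units.val_pow_eq_pow_val,
      pow_orderOf_eq_one, Units.val_one]
  have hsq : ∀ r : F, r ≠ 0 → ∃ n : ℕ, r = t ^ n * 1 ∨ r = t ^ n * (ω : F) := by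
    intro r hr
    obtain ⟨n, rfl⟩ := exists_pow_eq hω r hr
    refine ⟨n / 2, ?_⟩
    rcases Nat.even_or_odd n with ⟨k, rfl⟩ | ⟨k, rfl⟩
    · left; rw [mul_one, ht, ← pow_mul, show 2 * ((k + k) / 2) = k + k by omega]
    · right; rw [ht, ← pow_mul, ← pow_succ, show 2 * ((2 * k + 1) / 2) + 1 = 2 * k + 1 by omega]
  have hsurj : Function.Surjective fun P : ℤ[X] => aeval t P := by
    intro r
    have hs : ∀ s : F, ∃ P : ℤ[X], aeval t P = s ^ 2 := by
      intro s
      by_cases h : s = 0
      · exact ⟨0, by simp [h]⟩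
      · obtain ⟨n, rfl⟩ := exists_pow_eq hω s h
        exact ⟨X ^ n, by rw [map_pow, aeval_X, ht, ← pow_mul, ← pow_mul, mul_comm]⟩
    obtain ⟨P, hP⟩ := hs ((r + 1) / 2)
    obtain ⟨Q, hQ⟩ := hs ((r - 1) / 2)
    refine ⟨P - Q, ?_⟩
    simp only [map_sub, hP, hQ]
    field_simp
    ring
  obtain ⟨f, hf, hft⟩ := exists_lift_minpoly (p := p) t
  obtain ⟨g, hg⟩ := hsurj (ω : F)
  obtain ⟨h, hh⟩ := hsurj (-((ω⁻¹ : Fˣ) : F))
  simp only at hg hh
  -- the relations making the root group abelian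
  obtain ⟨L, hLlen, hLT, hLG⟩ : ∃ L : List (FreeGroup (Fin 3)), L.length ≤ 3 ∧
      (∀ r ∈ L, FreeGroup.lift ![upT (1 : F), dg ω, wM] r = 1) ∧
      ∀ (G : Type) [Group G] (x : Fin 3 → G), (∀ r ∈ L, FreeGroup.lift x r = 1) →
        (∀ i j : ℤ, Commute (cj (x 0) (x 1) i) (cj (x 0) (x 1) j)) ∧
        ∀ N : ℕ, (x 1) ^ N = word (x 0) (x 1) f → word (x 0) (x 1) f = 1 := by
    by_cases ht1 : t = 1
    · refine ⟨[gB * gA * gB⁻¹ * gA⁻¹, word gA gB f], by simp, ?_, ?_⟩
      · simp only [List.mem_cons, List.not_mem_nil, or_false]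
        rintro r (rfl | rfl)
        · simp only [map_mul, map_inv, FreeGroup.lift_apply_of, Matrix.cons_val_zero,
            Matrix.cons_val_one, dg_conj, mul_one, ← ht, ht1, mul_inv_cancel]
        · rw [lift_word]
          show word (upT (1 : F)) (dg ω) f = 1
          rw [word_target, ← ht, hft]
          exact map_one (upHom (F := F))
      · intro G _ x hx
        have h1 := hx _ (List.mem_cons_self ..)
        have hf1 := hx _ (List.mem_cons_of_mem _ (List.mem_cons_self ..))
        rw [lift_word] at hf1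
        refine ⟨fun i j => ?_, fun _ _ => hf1⟩
        have hcom : Commute (x 1) (x 0) := by
          simp only [map_mul, map_inv, FreeGroup.lift_apply_of] at h1
          rw [mul_inv_eq_one, mul_inv_eq_iff_eq_mul] at h1
          exact h1
        have hcj : ∀ k : ℤ, cj (x 0) (x 1) k = x 0 := fun k => by
          rw [cj, (hcom.zpow_left k).eq, mul_inv_cancel_right]
        rw [hcj, hcj]
    · obtain ⟨n, hn⟩ := exists_pow_eq hω (1 - t) (sub_ne_zero.mpr (Ne.symm ht1))
      refine ⟨[cj gA gB 0 * cj gA gB 1 * (cj gA gB 1 * cj gA gB 0)⁻¹,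
        cj gA gB 0 * cj gA gB 2 * (cj gA gB 2 * cj gA gB 0)⁻¹,
        cj gA gB n * (cj gA gB 0 * (cj gA gB 1 * cj gA gB 1)⁻¹ * cj gA gB 2)⁻¹], by simp, ?_, ?_⟩
      · have hcj : ∀ i : ℕ, cj (![upT (1 : F), dg ω, wM] 0) (![upT (1 : F), dg ω, wM] 1) (i : ℤ) =
            upT (t ^ i) := fun i => cj_target ω i
        simp only [List.mem_cons, List.not_mem_nil, or_false]
        rintro r (rfl | rfl | rfl) <;>
          simp only [map_mul, map_inv, lift_cj, mul_inv_eq_one] <;>
          rw [show (0 : ℤ) = ((0 : ℕ) : ℤ) from rfl]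
        · rw [show (1 : ℤ) = ((1 : ℕ) : ℤ) from rfl, hcj, hcj, ← upT_add, ← upT_add, add_comm]
        · rw [show (2 : ℤ) = ((2 : ℕ) : ℤ) from rfl, hcj, hcj, ← upT_add, ← upT_add, add_comm]
        · rw [show (1 : ℤ) = ((1 : ℕ) : ℤ) from rfl, show (2 : ℤ) = ((2 : ℕ) : ℤ) from rfl, hcj, hcj,
            hcj, hcj, ← upT_add, upT_inv, ← upT_add, ← upT_add]
          congr 1
          have : t ^ n = (1 - t) ^ 2 := by rw [← hn, ht, ← pow_mul, ← pow_mul, mul_comm]
          rw [this]
          ring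
      · intro G _ x hx
        have h1 := hx _ (List.mem_cons_self ..)
        have h2 := hx _ (List.mem_cons_of_mem _ (List.mem_cons_self ..))
        have h3 := hx _ (List.mem_cons_of_mem _ (List.mem_cons_of_mem _ (List.mem_cons_self ..)))
        simp only [map_mul, map_inv, lift_cj, mul_inv_eq_one] at h1 h2 h3
        exact ⟨(comm_rels (x 0) (x 1) n h1 h2 h3).1,
          fun N => (comm_rels (x 0) (x 1) n h1 h2 h3).2 N f⟩
  set ν := gW * word gA gB g * gW⁻¹ * (word gA gB h * gB ^ (-1 : ℤ) * gW * word gA gB h)⁻¹ with hν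
  have hνT : FreeGroup.lift ![upT (1 : F), dg ω, wM] ν = 1 := by
    rw [hν]
    simp only [map_mul, map_inv, map_zpow, lift_word, FreeGroup.lift_apply_of, mul_inv_eq_one,
      Matrix.cons_val_zero, Matrix.cons_val_one, Matrix.cons_val_two, Matrix.tail_cons,
      Matrix.head_cons, word_target, ← ht, hg, hh]
    rw [wM_upT, ← map_zpow, zpow_neg_one]
  have hgenT := closure_target ω hω hsurj
  have hinvT : FreeGroup.lift ![upT (1 : F), dg ω, wM] (gW * gB * gW⁻¹ * gB) = 1 := by
    simp only [map_mul, map_inv, FreeGroup.lift_apply_of, Matrix.cons_val_one,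
      Matrix.cons_val_two, Matrix.tail_cons, Matrix.head_cons, Matrix.cons_val_zero, wM_dg,
      inv_mul_cancel]
  have hcubeT : FreeGroup.lift ![upT (1 : F), dg ω, wM] ((gA * gW) ^ 3) = 1 := by
    simp only [map_pow, map_mul, FreeGroup.lift_apply_of, Matrix.cons_val_zero, Matrix.cons_val_two,
      Matrix.tail_cons, Matrix.head_cons, upT_wM_cube]
  have hpT : FreeGroup.lift ![upT (1 : F), dg ω, wM] (gA ^ p) = 1 := by
    simp only [map_pow, FreeGroup.lift_apply_of, Matrix.cons_val_zero]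
    rw [← zpow_natCast, upT_zpow, Int.cast_natCast, CharP.cast_eq_zero, zero_mul]
    exact map_one (upHom (F := F))
  refine ⟨?_, ?_⟩
  · obtain ⟨rels, hlen, he⟩ := presented_equiv ![upT (1 : F), dg ω, wM]
      (L ++ [gA ^ p, word gA gB f, gW * gB * gW⁻¹ * gB, gW * gW * (gB ^ N)⁻¹, (gA * gW) ^ 3, ν])
      (fun r hr => by
        simp only [List.mem_append, List.mem_cons, List.not_mem_nil, or_false] at hr
        rcases hr with hr | rfl | rfl | rfl | rfl | rfl | rfl
        · exact hLT r hr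
        · exact hpT
        · rw [lift_word]
          show word (upT (1 : F)) (dg ω) f = 1
          rw [word_target, ← ht, hft]
          exact map_one (upHom (F := F))
        · exact hinvT
        · simp only [map_mul, map_inv, map_pow, FreeGroup.lift_apply_of, Matrix.cons_val_one,
            Matrix.cons_val_two, Matrix.tail_cons, Matrix.head_cons, Matrix.cons_val_zero]
          rw [wM_sq, ← map_pow, hωN, mul_inv_cancel]
        · exact hcubeT
        · exact hνT) hgenT
      (fun G _ x hgen hx hmap => by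
        simp only [List.mem_append, List.mem_cons, List.not_mem_nil, or_false] at hx
        obtain ⟨hc, -⟩ := hLG G x fun r hr => hx r (Or.inl hr)
        have e1 := hx _ (Or.inr (Or.inl rfl))
        have e2 := hx _ (Or.inr (Or.inr (Or.inl rfl)))
        have e3 := hx _ (Or.inr (Or.inr (Or.inr (Or.inl rfl))))
        have e4 := hx _ (Or.inr (Or.inr (Or.inr (Or.inr (Or.inl rfl)))))
        have e5 := hx _ (Or.inr (Or.inr (Or.inr (Or.inr (Or.inr (Or.inl rfl))))))
        have e6 := hx _ (Or.inr (Or.inr (Or.inr (Or.inr (Or.inr (Or.inr rfl))))))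
        rw [lift_word] at e2
        simp only [hν, map_mul, map_inv, map_pow, map_zpow, lift_word, FreeGroup.lift_apply_of,
          mul_inv_eq_one] at e1 e3 e4 e5 e6
        have hwb : x 2 * x 1 * (x 2)⁻¹ = (x 1)⁻¹ := eq_inv_of_mul_eq_one_left e3
        have hb2N : x 1 ^ (Nat.card F - 1) = 1 := by
          have h1 : x 2 * x 1 ^ N * (x 2)⁻¹ = ((x 1) ^ N)⁻¹ := by rw [← conj_pow, hwb, inv_pow]
          rw [← e4, ← mul_assoc, mul_inv_cancel_right] at h1
          rw [show Nat.card F - 1 = N + N by omega, pow_add, ← e4]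
          exact mul_eq_one_iff_eq_inv.mpr h1
        rw [card_SL_eq]
        rw [range_fin_three] at hgen
        exact bound (x 0) (x 1) (x 2) t (pow_ne_zero 2 ω.ne_zero) hc e1 hf hsurj e2 hwb
          (by omega) hb2N (N : ℤ) (by rw [zpow_natCast]; exact e4) (by rw [zpow_natCast]; exact htN)
          e5 g h hg hsq (Or.inr ⟨-1, e6⟩) hgen)
    refine ⟨ω, rels, hω, hlen.trans ?_, he⟩
    simp only [List.length_append, List.length_cons, List.length_nil]
    omega
  · set mk := QuotientGroup.mk' (Subgroup.center SL(2, F)) with hmk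
    set y : Fin 3 → Matrix.ProjectiveSpecialLinearGroup (Fin 2) F :=
      fun i => mk (![upT (1 : F), dg ω, wM] i) with hy
    have hliftq : ∀ r, FreeGroup.lift y r = mk (FreeGroup.lift ![upT (1 : F), dg ω, wM] r) :=
      fun r => DFunLike.congr_fun (FreeGroup.ext_hom (FreeGroup.lift y)
        (mk.comp (FreeGroup.lift ![upT (1 : F), dg ω, wM])) fun i => by simp [y]) r
    have hm1 : mk (dg (-1 : Fˣ)) = 1 := by
      refine mk_eq_one_iff.mpr (Or.inr (Subtype.ext ?_))
      rw [dg_coe, Matrix.SpecialLinearGroup.coe_neg, Matrix.SpecialLinearGroup.coe_one]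
      ext i j; fin_cases i <;> fin_cases j <;> simp
    obtain ⟨rels, hlen, he⟩ := presented_equiv y
      (L ++ [gA ^ p, gW * gB * gW⁻¹ * gB, gW * gW, gB ^ N * (word gA gB f)⁻¹, (gA * gW) ^ 3, ν])
      (fun r hr => by
        simp only [List.mem_append, List.mem_cons, List.not_mem_nil, or_false] at hr
        rw [hliftq]
        rcases hr with hr | rfl | rfl | rfl | rfl | rfl | rfl
        · rw [hLT r hr, map_one]
        · rw [hpT, map_one]
        · rw [hinvT, map_one]
        · simp only [map_mul, FreeGroup.lift_apply_of, Matrix.cons_val_two, Matrix.tail_cons,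
            Matrix.head_cons]
          rw [← map_mul, wM_sq, hm1]
        · simp only [map_mul, map_inv, map_pow, lift_word, FreeGroup.lift_apply_of,
            Matrix.cons_val_one, Matrix.cons_val_zero]
          rw [word_target, ← ht, hft, ← map_pow mk, ← map_pow dg, hωN, hm1,
            show upT (0 : F) = 1 from map_one (upHom (F := F)), map_one, inv_one, one_mul]
        · rw [hcubeT, map_one]
        · rw [hνT, map_one])
      (by
        rw [show Set.range y = mk '' Set.range ![upT (1 : F), dg ω, wM] by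
          rw [← Set.range_comp]; rfl, ← MonoidHom.map_closure, hgenT, ← MonoidHom.range_eq_map]
        exact MonoidHom.range_eq_top.mpr (QuotientGroup.mk'_surjective _))
      (fun G _ x hgen hx hmap => by
        simp only [List.mem_append, List.mem_cons, List.not_mem_nil, or_false] at hx
        obtain ⟨hc, hkill⟩ := hLG G x fun r hr => hx r (Or.inl hr)
        have e1 := hx _ (Or.inr (Or.inl rfl))
        have e3 := hx _ (Or.inr (Or.inr (Or.inl rfl)))
        have e4 := hx _ (Or.inr (Or.inr (Or.inr (Or.inl rfl))))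
        have e2 := hx _ (Or.inr (Or.inr (Or.inr (Or.inr (Or.inl rfl)))))
        have e5 := hx _ (Or.inr (Or.inr (Or.inr (Or.inr (Or.inr (Or.inl rfl))))))
        have e6 := hx _ (Or.inr (Or.inr (Or.inr (Or.inr (Or.inr (Or.inr rfl))))))
        simp only [hν, map_mul, map_inv, map_pow, map_zpow, lift_word, FreeGroup.lift_apply_of,
          mul_inv_eq_one] at e1 e2 e3 e4 e5 e6
        have hwf := hkill N e2
        rw [range_fin_three] at hgen
        obtain ⟨hfin, hcard⟩ := bound (x 0) (x 1) (x 2) t (pow_ne_zero 2 ω.ne_zero) hc e1 hf hsurj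
          hwf (eq_inv_of_mul_eq_one_left e3) (M := N) (by omega) (e2.trans hwf) 0
          (by rw [zpow_zero]; exact e4) (zpow_zero t) e5 g h hg hsq (Or.inr ⟨-1, e6⟩) hgen
        refine ⟨hfin, hcard.trans (le_of_eq ?_)⟩
        have hh := GLOrder.card_PSL_mul (ι := Fin 2) (F := F)
        rw [card_SL_eq, Fintype.card_fin, Nat.gcd_eq_left (by omega : 2 ∣ Nat.card F - 1)] at hh
        rw [show Nat.card F - 1 = 2 * N by omega] at hh
        linarith)
    refine ⟨rels, hlen.trans ?_, ⟨he.choose⟩⟩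
    simp only [List.length_append, List.length_cons, List.length_nil]
    omega

/-- Characteristic two. -/
theorem exists_pres_two [CharP F 2] :
    ∃ (ω : Fˣ) (rels : Finset (FreeGroup (Fin 3))), (∀ x : Fˣ, x ∈ Subgroup.zpowers ω) ∧
      rels.card ≤ 5 ∧ ∃ e : PresentedGroup (↑rels : Set (FreeGroup (Fin 3))) ≃* SL(2, F),
        ∀ i, e (PresentedGroup.of i) = ![upT (1 : F), dg ω, wM] i := by
  classical
  haveI : Fact (Nat.Prime 2) := ⟨Nat.prime_two⟩
  obtain ⟨ω, hω, hord⟩ := exists_generator (F := F)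
  obtain ⟨n, hn, hq⟩ := GLOrder.exists_card_eq_pow (F := F) 2
  obtain ⟨H, hH⟩ : ∃ H, Nat.card F = 2 * H := ⟨2 ^ (n - 1), by
    rw [hq, ← pow_succ']; congr 1; omega⟩
  have hH0 : 0 < H := by
    have := Nat.card_pos (α := F)
    omega
  set N := Nat.card F - 1 with hNdef
  set t : F := (ω : F) ^ 2 with ht
  have hωN : ω ^ N = 1 := by rw [← hord, pow_orderOf_eq_one]
  have htN : t ^ N = 1 := by
    rw [ht, ← pow_mul, mul_comm, pow_mul, ← Units.val_pow_eq_pow_val, hωN, Units.val_one, one_pow]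
  have hωt : (ω : F) = t ^ H := by
    rw [ht, ← pow_mul, show 2 * H = N + 1 by omega, pow_succ, ← Units.val_pow_eq_pow_val, hωN,
      Units.val_one, one_mul]
  have hsq : ∀ r : F, r ≠ 0 → ∃ i : ℕ, r = t ^ i * 1 ∨ r = t ^ i * 1 := by
    intro r hr
    obtain ⟨k, rfl⟩ := exists_pow_eq hω r hr
    exact ⟨H * k, Or.inl (by rw [mul_one, pow_mul, ← hωt])⟩
  have hsurj : Function.Surjective fun P : ℤ[X] => aeval t P := by
    intro r
    by_cases hr : r = 0
    · exact ⟨0, by simp [hr]⟩
    · obtain ⟨i, h | h⟩ := hsq r hr <;> exact ⟨X ^ i, by simp [h]⟩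
  obtain ⟨f, hf, hft⟩ := exists_lift_minpoly (p := 2) t
  have hneg : ∀ x : F, -x = x := fun x => CharTwo.neg_eq x
  have hdgneg : dg (-1 : Fˣ) = 1 := by
    rw [show (-1 : Fˣ) = 1 from Units.ext (by simp [hneg]), map_one]
  have hup0 : upT (0 : F) = 1 := map_one (upHom (F := F))
  have hgenT := closure_target ω hω hsurj
  have haaT : upT (1 : F) * upT 1 = 1 := by rw [← upT_add, CharTwo.add_self_eq_zero, hup0]
  by_cases ht1 : t = 1
  · -- the field with two elements
    have hω1 : ω = 1 := Units.ext (by rw [hωt, ht1, one_pow, Units.val_one])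
    have hN1 : N = 1 := by rw [← hord, hω1, orderOf_one]
    obtain ⟨rels, hlen, he⟩ := presented_equiv ![upT (1 : F), dg ω, wM]
      [gA * gA, gB, gW * gW, (gA * gW) ^ 3]
      (fun r hr => by
        simp only [List.mem_cons, List.not_mem_nil, or_false] at hr
        rcases hr with rfl | rfl | rfl | rfl
        · simpa using haaT
        · simp only [FreeGroup.lift_apply_of, Matrix.cons_val_one, Matrix.cons_val_zero, hω1,
            map_one]
        · simp only [map_mul, FreeGroup.lift_apply_of, Matrix.cons_val_two, Matrix.tail_cons,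
            Matrix.head_cons, wM_sq, hdgneg]
        · simp only [map_pow, map_mul, FreeGroup.lift_apply_of, Matrix.cons_val_zero,
            Matrix.cons_val_two, Matrix.tail_cons, Matrix.head_cons, upT_wM_cube])
      hgenT
      (fun G _ x hgen hx hmap => by
        simp only [List.mem_cons, List.not_mem_nil, or_false, forall_eq_or_imp, forall_eq,
          map_mul, map_pow, FreeGroup.lift_apply_of] at hx
        obtain ⟨e1, e2, e3, e4⟩ := hx
        rw [range_fin_three] at hgen
        have hcj : ∀ k : ℤ, cj (x 0) (x 1) k = x 0 := fun k => by simp [cj, e2]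
        have hc : ∀ i j : ℤ, Commute (cj (x 0) (x 1) i) (cj (x 0) (x 1) j) := fun i j => by
          rw [hcj, hcj]
        have hwf : word (x 0) (x 1) f = 1 := by
          obtain ⟨E, hadd, hX, hE1, hW, -, hker, -⟩ := exists_eval_hom (x 0) (x 1) hc
          rw [hW]
          obtain ⟨A, hA⟩ : X - C (1 : ℤ) ∣ f - C (f.eval 1) := X_sub_C_dvd_sub_C_eval
          have hX1 : E (X - C 1) = 1 := by
            rw [E_sub hadd, C_1, hE1]
            have := hX 1
            rw [mul_one, hE1] at this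
            rw [← this, e2]
            group
          obtain ⟨z, hz⟩ : (2 : ℤ) ∣ f.eval 1 := by
            have : ((f.eval 1 : ℤ) : F) = 0 := by
              rw [← hft, ht1]
              exact (eval₂_at_one (p := f) (algebraMap ℤ F)).symm.trans rfl
            exact_mod_cast (CharP.intCast_eq_zero_iff F 2 _).mp this
          have h2 : E (C (2 : ℤ)) = 1 := by
            have := E_natC hadd hE1 2
            rw [pow_two, e1] at this
            exact_mod_cast this
          rw [show f = A * (X - C 1) + C z * C 2 by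
            rw [← map_mul C, mul_comm z, ← hz, mul_comm A, ← hA]; ring, hadd, hker _ _ hX1,
            hker _ _ h2, one_mul]
        rw [card_SL_eq, ← hNdef, hN1]
        exact bound (x 0) (x 1) (x 2) t (pow_ne_zero 2 ω.ne_zero) hc (by rw [pow_two]; exact e1) hf
          hsurj hwf (by rw [e2]; group) one_pos (by rw [e2, one_pow]) 0 (by rw [zpow_zero]; exact e3)
          (zpow_zero t) e4 1 1 (map_one _) hsq (Or.inl rfl) hgen)
    exact ⟨ω, rels, hω, hlen.trans (by simp), he⟩
  obtain ⟨m, hm⟩ : ∃ m : ℕ, t ^ m = 1 + t := by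
    have h0 : 1 + t ≠ 0 := fun h => ht1 (by
      have := eq_neg_of_add_eq_zero_right h
      rwa [hneg] at this)
    obtain ⟨i, h | h⟩ := hsq _ h0 <;> exact ⟨i, by rw [h, mul_one]⟩
  set K := 3 * N with hK
  have hcjT : ∀ i : ℕ, cj (![upT (1 : F), dg ω, wM] 0) (![upT (1 : F), dg ω, wM] 1) (i : ℤ) =
      upT (t ^ i) := fun i => cj_target ω i
  obtain ⟨rels, hlen, he⟩ := presented_equiv ![upT (1 : F), dg ω, wM]
    [gA * gA, cj gA gB m * (cj gA gB 0 * cj gA gB 1)⁻¹, gB * gW * gB * gW,
      gW * gW * (gB ^ K)⁻¹, (gA * gW) ^ 3 * (word gA gB f)⁻¹]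
    (fun r hr => by
      simp only [List.mem_cons, List.not_mem_nil, or_false] at hr
      rcases hr with rfl | rfl | rfl | rfl | rfl
      · simpa using haaT
      · simp only [map_mul, map_inv, lift_cj, mul_inv_eq_one]
        rw [show (0 : ℤ) = ((0 : ℕ) : ℤ) from rfl, show (1 : ℤ) = ((1 : ℕ) : ℤ) from rfl, hcjT,
          hcjT, hcjT, ← upT_add, hm, pow_zero, pow_one]
      · simp only [map_mul, FreeGroup.lift_apply_of, Matrix.cons_val_one, Matrix.cons_val_two,
          Matrix.tail_cons, Matrix.head_cons, Matrix.cons_val_zero]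
        calc dg ω * wM * dg ω * wM = dg ω * (wM * dg ω * wM⁻¹) * (wM * wM) := by group
          _ = 1 := by rw [wM_dg, mul_inv_cancel, one_mul, wM_sq, hdgneg]
      · simp only [map_mul, map_inv, map_pow, FreeGroup.lift_apply_of, Matrix.cons_val_one,
          Matrix.cons_val_two, Matrix.tail_cons, Matrix.head_cons, Matrix.cons_val_zero]
        rw [wM_sq, hdgneg, ← map_pow, hK, mul_comm, pow_mul, hωN, one_pow, map_one, inv_one,
          one_mul]
      · simp only [map_mul, map_inv, map_pow, lift_word, FreeGroup.lift_apply_of,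
          Matrix.cons_val_zero, Matrix.cons_val_one, Matrix.cons_val_two, Matrix.tail_cons,
          Matrix.head_cons, upT_wM_cube, one_mul, inv_eq_one]
        rw [word_target, ← ht, hft, hup0])
    hgenT
    (fun G _ x hgen hx hmap => by
      simp only [List.mem_cons, List.not_mem_nil, or_false, forall_eq_or_imp, forall_eq, map_mul,
        map_inv, map_pow, lift_word, lift_cj, FreeGroup.lift_apply_of, mul_inv_eq_one] at hx
      obtain ⟨e1, e2, e3, e4, e5⟩ := hx
      obtain ⟨hc, hwf⟩ := two_rels (x 0) (x 1) (x 2) m K f e1 e2 e3 e4 e5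
      rw [hwf] at e5
      obtain ⟨E, hadd, hX, hE1, hW, -, hker, -⟩ := exists_eval_hom (x 0) (x 1) hc
      obtain ⟨u, hu, huadd⟩ := exists_add_hom E hadd hker
        ((E_natC hadd hE1 2).trans (by rw [pow_two]; exact e1)) hf ((hW f).symm.trans hwf) hsurj
      rw [range_fin_three] at hgen
      set c := x 1 ^ N with hc'
      have hca : Commute c (x 0) := by
        have h := E_conj_pow hX N 1
        rw [mul_one, hE1, ← hc', ← hu (X ^ N), map_pow, aeval_X, htN,
          ← map_one (aeval t : ℤ[X] →ₐ[ℤ] F), hu, hE1] at h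
        exact mul_inv_eq_iff_eq_mul.mp h
      have hcb : Commute c (x 1) := Commute.pow_self _ _
      have hwK : x 2 * x 2 = (x 1 ^ N) ^ 3 := by rw [← pow_mul, mul_comm]; exact e4
      have hwbw : x 2 * x 1 * (x 2)⁻¹ = (x 1)⁻¹ * ((x 2) * x 2)⁻¹ := by
        calc x 2 * x 1 * (x 2)⁻¹ = (x 1)⁻¹ * (x 1 * x 2 * x 1 * x 2) * ((x 2) * x 2)⁻¹ := by group
          _ = _ := by rw [e3, mul_one]
      have hwc : x 2 * c * (x 2)⁻¹ = c⁻¹ * (c ^ (3 * N))⁻¹ := by
        rw [hc', ← conj_pow, hwbw, hwK, ← pow_mul, ← _root_.mul_inv_rev, inv_pow, ← pow_succ,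
          ← _root_.mul_inv_rev]
        simp only [← pow_mul, ← pow_add]
        congr 2
        ring
      have hcwaw : Commute c (x 2 * x 0 * (x 2)⁻¹) := by
        have hwc' : (x 2)⁻¹ * c * x 2 = c⁻¹ * (c ^ (3 * N))⁻¹ := by
          calc (x 2)⁻¹ * c * x 2 = (x 2 * x 2)⁻¹ * (x 2 * c * (x 2)⁻¹) * (x 2 * x 2) := by group
            _ = _ := by rw [hwc, hwK, ← hc']; group
        have h1 : Commute ((x 2)⁻¹ * c * x 2) (x 0) := by
          rw [hwc']
          exact hca.inv_left.mul_left (hca.pow_left _).inv_left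
        have h2 := h1.map (MulAut.conj (x 2))
        simp only [MulAut.conj_apply] at h2
        rwa [show x 2 * ((x 2)⁻¹ * c * x 2) * (x 2)⁻¹ = c by group] at h2
      have hcw : Commute c (x 2) := by
        have h2 : Commute c (x 2 * x 2) := by rw [hwK, ← hc']; exact Commute.self_pow _ _
        have h3 : x 0 * (x 2 * x 0 * (x 2)⁻¹) * ((x 2 * x 2) * x 0 * (x 2 * x 2)⁻¹) *
            ((x 2 * x 2) * x 2) = 1 := by rw [← e5, pow_three]; group
        have h4 := eq_inv_of_mul_eq_one_right h3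
        have h5 : Commute c ((x 2 * x 2) * x 2) := by
          rw [h4]
          exact ((hca.mul_right hcwaw).mul_right ((h2.mul_right hca).mul_right h2.inv_right)).inv_right
        have h6 := h2.inv_right.mul_right h5
        rwa [inv_mul_cancel_left] at h6
      have hcen : c ∈ Subgroup.center G := by
        rw [← Subgroup.centralizer_univ, ← Subgroup.coe_top, ← hgen, Subgroup.centralizer_closure,
          Subgroup.mem_centralizer_iff]
        rintro y (rfl | rfl | rfl)
        exacts [hca.eq.symm, hcb.eq.symm, hcw.eq.symm]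
      have hc32 : c ^ (3 * N + 2) = 1 := by
        rw [hcw.eq.symm, mul_inv_cancel_right] at hwc
        rw [show 3 * N + 2 = (3 * N + 1) + 1 by omega, pow_succ, pow_succ]
        calc c ^ (3 * N) * c * c = c ^ (3 * N) * c * (c⁻¹ * (c ^ (3 * N))⁻¹) := by rw [← hwc]
          _ = 1 := by group
      have hzn : (Subgroup.zpowers c).Normal := ⟨fun z hz g' => by
        have h := Subgroup.mem_center_iff.mp (Subgroup.zpowers_le.mpr hcen hz) g'
        rw [h, mul_inv_cancel_right]
        exact hz⟩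
      -- the quotient
      set q := QuotientGroup.mk' (Subgroup.zpowers c) with hq'
      have hqc : q (x 1) ^ N = 1 := by
        rw [← map_pow]
        exact (QuotientGroup.eq_one_iff _).mpr (Subgroup.mem_zpowers c)
      have hqw : q (x 2) * q (x 2) = 1 := by rw [← map_mul, hwK, map_pow, map_pow, hqc, one_pow]
      have hcq : ∀ i j : ℤ, Commute (cj (q (x 0)) (q (x 1)) i) (cj (q (x 0)) (q (x 1)) j) := by
        intro i j
        have := (hc i j).map q
        simpa [cj] using this
      have hgenq : Subgroup.closure ({q (x 0), q (x 1), q (x 2)} : Set _) = ⊤ := by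
        rw [show ({q (x 0), q (x 1), q (x 2)} : Set _) = q '' {x 0, x 1, x 2} by
          simp [Set.image_insert_eq], ← MonoidHom.map_closure, hgen, ← MonoidHom.range_eq_map]
        exact MonoidHom.range_eq_top.mpr (QuotientGroup.mk'_surjective _)
      obtain ⟨hfq, hcardq⟩ := bound (q (x 0)) (q (x 1)) (q (x 2)) t (pow_ne_zero 2 ω.ne_zero) hcq
        (by rw [← map_pow, pow_two, e1, map_one]) hf hsurj (by rw [← map_word, hwf, map_one])
        (by rw [← map_inv, ← map_mul, ← map_mul, hwbw, map_mul, map_inv, map_inv, map_mul, hqw,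
          inv_one, mul_one])
        (M := N) (by have := orderOf_pos ω; omega) hqc 0 (by rw [zpow_zero]; exact hqw) (zpow_zero t)
        (by rw [← map_mul, ← map_pow, e5, map_one]) 1 1 (map_one _) hsq (Or.inl rfl) hgenq
      have hzfin : Finite (Subgroup.zpowers c) :=
        IsOfFinOrder.finite_zpowers (isOfFinOrder_iff_pow_eq_one.mpr ⟨_, by omega, hc32⟩)
      have hG : Finite G := Finite.of_subgroup_quotient (Subgroup.zpowers c)
      refine ⟨hG, ?_⟩
      -- the homomorphism to SL(2, F)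
      suffices hc1 : c = 1 by
        have hinj : Function.Injective q := by
          rw [← MonoidHom.ker_eq_bot_iff, hq', QuotientGroup.ker_mk', hc1, Subgroup.zpowers_one_eq_bot]
        rw [card_SL_eq]
        exact (Nat.card_le_card_of_injective q hinj).trans hcardq
      -- the group is perfect
      have hperf : commutator G = ⊤ := by
        rw [eq_top_iff, ← hgen, Subgroup.closure_le]
        have key : ∀ {A : Type} [CommGroup A] (φ : G →* A), φ (x 0) = 1 ∧ φ (x 1) = 1 ∧ φ (x 2) = 1 := by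
          intro A _ φ
          have f0 : ∀ i : ℤ, φ (cj (x 0) (x 1) i) = φ (x 0) := fun i => by
            simp [cj, mul_inv_cancel_comm]
          have ha0 : φ (x 0) = 1 := by
            have h := congrArg φ e2
            rw [map_mul, f0, f0, f0] at h
            exact left_eq_mul.mp h
          have h3 : φ (x 2) ^ 3 = 1 := by
            have h := congrArg φ e5
            rwa [map_one, map_pow, map_mul, ha0, one_mul] at h
          have h2 : φ (x 2) ^ 2 = φ (x 1) ^ (3 * N) := by
            rw [← map_pow, ← map_pow, pow_two, e4]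
          have hb2 : φ (x 1) ^ 2 * φ (x 2) ^ 2 = 1 := by
            have h := congrArg φ e3
            simp only [map_mul, map_one] at h
            rw [pow_two, pow_two, ← h]
            ac_rfl
          have hA : φ (x 1) ^ (3 * N + 2) = 1 := by rw [pow_add, ← h2, mul_comm, hb2]
          have hB : φ (x 1) ^ (9 * N) = 1 := by
            rw [show 9 * N = (3 * N) * 3 by ring, pow_mul, ← h2, ← pow_mul, mul_comm, pow_mul, h3,
              one_pow]
          have hco : Nat.Coprime (3 * N + 2) (9 * N) := by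
            refine Nat.Coprime.mul_right (k := 3 * N + 2) (m := 9) (n := N) ?_ ?_
            · rw [show (9 : ℕ) = 3 ^ 2 by norm_num]
              refine Nat.Coprime.pow_right _ ?_
              rw [Nat.coprime_comm, Nat.prime_three.coprime_iff_not_dvd]
              omega
            · rw [Nat.coprime_mul_right_add_left, Nat.prime_two.coprime_iff_not_dvd]
              omega
          have hb1 : φ (x 1) = 1 := by
            have h := pow_gcd_eq_one.mpr ⟨hA, hB⟩
            rwa [hco, pow_one] at h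
          refine ⟨ha0, hb1, ?_⟩
          rw [hb1, one_pow] at h2
          calc φ (x 2) = φ (x 2) * φ (x 2) ^ 2 := by rw [h2, mul_one]
            _ = 1 := by rw [← pow_succ', h3]
        obtain ⟨k0, k1, k2⟩ := key (Abelianization.of : G →* Abelianization G)
        rw [← Abelianization.ker_of]
        rintro y (rfl | rfl | rfl) <;> assumption
      by_contra hc1
      obtain ⟨r, hr, hrd⟩ := Nat.exists_prime_and_dvd
        (fun h => hc1 (orderOf_eq_one_iff.mp h) : orderOf c ≠ 1)
      haveI : Fact r.Prime := ⟨hr⟩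
      have hr2 : r ≠ 2 := by
        rintro rfl
        have := (hrd.trans (orderOf_dvd_of_pow_eq_one hc32))
        omega
      obtain ⟨z, hz⟩ := exists_prime_orderOf_dvd_card' (G := Subgroup.zpowers c) r
        (by rwa [Nat.card_zpowers])
      obtain ⟨R, hzR⟩ := (IsPGroup.of_card (n := 1) (p := r) (G := Subgroup.zpowers (z : G))
        (by rw [pow_one, Nat.card_zpowers, Subgroup.orderOf_coe, hz])).exists_le_sylow
      -- the Sylow subgroup is abelian
      have hRc : IsMulCommutative (R : Subgroup G) := by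
        obtain ⟨φ, hφ, hφx⟩ := hmap
        have hφc : φ c = 1 := by
          rw [hc', map_pow, hφx]
          show dg ω ^ N = 1
          rw [← map_pow, hωN, map_one]
        have hle : Subgroup.zpowers c ≤ φ.ker := Subgroup.zpowers_le.mpr (MonoidHom.mem_ker.mpr hφc)
        have hsurjq : Function.Surjective (QuotientGroup.lift (Subgroup.zpowers c) φ hle) := fun y => by
          obtain ⟨z, rfl⟩ := hφ y
          exact ⟨z, rfl⟩
        have hbij := hsurjq.bijective_of_nat_card_le (by rw [card_SL_eq]; exact hcardq)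
        have hker : φ.ker ≤ Subgroup.center G := by
          intro z hz
          refine Subgroup.zpowers_le.mpr hcen ((QuotientGroup.eq_one_iff z).mp (hbij.1 ?_))
          rw [map_one]
          exact hz
        obtain ⟨S, hS⟩ := (R.2.map φ).exists_le_sylow
        haveI := GLOrder.isCyclic_sylow_SL_two (F := F) 2 r hr2 hr2 S
        haveI : IsCyclic ((R : Subgroup G).map φ) :=
          isCyclic_of_injective (Subgroup.inclusion hS) (Subgroup.inclusion_injective hS)
        refine ⟨⟨commutative_of_cyclic_center_quotient (φ.subgroupMap (R : Subgroup G)) fun z hz => ?_⟩⟩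
        rw [Subgroup.mem_center_iff]
        intro y
        exact Subtype.ext (Subgroup.mem_center_iff.mp
          (hker (MonoidHom.mem_ker.mpr (congrArg Subtype.val (MonoidHom.mem_ker.mp hz)))) y)
      have h1 := Transfer.inf_commutator_inf_center_eq_bot (R : Subgroup G) hRc R.card_coprime_index
      have h2 : (z : G) ∈ (R : Subgroup G) ⊓ commutator G ⊓ Subgroup.center G :=
        ⟨⟨hzR (Subgroup.mem_zpowers _), hperf ▸ Subgroup.mem_top _⟩,
          Subgroup.zpowers_le.mpr hcen z.2⟩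
      rw [h1, Subgroup.mem_bot] at h2
      exact hr.ne_one (by rw [← hz, ← Subgroup.orderOf_coe, h2, orderOf_one]))
  exact ⟨ω, rels, hω, hlen.trans (by simp), he⟩

end presented

end Cfsg.Agent.PSL2.Pres
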