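import Cfsg.Agent.Lib.AltPresent.Final

/-
Presentations with prescribed generators.

Main results (namespace `Cfsg.Agent.PSL2.PresTools`): `IsPres`, `isPres_of_list`, `IsPres.dummy`,
`IsPres.quotient`, `IsPres.two`, `hasPres_perm`, `exists_perm_gens`, `exists_gens_fixing`.
-/

set_option autoImplicit false
set_option linter.unusedSectionVars false

namespace Cfsg.Agent.PSL2.PresTools

variable {T : Type*} [Group T]

/-- A presentation with at most `c` relations on the generators `g`. -/
def IsPres {k : ℕ} (g : Fin k → T) (c : ℕ) : Prop :=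
  ∃ rels : Finset (FreeGroup (Fin k)), rels.card ≤ c ∧
    ∃ e : PresentedGroup (↑rels : Set (FreeGroup (Fin k))) ≃* T, ∀ i, e (PresentedGroup.of i) = g i

theorem IsPres.nonempty {k c : ℕ} {g : Fin k → T} (h : IsPres g c) {c' : ℕ} (hc : c ≤ c') :
    ∃ rels : Finset (FreeGroup (Fin k)), rels.card ≤ c' ∧
      Nonempty (PresentedGroup (↑rels : Set (FreeGroup (Fin k))) ≃* T) := by
  obtain ⟨rels, hr, e, -⟩ := h
  exact ⟨rels, hr.trans hc, ⟨e⟩⟩

theorem lift_comp {α G H : Type*} [Group G] [Group H] (f : G →* H) (w : α → G) (r : FreeGroup α) :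
    FreeGroup.lift (fun i => f (w i)) r = f (FreeGroup.lift w r) :=
  DFunLike.congr_fun (FreeGroup.ext_hom (FreeGroup.lift fun i => f (w i)) (f.comp (FreeGroup.lift w))
    fun i => by simp) r

theorem lift_map {α β G : Type*} [Group G] (ι : α → β) (x : β → G) (r : FreeGroup α) :
    FreeGroup.lift x (FreeGroup.map ι r) = FreeGroup.lift (x ∘ ι) r :=
  DFunLike.congr_fun (FreeGroup.ext_hom ((FreeGroup.lift x).comp (FreeGroup.map ι))
    (FreeGroup.lift (x ∘ ι)) fun i => by simp) r

/-- A list of relations presents `T` if they hold in `T` and `T` maps onto every other solution. -/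
theorem isPres_of_list {k : ℕ} (g : Fin k → T) (l : List (FreeGroup (Fin k)))
    (hsat : ∀ r ∈ l, FreeGroup.lift g r = 1) (hgen : Subgroup.closure (Set.range g) = ⊤)
    (hhom : ∀ (G : Type) [Group G] (x : Fin k → G), (∀ r ∈ l, FreeGroup.lift x r = 1) →
      ∃ f : T →* G, ∀ i, f (g i) = x i) : IsPres g l.length := by
  classical
  refine ⟨l.toFinset, l.toFinset_card_le, ?_⟩
  have hs : ∀ r ∈ (↑l.toFinset : Set (FreeGroup (Fin k))), FreeGroup.lift g r = 1 :=
    fun r hr => hsat r (List.mem_toFinset.mp hr)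
  obtain ⟨f, hf⟩ := hhom _ (PresentedGroup.of (rels := (↑l.toFinset : Set (FreeGroup (Fin k)))))
    fun r hr => by
      have hl : FreeGroup.lift (PresentedGroup.of (rels := (↑l.toFinset : Set (FreeGroup (Fin k))))) =
          PresentedGroup.mk _ := FreeGroup.ext_hom _ _ fun i => by rw [FreeGroup.lift_apply_of]; rfl
      rw [hl]; exact PresentedGroup.one_of_mem (List.mem_toFinset.mpr hr)
  let φ := PresentedGroup.toGroup hs
  have h1 : f.comp φ = MonoidHom.id _ := PresentedGroup.ext fun i => by
    show f (φ (PresentedGroup.of i)) = _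
    rw [PresentedGroup.toGroup.of hs, hf]; rfl
  have h2 : φ.comp f = MonoidHom.id T := by
    refine MonoidHom.eq_of_eqOn_dense hgen ?_
    rintro _ ⟨i, rfl⟩
    show φ (f (g i)) = g i
    rw [hf]; exact PresentedGroup.toGroup.of hs
  exact ⟨MonoidHom.toMulEquiv φ f h1 h2, fun i => PresentedGroup.toGroup.of hs⟩

theorem IsPres.closure_range {k c : ℕ} {g : Fin k → T} (h : IsPres g c) :
    Subgroup.closure (Set.range g) = ⊤ := by
  obtain ⟨rels, -, e, he⟩ := h
  have := congrArg (Subgroup.map e.toMonoidHom) (PresentedGroup.closure_range_of (↑rels : Set (FreeGroup (Fin k))))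
  rw [MonoidHom.map_closure, ← Set.range_comp, Subgroup.map_top_of_surjective _ e.surjective] at this
  rw [← this]
  exact congrArg _ (congrArg Set.range (funext fun i => (he i).symm))

theorem exists_word {k : ℕ} {g : Fin k → T} (hgen : Subgroup.closure (Set.range g) = ⊤) (t : T) :
    ∃ w : FreeGroup (Fin k), FreeGroup.lift g w = t :=
  MonoidHom.mem_range.mp (by rw [FreeGroup.range_lift_eq_closure, hgen]; trivial)

theorem IsPres.exists_list {k c : ℕ} {g : Fin k → T} (h : IsPres g c) :
    ∃ l : List (FreeGroup (Fin k)), l.length ≤ c ∧ (∀ r ∈ l, FreeGroup.lift g r = 1) ∧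
      ∀ (G : Type) [Group G] (x : Fin k → G), (∀ r ∈ l, FreeGroup.lift x r = 1) →
        ∃ f : T →* G, ∀ i, f (g i) = x i := by
  obtain ⟨rels, hc, e, he⟩ := h
  refine ⟨rels.toList, by rwa [Finset.length_toList], fun r hr => ?_, fun G _ x hx => ?_⟩
  · have hl : FreeGroup.lift g r = e (PresentedGroup.mk _ r) :=
      DFunLike.congr_fun (FreeGroup.ext_hom (FreeGroup.lift g) (e.toMonoidHom.comp (PresentedGroup.mk _))
        fun i => by rw [FreeGroup.lift_apply_of]; exact (he i).symm) r
    rw [hl, PresentedGroup.one_of_mem (Finset.mem_coe.mpr (Finset.mem_toList.mp hr)), map_one]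
  · have hs : ∀ r ∈ (↑rels : Set (FreeGroup (Fin k))), FreeGroup.lift x r = 1 :=
      fun r hr => hx r (Finset.mem_toList.mpr hr)
    exact ⟨(PresentedGroup.toGroup hs).comp e.symm.toMonoidHom, fun i => by
      show PresentedGroup.toGroup hs (e.symm (g i)) = x i
      rw [← he i, e.symm_apply_apply]
      exact PresentedGroup.toGroup.of hs⟩

/-- An additional trivial generator. -/
theorem IsPres.dummy {k c : ℕ} {g : Fin k → T} (h : IsPres g c) :
    IsPres (Fin.snoc (α := fun _ => T) g 1) (c + 1) := by
  have hgen := h.closure_range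
  obtain ⟨l, hl, hsat, hhom⟩ := h.exists_list
  have hc : (Fin.snoc (α := fun _ => T) g 1) ∘ Fin.castSucc = g := funext fun i => by simp
  have hp := isPres_of_list (Fin.snoc (α := fun _ => T) g 1)
    (FreeGroup.of (Fin.last k) :: l.map (FreeGroup.map Fin.castSucc))
    (fun r hr => by
      rcases List.mem_cons.mp hr with rfl | hr
      · simp
      · obtain ⟨r', hr', rfl⟩ := List.mem_map.mp hr
        rw [lift_map, hc, hsat r' hr'])
    (eq_top_iff.mpr (by
      rw [← hgen]
      exact Subgroup.closure_mono (Set.range_subset_iff.mpr fun i => ⟨i.castSucc, by simp⟩)))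
    fun G _ x hx => by
      obtain ⟨f, hf⟩ := hhom G (x ∘ Fin.castSucc) fun r hr => by
        rw [← lift_map]
        exact hx _ (List.mem_cons_of_mem _ (List.mem_map_of_mem hr))
      refine ⟨f, fun i => Fin.lastCases ?_ (fun j => ?_) i⟩
      · have := hx _ (List.mem_cons_self ..)
        rw [FreeGroup.lift_apply_of] at this
        simp [this]
      · simpa using hf j
  obtain ⟨rels, hc', he⟩ := hp
  exact ⟨rels, hc'.trans (by simp; omega), he⟩

/-- Killing one element of the kernel generating it. -/
theorem IsPres.quotient {k c : ℕ} {g : Fin k → T} (h : IsPres g c) (N : Subgroup T) [N.Normal] (z : T)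
    (hz : z ∈ N) (hN : N ≤ Subgroup.normalClosure {z}) :
    IsPres (fun i => (QuotientGroup.mk' N) (g i)) (c + 1) := by
  have hgen := h.closure_range
  obtain ⟨w, hw⟩ := exists_word hgen z
  obtain ⟨l, hl, hsat, hhom⟩ := h.exists_list
  have hp := isPres_of_list (fun i => (QuotientGroup.mk' N) (g i)) (w :: l)
    (fun r hr => by
      rw [lift_comp (QuotientGroup.mk' N) g]
      rcases List.mem_cons.mp hr with rfl | hr
      · rw [hw]; exact (QuotientGroup.eq_one_iff z).mpr hz
      · rw [hsat r hr, map_one])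
    (by
      rw [show Set.range (fun i => (QuotientGroup.mk' N) (g i)) = (QuotientGroup.mk' N) '' Set.range g from
        Set.range_comp _ _, ← MonoidHom.map_closure, hgen]
      exact Subgroup.map_top_of_surjective _ (QuotientGroup.mk'_surjective N))
    fun G _ x hx => by
      obtain ⟨f, hf⟩ := hhom G x fun r hr => hx r (List.mem_cons_of_mem _ hr)
      have hfz : f z = 1 := by
        rw [← hw, ← lift_comp f g, funext hf]
        exact hx w (List.mem_cons_self ..)
      refine ⟨QuotientGroup.lift N f (hN.trans (Subgroup.normalClosure_le_normal ?_)), fun i => ?_⟩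
      · simpa using hfz
      · exact (QuotientGroup.lift_mk' N _ (g i)).trans (hf i)
  obtain ⟨rels, hc', he⟩ := hp
  exact ⟨rels, hc'.trans (by simp; omega), he⟩

/-- Two given generators. -/
theorem IsPres.two [Finite T] {k c : ℕ} {g : Fin k → T} (h : IsPres g c) (a b : T)
    (hab : Subgroup.closure ({a, b} : Set T) = ⊤) : IsPres ![a, b] (c + 2) := by
  classical
  obtain ⟨rels, hc, e, -⟩ := h
  obtain ⟨rels', hc', e', he'⟩ := AltPresent.exists_rels_of_gens rels e ![a, b]
    (by rw [AltPresent.pair_range]; exact hab) (fun _ => none) (fun j i hji => by simp at hji)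
    (fun j j' i h1 _ => by simp at h1)
  have h0 : (Finset.univ.filter fun _ : Fin 2 => (none : Option (Fin k)) = none).card = 2 := by simp
  rw [h0] at hc'
  exact ⟨rels', hc'.trans (by omega), e', he'⟩

/-- The symmetric group on two generators, with eight relations. -/
theorem hasPres_perm (n : ℕ) : AltPresent.HasPres (Equiv.Perm (Fin n)) := by
  rcases Nat.lt_or_ge n 5 with hn | hn
  · exact (AltPresent.hasPres_small hn).1
  · exact (AltPresent.hasPresThree n hn).1.hasPres

theorem exists_isPres_perm (n : ℕ) : ∃ g : Fin 2 → Equiv.Perm (Fin n), IsPres g 8 := by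
  obtain ⟨rels, hc, ⟨e⟩⟩ := hasPres_perm n
  exact ⟨fun i => e (PresentedGroup.of i), rels, hc, e, fun i => rfl⟩

/-- Symmetric groups are generated by at most two elements, none in the trivial case. -/
theorem exists_perm_gens (α : Type*) [Fintype α] [DecidableEq α] :
    ∃ L : List (Equiv.Perm α), L.length ≤ 2 ∧ (Fintype.card α ≤ 1 → L = []) ∧
      Subgroup.closure {π | π ∈ L} = ⊤ := by
  by_cases h : Fintype.card α ≤ 1
  · haveI : Subsingleton α := Fintype.card_le_one_iff_subsingleton.mp h
    exact ⟨[], by simp, fun _ => rfl, eq_top_iff.mpr fun π _ => by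
      rw [Subsingleton.elim π 1]; exact one_mem _⟩
  · obtain ⟨g, hg⟩ := exists_isPres_perm (Fintype.card α)
    let e := (Equiv.permCongrHom (Fintype.equivFin α).symm).toMonoidHom
    refine ⟨[e (g 0), e (g 1)], by simp, fun h' => absurd h' h, ?_⟩
    have hset : {π | π ∈ [e (g 0), e (g 1)]} = e '' Set.range g := by
      rw [AltPresent.pair_range, Set.image_pair]
      ext π; simp
    rw [hset, ← MonoidHom.map_closure, hg.closure_range]
    exact Subgroup.map_top_of_surjective _ (Equiv.permCongrHom _).surjective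

/-- Generators for the permutations fixing the points of a set. -/
theorem exists_gens_fixing {α : Type*} [Fintype α] [DecidableEq α] (S : Finset α) :
    ∃ L : List (Equiv.Perm α), L.length ≤ 2 ∧ (Fintype.card α ≤ S.card + 1 → L = []) ∧
      (∀ π ∈ L, ∀ a ∈ S, π a = a) ∧
      ∀ π : Equiv.Perm α, (∀ a ∈ S, π a = a) → π ∈ Subgroup.closure {σ | σ ∈ L} := by
  classical
  obtain ⟨L, hL, hL0, hgen⟩ := exists_perm_gens {x // x ∉ S}
  let ι : Equiv.Perm {x // x ∉ S} →* Equiv.Perm α := Equiv.Perm.ofSubtype
  refine ⟨L.map ι, by simpa using hL, fun hc => ?_, fun π hπ a ha => ?_, fun π hπ => ?_⟩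
  · rw [hL0 ?_, List.map_nil]
    rw [Fintype.card_subtype_compl, Fintype.card_coe]
    omega
  · obtain ⟨σ, -, rfl⟩ := List.mem_map.mp hπ
    exact Equiv.Perm.ofSubtype_apply_of_not_mem σ (by simpa using ha)
  · have hiff : ∀ x, π x ∉ S ↔ x ∉ S := fun x => by
      refine not_congr ⟨fun h => ?_, fun h => by rwa [hπ x h]⟩
      have := π.injective (hπ _ h)
      rwa [this] at h
    have hmove : ∀ x, π x ≠ x → x ∉ S := fun x hx hS => hx (hπ x hS)
    rw [← Equiv.Perm.ofSubtype_subtypePerm hiff hmove]
    have himg : {σ | σ ∈ L.map ι} = ι '' {σ | σ ∈ L} := by ext σ; simp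
    rw [himg, ← MonoidHom.map_closure, hgen]
    exact ⟨_, trivial, rfl⟩

end Cfsg.Agent.PSL2.PresTools
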