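import Cfsg.Agent.Lib.PSL2.SpFourPres
import Cfsg.Prelude.Def_Classical

/-
The presentation of `Sp₄(q)` and `PSp₄(q)`: six generators, thirty and thirty-one relations.

Main result (namespace `Cfsg.Agent.PSL2.SpFour`): `exists_pres`.
-/

set_option autoImplicit false
set_option linter.unusedSectionVars false
set_option linter.dupNamespace false

open Polynomial
open scoped MatrixGroups

namespace Cfsg.Agent.PSL2.SpFour

open Cfsg.Agent.PSL2.Pres (dg wM word word_target closure_target exists_pres_odd exists_pres_two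
  map_word exists_pow_eq gA gB gW)

variable {F : Type*} [Field F] [Finite F]

theorem exists_SL : ∃ (ω : Fˣ) (rels : Finset (FreeGroup (Fin 3))),
    (∀ x : Fˣ, x ∈ Subgroup.zpowers ω) ∧ rels.card ≤ 9 ∧
      ∃ e : PresentedGroup (↑rels : Set (FreeGroup (Fin 3))) ≃* SL(2, F),
        ∀ i, e (PresentedGroup.of i) = ![upT (1 : F), dg ω, wM] i := by
  obtain ⟨p, hp⟩ := CharP.exists F
  haveI : Fact p.Prime := ⟨CharP.char_is_prime F p⟩
  by_cases hp2 : p = 2
  · subst hp2
    obtain ⟨ω, rels, hω, hlen, he⟩ := exists_pres_two (F := F)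
    exact ⟨ω, rels, hω, hlen.trans (by norm_num), he⟩
  · exact (exists_pres_odd (F := F) hp2).1

theorem aeval_surjective {ω : Fˣ} (hω : ∀ x : Fˣ, x ∈ Subgroup.zpowers ω) :
    Function.Surjective fun P : ℤ[X] => aeval ((ω : F) ^ 2) P := by
  intro r
  refine of_squares (fun r => ∃ P : ℤ[X], aeval ((ω : F) ^ 2) P = r) ⟨0, map_zero _⟩ ?_ ?_ r
  · rintro _ _ ⟨P, rfl⟩ ⟨Q, rfl⟩
    exact ⟨P + Q, map_add _ _ _⟩
  · intro z
    obtain ⟨n, hn⟩ := exists_pow_eq hω (z : F) z.ne_zero
    exact ⟨X ^ n, by rw [map_pow, aeval_X, ← hn, ← pow_mul, ← pow_mul, mul_comm]⟩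

/-- The inclusion of the first triple. -/
def ι₁ : Fin 3 → Fin 6 := ![0, 1, 2]

/-- The inclusion of the second triple. -/
def ι₂ : Fin 3 → Fin 6 := ![3, 4, 5]

theorem lift_map {G : Type*} [Group G] (x : Fin 6 → G) (ι : Fin 3 → Fin 6) (r : FreeGroup (Fin 3)) :
    FreeGroup.lift x (FreeGroup.map ι r) = FreeGroup.lift (x ∘ ι) r :=
  DFunLike.congr_fun (FreeGroup.ext_hom ((FreeGroup.lift x).comp (FreeGroup.map ι))
    (FreeGroup.lift (x ∘ ι)) fun i => by simp) r

variable (F)

/-- The six generators. -/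
def gens (ω : Fˣ) : Fin 6 → Matrix.symplecticGroup (Fin 2) F :=
  ![E₁ (upT 1), E₁ (dg ω), E₁ wM, E₂ (upT 1), E₂ (dg ω), E₂ wM]

variable {F}

/-- The twelve mixed relations. -/
noncomputable def mixed (g₁ g₂ : ℤ[X]) : List (FreeGroup (Fin 6)) :=
  let a := (FreeGroup.of 0 : FreeGroup (Fin 6))
  let h := (FreeGroup.of 1 : FreeGroup (Fin 6))
  let u := (FreeGroup.of 2 : FreeGroup (Fin 6))
  let b := (FreeGroup.of 3 : FreeGroup (Fin 6))
  let k := (FreeGroup.of 4 : FreeGroup (Fin 6))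
  let v := (FreeGroup.of 5 : FreeGroup (Fin 6))
  let w₁ := FreeGroup.map ι₁ (word gA gB g₁)
  let w₂ := FreeGroup.map ι₂ (word gA gB g₂)
  [(h * k) * (k * h)⁻¹,
    (h * b) * (w₂ * h)⁻¹,
    (k * a) * (w₁ * k)⁻¹,
    (u * k) * (h * k * u)⁻¹,
    (v * h) * (h * (k * k) * v)⁻¹,
    (u * (v * a * v⁻¹)) * ((v * a ^ (-1 : ℤ) * v⁻¹) * u)⁻¹,
    (v * (u * b * u⁻¹)) * ((u * b * u⁻¹) * v)⁻¹,
    (u * v * u * v) * (v * u * v * u)⁻¹,
    (b * (u * b * u⁻¹)) * ((u * b * u⁻¹) * b)⁻¹,
    (a * (u * b * u⁻¹)) * ((u * b * u⁻¹) * a)⁻¹,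
    (a * b) * (b * a * (v * a ^ (-1 : ℤ) * v⁻¹) * (u * b ^ (-1 : ℤ) * u⁻¹))⁻¹,
    (a * (v * a * v⁻¹)) * ((v * a * v⁻¹) * a * (u * b ^ (-2 : ℤ) * u⁻¹))⁻¹]

theorem mixed_length (g₁ g₂ : ℤ[X]) : (mixed g₁ g₂).length = 12 := rfl

theorem upT_int (z : ℤ) : upT (1 : F) ^ z = upT (z : F) := by rw [Pres.upT_zpow, mul_one]

variable {G : Type*} [Group G]

theorem rels_of_mixed {ω : Fˣ} {A B : SL(2, F) →* G} (x : Fin 6 → G)
    (hA : ∀ i, x (ι₁ i) = A (![upT (1 : F), dg ω, wM] i))
    (hB : ∀ i, x (ι₂ i) = B (![upT (1 : F), dg ω, wM] i)) {g₁ g₂ : ℤ[X]}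
    (hg₁ : aeval ((ω : F) ^ 2) g₁ = ((ω⁻¹ : Fˣ) : F))
    (hg₂ : aeval ((ω : F) ^ 2) g₂ = ((ω⁻¹ : Fˣ) : F) ^ 2) :
    (∀ r ∈ mixed g₁ g₂, FreeGroup.lift x r = 1) ↔ Rels ω A B := by
  have e0 : x 0 = A (upT 1) := hA 0
  have e1 : x 1 = A (dg ω) := hA 1
  have e2 : x 2 = A wM := hA 2
  have e3 : x 3 = B (upT 1) := hB 0
  have e4 : x 4 = B (dg ω) := hB 1
  have e5 : x 5 = B wM := hB 2
  have l₁ : FreeGroup.lift x (FreeGroup.map ι₁ (word gA gB g₁)) = A (upT ((ω⁻¹ : Fˣ) : F)) := by
    rw [lift_map, Pres.lift_word, ← hg₁, ← word_target, map_word]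
    show word (x (ι₁ 0)) (x (ι₁ 1)) g₁ = _
    rw [hA, hA]; rfl
  have l₂ : FreeGroup.lift x (FreeGroup.map ι₂ (word gA gB g₂)) =
      B (upT (((ω⁻¹ : Fˣ) : F) ^ 2)) := by
    rw [lift_map, Pres.lift_word, ← hg₂, ← word_target, map_word]
    show word (x (ι₂ 0)) (x (ι₂ 1)) g₂ = _
    rw [hB, hB]; rfl
  simp only [mixed, List.mem_cons, List.not_mem_nil, or_false, forall_eq_or_imp, forall_eq,
    map_mul, map_inv, map_zpow, FreeGroup.lift_apply_of, mul_inv_eq_one, l₁, l₂, e0, e1, e2, e3,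
    e4, e5]
  simp only [← map_zpow, upT_int, ← map_inv, Int.cast_neg, Int.cast_one, Int.cast_ofNat]
  exact ⟨fun ⟨h1, h2, h3, h4, h5, h6, h7, h8, h9, h10, h11, h12⟩ =>
      ⟨h1, h2, h3, h4, h5, h6, h7, h8, h9, h10, h11, h12⟩,
    fun h => ⟨h.torus, h.one_two, h.two_one, h.wa_torus, h.wb_torus, h.fixC, h.fixD, h.braid,
      h.commBD, h.commAD, h.commAB, h.commAC⟩⟩

theorem target_rels (ω : Fˣ) : Rels ω (E₁ (F := F)) E₂ where
  torus := rel_torus ω ω
  one_two := rel_one_two ω
  two_one := rel_two_one ω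
  wa_torus := rel_wa ω
  wb_torus := rel_wb ω
  fixC := rel_fixC
  fixD := rel_fixD
  braid := rel_braid
  commBD := rel_BD
  commAD := rel_AD
  commAB := rel_AB
  commAC := rel_AC

theorem closure_gens {ω : Fˣ} (hω : ∀ x : Fˣ, x ∈ Subgroup.zpowers ω) :
    Subgroup.closure (Set.range (gens F ω)) = ⊤ := by
  have hSL := closure_target ω hω (aeval_surjective hω)
  rw [eq_top_iff, ← range_sup_range, sup_le_iff, MonoidHom.range_eq_map, MonoidHom.range_eq_map,
    ← hSL, MonoidHom.map_closure, MonoidHom.map_closure]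
  constructor
  · refine (Subgroup.closure_le _).mpr ?_
    rintro _ ⟨_, ⟨i, rfl⟩, rfl⟩
    exact Subgroup.subset_closure ⟨ι₁ i, by fin_cases i <;> rfl⟩
  · refine (Subgroup.closure_le _).mpr ?_
    rintro _ ⟨_, ⟨i, rfl⟩, rfl⟩
    exact Subgroup.subset_closure ⟨ι₂ i, by fin_cases i <;> rfl⟩

/-- A list of relations presents `T` if it bounds the order. -/
theorem presented_six {T : Type*} [Group T] [Finite T] (g : Fin 6 → T)
    (l : List (FreeGroup (Fin 6))) (hsat : ∀ r ∈ l, FreeGroup.lift g r = 1)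
    (hgen : Subgroup.closure (Set.range g) = ⊤)
    (hbound : ∀ (G : Type) [Group G] (x : Fin 6 → G), Subgroup.closure (Set.range x) = ⊤ →
      (∀ r ∈ l, FreeGroup.lift x r = 1) → Finite G ∧ Nat.card G ≤ Nat.card T) :
    ∃ rels : Finset (FreeGroup (Fin 6)), rels.card ≤ l.length ∧
      ∃ e : PresentedGroup (↑rels : Set (FreeGroup (Fin 6))) ≃* T,
        ∀ i, e (PresentedGroup.of i) = g i := by
  classical
  refine ⟨l.toFinset, l.toFinset_card_le, ?_⟩
  have hs : ∀ r ∈ (↑l.toFinset : Set (FreeGroup (Fin 6))), FreeGroup.lift g r = 1 :=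
    fun r hr => hsat r (List.mem_toFinset.mp hr)
  have hlift : FreeGroup.lift (PresentedGroup.of (rels := (↑l.toFinset : Set (FreeGroup (Fin 6))))) =
      PresentedGroup.mk _ := FreeGroup.ext_hom _ _ fun i => by rw [FreeGroup.lift_apply_of]; rfl
  let φ := PresentedGroup.toGroup hs
  have hφ : Function.Surjective φ := by
    rw [← MonoidHom.range_eq_top, eq_top_iff, ← hgen, Subgroup.closure_le]
    rintro _ ⟨i, rfl⟩
    exact ⟨PresentedGroup.of i, PresentedGroup.toGroup.of hs⟩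
  obtain ⟨hfin, hcard⟩ := hbound _ PresentedGroup.of (PresentedGroup.closure_range_of _)
    (fun r hr => by
      rw [hlift]
      exact PresentedGroup.one_of_mem (List.mem_toFinset.mpr hr))
  exact ⟨MulEquiv.ofBijective φ (hφ.bijective_of_nat_card_le hcard),
    fun i => PresentedGroup.toGroup.of hs⟩

theorem range_fin_six {H : Type*} (x : Fin 6 → H) :
    Set.range x = {x 0, x 1, x 2, x 3, x 4, x 5} := by
  ext y
  simp only [Set.mem_range, Set.mem_insert_iff, Set.mem_singleton_iff]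
  constructor
  · rintro ⟨i, rfl⟩; fin_cases i <;> simp
  · rintro (rfl | rfl | rfl | rfl | rfl | rfl) <;> exact ⟨_, rfl⟩

/-- The presentations, with the images of the generators in the symplectic group. -/
theorem exists_pres_gens :
    (∃ (ω : Fˣ) (rels : Finset (FreeGroup (Fin 6))), (∀ x : Fˣ, x ∈ Subgroup.zpowers ω) ∧
      rels.card ≤ 30 ∧
      ∃ e : PresentedGroup (↑rels : Set (FreeGroup (Fin 6))) ≃* Matrix.symplecticGroup (Fin 2) F,
        ∀ i, e (PresentedGroup.of i) = gens F ω i) ∧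
    ∃ rels : Finset (FreeGroup (Fin 6)), rels.card ≤ 31 ∧
      Nonempty (PresentedGroup (↑rels : Set (FreeGroup (Fin 6))) ≃* Cfsg.PSp 2 F) := by
  classical
  obtain ⟨ω, R, hω, hR, e, he⟩ := exists_SL (F := F)
  obtain ⟨g₁, hg₁⟩ := aeval_surjective hω ((ω⁻¹ : Fˣ) : F)
  obtain ⟨g₂, hg₂⟩ := aeval_surjective hω (((ω⁻¹ : Fˣ) : F) ^ 2)
  simp only at hg₁ hg₂
  set l := R.toList.map (FreeGroup.map ι₁) ++ R.toList.map (FreeGroup.map ι₂) ++ mixed g₁ g₂
    with hl
  have hlen : l.length ≤ 30 := by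
    simp only [hl, List.length_append, List.length_map, Finset.length_toList, mixed_length]
    omega
  have hSLsat : ∀ r ∈ R, FreeGroup.lift ![upT (1 : F), dg ω, wM] r = 1 := by
    intro r hr
    have h : FreeGroup.lift ![upT (1 : F), dg ω, wM] r =
        e (PresentedGroup.mk (↑R : Set (FreeGroup (Fin 3))) r) :=
      DFunLike.congr_fun (FreeGroup.ext_hom (FreeGroup.lift ![upT (1 : F), dg ω, wM])
        (e.toMonoidHom.comp (PresentedGroup.mk _)) fun i => by
          rw [FreeGroup.lift_apply_of]; exact (he i).symm) r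
    rw [h, PresentedGroup.one_of_mem (Finset.mem_coe.mpr hr), map_one]
  -- homomorphisms from the relations
  have hom : ∀ (G : Type) [Group G] (x : Fin 6 → G) (ι : Fin 3 → Fin 6),
      (∀ r ∈ R, FreeGroup.lift x (FreeGroup.map ι r) = 1) →
      ∃ A : SL(2, F) →* G, ∀ i, x (ι i) = A (![upT (1 : F), dg ω, wM] i) := by
    intro G _ x ι h
    have hs : ∀ r ∈ (↑R : Set (FreeGroup (Fin 3))), FreeGroup.lift (x ∘ ι) r = 1 :=
      fun r hr => (lift_map x ι r).symm.trans (h r hr)
    refine ⟨(PresentedGroup.toGroup hs).comp e.symm.toMonoidHom, fun i => ?_⟩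
    rw [← he i]
    simp [PresentedGroup.toGroup.of hs]
  have sat : ∀ r ∈ l, FreeGroup.lift (gens F ω) r = 1 := by
    intro r hr
    have hA : ∀ i, gens F ω (ι₁ i) = E₁ (![upT (1 : F), dg ω, wM] i) := fun i => by
      fin_cases i <;> rfl
    have hB : ∀ i, gens F ω (ι₂ i) = E₂ (![upT (1 : F), dg ω, wM] i) := fun i => by
      fin_cases i <;> rfl
    simp only [hl, List.mem_append, List.mem_map, Finset.mem_toList] at hr
    rcases hr with (⟨r, hr, rfl⟩ | ⟨r, hr, rfl⟩) | hr
    · rw [lift_map, show gens F ω ∘ ι₁ = fun i => E₁ (![upT (1 : F), dg ω, wM] i) from funext hA]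
      exact (DFunLike.congr_fun (FreeGroup.ext_hom (FreeGroup.lift _)
        (E₁.comp (FreeGroup.lift ![upT (1 : F), dg ω, wM])) fun i => by simp) r).trans
        (by rw [MonoidHom.comp_apply, hSLsat r hr, map_one])
    · rw [lift_map, show gens F ω ∘ ι₂ = fun i => E₂ (![upT (1 : F), dg ω, wM] i) from funext hB]
      exact (DFunLike.congr_fun (FreeGroup.ext_hom (FreeGroup.lift _)
        (E₂.comp (FreeGroup.lift ![upT (1 : F), dg ω, wM])) fun i => by simp) r).trans
        (by rw [MonoidHom.comp_apply, hSLsat r hr, map_one])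
    · exact (rels_of_mixed (gens F ω) hA hB hg₁ hg₂).mpr (target_rels ω) r hr
  have main : ∀ (G : Type) [Group G] (x : Fin 6 → G), Subgroup.closure (Set.range x) = ⊤ →
      (∀ r ∈ l, FreeGroup.lift x r = 1) → Finite G ∧ ∃ (A B : SL(2, F) →* G) (h : Rels ω A B),
        A wM = x 2 ∧ Nat.card G * Nat.card (Rels.torusHom hω h).ker ≤
          Nat.card (Matrix.symplecticGroup (Fin 2) F) := by
    intro G _ x hgen hx
    simp only [hl, List.mem_append, List.mem_map, Finset.mem_toList] at hx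
    obtain ⟨A, hA⟩ := hom G x ι₁ fun r hr => hx _ (Or.inl (Or.inl ⟨r, hr, rfl⟩))
    obtain ⟨B, hB⟩ := hom G x ι₂ fun r hr => hx _ (Or.inl (Or.inr ⟨r, hr, rfl⟩))
    have hrels := (rels_of_mixed x hA hB hg₁ hg₂).mp fun r hr => hx r (Or.inr hr)
    rw [range_fin_six] at hgen
    obtain ⟨hfin, hle⟩ := hrels.card_le hω (by
      rw [← hgen, show x 0 = A (upT 1) from hA 0, show x 1 = A (dg ω) from hA 1,
        show x 2 = A wM from hA 2, show x 3 = B (upT 1) from hB 0,
        show x 4 = B (dg ω) from hB 1, show x 5 = B wM from hB 2])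
    exact ⟨hfin, A, B, hrels, (hA 2).symm, hle⟩
  refine ⟨?_, ?_⟩
  · obtain ⟨rels, hc, he'⟩ := presented_six (gens F ω) l sat (closure_gens hω) fun G _ x hgen hx => by
      obtain ⟨hfin, A, B, h, -, hle⟩ := main G x hgen hx
      exact ⟨hfin, le_trans (Nat.le_mul_of_pos_right _ Nat.card_pos) hle⟩
    exact ⟨ω, rels, hω, hc.trans hlen, he'⟩
  · set mk := QuotientGroup.mk' (Subgroup.center (Matrix.symplecticGroup (Fin 2) F)) with hmk
    have hq : ∀ r, FreeGroup.lift (fun i => mk (gens F ω i)) r =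
        mk (FreeGroup.lift (gens F ω) r) := fun r =>
      DFunLike.congr_fun (FreeGroup.ext_hom _ (mk.comp (FreeGroup.lift (gens F ω)))
        fun i => by simp) r
    have hneg : mk (E₁ (dg (-1 : Fˣ))) = 1 := by
      refine (QuotientGroup.eq_one_iff _).mpr (Subgroup.mem_center_iff.mpr fun g => Subtype.ext ?_)
      have h : (E₁ (dg (-1 : Fˣ)) : Matrix.symplecticGroup (Fin 2) F).1 = -1 := by
        rw [E₁_coe, Pres.dg_coe, mat₁, ← Matrix.fromBlocks_one, Matrix.fromBlocks_neg]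
        congr 1 <;> ext i j <;> fin_cases i <;> fin_cases j <;> simp
      rw [Submonoid.coe_mul, Submonoid.coe_mul, h, mul_neg, neg_mul, one_mul, mul_one]
    obtain ⟨rels, hc, he'⟩ := presented_six (fun i => mk (gens F ω i))
      (FreeGroup.of 2 * FreeGroup.of 2 :: l)
      (fun r hr => by
        rw [hq]
        rcases List.mem_cons.mp hr with rfl | hr
        · rw [map_mul, FreeGroup.lift_apply_of]
          show mk (E₁ wM * E₁ wM) = 1
          rw [← map_mul, Pres.wM_sq, hneg]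
        · rw [sat r hr, map_one])
      (by
        rw [show Set.range (fun i => mk (gens F ω i)) = mk '' Set.range (gens F ω) by
          rw [← Set.range_comp]; rfl, ← MonoidHom.map_closure, closure_gens hω,
          ← MonoidHom.range_eq_map]
        exact MonoidHom.range_eq_top.mpr (QuotientGroup.mk'_surjective _))
      fun G _ x hgen hx => by
        obtain ⟨hfin, A, B, h, hw, hle⟩ := main G x hgen fun r hr => hx r (List.mem_cons_of_mem _ hr)
        refine ⟨hfin, ?_⟩
        have hcen := GLOrder.card_center_Sp (F := F) (m := 2) (by norm_num)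
        have hlag := Subgroup.card_eq_card_quotient_mul_card_subgroup
          (Subgroup.center (Matrix.symplecticGroup (Fin 2) F))
        rw [hcen] at hlag
        rw [hlag] at hle
        refine Nat.le_of_mul_le_mul_right (le_trans (Nat.mul_le_mul_left _ ?_) hle)
          (Nat.gcd_pos_of_pos_left _ two_pos)
        rcases Nat.even_or_odd (Nat.card F - 1) with hev | hodd
        · have hm1 : (-1 : Fˣ) ≠ 1 := by
            intro h'
            obtain ⟨k, hk⟩ := hev
            haveI : Fintype F := Fintype.ofFinite F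
            have hch : ringChar F = 2 := by
              by_contra hne
              exact Ring.neg_one_ne_one_of_char_ne_two hne (by simpa using congrArg Units.val h')
            have := FiniteField.even_card_of_char_two hch
            rw [← Nat.card_eq_fintype_card] at this
            have := Nat.card_pos (α := F)
            omega
          have hker : ((-1, 1) : Fˣ × Fˣ) ∈ (Rels.torusHom hω h).ker := by
            show A (dg (-1)) * B (dg 1) = 1
            have hx2 := hx _ (List.mem_cons_self ..)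
            rw [map_mul, FreeGroup.lift_apply_of, ← hw, ← map_mul, Pres.wM_sq] at hx2
            rw [map_one, map_one, mul_one, hx2]
          have : Nontrivial (Rels.torusHom hω h).ker := ⟨⟨⟨_, hker⟩, 1, fun he1 => hm1
            (congrArg (fun z : Fˣ × Fˣ => z.1) (congrArg Subtype.val he1))⟩⟩
          exact (Nat.gcd_le_left _ two_pos).trans Finite.one_lt_card
        · have h1 : Nat.gcd 2 (Nat.card F - 1) = 1 :=
            (Nat.prime_two.coprime_iff_not_dvd.mpr fun hd => Nat.not_even_iff_odd.mpr hodd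
              (even_iff_two_dvd.mpr hd))
          rw [h1]
          exact Nat.card_pos
    exact ⟨rels, hc.trans (by simp only [List.length_cons]; omega), ⟨he'.choose⟩⟩

/-- The presentations. -/
theorem exists_pres :
    (∃ rels : Finset (FreeGroup (Fin 6)), rels.card ≤ 30 ∧
      Nonempty (PresentedGroup (↑rels : Set (FreeGroup (Fin 6))) ≃*
        Matrix.symplecticGroup (Fin 2) F)) ∧
    ∃ rels : Finset (FreeGroup (Fin 6)), rels.card ≤ 31 ∧
      Nonempty (PresentedGroup (↑rels : Set (FreeGroup (Fin 6))) ≃* Cfsg.PSp 2 F) := by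
  obtain ⟨⟨-, rels, -, hc, e, -⟩, h⟩ := exists_pres_gens (F := F)
  exact ⟨⟨rels, hc, ⟨e⟩⟩, h⟩

end Cfsg.Agent.PSL2.SpFour
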