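/-
The sphere `a^2 + b^2 + e^2 = 1` over a field of order `q ≡ 3 (mod 4)`.

Main result (namespace `Cfsg.Agent.PSL2`):
* `sphere_common_split` : two directions at non-split angle see a common split point
-/
import Cfsg.Agent.Lib.PSL2.Facts

set_option autoImplicit false
set_option linter.unusedSectionVars false
set_option linter.dupNamespace false

namespace Cfsg.Agent.PSL2

open Finset

variable {F : Type*} [Field F] [Fintype F] [DecidableEq F]

/-- Points of the circle of squared radius `R`. -/
def circle (R : F) : Finset (F × F) := univ.filter fun v => v.1 ^ 2 + v.2 ^ 2 = R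

theorem sq_add_sq_ne_zero (hneg : ¬ IsSquare (-1 : F)) {u v : F} (h : u ^ 2 + v ^ 2 = 0) :
    u = 0 ∧ v = 0 := by
  by_cases hv : v = 0
  · subst hv
    exact ⟨(pow_eq_zero_iff two_ne_zero).1 (by simpa using h), rfl⟩
  · exact absurd ⟨u / v, by field_simp; linear_combination -h⟩ hneg

theorem card_circle_one (h2 : (2 : F) ≠ 0) (hneg : ¬ IsSquare (-1 : F)) :
    (circle (1 : F)).card = Fintype.card F + 1 := by
  have hden : ∀ m : F, 1 + m ^ 2 ≠ 0 := fun m h => hneg ⟨m, by linear_combination -h⟩
  let f : Option F → F × F := fun o =>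
    o.elim (0, -1) fun m => (-2 * m / (1 + m ^ 2), (1 - m ^ 2) / (1 + m ^ 2))
  have hinj : Function.Injective f := by
    have hne : ∀ m : F, f (some m) ≠ f none := fun m h => by
      have h' := congrArg Prod.snd h
      simp only [f, Option.elim] at h'
      rw [div_eq_iff (hden m)] at h'
      exact h2 (by linear_combination h')
    rintro (_ | m) (_ | m') h
    · rfl
    · exact absurd h.symm (hne m')
    · exact absurd h (hne m)
    · have h1 := congrArg Prod.fst h
      have h2' := congrArg Prod.snd h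
      simp only [f, Option.elim] at h1 h2'
      rw [div_eq_div_iff (hden m) (hden m')] at h1 h2'
      have e : m' ^ 2 = m ^ 2 := by
        apply mul_left_cancel₀ h2; linear_combination h2'
      have h3 : (m' - m) * (2 * (1 + m ^ 2)) = 0 := by linear_combination h1 + 2 * m * e
      rw [mul_eq_zero] at h3
      rcases h3 with h3 | h3
      · exact congrArg some (sub_eq_zero.1 h3).symm
      · exact absurd h3 (mul_ne_zero h2 (hden m))
  have himg : (univ : Finset (Option F)).image f = circle (1 : F) := by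
    ext ⟨u, v⟩
    simp only [circle, mem_image, mem_univ, true_and, mem_filter]
    constructor
    · rintro ⟨_ | m, h⟩
      · simp only [f, Option.elim, Prod.mk.injEq] at h
        rw [← h.1, ← h.2]; ring
      · simp only [f, Option.elim, Prod.mk.injEq] at h
        rw [← h.1, ← h.2]
        have := hden m
        field_simp
        ring
    · intro h
      by_cases hv : v = -1
      · refine ⟨none, ?_⟩
        subst hv
        have : u = 0 := (pow_eq_zero_iff two_ne_zero).1 (by linear_combination h)
        simp [f, this]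
      · have hv1 : 1 + v ≠ 0 := fun e => hv (by linear_combination e)
        refine ⟨some (-u / (1 + v)), ?_⟩
        have e : 1 + (-u / (1 + v)) ^ 2 = 2 / (1 + v) := by
          field_simp
          linear_combination h
        have e' : 1 - (-u / (1 + v)) ^ 2 = 2 * v / (1 + v) := by
          field_simp
          linear_combination -h
        simp only [f, Option.elim, Prod.mk.injEq, e, e']
        constructor <;> field_simp
  rw [← himg, card_image_of_injective _ hinj, card_univ, Fintype.card_option]

theorem card_circle (h2 : (2 : F) ≠ 0) (hneg : ¬ IsSquare (-1 : F)) {R : F} (hR : R ≠ 0) :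
    (circle R).card = Fintype.card F + 1 := by
  obtain ⟨u₀, v₀, h0⟩ : ∃ u v : F, u ^ 2 + v ^ 2 = R := by
    have hne : ringChar F ≠ 2 := fun h => by
      have : CharP F 2 := ringChar.of_eq h
      exact h2 (by exact_mod_cast CharP.cast_eq_zero F 2)
    obtain ⟨a, b, hab⟩ := FiniteField.exists_root_sum_quadratic (f := (Polynomial.X ^ 2 : Polynomial F))
      (g := Polynomial.X ^ 2 - Polynomial.C R) (Polynomial.degree_X_pow 2)
      (Polynomial.degree_X_pow_sub_C two_pos R) (FiniteField.odd_card_of_char_ne_two hne)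
    refine ⟨a, b, ?_⟩
    simp at hab
    linear_combination hab
  rw [← card_circle_one h2 hneg]
  symm
  refine Finset.card_nbij' (fun v => (u₀ * v.1 - v₀ * v.2, u₀ * v.2 + v₀ * v.1))
    (fun v => ((u₀ * v.1 + v₀ * v.2) / R, (u₀ * v.2 - v₀ * v.1) / R)) ?_ ?_ ?_ ?_
  · intro v hv
    simp only [circle, coe_filter, mem_univ, true_and, Set.mem_setOf_eq] at hv ⊢
    linear_combination R * hv + (v.1 ^ 2 + v.2 ^ 2) * h0
  · intro v hv
    simp only [circle, coe_filter, mem_univ, true_and, Set.mem_setOf_eq] at hv ⊢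
    field_simp
    linear_combination R * hv + (v.1 ^ 2 + v.2 ^ 2) * h0
  · intro v _
    simp only [Prod.ext_iff]
    constructor <;> field_simp
    · linear_combination v.1 * h0
    · linear_combination v.2 * h0
  · intro v _
    simp only [Prod.ext_iff]
    constructor <;> field_simp
    · linear_combination v.1 * h0
    · linear_combination v.2 * h0

theorem card_split (h2 : (2 : F) ≠ 0) (hneg : ¬ IsSquare (-1 : F)) :
    2 * (univ.filter fun a : F => a ^ 2 ≠ 1 ∧ IsSquare (a ^ 2 - 1)).card + 3 = Fintype.card F := by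
  classical
  have hone : (1 : F) ≠ -1 := fun h => h2 (by linear_combination h)
  have hunit : (univ.filter fun a : F => a ^ 2 = 1) = {1, -1} := by
    ext a; simp [sq_eq_one_iff]
  -- the other class
  set T' := univ.filter fun a : F => a ^ 2 ≠ 1 ∧ IsSquare (1 - a ^ 2) with hT'
  have hcirc : ((circle (1 : F)).filter fun v => v.2 ≠ 0).card = Fintype.card F - 1 := by
    have h := card_filter_add_card_filter_not (s := circle (1 : F)) (fun v => v.2 ≠ 0)
    rw [card_circle_one h2 hneg] at h
    have h' : ((circle (1 : F)).filter fun v => ¬ v.2 ≠ 0) = {(1, 0), (-1, 0)} := by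
      ext ⟨u, v⟩
      simp only [circle, mem_filter, mem_univ, true_and, not_not, mem_insert, mem_singleton,
        Prod.mk.injEq]
      constructor
      · rintro ⟨h, rfl⟩
        rw [zero_pow two_ne_zero, add_zero, sq_eq_one_iff] at h
        tauto
      · rintro (⟨rfl, rfl⟩ | ⟨rfl, rfl⟩) <;> simp
    rw [h', card_pair (by simp [hone])] at h
    omega
  have hfib : ((circle (1 : F)).filter fun v => v.2 ≠ 0).card = 2 * T'.card := by
    rw [card_eq_sum_card_fiberwise (f := Prod.fst) (t := T') (fun v hv => by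
      simp only [circle, coe_filter, mem_filter, mem_univ, true_and, Set.mem_setOf_eq] at hv
      simp only [hT', coe_filter, mem_univ, true_and, Set.mem_setOf_eq]
      refine ⟨fun e => hv.2 ((pow_eq_zero_iff two_ne_zero).1 (by linear_combination hv.1 - e)),
        v.2, by linear_combination -hv.1⟩), mul_comm, ← smul_eq_mul, ← sum_const]
    refine sum_congr rfl fun a ha => ?_
    simp only [hT', mem_filter, mem_univ, true_and] at ha
    obtain ⟨ha1, w, hw⟩ := ha
    have hw0 : w ≠ 0 := fun e => ha1 (by rw [e, mul_zero] at hw; linear_combination -hw)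
    have hset : (((circle (1 : F)).filter fun v => v.2 ≠ 0).filter fun v => v.1 = a) =
        {(a, w), (a, -w)} := by
      ext ⟨u, v⟩
      simp only [circle, mem_filter, mem_univ, true_and, mem_insert, mem_singleton, Prod.mk.injEq]
      constructor
      · rintro ⟨⟨h, -⟩, rfl⟩
        have : v ^ 2 = w ^ 2 := by linear_combination h + hw
        rcases sq_eq_sq_iff_eq_or_eq_neg.1 this with e | e
        · exact Or.inl ⟨rfl, e⟩
        · exact Or.inr ⟨rfl, e⟩
      · rintro (⟨rfl, rfl⟩ | ⟨rfl, rfl⟩)
        · exact ⟨⟨by linear_combination -hw, hw0⟩, rfl⟩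
        · exact ⟨⟨by linear_combination -hw, neg_ne_zero.2 hw0⟩, rfl⟩
    rw [hset, card_pair]
    intro e
    simp only [Prod.mk.injEq, true_and] at e
    exact hw0 ((mul_eq_zero.1 (show (2 : F) * w = 0 by linear_combination e)).resolve_left h2)
  have hsplit : univ.filter (fun a : F => ¬ a ^ 2 = 1) =
      (univ.filter fun a : F => a ^ 2 ≠ 1 ∧ IsSquare (a ^ 2 - 1)) ∪ T' := by
    have hne2 : ringChar F ≠ 2 := fun h => by
      have : CharP F 2 := ringChar.of_eq h
      exact h2 (by exact_mod_cast CharP.cast_eq_zero F 2)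
    ext a
    simp only [hT', mem_filter, mem_univ, true_and, mem_union]
    refine ⟨fun h => ?_, fun h => h.elim (·.1) (·.1)⟩
    by_cases hs : IsSquare (a ^ 2 - 1)
    · exact Or.inl ⟨h, hs⟩
    · refine Or.inr ⟨h, ?_⟩
      have h0 : a ^ 2 - 1 ≠ 0 := sub_ne_zero.2 h
      have hpow := fun (x : F) (hx : x ≠ 0) => FiniteField.isSquare_iff hne2 hx
      rw [hpow _ (by intro e; exact h0 (by linear_combination -e)),
        show 1 - a ^ 2 = (-1) * (a ^ 2 - 1) by ring, mul_pow,
        (FiniteField.pow_dichotomy hne2 (neg_ne_zero.2 one_ne_zero)).resolve_left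
          (fun e => hneg ((hpow _ (neg_ne_zero.2 one_ne_zero)).2 e)),
        (FiniteField.pow_dichotomy hne2 h0).resolve_left (fun e => hs ((hpow _ h0).2 e))]
      norm_num
  have hdisj : Disjoint (univ.filter fun a : F => a ^ 2 ≠ 1 ∧ IsSquare (a ^ 2 - 1)) T' := by
    rw [disjoint_left]
    intro a ha ha'
    simp only [hT', mem_filter, mem_univ, true_and] at ha ha'
    obtain ⟨h1, u, hu⟩ := ha
    obtain ⟨-, v, hv⟩ := ha'
    have hu0 : u ≠ 0 := fun e => h1 (by rw [e, mul_zero] at hu; linear_combination hu)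
    obtain ⟨-, hv0⟩ := sq_add_sq_ne_zero hneg (u := v) (v := u) (by linear_combination -hu - hv)
    exact hu0 hv0
  have h := card_filter_add_card_filter_not (s := (univ : Finset F)) (fun a : F => a ^ 2 = 1)
  rw [hsplit, card_union_of_disjoint hdisj, hunit, card_pair hone, card_univ] at h
  rw [hcirc] at hfib
  omega

theorem sphere_common_split (h2 : (2 : F) ≠ 0) (hneg : ¬ IsSquare (-1 : F)) (h7 : 7 ≤ Fintype.card F)
    {c d : F} (hcd : c ^ 2 + d ^ 2 = 1) (hd : d ≠ 0) :
    ∃ a b e : F, a ^ 2 + b ^ 2 + e ^ 2 = 1 ∧ (a ^ 2 ≠ 1 ∧ IsSquare (a ^ 2 - 1)) ∧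
      ((c * a + d * b) ^ 2 ≠ 1 ∧ IsSquare ((c * a + d * b) ^ 2 - 1)) := by
  classical
  by_contra hcon
  set S : Finset (F × F × F) := univ.filter fun v => v.1 ^ 2 + v.2.1 ^ 2 + v.2.2 ^ 2 = 1 with hS
  let K₁ := S.filter fun v => v.1 ^ 2 ≠ 1 ∧ IsSquare (v.1 ^ 2 - 1)
  let K₂ := S.filter fun v => (c * v.1 + d * v.2.1) ^ 2 ≠ 1 ∧ IsSquare ((c * v.1 + d * v.2.1) ^ 2 - 1)
  let Z := S.filter fun v => v.2.2 = 0 ∨ (v.1 = 0 ∧ v.2.1 = 0)
  have hK₁₂ : Disjoint K₁ K₂ := by
    rw [disjoint_left]
    intro v h1 h2'
    simp only [K₁, K₂, hS, mem_filter, mem_univ, true_and] at h1 h2'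
    exact hcon ⟨v.1, v.2.1, v.2.2, h1.1, h1.2, h2'.2⟩
  -- fibres over the first coordinate
  have hfibre : ∀ a : F, (S.filter fun v => v.1 = a).card = (circle (1 - a ^ 2)).card := by
    intro a
    refine card_nbij' (fun v => v.2) (fun w => (a, w)) ?_ ?_ ?_ ?_
    · intro v hv
      simp only [hS, coe_filter, mem_filter, mem_univ, true_and, Set.mem_setOf_eq] at hv
      simp only [circle, coe_filter, mem_univ, true_and, Set.mem_setOf_eq]
      rw [← hv.2]; linear_combination hv.1
    · intro w hw
      simp only [circle, coe_filter, mem_univ, true_and, Set.mem_setOf_eq] at hw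
      simp only [hS, coe_filter, mem_filter, mem_univ, true_and, Set.mem_setOf_eq]
      exact ⟨by linear_combination hw, trivial⟩
    · intro v hv
      simp only [coe_filter, Set.mem_setOf_eq] at hv
      ext <;> simp [hv.2]
    · intro w _; rfl
  have hcirc0 : (circle (0 : F)).card = 1 := by
    rw [show circle (0 : F) = {(0, 0)} from ?_, card_singleton]
    ext ⟨u, v⟩
    simp only [circle, mem_filter, mem_univ, true_and, mem_singleton, Prod.mk.injEq]
    exact ⟨sq_add_sq_ne_zero hneg, by rintro ⟨rfl, rfl⟩; simp⟩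
  have hone : (1 : F) ≠ -1 := fun h => h2 (by linear_combination h)
  have hgen : ∀ a ∈ univ.filter (fun a : F => ¬ a ^ 2 = 1),
      (S.filter fun v => v.1 = a).card = Fintype.card F + 1 := fun a ha =>
    (hfibre a).trans (card_circle h2 hneg (fun e => (mem_filter.1 ha).2 (by linear_combination -e)))
  have hScard : S.card + Fintype.card F = Fintype.card F ^ 2 := by
    rw [card_eq_sum_card_fiberwise (f := Prod.fst) (t := (univ : Finset F))
      (fun v _ => mem_univ _), ← sum_filter_add_sum_filter_not univ (fun a : F => a ^ 2 = 1)]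
    rw [show univ.filter (fun a : F => a ^ 2 = 1) = {1, -1} by ext a; simp [sq_eq_one_iff],
      sum_pair hone, hfibre, hfibre, show (1 : F) - 1 ^ 2 = 0 by ring,
      show (1 : F) - (-1) ^ 2 = 0 by ring, hcirc0,
      sum_congr rfl hgen, sum_const, smul_eq_mul]
    have h := card_filter_add_card_filter_not (s := (univ : Finset F)) (fun a : F => a ^ 2 = 1)
    rw [show univ.filter (fun a : F => a ^ 2 = 1) = {1, -1} by ext a; simp [sq_eq_one_iff],
      card_pair hone, card_univ] at h
    rw [show (univ.filter fun a : F => ¬ a ^ 2 = 1).card = Fintype.card F - 2 by omega]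
    obtain ⟨k, hk⟩ : ∃ k, Fintype.card F = k + 2 := ⟨Fintype.card F - 2, by omega⟩
    rw [hk, Nat.add_sub_cancel]; ring
  have hK₁card : K₁.card + (Fintype.card F + 1) * 3 + K₁.card = (Fintype.card F + 1) * Fintype.card F := by
    have hs : K₁.card = (univ.filter fun a : F => a ^ 2 ≠ 1 ∧ IsSquare (a ^ 2 - 1)).card *
        (Fintype.card F + 1) := by
      rw [card_eq_sum_card_fiberwise (f := Prod.fst)
        (t := univ.filter fun a : F => a ^ 2 ≠ 1 ∧ IsSquare (a ^ 2 - 1))
        (fun v hv => by
          simp only [K₁, coe_filter, Set.mem_setOf_eq] at hv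
          simp only [coe_filter, mem_univ, true_and, Set.mem_setOf_eq]
          exact hv.2), ← smul_eq_mul, ← sum_const]
      refine sum_congr rfl fun a ha => ?_
      have ha' := (mem_filter.1 ha).2
      rw [← card_circle h2 hneg (R := 1 - a ^ 2) (fun e => ha'.1 (by linear_combination -e)), ← hfibre a]
      congr 1
      ext v
      simp only [K₁, mem_filter]
      exact ⟨fun h => ⟨h.1.1, h.2⟩, fun h => ⟨⟨h.1, by rw [h.2]; exact ha'⟩, h.2⟩⟩
    have ht := card_split (F := F) h2 hneg
    rw [hs]
    calc _ = (Fintype.card F + 1) * (2 * (univ.filter fun a : F => a ^ 2 ≠ 1 ∧ IsSquare (a ^ 2 - 1)).card + 3) := by ring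
      _ = _ := by rw [ht]
  have hK₂card : K₂.card = K₁.card := by
    refine card_nbij' (fun v => (c * v.1 + d * v.2.1, -d * v.1 + c * v.2.1, v.2.2))
      (fun v => (c * v.1 - d * v.2.1, d * v.1 + c * v.2.1, v.2.2)) ?_ ?_ ?_ ?_
    · intro v hv
      simp only [K₁, K₂, hS, coe_filter, mem_filter, mem_univ, true_and, Set.mem_setOf_eq] at hv ⊢
      exact ⟨by linear_combination hv.1 + (v.1 ^ 2 + v.2.1 ^ 2) * hcd, hv.2⟩
    · intro v hv
      simp only [K₁, K₂, hS, coe_filter, mem_filter, mem_univ, true_and, Set.mem_setOf_eq] at hv ⊢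
      have e : c * (c * v.1 - d * v.2.1) + d * (d * v.1 + c * v.2.1) = v.1 := by
        linear_combination v.1 * hcd
      rw [e]
      exact ⟨by linear_combination hv.1 + (v.1 ^ 2 + v.2.1 ^ 2) * hcd, hv.2⟩
    · intro v _
      refine Prod.ext ?_ (Prod.ext ?_ rfl)
      · show c * (c * v.1 + d * v.2.1) - d * (-d * v.1 + c * v.2.1) = v.1
        linear_combination v.1 * hcd
      · show d * (c * v.1 + d * v.2.1) + c * (-d * v.1 + c * v.2.1) = v.2.1
        linear_combination v.2.1 * hcd
    · intro v _
      refine Prod.ext ?_ (Prod.ext ?_ rfl)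
      · show c * (c * v.1 - d * v.2.1) + d * (d * v.1 + c * v.2.1) = v.1
        linear_combination v.1 * hcd
      · show -d * (c * v.1 - d * v.2.1) + c * (d * v.1 + c * v.2.1) = v.2.1
        linear_combination v.2.1 * hcd
  have hZcard : Z.card = Fintype.card F + 1 + 2 := by
    have hZ : Z = ((circle (1 : F)).image fun w => (w.1, w.2, (0 : F))) ∪
        {((0 : F), (0 : F), (1 : F)), (0, 0, -1)} := by
      ext ⟨a, b, e⟩
      simp only [Z, hS, circle, mem_filter, mem_univ, true_and, mem_union, mem_image, mem_insert,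
        mem_singleton, Prod.mk.injEq, Prod.exists]
      constructor
      · rintro ⟨h, rfl | ⟨rfl, rfl⟩⟩
        · exact Or.inl ⟨a, b, by linear_combination h, rfl, rfl, rfl⟩
        · rcases sq_eq_one_iff.1 (show e ^ 2 = 1 by linear_combination h) with rfl | rfl
          · exact Or.inr (Or.inl ⟨rfl, rfl, rfl⟩)
          · exact Or.inr (Or.inr ⟨rfl, rfl, rfl⟩)
      · rintro (⟨u, v, h, rfl, rfl, rfl⟩ | ⟨rfl, rfl, rfl⟩ | ⟨rfl, rfl, rfl⟩)
        · exact ⟨by linear_combination h, Or.inl rfl⟩
        · exact ⟨by ring, Or.inr ⟨rfl, rfl⟩⟩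
        · exact ⟨by ring, Or.inr ⟨rfl, rfl⟩⟩
    rw [hZ, card_union_of_disjoint, card_image_of_injective _ (fun x y h => by
      simp only [Prod.mk.injEq] at h; exact Prod.ext h.1 h.2.1), card_circle_one h2 hneg,
      card_pair (by simp [hone])]
    rw [disjoint_left]
    intro v hv hv'
    obtain ⟨w, -, rfl⟩ := mem_image.1 hv
    simp at hv'
  have hZK : Disjoint Z (K₁ ∪ K₂) := by
    rw [disjoint_left]
    intro v hv hv'
    simp only [Z, hS, mem_filter, mem_univ, true_and] at hv
    simp only [K₁, K₂, hS, mem_union, mem_filter, mem_univ, true_and] at hv'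
    obtain ⟨hs, hz⟩ := hv
    rcases hv' with ⟨-, h1, w, hw⟩ | ⟨-, h1, w, hw⟩
    · have hw0 : w ≠ 0 := fun e => h1 (by rw [e, mul_zero] at hw; linear_combination hw)
      rcases hz with hz | ⟨hz, -⟩
      · obtain ⟨-, e⟩ := sq_add_sq_ne_zero hneg (u := v.2.1) (v := w)
          (by rw [hz] at hs; linear_combination hs - hw)
        exact hw0 e
      · rw [hz] at hw
        exact hneg ⟨w, by linear_combination hw⟩
    · have hw0 : w ≠ 0 := fun e => h1 (by rw [e, mul_zero] at hw; linear_combination hw)
      rcases hz with hz | ⟨hz, hz'⟩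
      · obtain ⟨-, e⟩ := sq_add_sq_ne_zero hneg (u := -d * v.1 + c * v.2.1) (v := w)
          (by rw [hz] at hs; linear_combination (v.1 ^ 2 + v.2.1 ^ 2) * hcd + hs - hw)
        exact hw0 e
      · rw [hz, hz'] at hw
        exact hneg ⟨w, by linear_combination hw⟩
  have hall : Z ∪ (K₁ ∪ K₂) = S := by
    refine eq_of_subset_of_card_le (union_subset (filter_subset _ _)
      (union_subset (filter_subset _ _) (filter_subset _ _))) ?_
    rw [card_union_of_disjoint hZK, card_union_of_disjoint hK₁₂, hZcard, hK₂card]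
    have hsq : (Fintype.card F + 1) * Fintype.card F = Fintype.card F ^ 2 + Fintype.card F := by ring
    omega
  -- a point on the bisector
  set R := 2 - 2 * c with hR
  have hRd : R = d ^ 2 + (1 - c) ^ 2 := by rw [hR]; linear_combination -hcd
  have hR0 : R ≠ 0 := fun e => hd (sq_add_sq_ne_zero hneg (by rw [← hRd, e])).1
  obtain ⟨m, hm0, hm1, hm2⟩ : ∃ m : F, m ≠ 0 ∧ R + m ^ 2 ≠ 0 ∧ R - m ^ 2 ≠ 0 := by
    by_contra hno
    push Not at hno
    let p₁ : Polynomial F := Polynomial.X ^ 2 - Polynomial.C (-R)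
    let p₂ : Polynomial F := Polynomial.X ^ 2 - Polynomial.C R
    have hcover : (univ : Finset F) ⊆ {0} ∪ (p₁.roots.toFinset ∪ p₂.roots.toFinset) := by
      intro m _
      simp only [mem_union, mem_singleton, Multiset.mem_toFinset]
      by_cases hm : m = 0
      · exact Or.inl hm
      right
      by_cases h1 : R + m ^ 2 = 0
      · left
        rw [Polynomial.mem_roots (Polynomial.X_pow_sub_C_ne_zero two_pos _)]
        simp [Polynomial.IsRoot, p₁]
        linear_combination h1
      · right
        rw [Polynomial.mem_roots (Polynomial.X_pow_sub_C_ne_zero two_pos _)]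
        simp [Polynomial.IsRoot, p₂]
        linear_combination -(hno m hm h1)
    have h := card_le_card hcover
    rw [card_univ] at h
    have h1 : p₁.roots.toFinset.card ≤ 2 := (Multiset.toFinset_card_le _).trans
      ((Polynomial.card_roots' _).trans (Polynomial.natDegree_X_pow_sub_C).le)
    have h2' : p₂.roots.toFinset.card ≤ 2 := (Multiset.toFinset_card_le _).trans
      ((Polynomial.card_roots' _).trans (Polynomial.natDegree_X_pow_sub_C).le)
    have := (card_union_le _ _).trans (Nat.add_le_add_left (card_union_le _ _) _) |> h.trans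
    rw [card_singleton] at this
    omega
  set lam := -2 * m / (R + m ^ 2) with hlam
  set e := (R - m ^ 2) / (R + m ^ 2) with he
  have hlam0 : lam ≠ 0 := div_ne_zero (mul_ne_zero (neg_ne_zero.2 h2) hm0) hm1
  have he0 : e ≠ 0 := div_ne_zero hm2 hm1
  have hon : R * lam ^ 2 + e ^ 2 = 1 := by
    rw [hlam, he]; field_simp; ring
  have hv : (lam * d, lam * (1 - c), e) ∈ S := by
    simp only [hS, mem_filter, mem_univ, true_and]
    linear_combination hon - lam ^ 2 * hRd
  rw [← hall] at hv
  simp only [Z, K₁, K₂, hS, mem_union, mem_filter, mem_univ, true_and] at hv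
  have hs : c * (lam * d) + d * (lam * (1 - c)) = lam * d := by ring
  rw [hs] at hv
  rcases hv with ⟨-, h | ⟨h, -⟩⟩ | ⟨hs1, h⟩ | ⟨hs1, h⟩
  · exact he0 h
  · exact mul_ne_zero hlam0 hd h
  · exact hcon ⟨_, _, _, hs1, h, by rw [hs]; exact h⟩
  · exact hcon ⟨_, _, _, hs1, h, by rw [hs]; exact h⟩

end Cfsg.Agent.PSL2
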