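/-
Pairs of involutions of `PSL_2(q)` with product of odd order.

Main result (namespace `Cfsg.Agent.PSL2`):
* `odd_product_common` : two involutions whose product has even order have a common odd-product partner
-/
import Cfsg.Agent.Lib.PSL2.Centralizers
import Cfsg.Agent.Lib.PSL2.Sphere
import Cfsg.Agent.Lib.PSL2.Klein

set_option autoImplicit false
set_option linter.unusedSectionVars false
set_option linter.dupNamespace false

open Matrix MulAction Subgroup
open scoped LinearAlgebra.Projectivization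

namespace Cfsg.Agent.PSL2

variable {F : Type*} [Field F] [Finite F]

theorem odd_orderOf_of_tr (p : ℕ) [Fact p.Prime] [CharP F p] (hp2 : p ≠ 2) {g : SL2 F}
    (h : tr g ^ 2 = 4 ∨ (Nat.card F % 4 = 3 ∧ tr g ^ 2 ≠ 4 ∧ IsSquare (tr g ^ 2 - 4))) :
    Odd (orderOf (QuotientGroup.mk g : PSL2 F)) := by
  rcases h with h | ⟨h3, h4, w, hw⟩
  · by_contra hne
    have hnd : ¬ orderOf (QuotientGroup.mk g : PSL2 F) ∣ p := fun hd =>
      hne (((Fact.out : p.Prime).odd_of_ne_two hp2).of_dvd_nat hd)
    exact tr_sq_ne_four_of_not_dvd p hnd h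
  · have h2 : (2 : F) ≠ 0 := two_ne_zero_iff_odd.2 (Nat.odd_iff.2 (by omega))
    set c := (tr g + w) / 2 with hc
    have hroot : c ^ 2 - tr g * c + 1 = 0 := by
      rw [hc]; field_simp; linear_combination -hw
    have hroot' : c ^ 2 - (RingHom.id F) (tr g) * c + 1 = 0 := hroot
    have hc0 : c ≠ 0 := root_ne_zero (RingHom.id F) hroot'
    have := Fintype.ofFinite F
    have hpow : g ^ (Nat.card F - 1) = 1 := by
      rw [pow_eq_one_iff_root (RingHom.id F) hroot' h4, Nat.card_eq_fintype_card]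
      exact FiniteField.pow_card_sub_one_eq_one c hc0
    obtain ⟨k, hk⟩ : ∃ k, Nat.card F - 1 = k + k := ⟨(Nat.card F - 1) / 2, by omega⟩
    rw [hk, pow_add] at hpow
    have hmk : (QuotientGroup.mk g : PSL2 F) ^ k = 1 := by
      rw [← QuotientGroup.mk_pow]
      exact (QuotientGroup.eq_one_iff _).2 (mem_center_of_mul_self h2 hpow)
    exact (Nat.odd_iff.2 (by omega : k % 2 = 1)).of_dvd_nat (orderOf_dvd_of_pow_eq_one hmk)

theorem mul_self_of_trace_zero {R : Type*} [CommRing R] {M : Matrix (Fin 2) (Fin 2) R}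
    (h : M.trace = 0) : M * M = (-M.det) • (1 : Matrix (Fin 2) (Fin 2) R) := by
  rw [Matrix.trace_fin_two] at h
  have h' : M 1 1 = -M 0 0 := by linear_combination h
  ext i j
  fin_cases i <;> fin_cases j <;> simp [Matrix.mul_apply, Fin.sum_univ_two, Matrix.det_fin_two, h'] <;> ring

theorem tr_mul_eq (X Y : SL2 F) : tr (X * Y) = Matrix.trace (X.1 * Y.1) := by
  rw [tr_eq_trace, Matrix.SpecialLinearGroup.coe_mul]

theorem det_eq_one_of_sq {M : Matrix (Fin 2) (Fin 2) F} (h : M.trace = 0) (hM : M * M = -1) :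
    M.det = 1 := by
  rw [mul_self_of_trace_zero h] at hM
  have := congrFun (congrFun hM 0) 0
  simp at this
  exact this

/-- Two non-commuting-partners in odd characteristic have a common odd-product partner. -/
theorem odd_product_common_odd (hodd : Odd (Nat.card F)) (h4 : 4 ≤ Nat.card F) {x y : PSL2 F}
    (hx : orderOf x = 2) (hy : orderOf y = 2) (hxy : x ≠ y) (hne : ¬ Odd (orderOf (x * y))) :
    ∃ z : PSL2 F, orderOf z = 2 ∧ z ≠ x ∧ z ≠ y ∧ Odd (orderOf (x * z)) ∧ Odd (orderOf (y * z)) := by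
  classical
  have := Fintype.ofFinite F
  obtain ⟨p, hp⟩ := CharP.exists F
  have : Fact p.Prime := ⟨CharP.char_is_prime F p⟩
  obtain ⟨n, hn, hq, ⟨-, he, -, -⟩ | ⟨hp2, -, -, h2⟩⟩ := q_cases (F := F) p
  · exact absurd he (Nat.not_even_iff_odd.2 hodd)
  have hx1 : x ≠ 1 := fun e => by rw [e, orderOf_one] at hx; omega
  have hy1 : y ≠ 1 := fun e => by rw [e, orderOf_one] at hy; omega
  obtain ⟨A, rfl, hA⟩ := exists_lift_involution h2 hx1
    (by rw [← pow_two]; exact orderOf_dvd_iff_pow_eq_one.1 hx.dvd)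
  obtain ⟨B, rfl, hB⟩ := exists_lift_involution h2 hy1
    (by rw [← pow_two]; exact orderOf_dvd_iff_pow_eq_one.1 hy.dvd)
  rw [← QuotientGroup.mk_mul] at hne
  have hAA := coe_sq_neg_one hA
  have hBB := coe_sq_neg_one hB
  have tA : Matrix.trace A.1 = 0 := by rw [← tr_eq_trace, hA]
  have tB : Matrix.trace B.1 = 0 := by rw [← tr_eq_trace, hB]
  set c := -tr (A * B) / 2 with hc
  have htc : tr (A * B) = -2 * c := by rw [hc]; field_simp
  have hanti : A.1 * B.1 + B.1 * A.1 = (-2 * c) • (1 : Matrix (Fin 2) (Fin 2) F) := by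
    rw [anticomm_mat tA tB, ← htc, tr_mul_eq]
  have hc1 : 1 - c ^ 2 ≠ 0 := fun e => hne (odd_orderOf_of_tr p hp2 (Or.inl (by
    rw [htc]; linear_combination -4 * e)))
  -- the involution given by a trace zero matrix squaring to `-1`
  have mkC : ∀ M : Matrix (Fin 2) (Fin 2) F, M.trace = 0 → M * M = -1 →
      ∃ C : SL2 F, C.1 = M ∧ tr C = 0 ∧ orderOf (QuotientGroup.mk C : PSL2 F) = 2 := fun M ht hM => by
    obtain ⟨C, hC⟩ : ∃ C : SL2 F, C.1 = M := ⟨⟨M, det_eq_one_of_sq ht hM⟩, rfl⟩
    have htr : tr C = 0 := by rw [tr_eq_trace, hC]; exact ht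
    refine ⟨C, hC, htr, orderOf_eq_prime ?_ (ne_one_of_tr_zero h2 htr)⟩
    rw [pow_two, ← QuotientGroup.mk_mul, mk_one_iff]
    exact Or.inr (sq_eq_neg_one_of_tr_zero htr)
  rcases (show Nat.card F % 4 = 1 ∨ Nat.card F % 4 = 3 by rw [Nat.odd_iff] at hodd; omega) with h41 | h43
  · -- unipotent products
    obtain ⟨i, hi⟩ : IsSquare (-1 : F) := by
      rw [FiniteField.isSquare_neg_one_iff, ← Nat.card_eq_fintype_card]; omega
    have hcp : 1 + c ≠ 0 := fun e => hc1 (by linear_combination (1 - c) * e)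
    set N : Matrix (Fin 2) (Fin 2) F := A.1 * B.1 + c • 1 with hN
    have hNtr : N.trace = 0 := by
      rw [hN, Matrix.trace_add, Matrix.trace_smul, ← tr_mul_eq, htc]; simp; ring
    have hABA : (A.1 * B.1) * A.1 = (-2 * c) • A.1 + B.1 := by
      have h := congrArg (fun M => A.1 * M) hanti
      rw [mul_add, ← mul_assoc, ← mul_assoc, hAA, Matrix.mul_smul, mul_one, neg_one_mul] at h
      rw [← h]; abel
    have hBAB : B.1 * (A.1 * B.1) = (-2 * c) • B.1 + A.1 := by
      have h := congrArg (fun M => B.1 * M) hanti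
      rw [mul_add, ← mul_assoc, ← mul_assoc, hBB, Matrix.mul_smul, mul_one, neg_one_mul] at h
      rw [← mul_assoc, ← h]; abel
    have hNN : N * N = (c ^ 2 - 1) • (1 : Matrix (Fin 2) (Fin 2) F) := by
      have hAB2 : (A.1 * B.1) * (A.1 * B.1) = (-2 * c) • (A.1 * B.1) - 1 := by
        rw [mul_assoc, hBAB, mul_add, Matrix.mul_smul, hAA, sub_eq_add_neg]
      rw [hN, add_mul, mul_add, mul_add, hAB2, Matrix.smul_mul, Matrix.smul_mul, Matrix.mul_smul,
        one_mul, one_mul, mul_one, smul_smul]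
      module
    have hSN : (A.1 + B.1) * N + N * (A.1 + B.1) = 0 := by
      rw [anticomm_mat (by rw [Matrix.trace_add, tA, tB, add_zero]) hNtr]
      have : ((A.1 + B.1) * N).trace = 0 := by
        rw [hN, mul_add, add_mul, ← mul_assoc, hAA, hBAB, Matrix.mul_smul, mul_one]
        simp [Matrix.trace_add, Matrix.trace_smul, Matrix.trace_neg, tA, tB]
      rw [this, zero_smul]
    have hSS : (A.1 + B.1) * (A.1 + B.1) = (-2 - 2 * c) • (1 : Matrix (Fin 2) (Fin 2) F) := by
      rw [add_mul, mul_add, mul_add, hAA, hBB, show -1 + A.1 * B.1 + (B.1 * A.1 + -1) =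
        (A.1 * B.1 + B.1 * A.1) + (-1 + -1) by abel, hanti]
      module
    set s := (1 + c)⁻¹ with hs
    obtain ⟨C, hC1, hCt, hC2⟩ := mkC (s • (A.1 + B.1) + (i * s) • N) (by
      rw [Matrix.trace_add, Matrix.trace_smul, Matrix.trace_smul, hNtr, Matrix.trace_add, tA, tB]
      simp) (by
      rw [add_mul, mul_add, mul_add, Matrix.smul_mul, Matrix.smul_mul, Matrix.smul_mul, Matrix.smul_mul,
        Matrix.mul_smul, Matrix.mul_smul, Matrix.mul_smul, Matrix.mul_smul, hSS, hNN, smul_smul,
        smul_smul, smul_smul, smul_smul, smul_smul, smul_smul,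
        show (N * (A.1 + B.1)) = -((A.1 + B.1) * N) from eq_neg_of_add_eq_zero_right hSN]
      rw [show (-1 : Matrix (Fin 2) (Fin 2) F) = (-1 : F) • (1 : Matrix (Fin 2) (Fin 2) F) by
        rw [neg_one_smul]]
      have key : s * s * (-2 - 2 * c) + i * s * (i * s) * (c ^ 2 - 1) = -1 := by
        rw [hs]; field_simp; linear_combination -(c ^ 2 - 1) * hi
      rw [← key]
      module)
    have htA : tr (A * C) = -2 := by
      rw [tr_mul_eq, hC1, mul_add, Matrix.mul_smul, Matrix.mul_smul, mul_add, hAA, hN, mul_add,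
        ← mul_assoc, hAA, Matrix.mul_smul, mul_one, Matrix.trace_add, Matrix.trace_smul,
        Matrix.trace_smul, Matrix.trace_add, Matrix.trace_add, Matrix.trace_smul, neg_mul, one_mul,
        Matrix.trace_neg, Matrix.trace_neg, tA, tB, ← tr_mul_eq, htc]
      simp [hs]
      field_simp
      ring
    have htB : tr (B * C) = -2 := by
      rw [tr_mul_eq, hC1, mul_add, Matrix.mul_smul, Matrix.mul_smul, mul_add, hBB, hN, mul_add,
        hBAB, Matrix.mul_smul, mul_one, Matrix.trace_add, Matrix.trace_smul, Matrix.trace_smul,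
        Matrix.trace_add, Matrix.trace_add, Matrix.trace_add, Matrix.trace_smul, Matrix.trace_smul,
        Matrix.trace_neg, tA, tB, Matrix.trace_mul_comm, ← tr_mul_eq, htc]
      simp [hs]
      field_simp
      ring
    refine ⟨QuotientGroup.mk C, hC2, ?_, ?_, ?_, ?_⟩
    · intro e
      apply hc1
      rcases mk_eq_mk_iff.1 e with rfl | rfl
      · rw [tr_mul_comm, htc] at htB
        have : c = 1 := mul_left_cancel₀ (neg_ne_zero.2 h2) (by linear_combination htB)
        rw [this]; ring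
      · rw [mul_neg, tr_neg, tr_mul_comm, htc] at htB
        exact absurd (show 1 + c = 0 from mul_left_cancel₀ h2 (by linear_combination htB)) hcp
    · intro e
      apply hc1
      rcases mk_eq_mk_iff.1 e with rfl | rfl
      · rw [htc] at htA
        have : c = 1 := mul_left_cancel₀ (neg_ne_zero.2 h2) (by linear_combination htA)
        rw [this]; ring
      · rw [mul_neg, tr_neg, htc] at htA
        exact absurd (show 1 + c = 0 from mul_left_cancel₀ h2 (by linear_combination htA)) hcp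
    · rw [← QuotientGroup.mk_mul]
      exact odd_orderOf_of_tr p hp2 (Or.inl (by rw [htA]; ring))
    · rw [← QuotientGroup.mk_mul]
      exact odd_orderOf_of_tr p hp2 (Or.inl (by rw [htB]; ring))
  · -- split products
    have hneg : ¬ IsSquare (-1 : F) := by
      rw [FiniteField.isSquare_neg_one_iff, ← Nat.card_eq_fintype_card]; omega
    have h7 : 7 ≤ Fintype.card F := by rw [← Nat.card_eq_fintype_card]; omega
    have hne2 : ringChar F ≠ 2 := fun h => by
      have : CharP F 2 := ringChar.of_eq h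
      exact h2 (by exact_mod_cast CharP.cast_eq_zero F 2)
    have hnsq : ¬ IsSquare (c ^ 2 - 1) := by
      rintro ⟨w, hw⟩
      refine hne (odd_orderOf_of_tr p hp2 (Or.inr ⟨h43, ?_, 2 * w, ?_⟩))
      · rw [htc]
        intro e
        exact hc1 (mul_left_cancel₀ (mul_ne_zero h2 h2) (by linear_combination -e))
      · rw [htc]; linear_combination 4 * hw
    obtain ⟨d, hd⟩ : IsSquare (1 - c ^ 2) := by
      have h0 : c ^ 2 - 1 ≠ 0 := fun e => hc1 (by linear_combination -e)
      rw [FiniteField.isSquare_iff hne2 hc1, show 1 - c ^ 2 = (-1) * (c ^ 2 - 1) by ring, mul_pow,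
        (FiniteField.pow_dichotomy hne2 (neg_ne_zero.2 one_ne_zero)).resolve_left
          (fun e => hneg ((FiniteField.isSquare_iff hne2 (neg_ne_zero.2 one_ne_zero)).2 e)),
        (FiniteField.pow_dichotomy hne2 h0).resolve_left
          (fun e => hnsq ((FiniteField.isSquare_iff hne2 h0).2 e))]
      norm_num
    have hd0 : d ≠ 0 := fun e => hc1 (by rw [hd, e, mul_zero])
    obtain ⟨a, b, e, habe, ⟨ha1, u, hu⟩, hs1, v, hv⟩ :=
      sphere_common_split h2 hneg h7 (c := c) (d := d) (by linear_combination -hd) hd0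
    obtain ⟨B', hB'1, hB't, -⟩ := mkC (d⁻¹ • (B.1 - c • A.1)) (by
      rw [Matrix.trace_smul, Matrix.trace_sub, Matrix.trace_smul, tA, tB]; simp) (by
      rw [Matrix.smul_mul, Matrix.mul_smul, sub_mul, mul_sub, mul_sub, Matrix.smul_mul, Matrix.smul_mul,
        Matrix.mul_smul, Matrix.mul_smul, hAA, hBB, smul_smul, smul_smul,
        show B.1 * A.1 = (-2 * c) • 1 - A.1 * B.1 from eq_sub_of_add_eq (by rw [add_comm, hanti])]
      rw [show (-1 : Matrix (Fin 2) (Fin 2) F) = (-1 : F) • (1 : Matrix (Fin 2) (Fin 2) F) by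
        rw [neg_one_smul]]
      have key : d⁻¹ * d⁻¹ * (-1 + 2 * c * c - c * c) = -1 := by
        field_simp; linear_combination -hd
      match_scalars
      · linear_combination key
      · ring)
    have hAB' : A * B' = -(B' * A) := by
      apply Subtype.ext
      rw [Matrix.SpecialLinearGroup.coe_mul, Matrix.SpecialLinearGroup.coe_neg,
        Matrix.SpecialLinearGroup.coe_mul, hB'1, Matrix.mul_smul, Matrix.smul_mul, mul_sub, sub_mul,
        Matrix.mul_smul, Matrix.smul_mul, hAA,
        show B.1 * A.1 = (-2 * c) • 1 - A.1 * B.1 from eq_sub_of_add_eq (by rw [add_comm, hanti])]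
      module
    have tB' : Matrix.trace B'.1 = 0 := by rw [← tr_eq_trace, hB't]
    have hBB' := coe_sq_neg_one hB't
    have hB'A : B'.1 * A.1 = -(A.1 * B'.1) := by rw [coe_anticomm hAB', neg_neg]
    set E := A.1 * B'.1 with hE
    have hEE : E * E = -1 := by
      rw [hE, show A.1 * B'.1 * (A.1 * B'.1) = A.1 * (B'.1 * A.1) * B'.1 by simp only [mul_assoc], hB'A,
        mul_neg, neg_mul, ← mul_assoc, hAA, neg_mul, one_mul, neg_mul, neg_neg, hBB']
    have hAE : A.1 * E = -B'.1 := by rw [hE, ← mul_assoc, hAA, neg_mul, one_mul]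
    have hEA : E * A.1 = B'.1 := by
      rw [hE, mul_assoc, hB'A, mul_neg, ← mul_assoc, hAA, neg_mul, one_mul, neg_neg]
    have hB'E : B'.1 * E = A.1 := by
      rw [hE, ← mul_assoc, hB'A, neg_mul, mul_assoc, hBB', mul_neg, mul_one, neg_neg]
    have hEB' : E * B'.1 = -A.1 := by rw [hE, mul_assoc, hBB', mul_neg, mul_one]
    have tE : Matrix.trace E = 0 := by
      have h' : (2 : F) * Matrix.trace E = 0 := by
        have h'' := Matrix.trace_mul_comm B'.1 A.1
        rw [hB'A, Matrix.trace_neg] at h''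
        linear_combination -h''
      exact (mul_eq_zero.1 h').resolve_left h2
    obtain ⟨C, hC1, hCt, hC2⟩ := mkC (a • A.1 + b • B'.1 + e • E) (by
      rw [Matrix.trace_add, Matrix.trace_add, Matrix.trace_smul, Matrix.trace_smul, Matrix.trace_smul,
        tA, tB', tE]; simp) (by
      simp only [add_mul, mul_add, smul_mul_assoc, mul_smul_comm, hAA, hBB', hEE, hAE, hEA, hB'E, hEB',
        hB'A, ← hE]
      rw [show (-1 : Matrix (Fin 2) (Fin 2) F) = (-1 : F) • (1 : Matrix (Fin 2) (Fin 2) F) by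
        rw [neg_one_smul]]
      match_scalars <;> first | ring1 | linear_combination -habe)
    have htA : tr (A * C) = -2 * a := by
      rw [tr_mul_eq, hC1, mul_add, mul_add, Matrix.mul_smul, Matrix.mul_smul, Matrix.mul_smul, hAA,
        hAE, ← hE, Matrix.trace_add, Matrix.trace_add, Matrix.trace_smul, Matrix.trace_smul,
        Matrix.trace_smul, tE, Matrix.trace_neg, Matrix.trace_neg, tB']
      simp; ring
    have hBd : B.1 = c • A.1 + d • B'.1 := by
      rw [hB'1, smul_smul, mul_inv_cancel₀ hd0, one_smul]; abel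
    have htB : tr (B * C) = -2 * (c * a + d * b) := by
      rw [tr_mul_eq, hC1, hBd]
      simp only [add_mul, mul_add, smul_mul_assoc, mul_smul_comm, hAA, hBB', hAE, hB'E, hB'A, ← hE]
      simp [Matrix.trace_add, Matrix.trace_smul, Matrix.trace_neg, tA, tB', tE]
      ring
    have h4eq : (4 : F) = 2 * 2 := by norm_num
    refine ⟨QuotientGroup.mk C, hC2, ?_, ?_, ?_, ?_⟩
    · intro hm
      apply ha1
      have hsq : A * A = -1 := sq_eq_neg_one_of_tr_zero hA
      rcases mk_eq_mk_iff.1 hm with rfl | rfl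
      · rw [hsq, tr_neg, tr_one] at htA
        rw [mul_left_cancel₀ (neg_ne_zero.2 h2) (show -2 * a = -2 * 1 by linear_combination -htA)]
        ring
      · rw [mul_neg, tr_neg, hsq, tr_neg, tr_one] at htA
        rw [mul_left_cancel₀ (neg_ne_zero.2 h2) (show -2 * a = -2 * (-1) by linear_combination -htA)]
        ring
    · intro hm
      apply hs1
      have hsq : B * B = -1 := sq_eq_neg_one_of_tr_zero hB
      rcases mk_eq_mk_iff.1 hm with rfl | rfl
      · rw [hsq, tr_neg, tr_one] at htB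
        rw [mul_left_cancel₀ (neg_ne_zero.2 h2)
          (show -2 * (c * a + d * b) = -2 * 1 by linear_combination -htB)]
        ring
      · rw [mul_neg, tr_neg, hsq, tr_neg, tr_one] at htB
        rw [mul_left_cancel₀ (neg_ne_zero.2 h2)
          (show -2 * (c * a + d * b) = -2 * (-1) by linear_combination -htB)]
        ring
    · rw [← QuotientGroup.mk_mul]
      refine odd_orderOf_of_tr p hp2 (Or.inr ⟨h43, ?_, 2 * u, ?_⟩)
      · rw [htA, h4eq]
        exact fun h => ha1 (mul_left_cancel₀ (mul_ne_zero h2 h2) (by linear_combination h))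
      · rw [htA]; linear_combination 4 * hu
    · rw [← QuotientGroup.mk_mul]
      refine odd_orderOf_of_tr p hp2 (Or.inr ⟨h43, ?_, 2 * v, ?_⟩)
      · rw [htB, h4eq]
        exact fun h => hs1 (mul_left_cancel₀ (mul_ne_zero h2 h2) (by linear_combination h))
      · rw [htB]; linear_combination 4 * hv

/-- The even characteristic case. -/
theorem odd_product_common_even [CharP F 2] {x y : PSL2 F} (hx : orderOf x = 2)
    (hy : orderOf y = 2) (hne : ¬ Odd (orderOf (x * y))) :
    ∃ g : PSL2 F, orderOf (g * x * g⁻¹) = 2 ∧ g * x * g⁻¹ ≠ x ∧ g * x * g⁻¹ ≠ y ∧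
      Odd (orderOf (x * (g * x * g⁻¹))) ∧ Odd (orderOf (y * (g * x * g⁻¹))) := by
  obtain ⟨n, hn, hq, ⟨-, he, hd, -⟩ | ⟨h, -⟩⟩ := q_cases (F := F) 2
  swap
  · exact absurd rfl h
  rw [Nat.even_iff] at he
  have hpos : 0 < Nat.card F := Nat.card_pos
  have hfix : ∀ z : PSL2 F, orderOf z = 2 → ∃ P : Pt F, z • P = P := fun z hz =>
    exists_fix_of_pow_char 2 (orderOf_dvd_iff_pow_eq_one.1 hz.dvd)
  have huniq : ∀ z : PSL2 F, orderOf z = 2 → ∀ P Q : Pt F, z • P = P → z • Q = Q → P = Q :=
    fun z hz P Q hP hQ => eq_of_fix_pow_char 2 (g := ProjectiveSpecialLinearGroup.toPGL z)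
      (fun e => by
        rw [← map_one (ProjectiveSpecialLinearGroup.toPGL : PSL2 F →* PGL2 F)] at e
        rw [ProjectiveSpecialLinearGroup.toPGL_injective e, orderOf_one] at hz
        omega)
      (by rw [← map_pow, orderOf_dvd_iff_pow_eq_one.1 hz.dvd, map_one])
      (by rw [toPGL_smul, hP]) (by rw [toPGL_smul, hQ])
  have hsep : ∀ z w : PSL2 F, orderOf z = 2 → orderOf w = 2 → ∀ P Q : Pt F, z • P = P → w • Q = Q →
      P ≠ Q → Odd (orderOf (z * w)) := by
    intro z w hz hw P Q hP hQ hPQ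
    rcases psl_orderOf_cases 2 (z * w) with h | h | h
    · rw [hd, Nat.div_one] at h; exact (Nat.odd_iff.2 (by omega : (Nat.card F - 1) % 2 = 1)).of_dvd_nat h
    · rw [hd, Nat.div_one] at h; exact (Nat.odd_iff.2 (by omega : (Nat.card F + 1) % 2 = 1)).of_dvd_nat h
    · rcases (Nat.dvd_prime Nat.prime_two).1 h with e | e
      · rw [e]; exact odd_one
      · exfalso
        apply hPQ
        have hzz : z * z = 1 := by rw [← pow_two]; exact orderOf_dvd_iff_pow_eq_one.1 hz.dvd
        have hww : w * w = 1 := by rw [← pow_two]; exact orderOf_dvd_iff_pow_eq_one.1 hw.dvd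
        have hzw : z * w = w * z := by
          have h2' : (z * w) * (z * w) = 1 := by rw [← pow_two]; exact orderOf_dvd_iff_pow_eq_one.1 e.dvd
          calc z * w = (z * w)⁻¹ := (inv_eq_of_mul_eq_one_right h2').symm
            _ = w * z := by
              rw [_root_.mul_inv_rev, inv_eq_of_mul_eq_one_right hzz, inv_eq_of_mul_eq_one_right hww]
        have hwP : z • (w • P) = w • P := by rw [← mul_smul, hzw, mul_smul, hP]
        exact huniq w hw P Q (huniq z hz _ _ hwP hP) hQ
  obtain ⟨P, hP⟩ := hfix x hx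
  obtain ⟨Q, hQ⟩ := hfix y hy
  have hPQ : P = Q := by_contra fun h => hne (hsep x y hx hy P Q hP hQ h)
  subst hPQ
  obtain ⟨R, hR⟩ : ∃ R : Pt F, R ≠ P := by
    have : Nontrivial (Pt F) := Finite.one_lt_card_iff_nontrivial.1 (by
      rw [card_pt]; have : 0 < Nat.card F := Nat.card_pos; omega)
    exact exists_ne P
  obtain ⟨g, hg⟩ := MulAction.exists_smul_eq (PSL2 F) P R
  have hz : orderOf (g * x * g⁻¹) = 2 := by
    rw [show g * x * g⁻¹ = MulAut.conj g x from rfl, MulEquiv.orderOf_eq, hx]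
  have hzR : (g * x * g⁻¹) • R = R := by
    rw [← hg, mul_smul, mul_smul, inv_smul_smul, hP]
  refine ⟨g, hz, fun e => hR (huniq x hx R P (e ▸ hzR) hP), fun e => hR (huniq y hy R P (e ▸ hzR) hQ),
    hsep x _ hx hz P R hP hzR hR.symm, hsep y _ hy hz P R hQ hzR hR.symm⟩

theorem isConj_involution_even [CharP F 2] {x y : PSL2 F} (hx : orderOf x = 2) (hy : orderOf y = 2) :
    IsConj x y := by
  obtain ⟨n, hn, hq, ⟨-, he, hd, h20⟩ | ⟨h, -⟩⟩ := q_cases (F := F) 2
  swap
  · exact absurd rfl h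
  have htop : (ProjectiveSpecialLinearGroup.toPGL : PSL2 F →* PGL2 F).range = ⊤ :=
    Subgroup.index_eq_one.1 (by rw [index_range_toPGL, hd])
  have key : ∀ z : PSL2 F, orderOf z = 2 → ∃ k : PGL2 F, ∃ b : F, b ≠ 0 ∧
      k * ProjectiveSpecialLinearGroup.toPGL z * k⁻¹ = aff 1 b := by
    intro z hz
    have hzp : (ProjectiveSpecialLinearGroup.toPGL z) ^ 2 = 1 := by
      rw [← map_pow, orderOf_dvd_iff_pow_eq_one.1 hz.dvd, map_one]
    obtain ⟨P, hP⟩ := exists_fix_of_pow_char 2 (orderOf_dvd_iff_pow_eq_one.1 hz.dvd)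
    obtain ⟨k, hk⟩ := exists_map_pinf P
    obtain ⟨a, b, hab⟩ := exists_aff_of_fix (g := k * ProjectiveSpecialLinearGroup.toPGL z * k⁻¹)
      (by rw [mul_smul, mul_smul, ← hk, inv_smul_smul, toPGL_smul, hP])
    have ha : a = 1 := (aff_pow_char_iff 2).1 (by rw [← hab, conj_pow, hzp, mul_one, mul_inv_cancel])
    subst ha
    refine ⟨k, b, fun hb => ?_, hab⟩
    rw [hb, aff_one_zero, mul_inv_eq_one, mul_eq_left,
      ← map_one (ProjectiveSpecialLinearGroup.toPGL : PSL2 F →* PGL2 F)] at hab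
    rw [ProjectiveSpecialLinearGroup.toPGL_injective hab, orderOf_one] at hz
    omega
  obtain ⟨k, b, hb, hk⟩ := key x hx
  obtain ⟨k', b', hb', hk'⟩ := key y hy
  obtain ⟨g, hg⟩ := (htop ▸ Subgroup.mem_top _ :
    k'⁻¹ * aff (Units.mk0 (b' / b) (div_ne_zero hb' hb)) 0 * k ∈
      (ProjectiveSpecialLinearGroup.toPGL : PSL2 F →* PGL2 F).range)
  refine isConj_iff.2 ⟨g, ProjectiveSpecialLinearGroup.toPGL_injective ?_⟩
  have h3 : aff (Units.mk0 (b' / b) (div_ne_zero hb' hb)) 0 * aff 1 b *
      (aff (Units.mk0 (b' / b) (div_ne_zero hb' hb)) 0)⁻¹ = aff 1 b' := by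
    rw [aff_inv, aff_mul_aff, aff_mul_aff, aff_inj]
    exact ⟨by simp, by simp [div_mul_cancel₀ _ hb]⟩
  rw [map_mul, map_mul, map_inv, hg,
    show ProjectiveSpecialLinearGroup.toPGL x = k⁻¹ * aff 1 b * k by rw [← hk]; group,
    show ProjectiveSpecialLinearGroup.toPGL y = k'⁻¹ * aff 1 b' * k' by rw [← hk']; group, ← h3]
  group

theorem exists_commuting_involution (h4 : 4 ≤ Nat.card F) {x : PSL2 F} (hx : orderOf x = 2) :
    ∃ g : PSL2 F, g * x * g⁻¹ ≠ x ∧ ¬ Odd (orderOf (x * (g * x * g⁻¹))) := by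
  obtain ⟨p, hp⟩ := CharP.exists F
  have : Fact p.Prime := ⟨CharP.char_is_prime F p⟩
  have key : ∀ z : PSL2 F, orderOf z = 2 → z ≠ x → x * z = z * x → IsConj x z →
      ∃ g : PSL2 F, g * x * g⁻¹ ≠ x ∧ ¬ Odd (orderOf (x * (g * x * g⁻¹))) := by
    intro z hz hne hc hconj
    obtain ⟨g, rfl⟩ := isConj_iff.1 hconj
    refine ⟨g, hne, fun ho => ?_⟩
    have h2 : (x * (g * x * g⁻¹)) ^ 2 = 1 := by
      rw [(show Commute x (g * x * g⁻¹) from hc).mul_pow, orderOf_dvd_iff_pow_eq_one.1 hx.dvd,
        orderOf_dvd_iff_pow_eq_one.1 hz.dvd, one_mul]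
    rcases (Nat.dvd_prime Nat.prime_two).1 (orderOf_dvd_of_pow_eq_one h2) with e | e
    · rw [orderOf_eq_one_iff, mul_eq_one_iff_inv_eq] at e
      refine hne ?_
      rw [← e]
      exact inv_eq_of_mul_eq_one_right (by rw [← pow_two]; exact orderOf_dvd_iff_pow_eq_one.1 hx.dvd)
    · rw [e] at ho; exact absurd ho (by decide)
  obtain ⟨n, hn, hq, ⟨rfl, he, hd, -⟩ | ⟨-, hodd, -, h2⟩⟩ := q_cases (F := F) p
  · -- a translation with the same fixed point, conjugate by a homothety
    have hC := card_centralizer_char 2 hx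
    have := Fintype.ofFinite (centralizer ({x} : Set (PSL2 F)))
    classical
    obtain ⟨⟨z, hzC⟩, hz⟩ : ∃ z : centralizer ({x} : Set (PSL2 F)), (z : PSL2 F) ∉ ({1, x} : Set (PSL2 F)) := by
      by_contra hall
      push Not at hall
      have hle : Nat.card (centralizer ({x} : Set (PSL2 F))) ≤ Nat.card ↥({1, x} : Set (PSL2 F)) :=
        Nat.card_le_card_of_injective (fun z => ⟨z.1, hall z⟩)
          fun a b h => Subtype.ext (congrArg (fun w : ↥({1, x} : Set (PSL2 F)) => w.1) h)
      rw [hC, Nat.card_coe_set_eq] at hle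
      have := (Set.ncard_insert_le (1 : PSL2 F) {x}).trans' hle
      rw [Set.ncard_singleton] at this
      omega
    simp only [Set.mem_insert_iff, Set.mem_singleton_iff, not_or] at hz
    have hzo : orderOf z = 2 := by
      have hdvd : orderOf z ∣ 2 ^ n := by
        rw [← hq, ← hC, ← Subgroup.orderOf_mk z hzC]; exact _root_.orderOf_dvd_natCard _
      obtain ⟨k, -, hk⟩ := (Nat.dvd_prime_pow Nat.prime_two).1 hdvd
      rcases psl_orderOf_cases 2 z with h | h | h
      · exfalso
        rw [hd, Nat.div_one, hk] at h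
        rw [Nat.even_iff] at he
        rcases k with _ | k
        · exact hz.1 (orderOf_eq_one_iff.1 (by rw [hk, pow_zero]))
        · have := (dvd_pow_self 2 (Nat.succ_ne_zero k)).trans h
          omega
      · exfalso
        rw [hd, Nat.div_one, hk] at h
        rw [Nat.even_iff] at he
        rcases k with _ | k
        · exact hz.1 (orderOf_eq_one_iff.1 (by rw [hk, pow_zero]))
        · have := (dvd_pow_self 2 (Nat.succ_ne_zero k)).trans h
          omega
      · exact ((Nat.dvd_prime Nat.prime_two).1 h).resolve_left fun e => hz.1 (orderOf_eq_one_iff.1 e)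
    refine key z hzo hz.2 (mem_centralizer_singleton_iff.1 hzC).symm ?_
    exact isConj_involution_even hx hzo
  · obtain ⟨A₀, ⟨eA⟩⟩ := exists_alternatingFour_sub (F := F) h2
    obtain ⟨V, hV, -, -, -⟩ := exists_four A₀ (Or.inl ⟨eA⟩)
    have : Nontrivial V := Finite.one_lt_card_iff_nontrivial.1 (by rw [hV.card_four]; norm_num)
    obtain ⟨⟨a, haV⟩, ha⟩ := exists_ne (1 : V)
    have ha1 : a ≠ 1 := fun e => ha (Subtype.ext e)
    have hinv : ∀ b : PSL2 F, b ∈ V → b ≠ 1 → orderOf b = 2 := fun b hb hb1 => by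
      refine orderOf_eq_prime ?_ hb1
      have h := Monoid.pow_exponent_eq_one (⟨b, hb⟩ : V)
      rw [hV.exponent_two] at h
      exact congrArg Subtype.val h
    obtain ⟨b, hbV, hb1, hba⟩ : ∃ b ∈ V, b ≠ 1 ∧ b ≠ a := by
      by_contra hall
      push Not at hall
      have hle : Nat.card V ≤ Nat.card ↥({1, a} : Set (PSL2 F)) :=
        Nat.card_le_card_of_injective (fun z => ⟨z.1, by
          by_cases h : (z : PSL2 F) = 1
          · exact Or.inl h
          · exact Or.inr (hall _ z.2 h)⟩)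
          fun a' b h => Subtype.ext (congrArg (fun w : ↥({1, a} : Set (PSL2 F)) => w.1) h)
      rw [hV.card_four, Nat.card_coe_set_eq] at hle
      have := (Set.ncard_insert_le (1 : PSL2 F) {a}).trans' hle
      rw [Set.ncard_singleton] at this
      omega
    obtain ⟨g, rfl⟩ := isConj_iff.1 (involution_isConj hodd (hinv a haV ha1) hx)
    have hb' : orderOf (g * b * g⁻¹) = 2 := by
      rw [show g * b * g⁻¹ = MulAut.conj g b from rfl, MulEquiv.orderOf_eq, hinv b hbV hb1]
    refine key (g * b * g⁻¹) hb' (fun e => hba (mul_left_cancel (mul_right_cancel e))) ?_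
      (involution_isConj hodd hx hb')
    have hab : a * b = b * a := (klein_comm hV haV hbV).2
    calc g * a * g⁻¹ * (g * b * g⁻¹) = g * (a * b) * g⁻¹ := by group
      _ = g * (b * a) * g⁻¹ := by rw [hab]
      _ = _ := by group

end Cfsg.Agent.PSL2
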