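/-
The dihedral subgroups of orders `2 (q ∓ 1)/d`.

Main results (namespace `Cfsg.Agent.PSL2`):
* `pgl_orderOf_cases`     : element orders in `PGL_2(q)`, `q` odd
* `dvd_of_orderOf_dihedral`: an element of order `n ≥ 3` of `D_k` forces `n ∣ k`
* `dihedral_isCoatom`     : maximality of the full dihedral subgroups
-/
import Cfsg.Agent.Lib.PSL2.Overgroups

set_option autoImplicit false
set_option linter.unusedSectionVars false
set_option linter.dupNamespace false

open Matrix MulAction Subgroup
open scoped LinearAlgebra.Projectivization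

namespace Cfsg.Agent.PSL2

theorem dvd_of_orderOf_dihedral {k n : ℕ} {x : DihedralGroup k} (hx : orderOf x = n) (hn : 3 ≤ n) :
    n ∣ k := by
  rcases x with i | i
  · rw [← hx]
    refine orderOf_dvd_of_pow_eq_one ?_
    simp [DihedralGroup.r_pow]
  · rw [DihedralGroup.orderOf_sr] at hx; omega

theorem altFour_no_inverting : ∀ x w : alternatingGroup (Fin 4),
    x ^ 3 = 1 → w * x * w⁻¹ = x⁻¹ → x = 1 := by
  decide +kernel

theorem altFour_orders : ∀ x : alternatingGroup (Fin 4), x ^ 2 = 1 ∨ x ^ 3 = 1 := by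
  decide +kernel

theorem permFour_orders : ∀ x : Equiv.Perm (Fin 4), x ^ 3 = 1 ∨ x ^ 4 = 1 := by
  decide +kernel

theorem altFive_orders : ∀ x : alternatingGroup (Fin 5), x ^ 2 = 1 ∨ x ^ 3 = 1 ∨ x ^ 5 = 1 := by
  decide +kernel

variable {F : Type*} [Field F] [Finite F]

theorem pgl_orderOf_cases (p : ℕ) [Fact p.Prime] [CharP F p] (hp : p ≠ 2) (g : PGL2 F) :
    orderOf g ∣ Nat.card F - 1 ∨ orderOf g ∣ Nat.card F + 1 ∨ orderOf g ∣ 2 * p := by
  obtain ⟨a, b, c, d, h, rfl⟩ := exists_mob g
  have hmem : mob a b c d h * mob a b c d h ∈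
      (ProjectiveSpecialLinearGroup.toPGL : PSL2 F →* PGL2 F).range := by
    rw [mob_mul_mob]
    exact mem_range_toPGL ⟨a * d - b * c, by ring⟩
  obtain ⟨y, hy⟩ := hmem
  have key : ∀ k, orderOf y ∣ k → orderOf (mob a b c d h) ∣ 2 * k := by
    intro k hk
    refine orderOf_dvd_of_pow_eq_one ?_
    rw [pow_mul, pow_two, ← hy, ← map_pow, orderOf_dvd_iff_pow_eq_one.1 hk, map_one]
  obtain ⟨n, -, -, ⟨h2, -⟩ | ⟨-, -, hd, -⟩⟩ := q_cases (F := F) p
  · exact absurd h2 hp
  have h1 : 2 ∣ Nat.card F - 1 := hd ▸ Nat.gcd_dvd_right 2 _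
  have h1' : 2 ∣ Nat.card F + 1 := hd ▸ gcdTwo_dvd (Or.inr rfl)
  rcases psl_orderOf_cases p y with e | e | e
  · rw [hd] at e
    exact Or.inl ((key _ e).trans (dvd_of_eq (Nat.mul_div_cancel' h1)))
  · rw [hd] at e
    exact Or.inr (Or.inl ((key _ e).trans (dvd_of_eq (Nat.mul_div_cancel' h1'))))
  · exact Or.inr (Or.inr (key _ e))

theorem coprime_char_of_torus (p : ℕ) [Fact p.Prime] [CharP F p] {n : ℕ}
    (h : n ∣ (Nat.card F - 1) / Nat.gcd 2 (Nat.card F - 1) ∨
      n ∣ (Nat.card F + 1) / Nat.gcd 2 (Nat.card F - 1)) : ¬ p ∣ n := by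
  intro hp
  obtain ⟨a, ha, hq⟩ := GLOrder.exists_card_eq_pow (F := F) p
  have hpq : p ∣ Nat.card F := hq ▸ dvd_pow_self p ha.ne'
  have hq1 : 1 < Nat.card F := Finite.one_lt_card
  rcases h with h | h
  · have h' := Nat.dvd_sub hpq
      ((hp.trans h).trans (Nat.div_dvd_of_dvd (Nat.gcd_dvd_right _ _)))
    rw [show Nat.card F - (Nat.card F - 1) = 1 by omega] at h'
    exact (Fact.out : p.Prime).not_dvd_one h'
  · exact (Fact.out : p.Prime).not_dvd_one ((Nat.dvd_add_right hpq).1
      ((hp.trans h).trans (Nat.div_dvd_of_dvd (gcdTwo_dvd (Or.inr rfl)))))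

theorem dihedral_isCoatom {n : ℕ} (hn : 3 ≤ n)
    (hside : n = (Nat.card F - 1) / Nat.gcd 2 (Nat.card F - 1) ∨
      n = (Nat.card F + 1) / Nat.gcd 2 (Nat.card F - 1))
    (h2q : Nat.card F ≠ 2) (h7 : Nat.card F ≠ 7) (h9 : Nat.card F ≠ 9) (h11 : Nat.card F = 11 → n = 6)
    {H : Subgroup (PSL2 F)} (e : H ≃* DihedralGroup n) : IsCoatom H := by
  obtain ⟨p, hp⟩ := CharP.exists F
  have : Fact p.Prime := ⟨CharP.char_is_prime F p⟩
  obtain ⟨a, ha, hqn, hcase⟩ := q_cases (F := F) p
  have hq1 : 1 < Nat.card F := Finite.one_lt_card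
  have hpn : ¬ p ∣ n := coprime_char_of_torus p (hside.imp dvd_of_eq dvd_of_eq)
  have hH : Nat.card H = 2 * n := (Nat.card_congr e.toEquiv).trans DihedralGroup.nat_card
  set d := Nat.gcd 2 (Nat.card F - 1) with hd
  have hd2 : d ≤ 2 := Nat.le_of_dvd two_pos (Nat.gcd_dvd_left _ _)
  have hd0 : 0 < d := Nat.gcd_pos_of_pos_left _ two_pos
  have hnd : n * d = Nat.card F - 1 ∨ n * d = Nat.card F + 1 := by
    rcases hside with h | h
    · left; rw [h, Nat.div_mul_cancel (hd ▸ Nat.gcd_dvd_right _ _)]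
    · right; rw [h, Nat.div_mul_cancel (hd ▸ gcdTwo_dvd (Or.inr rfl))]
  have hq4 : 4 ≤ Nat.card F := by
    have : n * 1 ≤ n * d := Nat.mul_le_mul_left n hd0
    rcases hcase with ⟨rfl, he, h1, -⟩ | ⟨-, ho, h1, -⟩
    · rw [Nat.even_iff] at he; rw [h1] at hnd; omega
    · rw [Nat.odd_iff] at ho; rw [h1] at hnd; omega
  refine isCoatom_of_forall ?_ ?_
  · intro htop
    rw [htop, Subgroup.card_top] at hH
    have h1 := card_psl_mul (F := F)
    rw [hH, ← hd] at h1
    have h2 : d * (2 * n) ≤ 2 * (Nat.card F + 1) := by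
      rw [mul_left_comm, mul_comm d]
      exact Nat.mul_le_mul_left 2 (by omega)
    have h3 : 4 * ((Nat.card F + 1) * 1) ≤ Nat.card F * ((Nat.card F + 1) * (Nat.card F - 1)) :=
      Nat.mul_le_mul hq4 (Nat.mul_le_mul_left _ (by omega))
    omega
  · intro M hle hne
    let g : DihedralGroup n →* M := (Subgroup.inclusion hle).comp e.symm.toMonoidHom
    have hg : Function.Injective g := (Subgroup.inclusion_injective hle).comp e.symm.injective
    set x : M := g (DihedralGroup.r 1) with hxdef
    have hx : orderOf x = n := by rw [hxdef, orderOf_injective g hg, DihedralGroup.orderOf_r_one]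
    have hxinv : g (DihedralGroup.sr 0) * x * (g (DihedralGroup.sr 0))⁻¹ = x⁻¹ := by
      rw [hxdef, ← map_inv, ← map_inv, ← map_mul, ← map_mul]
      congr 1
      simp
    have hdvd : 2 * n ∣ Nat.card M := hH ▸ Subgroup.card_dvd_of_le hle
    -- the polyhedral groups occur for small `q` only
    have hsmall : p ≠ 2 → n ≤ 5 → Nat.card F = 5 ∧ n = 3 := by
      intro hp2 hn5
      rcases hcase with ⟨h, -⟩ | ⟨-, ho, h1, -⟩
      · exact absurd h hp2
      · rw [h1] at hnd; rw [Nat.odd_iff] at ho
        omega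
    rcases psl_dickson p M with ⟨-, S, hS⟩ | ⟨-, hcyc, -⟩ | ⟨k, -, -, hk, hcard, -, ⟨f⟩⟩ |
      ⟨hpM, ⟨⟨f⟩⟩ | ⟨⟨f⟩⟩ | ⟨⟨f⟩⟩⟩ | ⟨rfl, h60, ⟨f⟩⟩ | ⟨R, m, hm, hR, hiso⟩
    · exfalso
      obtain ⟨P, hP⟩ := normalizer_sylow_le p S
      exact not_dihedral_le_stabilizer p hn hpn (M.subtype.comp g)
        (Subtype.coe_injective.comp hg) (fun y => hP (hS (g y).2))
    · exfalso
      obtain ⟨c, hc⟩ := hcyc.exists_generator
      obtain ⟨i, hi⟩ := hc x
      obtain ⟨j, hj⟩ := hc (g (DihedralGroup.sr 0))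
      simp only at hi hj
      rw [← hj, ← hi, ((Commute.refl c).zpow_zpow j i).eq, mul_inv_cancel_right] at hxinv
      have h2 : x * x = 1 := by
        rw [← hi]; nth_rewrite 2 [hxinv]; exact mul_inv_cancel _
      have := Nat.le_of_dvd two_pos (hx ▸ orderOf_dvd_of_pow_eq_one (by rwa [pow_two]))
      omega
    · refine eq_of_le_of_card hle ?_
      rw [hH, hcard]
      refine Nat.mul_le_mul_left 2 (Nat.le_of_dvd (by omega) ?_)
      have hnk : n ∣ k := dvd_of_orderOf_dihedral (x := f x) (by rw [MulEquiv.orderOf_eq, hx]) hn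
      have hk' : ∀ A B : ℕ, n = A → k ∣ B → Nat.Coprime A B → False := fun A B hA hB hAB => by
        have := Nat.le_of_dvd one_pos
          (hAB ▸ Nat.dvd_gcd (dvd_of_eq hA) (hnk.trans hB) : n ∣ 1)
        omega
      rcases hside with h | h <;> rcases hk with h' | h'
      · exact h ▸ h'
      · exact (hk' _ _ h h' coprime_torus).elim
      · exact (hk' _ _ h h' coprime_torus.symm).elim
      · exact h ▸ h'
    · -- `A_4`
      exfalso
      have hp2 : p ≠ 2 := fun h => hpM (h ▸ (Nat.dvd_mul_right 2 n).trans hdvd)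
      have hn3 : n = 3 := by
        rcases altFour_orders (f x) with e | e <;>
          have := Nat.le_of_dvd (by norm_num) (orderOf_dvd_of_pow_eq_one e) <;>
          rw [MulEquiv.orderOf_eq, hx] at this <;> omega
      have hx3 : f x ^ 3 = 1 := by
        rw [← map_pow, ← hn3, ← hx, pow_orderOf_eq_one, map_one]
      have h1 := altFour_no_inverting (f x) (f (g (DihedralGroup.sr 0))) hx3
        (by rw [← map_inv, ← map_mul, ← map_mul, hxinv, map_inv])
      rw [MulEquiv.map_eq_one_iff] at h1
      rw [h1, orderOf_one] at hx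
      omega
    · -- `S_4`
      exfalso
      have hp2 : p ≠ 2 := fun h => hpM (h ▸ (Nat.dvd_mul_right 2 n).trans hdvd)
      have hn4 : n ≤ 4 := by
        rcases permFour_orders (f x) with e | e <;>
          have := Nat.le_of_dvd (by norm_num) (orderOf_dvd_of_pow_eq_one e) <;>
          rw [MulEquiv.orderOf_eq, hx] at this <;> omega
      obtain ⟨hq5, -⟩ := hsmall hp2 (by omega)
      have h16 := exists_permFour_sub_iff.1 ⟨M, ⟨f⟩⟩
      rw [hq5] at h16
      norm_num at h16
    · -- `A_5`
      have hp2 : p ≠ 2 := fun h => hpM (h ▸ (Nat.dvd_mul_right 2 n).trans hdvd)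
      have hn5 : n ≤ 5 := by
        rcases altFive_orders (f x) with e | e | e <;>
          have := Nat.le_of_dvd (by norm_num) (orderOf_dvd_of_pow_eq_one e) <;>
          rw [MulEquiv.orderOf_eq, hx] at this <;> omega
      obtain ⟨hq5, -⟩ := hsmall hp2 hn5
      refine absurd (Subgroup.eq_top_of_card_eq M ?_) hne
      have h1 := card_psl_mul (F := F)
      rw [hq5] at h1
      norm_num at h1
      rw [(Nat.card_congr f.toEquiv).trans card_alt_five]
      omega
    · have hn5 : n ≤ 5 := by
        rcases altFive_orders (f x) with e | e | e <;>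
          have := Nat.le_of_dvd (by norm_num) (orderOf_dvd_of_pow_eq_one e) <;>
          rw [MulEquiv.orderOf_eq, hx] at this <;> omega
      obtain ⟨hq5, -⟩ := hsmall (by norm_num) hn5
      exfalso
      rw [hq5] at hqn
      have h := dvd_pow_self 3 (show a ≠ 0 by omega)
      rw [← hqn] at h
      norm_num at h
    · by_cases hm1 : m = 1
      · subst hm1
        rcases hiso with ⟨⟨f⟩⟩ | ⟨-, he, -⟩
        · exact absurd (eq_top_of_psl (by rw [← hR, pow_one]) f) hne
        · exact absurd he (by decide)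
      have := charP_subfield p R
      set r := Nat.card R with hr
      have hr1 : 1 < r := Finite.one_lt_card
      have hr2 : r ^ 2 ≤ Nat.card F := hR ▸ Nat.pow_le_pow_right (by omega) (by omega)
      obtain ⟨l, hl, hrl, hrcase⟩ := q_cases (F := R) p
      rcases hiso with ⟨⟨f⟩⟩ | ⟨hp2, -, ⟨f⟩⟩
      · have hcas := psl_orderOf_cases p (f x)
        rw [MulEquiv.orderOf_eq, hx] at hcas
        rcases hrcase with ⟨rfl, hre, hrd, -⟩ | ⟨hp2, hro, hrd, -⟩
        · rcases hcase with ⟨-, -, h1, -⟩ | ⟨h2, -⟩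
          swap
          · exact absurd rfl h2
          rw [h1, mul_one] at hnd
          rw [← hr] at hrd
          rw [hrd, Nat.div_one, Nat.div_one, ← hr] at hcas
          have hnr : n ≤ r + 1 := by
            rcases hcas with e | e | e <;> have := Nat.le_of_dvd (by omega) e <;> omega
          have hr2' : r = 2 := by
            by_contra hne2
            have : 3 * r ≤ r ^ 2 := by rw [pow_two]; exact Nat.mul_le_mul_right r (by omega)
            omega
          refine eq_of_le_of_card hle ?_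
          have h6 := card_psl_mul (F := R)
          rw [hrd, one_mul, ← hr, hr2'] at h6
          rw [hH, Nat.card_congr f.toEquiv, h6]
          omega
        · exfalso
          rcases hcase with ⟨h2, -⟩ | ⟨-, -, h1, -⟩
          · exact hp2 h2
          rw [h1] at hnd
          rw [← hr] at hrd
          rw [hrd, ← hr] at hcas
          rw [Nat.odd_iff, ← hr] at hro
          have hnr : n ≤ (r + 1) / 2 := by
            rcases hcas with e | e | e
            · have := Nat.le_of_dvd (by omega) e; omega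
            · have := Nat.le_of_dvd (by omega) e; omega
            · exact absurd ((Fact.out : p.Prime).eq_one_or_self_of_dvd n e)
                (by rintro (rfl | rfl) <;> [omega; exact hpn dvd_rfl])
          have : 3 * r ≤ r ^ 2 := by rw [pow_two]; exact Nat.mul_le_mul_right r (by omega)
          omega
      · exfalso
        have hcas := pgl_orderOf_cases p hp2 (f x)
        rw [MulEquiv.orderOf_eq, hx, ← hr] at hcas
        rcases hcase with ⟨h2, -⟩ | ⟨-, -, h1, -⟩
        · exact hp2 h2
        rw [h1] at hnd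
        have hnr : n ≤ r + 1 := by
          rcases hcas with e | e | e
          · have := Nat.le_of_dvd (by omega) e; omega
          · exact Nat.le_of_dvd (by omega) e
          · have := Nat.le_of_dvd two_pos
              ((((Fact.out : p.Prime).coprime_iff_not_dvd.2 hpn).symm).dvd_of_dvd_mul_right e)
            omega
        rcases Nat.lt_or_ge r 4 with hr4 | hr4
        · rcases hrcase with ⟨h2, -⟩ | ⟨-, hro, -, -⟩
          · exact hp2 h2
          rw [Nat.odd_iff, ← hr] at hro
          have hr3 : r = 3 := by omega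
          rw [hr3] at hnr hr2
          omega
        · have : 4 * r ≤ r ^ 2 := by rw [pow_two]; exact Nat.mul_le_mul_right r hr4
          omega

end Cfsg.Agent.PSL2
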