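/-
The cases of Dickson's list for `N = M ∩ L`, `M` maximal in `PGL_2(q)`, `q` odd.

Main results (namespace `Cfsg.Agent.PSL2`):
* `inter_dihedral`, `inter_four`, `inter_big`, `inter_subfield`, `pgl_isCoatom_cases`
-/
import Cfsg.Agent.Lib.PSL2.PGLMaximal

set_option autoImplicit false
set_option linter.unusedSectionVars false
set_option linter.dupNamespace false

open Matrix MulAction Subgroup
open scoped LinearAlgebra.Projectivization

namespace Cfsg.Agent.PSL2

theorem dihedral_orders {k : ℕ} (x : DihedralGroup k) :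
    (∃ i, x = DihedralGroup.r i) ∨ orderOf x = 2 := by
  rcases x with i | i
  · exact Or.inl ⟨i, rfl⟩
  · exact Or.inr (DihedralGroup.orderOf_sr i)

theorem altFour_card_sq_one : Fintype.card {x : alternatingGroup (Fin 4) // x * x = 1} = 4 := by
  decide +kernel

theorem altFour_no_swap : ∀ g a b : alternatingGroup (Fin 4), a * a = 1 →
    g * a * g⁻¹ = b → g * b * g⁻¹ = a → a = b := by
  decide +kernel

variable {F : Type*} [Field F] [Finite F] (p : ℕ) [Fact p.Prime] [CharP F p]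

local notation "φ" => (ProjectiveSpecialLinearGroup.toPGL : PSL2 F →* PGL2 F)

theorem odd_card (hp2 : p ≠ 2) : Nat.card F % 2 = 1 ∧ Nat.gcd 2 (Nat.card F - 1) = 2 := by
  obtain ⟨n, -, -, ⟨h, -⟩ | ⟨-, ho, hd, -⟩⟩ := q_cases (F := F) p
  · exact absurd h hp2
  · exact ⟨Nat.odd_iff.1 ho, hd⟩

include p in
theorem inter_dihedral (hp2 : p ≠ 2) (h4 : 4 ≤ Nat.card F) {M : Subgroup (PGL2 F)}
    {N : Subgroup (PSL2 F)} (hI : Inter M N) {n : ℕ} (hn2 : 2 ≤ n) (hpn : ¬ p ∣ n)
    (e : N ≃* DihedralGroup n) :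
    3 ≤ n ∧ (2 * n = Nat.card F - 1 ∨ 2 * n = Nat.card F + 1) ∧
      Nonempty (M ≃* DihedralGroup (2 * n)) := by
  obtain ⟨hqodd, hd⟩ := odd_card (F := F) p hp2
  have hNc : Nat.card N = 2 * n := by rw [Nat.card_congr e.toEquiv, DihedralGroup.nat_card]
  have hn3 : 3 ≤ n := by
    -- a four-group is normalised by an element of order three
    by_contra hlt
    obtain rfl : n = 2 := by omega
    have h2 : (2 : F) ≠ 0 := two_ne_zero_iff_odd.2 (Nat.odd_iff.2 hqodd)
    have : Nontrivial N := Finite.one_lt_card_iff_nontrivial.1 (by omega)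
    have hK : IsKleinFour N := ⟨hNc, (Monoid.exponent_eq_prime_iff Nat.prime_two).2 fun g hg =>
      orderOf_eq_prime (e.injective (by
        rw [map_pow, map_one, pow_two]
        revert g; intro g _
        exact (by decide : ∀ d : DihedralGroup 2, d * d = 1) (e g))) hg⟩
    obtain ⟨A, ⟨eA⟩⟩ := exists_alternatingFour_sub (F := F) h2
    obtain ⟨V', hV', -, hAV, -⟩ := exists_four A (Or.inl ⟨eA⟩)
    obtain ⟨u, hu⟩ := klein_conj h2 hV' hK
    have hle : A.map (outConj u).toMonoidHom ≤ N := by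
      refine le_trans (hu ▸ map_normalizer_le _ hAV) (hI.norm N ?_ le_rfl fun u hu => (hI.fix u hu).le).1
      intro h
      rw [h, Subgroup.card_bot] at hNc
      omega
    have h := Subgroup.card_le_of_le hle
    rw [card_map_mulEquiv, Nat.card_congr eA.toEquiv, card_alt_four, hNc] at h
    omega
  set x : PSL2 F := ((e.symm (DihedralGroup.r 1) : N) : PSL2 F) with hxdef
  have hxo : orderOf x = n := by
    rw [hxdef, Subgroup.orderOf_coe, MulEquiv.orderOf_eq, DihedralGroup.orderOf_r_one]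
  have hxN : x ∈ N := (e.symm (DihedralGroup.r 1)).2
  have huniq : ∀ y ∈ N, orderOf y = n → y ∈ zpowers x := by
    intro y hy hyo
    rcases dihedral_orders (e ⟨y, hy⟩) with ⟨i, hi⟩ | h
    · obtain ⟨j, hj⟩ := ZMod.intCast_surjective i
      rw [← hj] at hi
      refine ⟨j, ?_⟩
      rw [← DihedralGroup.r_one_zpow, ← MulEquiv.eq_symm_apply, map_zpow] at hi
      exact (congrArg Subtype.val hi).symm
    · rw [MulEquiv.orderOf_eq, Subgroup.orderOf_mk, hyo] at h
      omega
  have hxp : ¬ orderOf x ∣ p := hxo ▸ not_dvd_char_of_order p hn2 hpn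
  obtain ⟨hNn, -⟩ := hI.norm (zpowers x)
    (fun h => by rw [Subgroup.zpowers_eq_bot.1 h, orderOf_one] at hxo; omega)
    (zpowers_le.2 hxN) (fun u hu => by
      rw [MonoidHom.map_zpowers, zpowers_le]
      refine huniq _ ?_ (by rw [MulEquiv.coe_toMonoidHom, MulEquiv.orderOf_eq, hxo])
      rw [← hI.fix u hu]
      exact ⟨x, hxN, rfl⟩)
  obtain ⟨y, hxy, hy⟩ := exists_torus_gen p hxp
  have hyN : y ∈ N := by
    refine hNn (Subgroup.centralizer_le_normalizer _ (Subgroup.mem_centralizer_iff.2 fun z hz => ?_))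
    obtain ⟨i, hi⟩ := hxy
    obtain ⟨j, rfl⟩ := hz
    show (x ^ j : PSL2 F) * y = y * x ^ j
    rw [← show y ^ i = x from hi]
    exact (((Commute.refl y).zpow_left i).zpow_left j).eq
  have h1 : n ∣ orderOf y := hxo ▸ orderOf_dvd_of_mem_zpowers hxy
  have h3 : 3 ≤ orderOf y := hn3.trans (Nat.le_of_dvd (orderOf_pos y) h1)
  have h2 : orderOf y ∣ n := dvd_of_orderOf_dihedral (x := e ⟨y, hyN⟩)
    (by rw [MulEquiv.orderOf_eq, Subgroup.orderOf_mk]) h3
  rw [← Nat.dvd_antisymm h1 h2, hd] at hy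
  refine ⟨hn3, by omega, ?_⟩
  -- recognise `M` inside `PSL_2(q^2)`
  obtain ⟨a, -, -, f, hf⟩ := exists_pgl_embed (F := F) p
  let eK := Subgroup.equivMapOfInjective M f hf
  set K := M.map f with hK
  have hKc : Nat.card K = 4 * n := by
    rw [← Nat.card_congr eK.toEquiv, hI.card_eq, hNc]; ring
  have hpK : ¬ p ∣ Nat.card K := by
    rw [hKc]
    intro h
    rcases (Fact.out : p.Prime).dvd_mul.1 h with h' | h'
    · exact hp2 ((Nat.prime_dvd_prime_iff_eq Fact.out Nat.prime_two).1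
        ((Fact.out : p.Prime).dvd_of_dvd_pow (show p ∣ 2 ^ 2 from h')))
    · exact hpn h'
  let g : N →* K := eK.toMonoidHom.comp
    (((φ).comp N.subtype).codRestrict M fun z => Subgroup.mem_comap.1 (hI.comap_eq.symm ▸ z.2))
  have hg : Function.Injective g := eK.injective.comp fun a b h => Subtype.ext
    (ProjectiveSpecialLinearGroup.toPGL_injective (congrArg Subtype.val h))
  let gd : DihedralGroup n →* K := g.comp e.symm.toMonoidHom
  have hgd : Function.Injective gd := hg.comp e.symm.injective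
  have hr : orderOf (gd (DihedralGroup.r 1)) = n := by
    rw [orderOf_injective gd hgd, DihedralGroup.orderOf_r_one]
  have hsr : gd (DihedralGroup.sr 0) * gd (DihedralGroup.r 1) * (gd (DihedralGroup.sr 0))⁻¹ =
      (gd (DihedralGroup.r 1))⁻¹ := by
    rw [← map_inv, ← map_inv, ← map_mul, ← map_mul]
    congr 1
    simp [DihedralGroup.inv_sr, DihedralGroup.inv_r, DihedralGroup.sr_mul_r, DihedralGroup.sr_mul_sr]
  have hnc : ¬ IsCyclic K := fun hc => by
    have h2 : (DihedralGroup.r (1 : ZMod n)) * DihedralGroup.sr 0 =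
        DihedralGroup.sr 0 * DihedralGroup.r 1 :=
      hgd (by rw [map_mul, map_mul]; exact hc.commGroup.mul_comm _ _)
    rw [DihedralGroup.r_mul_sr, DihedralGroup.sr_mul_r] at h2
    injection h2 with h2
    have h0 : ((2 : ℕ) : ZMod n) = 0 := by push_cast; linear_combination -h2
    rw [ZMod.natCast_eq_zero_iff] at h0
    have := Nat.le_of_dvd two_pos h0
    omega
  rcases psl_dickson p K with ⟨h, -⟩ | ⟨-, hc, -⟩ | ⟨k, -, -, -, hk, -, ⟨ek⟩⟩ | ⟨-, h⟩ |
    ⟨hp3, h, -⟩ | ⟨R, m, -, -, h⟩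
  · exact absurd h hpK
  · exact absurd hc hnc
  · obtain rfl : k = 2 * n := by omega
    exact ⟨eK.trans ek⟩
  · exfalso
    rcases h with ⟨⟨ea⟩⟩ | ⟨⟨ea⟩⟩ | ⟨⟨ea⟩⟩
    · rw [Nat.card_congr ea.toEquiv, card_alt_four] at hKc
      obtain rfl : n = 3 := by omega
      have h := altFour_no_inverting (ea (gd (DihedralGroup.r 1))) (ea (gd (DihedralGroup.sr 0)))
        (by
          have h3 := pow_orderOf_eq_one (gd (DihedralGroup.r 1))
          rw [hr] at h3
          rw [← map_pow, h3, map_one])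
        (by rw [← map_inv, ← map_mul, ← map_mul, hsr, map_inv])
      rw [MulEquiv.map_eq_one_iff] at h
      rw [h, orderOf_one] at hr
      omega
    · rw [Nat.card_congr ea.toEquiv, card_perm_four] at hKc
      obtain rfl : n = 6 := by omega
      rcases permFour_orders (ea (gd (DihedralGroup.r 1))) with h | h <;>
        have h' := orderOf_dvd_of_pow_eq_one h <;> rw [MulEquiv.orderOf_eq, hr] at h' <;>
        norm_num at h'
    · rw [Nat.card_congr ea.toEquiv, card_alt_five] at hKc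
      obtain rfl : n = 15 := by omega
      rcases altFive_orders (ea (gd (DihedralGroup.r 1))) with h | h | h <;>
        have h' := orderOf_dvd_of_pow_eq_one h <;> rw [MulEquiv.orderOf_eq, hr] at h' <;>
        norm_num at h'
  · subst hp3
    exact absurd (h ▸ (by norm_num : 3 ∣ 60)) hpK
  · exfalso
    apply hpK
    have := charP_subfield p R
    rcases h with ⟨⟨er⟩⟩ | ⟨-, -, ⟨er⟩⟩
    · rw [Nat.card_congr er.toEquiv]; exact dvd_card_psl p
    · rw [Nat.card_congr er.toEquiv, card_pgl_eq]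
      obtain ⟨b, hb, hcb⟩ := GLOrder.exists_card_eq_pow (F := R) p
      exact (hcb ▸ dvd_pow_self p hb.ne').trans (Nat.dvd_mul_right _ _)

include p in
/-- `M ∩ L ≇ S_4, A_5` of order prime to `p`. -/
theorem inter_big (hp2 : p ≠ 2) {M : Subgroup (PGL2 F)}
    {N : Subgroup (PSL2 F)} (hI : Inter M N)
    (h : (¬ p ∣ Nat.card N ∧ Nonempty (N ≃* Equiv.Perm (Fin 4))) ∨
      (p ≠ 5 ∧ Nonempty (N ≃* alternatingGroup (Fin 5)))) : False := by
  let g : N →* M :=
    ((φ).comp N.subtype).codRestrict M fun z => Subgroup.mem_comap.1 (hI.comap_eq.symm ▸ z.2)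
  have hg : Function.Injective g := fun a b h => Subtype.ext
    (ProjectiveSpecialLinearGroup.toPGL_injective (congrArg Subtype.val h))
  rcases h with ⟨hpN, ⟨e⟩⟩ | ⟨hp5, ⟨e⟩⟩
  · have hNc : Nat.card N = 24 := (Nat.card_congr e.toEquiv).trans card_perm_four
    have hp3 : p ≠ 3 := fun h => hpN (by rw [h, hNc]; norm_num)
    obtain ⟨a, -, -, f, hf⟩ := exists_pgl_embed (F := F) p
    let eK := Subgroup.equivMapOfInjective M f hf
    set K := M.map f with hK
    have hKc : Nat.card K = 48 := by rw [← Nat.card_congr eK.toEquiv, hI.card_eq, hNc]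
    have hodd : OddPair K := (oddPair_permFour.of_equiv e).map (eK.toMonoidHom.comp g)
      (eK.injective.comp hg)
    have hpK : ¬ p ∣ Nat.card K := by
      rw [hKc]
      intro h
      rcases (Fact.out : p.Prime).dvd_mul.1 (show p ∣ 2 ^ 4 * 3 from h) with h' | h'
      · exact hp2 ((Nat.prime_dvd_prime_iff_eq Fact.out Nat.prime_two).1
          ((Fact.out : p.Prime).dvd_of_dvd_pow h'))
      · exact hp3 ((Nat.prime_dvd_prime_iff_eq Fact.out Nat.prime_three).1 h')
    rcases psl_dickson p K with ⟨h, -⟩ | ⟨-, hc, -⟩ | ⟨k, -, -, -, -, -, ⟨ek⟩⟩ | ⟨-, h⟩ |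
      ⟨h, -, -⟩ | ⟨R, m, -, -, h⟩
    · exact hpK h
    · exact hodd.not_cyclic hc
    · exact hodd.not_dihedral_equiv ek
    · rcases h with ⟨⟨ea⟩⟩ | ⟨⟨ea⟩⟩ | ⟨⟨ea⟩⟩ <;> rw [Nat.card_congr ea.toEquiv] at hKc
      · rw [card_alt_four] at hKc; omega
      · rw [card_perm_four] at hKc; omega
      · rw [card_alt_five] at hKc; omega
    · exact hp3 h
    · apply hpK
      have := charP_subfield p R
      rcases h with ⟨⟨er⟩⟩ | ⟨-, -, ⟨er⟩⟩
      · rw [Nat.card_congr er.toEquiv]; exact dvd_card_psl p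
      · rw [Nat.card_congr er.toEquiv, card_pgl_eq]
        obtain ⟨b, hb, hcb⟩ := GLOrder.exists_card_eq_pow (F := R) p
        exact (hcb ▸ dvd_pow_self p hb.ne').trans (Nat.dvd_mul_right _ _)
  · refine pgl_card_120 p hp5 (K := M)
      (by rw [hI.card_eq, Nat.card_congr e.toEquiv, card_alt_five]) fun hs => not_isSolvable_altFive ?_
    exact Group.isSolvable_of_isSolvable_injective (f := g.comp e.symm.toMonoidHom)
      (hg.comp e.symm.injective)

include p in
theorem inter_four (hp2 : p ≠ 2) (h4 : 4 ≤ Nat.card F) {M : Subgroup (PGL2 F)} (hM : IsCoatom M)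
    {N : Subgroup (PSL2 F)} (hI : Inter M N) (hpN : ¬ p ∣ Nat.card N)
    (e : N ≃* alternatingGroup (Fin 4)) :
    Nat.card F = p ∧ (p % 8 = 3 ∨ p % 8 = 5) ∧ Nonempty (M ≃* Equiv.Perm (Fin 4)) := by
  obtain ⟨hqodd, hd⟩ := odd_card (F := F) p hp2
  have : Finite (PGL2 F) := Finite.of_surjective _ ProjGenLinGroup.mk_surjective
  have h2 : (2 : F) ≠ 0 := two_ne_zero_iff_odd.2 (Nat.odd_iff.2 hqodd)
  have hNc : Nat.card N = 12 := (Nat.card_congr e.toEquiv).trans card_alt_four
  obtain ⟨V, hV, hVN, -, hVb⟩ := exists_four N (Or.inl ⟨e⟩)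
  have hVmem : ∀ z ∈ N, z * z = 1 → z ∈ V := by
    intro z hz hz2
    have hsq : ∀ v ∈ V, v * v = 1 := fun v hv => by
      have h := Monoid.pow_exponent_eq_one (⟨v, hv⟩ : V)
      rw [hV.exponent_two, pow_two] at h
      exact congrArg Subtype.val h
    let i : V → {x : alternatingGroup (Fin 4) // x * x = 1} := fun v =>
      ⟨e ⟨v, hVN v.2⟩, by
        rw [← map_mul, show (⟨v, hVN v.2⟩ : N) * ⟨v, hVN v.2⟩ = 1 from Subtype.ext (hsq _ v.2),
          map_one]⟩
    have hi : Function.Injective i := fun a b h => by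
      have := e.injective (congrArg Subtype.val h)
      exact Subtype.ext (congrArg (fun w : N => (w : PSL2 F)) this)
    have := Fintype.ofFinite V
    obtain ⟨v, hv⟩ := ((Fintype.bijective_iff_injective_and_card i).2 ⟨hi, by
      rw [altFour_card_sq_one, ← Nat.card_eq_fintype_card, hV.card_four]⟩).2
      ⟨e ⟨z, hz⟩, by rw [← map_mul, show (⟨z, hz⟩ : N) * ⟨z, hz⟩ = 1 from Subtype.ext hz2, map_one]⟩
    have := e.injective (congrArg Subtype.val hv)
    have h' : (v : PSL2 F) = z := congrArg (fun w : N => (w : PSL2 F)) this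
    exact h' ▸ v.2
  obtain ⟨hnV, hMV⟩ := hI.norm V hVb hVN (fun u hu => by
    rintro _ ⟨v, hv, rfl⟩
    refine hVmem _ (hI.fix u hu ▸ ⟨v, hVN hv, rfl⟩) ?_
    have h := Monoid.pow_exponent_eq_one (⟨v, hv⟩ : V)
    rw [hV.exponent_two, pow_two] at h
    rw [MulEquiv.coe_toMonoidHom, ← map_mul, show v * v = 1 from congrArg Subtype.val h, map_one])
  -- no `S_4` in `L`
  have h16 : Nat.card F ^ 2 % 16 ≠ 1 := by
    intro h16
    obtain ⟨S, ⟨eS⟩⟩ := exists_permFour_sub_iff.2 h16
    obtain ⟨V', hV', -, hSV, -⟩ := exists_four S (Or.inr ⟨eS⟩)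
    obtain ⟨u, hu⟩ := klein_conj h2 hV' hV
    have h := Subgroup.card_le_of_le ((hu ▸ map_normalizer_le _ hSV).trans hnV)
    rw [card_map_mulEquiv, Nat.card_congr eS.toEquiv, card_perm_four, hNc] at h
    omega
  have hp3 : p ≠ 3 := fun h => hpN (by rw [h, hNc]; norm_num)
  have hp5 : 5 ≤ p := by
    have hpp : p.Prime := Fact.out
    have := hpp.two_le
    by_contra hlt
    rcases (show p = 4 by omega) with rfl
    exact absurd hpp (by decide)
  -- `q = p`
  obtain ⟨a, ha, hq⟩ := GLOrder.exists_card_eq_pow (F := F) p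
  have hqp : Nat.card F = p := by
    rcases Nat.lt_or_ge a 2 with hlt | hge
    · rw [hq, show a = 1 by omega, pow_one]
    exfalso
    let E := GaloisField p 1
    have hE : Nat.card E = p := by rw [GaloisField.card p 1 one_ne_zero, pow_one]
    obtain ⟨ι⟩ := exists_ringHom_of_card_pow (F := F) (L := E) (m := a) (by rw [hE, hq])
    have hE2 : (2 : E) ≠ 0 := two_ne_zero_iff_odd.2
      (hE ▸ (Fact.out : p.Prime).odd_of_ne_two hp2)
    obtain ⟨A₀, ⟨eA⟩⟩ := exists_alternatingFour_sub (F := E) hE2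
    obtain ⟨V₀, hV₀, hV₀A, hAV₀, hV₀b⟩ := exists_four A₀ (Or.inl ⟨eA⟩)
    obtain ⟨A, B, hA, hB, hAB, hV₀eq⟩ := klein_data hE2 hV₀
    obtain ⟨u₀, hu1, hu2⟩ := pair_conj hE2 hA hB hB hA hAB (by rw [hAB, neg_neg])
    have hinj : Function.Injective φ := ProjectiveSpecialLinearGroup.toPGL_injective
    let ψ : PSL2 E →* PSL2 F := (MonoidHom.ofInjective hinj).symm.toMonoidHom.comp
      ((toK ι).codRestrict _ fun x => stdPSL_le_range_toPGL ι ⟨x, rfl⟩)
    have hψ : ∀ x, φ (ψ x) = toK ι x := fun x => by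
      have := (MonoidHom.ofInjective hinj).apply_symm_apply
        ⟨toK ι x, stdPSL_le_range_toPGL ι ⟨x, rfl⟩⟩
      exact congrArg Subtype.val this
    have hψi : Function.Injective ψ := fun x y h => toK_injective ι (by rw [← hψ, h, hψ])
    have hK : IsKleinFour (V₀.map ψ) := by
      have hc : Nat.card (V₀.map ψ) = 4 := by
        rw [← Nat.card_congr (Subgroup.equivMapOfInjective _ ψ hψi).toEquiv, hV₀.card_four]
      exact ⟨hc, by
        rw [← Monoid.exponent_eq_of_mulEquiv (Subgroup.equivMapOfInjective _ ψ hψi), hV₀.exponent_two]⟩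
    obtain ⟨u, hu⟩ := klein_conj h2 hV hK
    set M₁ := M.map (MulAut.conj (ProjGenLinGroup.mk u)).toMonoidHom with hM₁
    have hM₁co : IsCoatom M₁ := isCoatom_map_mulEquiv _ hM
    have hM₁c : Nat.card M₁ = 24 := by rw [hM₁, card_map_mulEquiv, hI.card_eq, hNc]
    have hnorm : normalizer (((V₀.map ψ).map φ : Subgroup (PGL2 F)) : Set (PGL2 F)) = M₁ := by
      rw [hM₁, ← hMV, Subgroup.map_normalizer_eq_of_bijective _
        (MulAut.conj (ProjGenLinGroup.mk u)).bijective, ← map_toPGL_outConj, hu]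
    let H₀ := (ProjGenLinGroup.map (n := Fin 2) ι).range
    have hH₀c : Nat.card H₀ = p * ((p + 1) * (p - 1)) := by
      rw [← Nat.card_congr (MonoidHom.ofInjective (pgl_map_injective ι)).toEquiv, card_pgl_eq, hE]
    have hAle : (A₀.map ψ).map φ ≤ M₁ ⊓ H₀ := by
      refine le_inf ?_ ?_
      · rw [← hnorm]
        rintro _ ⟨_, ⟨z, hz, rfl⟩, rfl⟩
        rw [Subgroup.mem_normalizer_iff]
        intro y
        rw [hψ]
        constructor
        · rintro ⟨_, ⟨v, hv, rfl⟩, rfl⟩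
          exact ⟨ψ (z * v * z⁻¹), ⟨_, (Subgroup.mem_normalizer_iff.1 (hAV₀ hz) v).1 hv, rfl⟩,
            by rw [hψ, hψ, map_mul, map_mul, map_inv]⟩
        · rintro ⟨_, ⟨v, hv, rfl⟩, hy⟩
          refine ⟨ψ (z⁻¹ * v * z), ⟨_, (Subgroup.mem_normalizer_iff.1 (hAV₀ hz) _).2
            (by simpa [mul_assoc] using hv), rfl⟩, ?_⟩
          rw [hψ, map_mul, map_mul, map_inv, ← hψ v, hy]
          group
      · rintro _ ⟨_, ⟨z, -, rfl⟩, rfl⟩
        exact ⟨_, (hψ z).symm⟩
    have hv0 : ProjGenLinGroup.map ι (ProjGenLinGroup.mk u₀) ∈ M₁ ⊓ H₀ := by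
      refine Subgroup.mem_inf.2 ⟨?_, ProjGenLinGroup.mk u₀, rfl⟩
      rw [← hnorm, Subgroup.mem_normalizer_iff_map_conj_eq]
      show ((V₀.map ψ).map φ).map (MulAut.conj (ProjGenLinGroup.map ι (ProjGenLinGroup.mk u₀))).toMonoidHom = _
      have hcomp : (φ).comp ψ = toK ι := MonoidHom.ext hψ
      rw [Subgroup.map_map (V₀), hcomp]
      have hcj : (MulAut.conj (ProjGenLinGroup.map ι (ProjGenLinGroup.mk u₀))).toMonoidHom.comp
          (toK ι) = (toK ι).comp (outConj u₀).toMonoidHom := MonoidHom.ext fun x => by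
        show _ * toK ι x * _ = toK ι (outConj u₀ x)
        rw [toK_apply ι (outConj u₀ x), toPGL_outConj, map_mul, map_mul, map_inv]
        rfl
      rw [Subgroup.map_map, hcj, ← Subgroup.map_map]
      congr 1
      rw [hV₀eq, map_closure_pair, MulEquiv.coe_toMonoidHom, outConj_mk u₀ hu1, outConj_mk u₀ hu2,
        Set.pair_comm]
    have hnot : ProjGenLinGroup.map ι (ProjGenLinGroup.mk u₀) ∉ (A₀.map ψ).map φ := by
      rintro ⟨_, ⟨z, hz, rfl⟩, he⟩
      rw [hψ, toK_apply] at he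
      have hz' := pgl_map_injective ι he
      have hAA : (QuotientGroup.mk A : PSL2 E) ∈ A₀ := hV₀A (hV₀eq ▸ subset_closure (Or.inl rfl))
      have hBA : (QuotientGroup.mk B : PSL2 E) ∈ A₀ := hV₀A (hV₀eq ▸ subset_closure (Or.inr rfl))
      have hswap : ∀ {X Y : SL2 E},
          (u₀ : Matrix (Fin 2) (Fin 2) E) * X.1 = Y.1 * (u₀ : Matrix (Fin 2) (Fin 2) E) →
          z * QuotientGroup.mk X * z⁻¹ = QuotientGroup.mk Y := fun {X Y} h =>
        ProjectiveSpecialLinearGroup.toPGL_injective (by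
          rw [← outConj_mk u₀ h, map_mul, map_mul, map_inv, toPGL_outConj, hz'])
      have hsq : ∀ {X : SL2 E}, tr X = 0 → (QuotientGroup.mk X : PSL2 E) * QuotientGroup.mk X = 1 :=
        fun {X} h => by rw [← QuotientGroup.mk_mul, mk_one_iff]; exact Or.inr (sq_eq_neg_one_of_tr_zero h)
      have h' : (QuotientGroup.mk A : PSL2 E) = QuotientGroup.mk B :=
        congrArg Subtype.val (eA.injective (altFour_no_swap (eA ⟨z, hz⟩) (eA ⟨_, hAA⟩) (eA ⟨_, hBA⟩)
          (by rw [← map_mul, MulEquiv.map_eq_one_iff]; exact Subtype.ext (hsq hA))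
          (by rw [← map_inv, ← map_mul, ← map_mul]; exact congrArg eA (Subtype.ext (hswap hu1)))
          (by rw [← map_inv, ← map_mul, ← map_mul]; exact congrArg eA (Subtype.ext (hswap hu2)))))
      have h4 := hV₀.card_four
      rw [hV₀eq, h', Set.pair_eq_singleton, ← Subgroup.zpowers_eq_closure, Nat.card_zpowers] at h4
      have hB2 : (QuotientGroup.mk B : PSL2 E) ^ 2 = 1 := by rw [pow_two]; exact hsq hB
      have := Nat.le_of_dvd two_pos (orderOf_dvd_of_pow_eq_one hB2)
      omega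
    have hAc : Nat.card ((A₀.map ψ).map φ) = 12 := by
      rw [← Nat.card_congr (Subgroup.equivMapOfInjective _ φ hinj).toEquiv,
        ← Nat.card_congr (Subgroup.equivMapOfInjective _ ψ hψi).toEquiv, Nat.card_congr eA.toEquiv,
        card_alt_four]
    have hlt : (A₀.map ψ).map φ < M₁ ⊓ H₀ :=
      lt_of_le_of_ne hAle fun h => hnot (h ▸ hv0)
    have hdvd := Subgroup.card_dvd_of_le (inf_le_left : M₁ ⊓ H₀ ≤ M₁)
    rw [hM₁c] at hdvd
    have hgt : 12 < Nat.card ↥(M₁ ⊓ H₀) := by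
      rw [← hAc]
      refine lt_of_le_of_ne (Subgroup.card_le_of_le hAle) fun h => hlt.ne ?_
      exact Subgroup.eq_of_le_of_card_ge hAle h.ge
    have h24 := Nat.eq_of_dvd_of_lt_two_mul (by norm_num) hdvd (by omega)
    have heq : M₁ ⊓ H₀ = M₁ := Subgroup.eq_of_le_of_card_ge inf_le_left (by omega)
    have hle : M₁ ≤ H₀ := heq ▸ inf_le_right
    have hbig : 5 * (6 * 4) ≤ p * ((p + 1) * (p - 1)) :=
      Nat.mul_le_mul hp5 (Nat.mul_le_mul (by omega) (by omega))
    rcases eq_or_lt_of_le hle with h | h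
    · rw [h, hH₀c] at hM₁c
      omega
    · have htop := hM₁co.2 _ h
      rw [htop, Subgroup.card_top, card_pgl_eq] at hH₀c
      have hpq : p < Nat.card F := by
        rw [hq]
        exact (pow_one p).symm.trans_lt (Nat.pow_lt_pow_right (by omega) hge)
      have : p * ((p + 1) * (p - 1)) < Nat.card F * ((Nat.card F + 1) * (Nat.card F - 1)) :=
        Nat.mul_lt_mul_of_lt_of_le hpq (Nat.mul_le_mul (by omega) (by omega))
          (Nat.mul_pos (by omega) (by omega))
      omega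
  refine ⟨hqp, ?_, ?_⟩
  · rw [hqp, Nat.pow_mod] at h16
    have hpm : p % 2 = 1 := hqp ▸ hqodd
    have := Nat.mod_lt p (show 16 > 0 by norm_num)
    rcases (show p % 8 = 1 ∨ p % 8 = 3 ∨ p % 8 = 5 ∨ p % 8 = 7 by omega) with r | r | r | r
    · exfalso; rcases (show p % 16 = 1 ∨ p % 16 = 9 by omega) with s | s <;> rw [s] at h16 <;> norm_num at h16
    · exact Or.inl r
    · exact Or.inr r
    · exfalso; rcases (show p % 16 = 7 ∨ p % 16 = 15 by omega) with s | s <;> rw [s] at h16 <;> norm_num at h16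
  -- `M ≅ S_4`
  obtain ⟨b, -, -, f, hf⟩ := exists_pgl_embed (F := F) p
  let eK := Subgroup.equivMapOfInjective M f hf
  set K := M.map f with hK
  have hKc : Nat.card K = 24 := by rw [← Nat.card_congr eK.toEquiv, hI.card_eq, hNc]
  let g : N →* M :=
    ((φ).comp N.subtype).codRestrict M fun z => Subgroup.mem_comap.1 (hI.comap_eq.symm ▸ z.2)
  have hg : Function.Injective g := fun a b h => Subtype.ext
    (ProjectiveSpecialLinearGroup.toPGL_injective (congrArg Subtype.val h))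
  have hodd : OddPair K := (oddPair_altFour.of_equiv e).map (eK.toMonoidHom.comp g)
    (eK.injective.comp hg)
  have hpK : ¬ p ∣ Nat.card K := by
    rw [hKc]
    intro h
    rcases (Fact.out : p.Prime).dvd_mul.1 (show p ∣ 2 ^ 3 * 3 from h) with h' | h'
    · exact hp2 ((Nat.prime_dvd_prime_iff_eq Fact.out Nat.prime_two).1
        ((Fact.out : p.Prime).dvd_of_dvd_pow h'))
    · exact hp3 ((Nat.prime_dvd_prime_iff_eq Fact.out Nat.prime_three).1 h')
  rcases psl_dickson p K with ⟨h, -⟩ | ⟨-, hc, -⟩ | ⟨k, -, -, -, -, -, ⟨ek⟩⟩ | ⟨-, h⟩ |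
    ⟨h, -, -⟩ | ⟨R, m, -, -, h⟩
  · exact absurd h hpK
  · exact absurd hc hodd.not_cyclic
  · exact (hodd.not_dihedral_equiv ek).elim
  · rcases h with ⟨⟨ea⟩⟩ | ⟨⟨ea⟩⟩ | ⟨⟨ea⟩⟩
    · rw [Nat.card_congr ea.toEquiv, card_alt_four] at hKc; omega
    · exact ⟨eK.trans ea⟩
    · rw [Nat.card_congr ea.toEquiv, card_alt_five] at hKc; omega
  · exact absurd h hp3
  · exfalso
    apply hpK
    have := charP_subfield p R
    rcases h with ⟨⟨er⟩⟩ | ⟨-, -, ⟨er⟩⟩
    · rw [Nat.card_congr er.toEquiv]; exact dvd_card_psl p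
    · rw [Nat.card_congr er.toEquiv, card_pgl_eq]
      obtain ⟨b, hb, hcb⟩ := GLOrder.exists_card_eq_pow (F := R) p
      exact (hcb ▸ dvd_pow_self p hb.ne').trans (Nat.dvd_mul_right _ _)

end Cfsg.Agent.PSL2
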