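/-
Sizes of solubilisers: tori, and involutions in characteristic two.

Main results (namespace `Cfsg.Agent.PSL2`):
* `card_solSet_split`, `card_solSet_nonsplit`, `card_solSet_involution_even`
-/
import Cfsg.Agent.Lib.PSL2.SolCount

set_option autoImplicit false
set_option linter.unusedSectionVars false
set_option linter.dupNamespace false

open Matrix MulAction Subgroup
open scoped LinearAlgebra.Projectivization

namespace Cfsg.Agent.PSL2

variable {F : Type*} [Field F] [Finite F] (p : ℕ) [Fact p.Prime] [CharP F p]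

theorem card_borel (P : Pt F) : Nat.card (stabilizer (PSL2 F) P) =
    Nat.card F * ((Nat.card F - 1) / Nat.gcd 2 (Nat.card F - 1)) := by
  have h := card_borel_mul (F := F) P
  have hd : Nat.gcd 2 (Nat.card F - 1) ∣ Nat.card F - 1 := Nat.gcd_dvd_right _ _
  have hd0 : 0 < Nat.gcd 2 (Nat.card F - 1) := Nat.gcd_pos_of_pos_left _ two_pos
  refine Nat.eq_of_mul_eq_mul_left hd0 ?_
  rw [h, mul_left_comm, Nat.mul_div_cancel' hd]

theorem not_dvd_orderOf_torus {x : PSL2 F}
    (hx : orderOf x ∣ (Nat.card F - 1) / Nat.gcd 2 (Nat.card F - 1) ∨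
      orderOf x ∣ (Nat.card F + 1) / Nat.gcd 2 (Nat.card F - 1)) : ¬ p ∣ orderOf x := fun h =>
  coprime_char_of_torus p hx h

include p in
/-- The solubiliser of a split torus element. -/
theorem card_solSet_split {r : ℕ} (hr : r.Prime) (hq : Nat.card F = p ^ r)
    (hp : p = 2 ∨ (p = 3 ∧ Odd r)) {x : PSL2 F} (hx3 : 3 ≤ orderOf x)
    (hx : orderOf x ∣ (Nat.card F - 1) / Nat.gcd 2 (Nat.card F - 1)) :
    (solSet x).ncard = 2 * (Nat.card F * ((Nat.card F - 1) / Nat.gcd 2 (Nat.card F - 1))) := by
  have hxp := not_dvd_orderOf_torus p (Or.inl hx)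
  obtain ⟨P, Q, hPQ, hxP, hxQ, honly, hC, hCc⟩ := torus_split p hx3 hx
  obtain ⟨hN, hnb, hCN⟩ := normalizer_torus_card p hr hq hp hx3 hxp
  rw [solSet_torus p hr hq hp hx3 hxp]
  set BP := stabilizer (PSL2 F) P
  set BQ := stabilizer (PSL2 F) Q
  set N := normalizer (zpowers x : Set (PSL2 F))
  set C := centralizer ({x} : Set (PSL2 F))
  have hset : {y : PSL2 F | ∃ R : Pt F, x • R = R ∧ y • R = R} =
      (BP : Set (PSL2 F)) ∪ (BQ : Set (PSL2 F)) := by
    ext y
    constructor
    · rintro ⟨R, hxR, hyR⟩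
      rcases honly R hxR with rfl | rfl
      · exact Or.inl hyR
      · exact Or.inr hyR
    · rintro (h | h)
      · exact ⟨P, hxP, h⟩
      · exact ⟨Q, hxQ, h⟩
  have hnorm : ∀ z ∈ N, ∀ R S : Pt F, x • R = R → x • S = S → R ≠ S →
      (∀ T : Pt F, x • T = T → T = R ∨ T = S) → z • R = R → z • S = S := by
    intro z hz R S hxR hxS hRS hRS' hzR
    have h1 : x • z • S = z • S := by
      have hm : z⁻¹ * x * z ∈ zpowers x := by
        have := (Subgroup.mem_normalizer_iff''.1 hz x).1 (mem_zpowers x)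
        exact this
      obtain ⟨i, hi⟩ := hm
      have hfix : (x ^ i) • S = S := by
        have : x ^ i ∈ stabilizer (PSL2 F) S := zpow_mem (show x ∈ stabilizer (PSL2 F) S from hxS) i
        exact this
      have hi' : x * z = z * x ^ i := by
        rw [show x ^ i = z⁻¹ * x * z from hi]; group
      rw [← mul_smul, hi', mul_smul, hfix]
    rcases hRS' _ h1 with h | h
    · exact absurd (MulAction.injective z (hzR.trans h.symm)) hRS
    · exact h
  have hinter : ((BP : Set (PSL2 F)) ∪ BQ) ∩ (N : Set (PSL2 F)) = (C : Set (PSL2 F)) := by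
    ext z
    constructor
    · rintro ⟨h | h, hz⟩
      · rw [SetLike.mem_coe, hC]
        exact ⟨h, hnorm z hz P Q hxP hxQ hPQ honly h⟩
      · rw [SetLike.mem_coe, hC]
        exact ⟨hnorm z hz Q P hxQ hxP hPQ.symm (fun T hT => (honly T hT).symm) h, h⟩
    · intro hz
      refine ⟨Or.inl ?_, hCN hz⟩
      rw [SetLike.mem_coe, hC] at hz
      exact hz.1
  have h1 := Set.ncard_union_add_ncard_inter (BP : Set (PSL2 F)) (BQ : Set (PSL2 F))
    (Set.toFinite _) (Set.toFinite _)
  rw [← Subgroup.coe_inf, ← hC] at h1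
  have h2 := Set.ncard_union_add_ncard_inter ((BP : Set (PSL2 F)) ∪ BQ) (N : Set (PSL2 F))
    (Set.toFinite _) (Set.toFinite _)
  rw [hinter] at h2
  have hc : ∀ K : Subgroup (PSL2 F), (K : Set (PSL2 F)).ncard = Nat.card K := fun K =>
    (Nat.card_coe_set_eq _).symm
  rw [hc, hc, hc, card_borel, card_borel, hCc] at h1
  rw [hc, hc, hN, hCc] at h2
  rw [hset]
  omega

include p in
/-- The solubiliser of a non-split torus element. -/
theorem card_solSet_nonsplit {r : ℕ} (hr : r.Prime) (hq : Nat.card F = p ^ r)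
    (hp : p = 2 ∨ (p = 3 ∧ Odd r)) {x : PSL2 F} (hx3 : 3 ≤ orderOf x)
    (hx : orderOf x ∣ (Nat.card F + 1) / Nat.gcd 2 (Nat.card F - 1)) :
    (solSet x).ncard = 2 * ((Nat.card F + 1) / Nat.gcd 2 (Nat.card F - 1)) := by
  have hxp := not_dvd_orderOf_torus p (Or.inr hx)
  obtain ⟨hnofix, hCc⟩ := torus_nonsplit p hx3 hx
  obtain ⟨hN, -, -⟩ := normalizer_torus_card p hr hq hp hx3 hxp
  rw [solSet_torus p hr hq hp hx3 hxp,
    show {y : PSL2 F | ∃ R : Pt F, x • R = R ∧ y • R = R} = ∅ from
      Set.eq_empty_of_forall_notMem fun y ⟨R, hR, _⟩ => hnofix R hR,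
    Set.empty_union, ← Nat.card_coe_set_eq, ← hCc]
  exact hN

theorem dihedral_sol {k : ℕ} (x y : DihedralGroup k) (hx : x * x = 1) :
    x * y = y * x ∨ y * y = 1 ∨ x * y * (x * y) = 1 := by
  rcases x with i | i <;> rcases y with j | j
  · left; simp [add_comm]
  · right; left; simp
  · right; right; simp
  · right; left; simp

/-- Left translation does not change cardinality. -/
theorem ncard_preimage_mul_left {G : Type*} [Group G] (a : G) (S : Set G) :
    {y : G | a * y ∈ S}.ncard = S.ncard := by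
  rw [← Set.ncard_image_of_injective S (mul_right_injective a⁻¹)]
  congr 1
  ext y
  constructor
  · intro h; exact ⟨a * y, h, inv_mul_cancel_left a y⟩
  · rintro ⟨z, hz, rfl⟩
    show a * (a⁻¹ * z) ∈ S
    rwa [mul_inv_cancel_left]

/-- The closure of `{x, y}` contains `y` and `x * y`. -/
theorem mem_solSet_translate {x y : PSL2 F} (h : x * y ∈ solSet x) : y ∈ solSet x := by
  refine mem_solSet_of_le h (mem_closure_left x (x * y)) ?_
  have := mul_mem (inv_mem (mem_closure_left x (x * y))) (mem_closure_right x (x * y))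
  rwa [inv_mul_cancel_left] at this

theorem mem_solSet_translate' {x y : PSL2 F} (h : x⁻¹ * y ∈ solSet x) : y ∈ solSet x := by
  refine mem_solSet_of_le h (mem_closure_left x (x⁻¹ * y)) ?_
  have := mul_mem (mem_closure_left x (x⁻¹ * y)) (mem_closure_right x (x⁻¹ * y))
  rwa [mul_inv_cancel_left] at this

theorem gcd_two_of_char_two [CharP F 2] : Nat.gcd 2 (Nat.card F - 1) = 1 := by
  rcases gcdTwo_eq (F := F) with ⟨h, -⟩ | ⟨-, h⟩
  · exact h
  · exact absurd (Subtype.ext (by
      ext i j; simp [CharTwo.neg_eq])) h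

/-- The solubiliser of an involution, `q = 2^r`. -/
theorem card_solSet_involution_even [CharP F 2] [Fact (Nat.Prime 2)] {r : ℕ} (hr : r.Prime)
    (hq : Nat.card F = 2 ^ r) {x : PSL2 F} (hx : orderOf x = 2) :
    (solSet x).ncard = 3 * (Nat.card F * (Nat.card F - 1)) := by
  have hx2 : x * x = 1 := by rw [← pow_two]; exact orderOf_dvd_iff_pow_eq_one.1 hx.dvd
  obtain ⟨P, hP⟩ := exists_fix_of_pow_char 2 (z := x) (orderOf_dvd_iff_pow_eq_one.1 hx.dvd)
  set B := stabilizer (PSL2 F) P with hB
  set I : Set (PSL2 F) := {z | z * z = 1} with hI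
  set J : Set (PSL2 F) := {y | x * y ∈ I} with hJ
  set C : Set (PSL2 F) := {z | z ^ 2 = 1 ∧ z • P = P} with hCdef
  have hCiff : ∀ z, z * x = x * z ↔ z ∈ C := fun z => centralizer_char_eq 2 hx hP
  have hsol : solSet x = ((B : Set (PSL2 F)) ∪ I) ∪ J := by
    ext y
    constructor
    · intro hy
      have hxH := mem_closure_left x y
      have hyH := mem_closure_right x y
      rcases soluble_cases 2 hr hq (Or.inl rfl) hy with ⟨R, hR⟩ | ⟨hodd, -⟩ | ⟨k, -, -, -, ⟨e⟩⟩ | ⟨h, -⟩
      · have hRP : R = P := fix_unique 2 hx (hR hxH) hP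
        subst hRP
        exact Or.inl (Or.inl (hR hyH))
      · have h' := Subgroup.orderOf_dvd_natCard _ hxH
        rw [hx] at h'
        exact absurd h' hodd
      · have hx' : e ⟨x, hxH⟩ * e ⟨x, hxH⟩ = 1 := by
          rw [← map_mul, ← map_one e]; exact congrArg e (Subtype.ext hx2)
        rcases dihedral_sol _ (e ⟨y, hyH⟩) hx' with h | h | h
        · rw [← map_mul, ← map_mul] at h
          have h' := congrArg Subtype.val (e.injective h)
          exact Or.inl (Or.inl ((hCiff y).1 h'.symm).2)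
        · rw [← map_mul, ← map_one e] at h
          exact Or.inl (Or.inr (congrArg Subtype.val (e.injective h)))
        · rw [← map_mul, ← map_mul, ← map_one e] at h
          exact Or.inr (congrArg Subtype.val (e.injective h))
      · norm_num at h
    · rintro ((h | h) | h)
      · exact mem_solSet_stabilizer hP h
      · exact isSolvable_two_involutions hx2 h
      · exact mem_solSet_translate (isSolvable_two_involutions hx2 h)
  have hC : C.ncard = Nat.card F := by
    rw [← Nat.card_coe_set_eq]; exact (card_charFix 2 P).1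
  have hBI : (B : Set (PSL2 F)) ∩ I = C := by
    ext z
    simp only [Set.mem_inter_iff, SetLike.mem_coe, hB, mem_stabilizer_iff, hI, Set.mem_ofPred_eq,
      hCdef, pow_two]
    tauto
  have hUJ : ((B : Set (PSL2 F)) ∪ I) ∩ J = C := by
    ext z
    constructor
    · rintro ⟨h | h, hJ'⟩
      · have hxz : x * z ∈ C :=
          ⟨by rw [pow_two]; exact hJ', by rw [mul_smul, mem_stabilizer_iff.1 h, hP]⟩
        have hcomm := (hCiff _).2 hxz
        refine (hCiff z).1 ?_
        calc z * x = x * (x * z * x) := by rw [← mul_assoc x, ← mul_assoc x, hx2, one_mul]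
          _ = x * (x * (x * z)) := by rw [hcomm]
          _ = x * z := by rw [← mul_assoc x x, hx2, one_mul]
      · have hxi : x⁻¹ = x := inv_eq_of_mul_eq_one_right hx2
        have hzi : z⁻¹ = z := inv_eq_of_mul_eq_one_right h
        refine (hCiff z).1 ?_
        have h' : (x * z)⁻¹ = x * z := inv_eq_of_mul_eq_one_right hJ'
        rw [_root_.mul_inv_rev, hxi, hzi] at h'
        exact h'
    · intro hz
      refine ⟨Or.inl hz.2, ?_⟩
      have hc : Commute x z := ((hCiff z).2 hz).symm
      show x * z * (x * z) = 1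
      rw [← pow_two, hc.mul_pow, hz.1, pow_two, hx2, one_mul]
  have hIc : I.ncard = Nat.card F * Nat.card F := by
    have hI' : I = insert 1 {z : PSL2 F | orderOf z = 2} := by
      ext z
      simp only [hI, Set.mem_ofPred_eq, Set.mem_insert_iff]
      constructor
      · intro h
        by_cases h1 : z = 1
        · exact Or.inl h1
        · exact Or.inr (orderOf_eq_prime (by rw [pow_two]; exact h) h1)
      · rintro (rfl | h)
        · exact one_mul 1
        · rw [← pow_two]; exact orderOf_dvd_iff_pow_eq_one.1 h.dvd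
    rw [hI', Set.ncard_insert_of_notMem (by simp), ← Nat.card_coe_set_eq,
      show Nat.card ↥{z : PSL2 F | orderOf z = 2} = Nat.card {z : PSL2 F // orderOf z = 2} from rfl,
      card_orderOf_char 2]
    obtain ⟨n, hn⟩ : ∃ n, Nat.card F = n + 1 :=
      ⟨Nat.card F - 1, by have : 1 < Nat.card F := Finite.one_lt_card; omega⟩
    rw [hn, Nat.add_sub_cancel]
    ring
  have hJc : J.ncard = I.ncard := ncard_preimage_mul_left x I
  have h1 := Set.ncard_union_add_ncard_inter (B : Set (PSL2 F)) I (Set.toFinite _) (Set.toFinite _)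
  have h2 := Set.ncard_union_add_ncard_inter ((B : Set (PSL2 F)) ∪ I) J (Set.toFinite _) (Set.toFinite _)
  rw [hBI, hC, hIc, show (B : Set (PSL2 F)).ncard = Nat.card B from (Nat.card_coe_set_eq _).symm,
    hB, card_borel, gcd_two_of_char_two, Nat.div_one] at h1
  rw [hUJ, hC, hJc, hIc] at h2
  rw [hsol]
  obtain ⟨n, hn⟩ : ∃ n, Nat.card F = n + 1 :=
    ⟨Nat.card F - 1, by have : 1 < Nat.card F := Finite.one_lt_card; omega⟩
  rw [hn, Nat.add_sub_cancel] at h1 ⊢
  rw [hn] at h2
  linarith

end Cfsg.Agent.PSL2
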