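import Cfsg.Agent.Lib.GolayInvol.Basic
import Cfsg.Agent.Lib.Golay.M23Aut
import Cfsg.Agent.Lib.Golay.IndexSubgroups
import Cfsg.Agent.Lib.Leech.Co0Center
import Cfsg.Agent.Lib.GLOrder.Basic
import Mathlib.Topology.Compactification.OnePoint.ProjectiveLine

/-
The projective line group of degree 24 and its point stabiliser of order 253 inside the group of
the length-24 code.

Main results (namespace `Cfsg.Agent.PSL2.M24Line`): `no_involution`, `card_normalizer_23`,
`card_frob`, `card_cases`, `card_line`, `line_cases`.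
-/

set_option autoImplicit false
open scoped Pointwise
open Cfsg MulAction
open Subgroup (normalizer centralizer)

namespace Cfsg.Agent.PSL2.M24Line

open Cfsg.Agent.Golay

/-- Translation by one. -/
def tr : Equiv.Perm GolayPt := Equiv.optionCongr (Equiv.addRight (1 : ZMod 23))

/-- The dilations by squares. -/
def dils : Set (Equiv.Perm GolayPt) :=
  {g | ∃ u : (ZMod 23)ˣ, IsSquare u ∧ g = Equiv.optionCongr (Units.mulLeft u)}

/-- The Frobenius group of order 253. -/
def frob : Subgroup (Equiv.Perm GolayPt) := Subgroup.closure ({tr} ∪ dils)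

/-- The projective line group. -/
def line : Subgroup (Equiv.Perm GolayPt) := Subgroup.closure ({tr, projInv} ∪ dils)

/-- The fixed point set of an involution of the code group with a fixed point has eight points. -/
theorem card_fixed_invol {t : Equiv.Perm GolayPt} (ht : t ∈ M24) (ht2 : orderOf t = 2)
    {a : GolayPt} (ha : t a = a) : (Finset.univ.filter fun p => t p = p).card = 8 := by
  obtain ⟨k, hk, h | h⟩ := GolayInvol.involution_cases ht ht2
  · have he : (Finset.univ.filter fun p => t p = p) =
        (Finset.univ.filter fun p => GolayInvol.repFix p = p).image k := by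
      ext p
      simp only [Finset.mem_filter, Finset.mem_univ, true_and, Finset.mem_image]
      constructor
      · intro hp
        refine ⟨k⁻¹ p, k.injective ?_, by simp⟩
        rw [← h, Equiv.Perm.mul_apply, Equiv.Perm.mul_apply] at hp
        rw [hp]
        simp
      · rintro ⟨q, hq, rfl⟩
        rw [← h, Equiv.Perm.mul_apply, Equiv.Perm.mul_apply]
        simp [hq]
    rw [he, Finset.card_image_of_injective _ k.injective, GolayInvol.fixSet_repFix.2]
  · exfalso
    rw [← h, Equiv.Perm.mul_apply, Equiv.Perm.mul_apply] at ha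
    refine GolayInvol.repFree_ne (k⁻¹ a) (k.injective ?_)
    rw [ha]
    simp

/-- An involution of the code group with a fixed point normalises no subgroup of order 11 or 23
generated by an element with at most two fixed points. -/
theorem no_involution {p : ℕ} [Fact p.Prime] (hp : 8 < p) {t π : Equiv.Perm GolayPt}
    (ht : t ∈ M24) (ht2 : orderOf t = 2) {a : GolayPt} (ha : t a = a)
    (hπ : orderOf π = p) (hF : (π.supportᶜ).card ≤ 2)
    (hn : t * π * t⁻¹ ∈ Subgroup.zpowers π) : False := by
  classical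
  set F := Finset.univ.filter fun p => t p = p with hFd
  have hF8 : F.card = 8 := card_fixed_invol ht ht2 ha
  obtain ⟨s, hs⟩ := Subgroup.mem_zpowers_iff.mp hn
  have hinv : t⁻¹ = t := by
    have h := pow_orderOf_eq_one t
    rw [ht2, pow_two] at h
    exact inv_eq_of_mul_eq_one_right h
  have hss : π ^ (s * s - 1) = 1 := by
    have h1 : t * π ^ s * t⁻¹ = π ^ (s * s) := by rw [← conj_zpow, ← hs, ← zpow_mul]
    rw [zpow_sub, ← h1, hs, zpow_one]
    have htt : t * t = 1 := by
      have h := pow_orderOf_eq_one t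
      rwa [ht2, pow_two] at h
    rw [hinv, mul_inv_eq_one, ← mul_assoc, ← mul_assoc, htt, one_mul, mul_assoc, htt, mul_one]
  have hpp : p.Prime := Fact.out
  have hdvd : (p : ℤ) ∣ (s - 1) * (s + 1) := by
    rw [← hπ, show (s - 1) * (s + 1) = s * s - 1 by ring]
    exact orderOf_dvd_iff_zpow_eq_one.mpr hss
  have happ : ∀ y, t (π y) = (π ^ s) (t y) := fun y => by
    rw [hs]; simp [Equiv.Perm.mul_apply]
  rcases (Nat.prime_iff_prime_int.mp hpp).dvd_or_dvd hdvd with h | h
  · -- centralising
    rw [← hπ] at h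
    have hπs : π ^ s = π := by
      have := orderOf_dvd_iff_zpow_eq_one.mp h
      rwa [zpow_sub, zpow_one, mul_inv_eq_one] at this
    have hpres : ∀ y, π y ∈ F ↔ y ∈ F := fun y => by
      simp only [hFd, Finset.mem_filter, Finset.mem_univ, true_and]
      rw [happ, hπs]
      exact π.injective.eq_iff
    have hm := card_mod_of_invariant (p := p) (by rw [← hπ]; exact pow_orderOf_eq_one π) hpres
    have hle : (F.filter fun y => π y = y).card ≤ 2 :=
      (Finset.card_le_card fun y hy => by simpa using (Finset.mem_filter.mp hy).2).trans hF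
    rw [hF8, Nat.mod_eq_of_lt hp, Nat.mod_eq_of_lt (by omega)] at hm
    omega
  · -- inverting
    rw [← hπ] at h
    have hπs : π ^ s = π⁻¹ := by
      have := orderOf_dvd_iff_zpow_eq_one.mp h
      rwa [zpow_add, zpow_one, mul_eq_one_iff_eq_inv] at this
    set A := F.filter fun y => π y ≠ y with hA
    have hA6 : 6 ≤ A.card := by
      have h1 := Finset.card_filter_add_card_filter_not (s := F) (fun y => π y = y)
      have hle : (F.filter fun y => π y = y).card ≤ 2 :=
        (Finset.card_le_card fun y hy => by simpa using (Finset.mem_filter.mp hy).2).trans hF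
      simp only [hA, ne_eq]
      omega
    have happ' : ∀ (k : ℤ) y, t ((π ^ k) y) = (π ^ (-k)) (t y) := fun k y => by
      have hc : t * π ^ k * t⁻¹ = π ^ (-k) := by
        rw [← conj_zpow, ← hs, hπs, zpow_neg, ← inv_zpow]
      rw [← hc]
      simp [Equiv.Perm.mul_apply]
    have hinj : Set.InjOn (fun z : GolayPt × Fin p => (π ^ (z.2.val : ℤ)) z.1)
        (↑(A ×ˢ (Finset.univ : Finset (Fin p)))) := by
      rintro ⟨y, i⟩ hy ⟨y', j⟩ hy' e
      simp only [Finset.coe_product, Set.mem_prod, Finset.mem_coe, hA, hFd, Finset.mem_filter,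
        Finset.mem_univ, true_and, and_true] at hy hy'
      simp only at e
      have e1 : (π ^ ((i.val : ℤ) - j.val)) y = y' := by
        rw [zpow_sub, ← zpow_neg, ← zpow_add, add_comm, zpow_add, Equiv.Perm.mul_apply, e,
          ← Equiv.Perm.mul_apply, ← zpow_add, neg_add_cancel, zpow_zero, Equiv.Perm.one_apply]
      have e2 := congrArg t e1
      rw [happ', hy.1, hy'.1, ← e1] at e2
      have e3 : (π ^ (2 * ((i.val : ℤ) - j.val))) y = y := by
        rw [two_mul, zpow_add, Equiv.Perm.mul_apply, ← e2, ← Equiv.Perm.mul_apply, ← zpow_add,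
          add_neg_cancel, zpow_zero, Equiv.Perm.one_apply]
      have hij : i = j := by
        by_contra hne
        apply hy.2
        have hcop : IsCoprime (2 * ((i.val : ℤ) - j.val)) (p : ℤ) := by
          refine ((Nat.prime_iff_prime_int.mp hpp).coprime_iff_not_dvd.mpr fun hd => ?_).symm
          rcases (Nat.prime_iff_prime_int.mp hpp).dvd_or_dvd hd with hd | hd
          · have := Int.le_of_dvd (by norm_num) hd
            omega
          · apply hne
            refine Fin.ext ?_
            have h0 := Int.eq_zero_of_abs_lt_dvd hd (abs_sub_lt_iff.mpr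
              ⟨by omega, by omega⟩)
            omega
        obtain ⟨x, z, hxz⟩ := hcop
        have hfix : ∀ k : ℤ, (π ^ (2 * ((i.val : ℤ) - j.val) * k)) y = y := fun k => by
          rw [zpow_mul]
          exact Equiv.Perm.zpow_apply_eq_self_of_apply_eq_self e3 k
        calc π y = (π ^ (2 * ((i.val : ℤ) - j.val) * x + (p : ℤ) * z)) y := by
              rw [show 2 * ((i.val : ℤ) - j.val) * x + (p : ℤ) * z = 1 by linarith, zpow_one]
          _ = y := by
              have hpz : π ^ ((p : ℤ) * z) = 1 := by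
                rw [zpow_mul, zpow_natCast, show π ^ p = 1 by simpa only [hπ] using pow_orderOf_eq_one π,
                  one_zpow]
              rw [zpow_add, hpz, mul_one, hfix]
      subst hij
      simp only [(π ^ (i.val : ℤ)).injective e]
    have := Finset.card_le_card_of_injOn _ (fun _ _ => Finset.mem_univ _) hinj
    rw [Finset.card_product, Finset.card_univ, Finset.card_univ, Fintype.card_fin,
      show Fintype.card GolayPt = 24 by simp] at this
    nlinarith

section subgroups

variable {K : Subgroup (Equiv.Perm GolayPt)}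

/-- A Sylow normaliser of order `p` in a subgroup of M23 has odd order. -/
theorem odd_normalizer (hK : K ≤ M24 ⊓ stabilizer (Equiv.Perm GolayPt) (none : GolayPt)) {p : ℕ}
    [Fact p.Prime] (hp : 8 < p) (P : Sylow p ↥K) (hP : Nat.card P = p)
    (hF : ∀ π ∈ K, orderOf π = p → (π.supportᶜ).card ≤ 2) :
    ¬ 2 ∣ Nat.card (normalizer (P : Set ↥K)) := by
  intro h2
  obtain ⟨⟨t, htN⟩, ht⟩ := exists_prime_orderOf_dvd_card' 2 h2
  obtain ⟨⟨π, hπP⟩, hπ⟩ := exists_prime_orderOf_dvd_card' (G := (P : Subgroup ↥K)) p (by rw [hP])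
  rw [← Subgroup.orderOf_coe] at ht hπ
  simp only at ht hπ
  have hconj := (Subgroup.mem_normalizer_iff.mp htN π).mp hπP
  have hz : Subgroup.zpowers π = (P : Subgroup ↥K) :=
    Subgroup.eq_of_le_of_card_ge (Subgroup.zpowers_le.mpr hπP) (by rw [hP, Nat.card_zpowers, hπ])
  rw [← hz] at hconj
  obtain ⟨s, hs⟩ := Subgroup.mem_zpowers_iff.mp hconj
  have hπ' : orderOf (π : Equiv.Perm GolayPt) = p := by rw [Subgroup.orderOf_coe, hπ]
  refine no_involution hp (p := p) (hK t.2).1 (by rw [Subgroup.orderOf_coe, ht]) (hK t.2).2 hπ'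
    (hF π π.2 hπ') (Subgroup.mem_zpowers_iff.mpr ⟨s, ?_⟩)
  exact congrArg Subtype.val hs

/-- The action on the 23 points other than `none`. -/
theorem centralizer_23 (hK : K ≤ stabilizer (Equiv.Perm GolayPt) (none : GolayPt)) [Fact (Nat.Prime 23)]
    (hp2 : ¬ 23 ^ 2 ∣ Nat.card K) (hp : 23 ∣ Nat.card K) (P : Sylow 23 ↥K) :
    Nat.card (centralizer (P : Set ↥K)) ≤ 23 := by
  let X := onFinset K (Finset.univ.erase none) fun g hg => by
    rw [smul_eq_image, Finset.image_erase g.injective, show g none = none from hK hg,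
      Finset.image_univ_equiv]
  have hX : Nat.card X = 23 := by
    show Nat.card ↥((Finset.univ.erase none : Finset GolayPt) : Set GolayPt) = 23
    simp
  have : FaithfulSMul ↥K X := by
    refine ⟨fun {g h} e => Subtype.ext (Equiv.ext fun x => ?_)⟩
    by_cases hx : x = none
    · rw [hx, show (g : Equiv.Perm GolayPt) none = none from hK g.2,
        show (h : Equiv.Perm GolayPt) none = none from hK h.2]
    · exact congrArg Subtype.val (e ⟨x, Finset.mem_erase.mpr ⟨hx, Finset.mem_univ _⟩⟩)
  exact card_centralizer_le_of_card_eq (X := X) hX hp2 hp P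

end subgroups

theorem tr_apply_some (x : ZMod 23) : tr (some x) = some (x + 1) := rfl

theorem tr_none : tr none = none := rfl

theorem tr_mem : tr ∈ M24 := Leech.shift_mem_M24 1

theorem dil_mem {g : Equiv.Perm GolayPt} (hg : g ∈ dils) : g ∈ M24 := by
  obtain ⟨u, ⟨v, rfl⟩, rfl⟩ := hg
  refine mem_M24_of_rows fun r hr => ?_
  rw [mem_supports_iff, smul_eq_image]
  exact (by decide +kernel : ∀ r ∈ rows, ∀ v : (ZMod 23)ˣ,
    isCode (maskOf ((pts r).image fun p => p.map fun x => ((v * v : (ZMod 23)ˣ) : ZMod 23) * x)) =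
      true) r hr v

theorem frob_le : frob ≤ M24 ⊓ stabilizer (Equiv.Perm GolayPt) (none : GolayPt) := by
  refine (Subgroup.closure_le _).mpr (Set.union_subset ?_ fun g hg => ⟨dil_mem hg, ?_⟩)
  · rw [Set.singleton_subset_iff]
    exact ⟨tr_mem, rfl⟩
  · obtain ⟨u, -, rfl⟩ := hg
    rfl

theorem line_le : line ≤ M24 := by
  refine (Subgroup.closure_le _).mpr (Set.union_subset ?_ fun g hg => dil_mem hg)
  rintro g (rfl | rfl)
  · exact tr_mem
  · exact Leech.projInv_mem_M24

theorem frob_le_line : frob ≤ line :=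
  Subgroup.closure_mono (Set.union_subset_union_left _ (Set.singleton_subset_iff.mpr (Or.inl rfl)))

theorem orderOf_tr : orderOf tr = 23 := by
  have hne : ¬ tr (some 0) = some 0 := by decide +kernel
  have h23 : ∀ p, (tr ^ 23) p = p := by decide +kernel
  haveI : Fact (Nat.Prime 23) := ⟨by norm_num⟩
  refine orderOf_eq_prime (Equiv.ext h23) fun h => hne ?_
  rw [h, Equiv.Perm.one_apply]

/-- The dilation by two. -/
def dilTwo : Equiv.Perm GolayPt :=
  Equiv.optionCongr (Units.mulLeft (⟨2, 12, by decide +kernel, by decide +kernel⟩ : (ZMod 23)ˣ))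

theorem dilTwo_mem : dilTwo ∈ frob :=
  Subgroup.subset_closure (Or.inr ⟨_, ⟨⟨5, 14, by decide +kernel, by decide +kernel⟩,
    by decide +kernel⟩, rfl⟩)

theorem orderOf_dilTwo : orderOf dilTwo = 11 := by
  have hne : ¬ dilTwo (some 1) = some 1 := by decide +kernel
  have h11 : ∀ p, (dilTwo ^ 11) p = p := by decide +kernel
  haveI : Fact (Nat.Prime 11) := ⟨by norm_num⟩
  refine orderOf_eq_prime (Equiv.ext h11) fun h => hne ?_
  rw [h, Equiv.Perm.one_apply]

theorem dvd_card {K : Subgroup (Equiv.Perm GolayPt)} (hH : frob ≤ K) : 253 ∣ Nat.card K := by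
  have h23 : 23 ∣ Nat.card K := orderOf_tr ▸
    Subgroup.orderOf_dvd_natCard _ (hH (Subgroup.subset_closure (Or.inl rfl)))
  have h11 : 11 ∣ Nat.card K := orderOf_dilTwo ▸
    Subgroup.orderOf_dvd_natCard _ (hH dilTwo_mem)
  exact Nat.Coprime.mul_dvd_of_dvd_of_dvd (m := 11) (n := 23) (by norm_num) h11 h23

theorem card_dvd {K : Subgroup (Equiv.Perm GolayPt)}
    (hK : K ≤ M24 ⊓ stabilizer (Equiv.Perm GolayPt) (none : GolayPt)) : Nat.card K ∣ 10200960 :=
  natCard_m23 none ▸ Subgroup.card_dvd_of_le hK

/-- The normaliser of a Sylow 23-subgroup of a subgroup of M23 containing `frob` has order 253. -/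
theorem card_normalizer_23 {K : Subgroup (Equiv.Perm GolayPt)} [Fact (Nat.Prime 23)] (hH : frob ≤ K)
    (hK : K ≤ M24 ⊓ stabilizer (Equiv.Perm GolayPt) (none : GolayPt)) :
    ∃ P : Sylow 23 ↥K, Nat.card (normalizer (P : Set ↥K)) = 253 ∧
      frob.subgroupOf K ≤ normalizer (P : Set ↥K) := by
  have hcd := card_dvd hK
  have hp : 23 ∣ Nat.card K := (show 23 ∣ 253 by norm_num).trans (dvd_card hH)
  have hp2 : ¬ 23 ^ 2 ∣ Nat.card K := fun h => by
    have := h.trans hcd
    norm_num at this
  have htK : tr ∈ K := hH (Subgroup.subset_closure (Or.inl rfl))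
  set τ : ↥K := ⟨tr, htK⟩
  have hτ : orderOf τ = 23 := by rw [← Subgroup.orderOf_coe]; exact orderOf_tr
  obtain ⟨P, hle⟩ := (IsPGroup.of_card (G := Subgroup.zpowers τ) (n := 1)
    (by rw [Nat.card_zpowers, hτ, pow_one])).exists_le_sylow
  have hP := card_sylow_prime hp hp2 P
  have heq : Subgroup.zpowers τ = (P : Subgroup ↥K) :=
    Subgroup.eq_of_le_of_card_ge hle (by rw [hP, Nat.card_zpowers, hτ])
  have hnorm : frob.subgroupOf K ≤ normalizer (P : Set ↥K) := by
    intro g hg
    have hsub : frob ≤ normalizer ((Subgroup.zpowers tr : Subgroup _) : Set (Equiv.Perm GolayPt)) := by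
      refine (Subgroup.closure_le _).mpr (Set.union_subset ?_ ?_)
      · rw [Set.singleton_subset_iff]
        exact Subgroup.le_normalizer (Subgroup.mem_zpowers tr)
      · rintro _ ⟨u, -, rfl⟩
        set d := Equiv.optionCongr (Units.mulLeft u) with hd
        refine Subgroup.mem_normalizer_fintype fun n hn => ?_
        obtain ⟨k, rfl⟩ := Subgroup.mem_zpowers_iff.mp hn
        have key : d * tr = tr ^ ((u : ZMod 23).val) * d := by
          refine Equiv.ext fun q => ?_
          have hall : ∀ (n : ℕ) (x : ZMod 23), (tr ^ n) (some x) = some (x + n) := by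
            intro n
            induction n with
            | zero => simp
            | succ n ih => intro x; rw [pow_succ', Equiv.Perm.mul_apply, ih, tr_apply_some]
                           push_cast; rw [add_assoc]
          rcases q with - | x
          · have h0 : ∀ n : ℕ, (tr ^ n) none = none := fun n =>
              Equiv.Perm.pow_apply_eq_self_of_apply_eq_self tr_none n
            rw [Equiv.Perm.mul_apply, Equiv.Perm.mul_apply, tr_none]
            exact (h0 _).symm
          · rw [Equiv.Perm.mul_apply, Equiv.Perm.mul_apply, tr_apply_some]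
            show some ((u : ZMod 23) * (x + 1)) = (tr ^ _) (some ((u : ZMod 23) * x))
            rw [hall, ZMod.natCast_zmod_val]
            ring_nf
        rw [SetLike.mem_coe, ← conj_zpow, key, mul_inv_cancel_right]
        exact Subgroup.zpow_mem _ (Subgroup.pow_mem _ (Subgroup.mem_zpowers tr) _) _
    show g ∈ normalizer ((P : Subgroup ↥K) : Set ↥K)
    rw [Subgroup.mem_normalizer_iff]
    intro n
    have hgn := Subgroup.mem_normalizer_iff.mp (hsub hg) n.1
    have hmem : ∀ m : ↥K, m ∈ Subgroup.zpowers τ ↔ (m : Equiv.Perm GolayPt) ∈ Subgroup.zpowers tr := by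
      intro m
      simp only [Subgroup.mem_zpowers_iff]
      exact exists_congr fun k => Subtype.ext_iff
    rw [← heq, hmem, hmem]
    exact hgn
  refine ⟨P, ?_, hnorm⟩
  obtain ⟨j, hj, -⟩ := normalizer_card_split hp hp2 P
  have hC := centralizer_23 (fun g hg => (hK hg).2) hp2 hp P
  have hPC : (P : Subgroup ↥K) ≤ centralizer (P : Set ↥K) := by
    have hcyc : IsCyclic P := isCyclic_of_prime_card hP
    exact fun x hx => Subgroup.mem_centralizer_iff.mpr fun y hy =>
      congrArg Subtype.val ((hcyc.isMulCommutative).is_comm.comm ⟨y, hy⟩ ⟨x, hx⟩)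
  have hC' : Nat.card (centralizer (P : Set ↥K)) = 23 :=
    le_antisymm hC (hP.symm.le.trans (Nat.le_of_dvd Nat.card_pos (Subgroup.card_dvd_of_le hPC)))
  have hdvd := card_normalizer_dvd hp hp2 P
  rw [hj, hC'] at hdvd
  have hj22 : j ∣ 22 := (Nat.mul_dvd_mul_iff_left (by norm_num)).mp hdvd
  have hodd : ¬ 2 ∣ 23 * j := by
    rw [← hj]
    refine odd_normalizer hK (by norm_num) P hP fun π hπK hπ => ?_
    obtain ⟨hmod, hlt⟩ := natCard_fixed_of_prime_order (p := 23) hπ
    omega
  have h11 : 11 ∣ 23 * j := by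
    rw [← hj]
    have h := Subgroup.orderOf_dvd_natCard _ (hnorm (x := ⟨dilTwo, hH dilTwo_mem⟩) dilTwo_mem)
    rwa [← Subgroup.orderOf_coe, orderOf_dilTwo] at h
  have := (by decide +kernel : ∀ j < 23, j ∣ 22 → ¬ 2 ∣ 23 * j → 11 ∣ 23 * j → j = 11) j
    (Nat.lt_succ_of_le (Nat.le_of_dvd (by norm_num) hj22)) hj22 hodd h11
  rw [hj, this]

theorem card_frob : Nat.card frob = 253 := by
  haveI : Fact (Nat.Prime 23) := ⟨by norm_num⟩
  obtain ⟨P, hP, hle⟩ := card_normalizer_23 le_rfl frob_le
  rw [Subgroup.subgroupOf_self, top_le_iff] at hle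
  rwa [hle, Subgroup.card_top] at hP

theorem divisors_mod : ∀ k < 1754, 40320 % (23 * k + 1) = 0 →
    (23 * k + 1) ∈ [1, 24, 70, 576, 1680, 40320] := by decide +kernel

/-- A subgroup of M23 containing `frob` has order 253 or is M23. -/
theorem card_cases {K : Subgroup (Equiv.Perm GolayPt)} (hH : frob ≤ K)
    (hK : K ≤ M24 ⊓ stabilizer (Equiv.Perm GolayPt) (none : GolayPt)) :
    Nat.card K = 253 ∨ Nat.card K = 10200960 := by
  haveI : Fact (Nat.Prime 23) := ⟨by norm_num⟩
  haveI : Fact (Nat.Prime 11) := ⟨by norm_num⟩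
  obtain ⟨P, hN, -⟩ := card_normalizer_23 hH hK
  have hidx := Subgroup.index_mul_card (normalizer (P : Set ↥K))
  rw [hN, ← P.card_eq_index_normalizer] at hidx
  have hmod : Nat.card (Sylow 23 ↥K) % 23 = 1 := card_sylow_modEq_one 23 ↥K
  set n := Nat.card (Sylow 23 ↥K) with hn
  have hcd := card_dvd hK
  rw [← hidx] at hcd
  have hn' : n ∣ 40320 := (Nat.mul_dvd_mul_iff_right (by norm_num : (0 : ℕ) < 253)).mp hcd
  have hnle := Nat.le_of_dvd (by norm_num) hn'
  have hmem := divisors_mod (n / 23) (by omega)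
    (by rw [show 23 * (n / 23) + 1 = n by omega]; exact Nat.mod_eq_zero_of_dvd hn' |>.trans rfl)
  rw [show 23 * (n / 23) + 1 = n by omega] at hmem
  have key : ∀ d m : ℕ, n = d → (∃ k, 23 * d = 2 ^ k * m) →
      (∀ j < m + 1, j ∣ m → (23 * d) % 11 ≠ j % 11) → False := by
    rintro d m rfl ⟨k, hk⟩ hall
    have hp : 11 ∣ Nat.card K := (show 11 ∣ 253 by norm_num).trans (dvd_card hH)
    have hp2 : ¬ 11 ^ 2 ∣ Nat.card K := fun h => by
      have := h.trans (card_dvd hK)
      norm_num at this
    obtain ⟨Q⟩ : Nonempty (Sylow 11 ↥K) := Sylow.nonempty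
    obtain ⟨j, hj, hjmod⟩ := normalizer_card_split hp hp2 Q
    have hodd : ¬ 2 ∣ 11 * j := by
      rw [← hj]
      refine odd_normalizer hK (by norm_num) Q (card_sylow_prime hp hp2 Q) fun π hπK hπ => ?_
      exact (Index.card_fixed_eleven (hK hπK).1 hπ).le
    have hdvd : j ∣ 23 * n := by
      have := Subgroup.card_subgroup_dvd_card (normalizer (Q : Set ↥K))
      rw [hj, ← hidx, show n * 253 = 11 * (23 * n) by ring] at this
      exact (Nat.mul_dvd_mul_iff_left (by norm_num)).mp this
    have hcop : Nat.Coprime j (2 ^ k) := Nat.Coprime.pow_right _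
      ((Nat.prime_two.coprime_iff_not_dvd.mpr fun h => hodd (h.mul_left 11)).symm)
    rw [hk] at hdvd
    have hjm := hcop.dvd_of_dvd_mul_left hdvd
    have hm0 : m ≠ 0 := fun h => by
      rw [h, mul_zero] at hk
      omega
    refine hall j (Nat.lt_succ_of_le (Nat.le_of_dvd (by omega) hjm)) hjm ?_
    rw [← hjmod, ← hidx]
    omega
  simp only [List.mem_cons, List.not_mem_nil, or_false] at hmem
  rcases hmem with h | h | h | h | h | h
  · left; rw [← hidx, h]
  · exact (key 24 69 h ⟨3, by norm_num⟩ (by decide +kernel)).elim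
  · exact (key 70 805 h ⟨1, by norm_num⟩ (by decide +kernel)).elim
  · exact (key 576 207 h ⟨6, by norm_num⟩ (by decide +kernel)).elim
  · exact (key 1680 2415 h ⟨4, by norm_num⟩ (by decide +kernel)).elim
  · right; rw [← hidx, h]

theorem exists_line_map (y : GolayPt) : ∃ g ∈ line, g none = y := by
  have hp : projInv ∈ line := Subgroup.subset_closure (Or.inl (Or.inr rfl))
  have ht : tr ∈ line := Subgroup.subset_closure (Or.inl (Or.inl rfl))
  rcases y with - | x
  · exact ⟨1, one_mem _, rfl⟩
  · refine ⟨tr ^ x.val * projInv, mul_mem (pow_mem ht _) hp, ?_⟩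
    have hall : ∀ (n : ℕ), (tr ^ n) (some 0) = some (n : ZMod 23) := by
      intro n
      induction n with
      | zero => simp
      | succ n ih => rw [pow_succ', Equiv.Perm.mul_apply, ih, tr_apply_some]; push_cast; rfl
    rw [Equiv.Perm.mul_apply, show projInv none = some 0 by decide +kernel, hall,
      ZMod.natCast_zmod_val]

theorem card_of_line_le {K : Subgroup (Equiv.Perm GolayPt)} (hH : line ≤ K) :
    Nat.card K = 24 * Nat.card ↥(K ⊓ stabilizer (Equiv.Perm GolayPt) (none : GolayPt)) := by
  rw [natCard_step K none Finset.univ (fun _ _ => Finset.mem_univ _) fun y _ => ?_]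
  · rw [Finset.card_univ]; rfl
  · obtain ⟨g, hg, h⟩ := exists_line_map y
    exact ⟨g, hH hg, h⟩

theorem line_cases {K : Subgroup (Equiv.Perm GolayPt)} (hH : line ≤ K) (hK : K ≤ M24) :
    Nat.card K = 6072 ∨ Nat.card K = 244823040 := by
  have h := card_of_line_le hH
  rcases card_cases (K := K ⊓ stabilizer (Equiv.Perm GolayPt) (none : GolayPt))
      (le_inf (frob_le_line.trans hH) fun g hg => (frob_le hg).2)
      (inf_le_inf_right _ hK) with e | e <;> rw [e] at h <;> simp [h]

/-- The projective line group has order at most 6072, as an image of `SL(2, 23)`. -/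
theorem card_line_le : Nat.card line ≤ 6072 := by
  have hpi : ∀ z : ZMod 23, (if z = 0 then (none : GolayPt) else some (-1 * z⁻¹)) = projInv (some z) := by
    decide +kernel
  haveI : Fact (Nat.Prime 23) := ⟨by norm_num⟩
  let Φ : Matrix.SpecialLinearGroup (Fin 2) (ZMod 23) →* Equiv.Perm GolayPt :=
    (MulAction.toPermHom (GL (Fin 2) (ZMod 23)) (OnePoint (ZMod 23))).comp
      Matrix.SpecialLinearGroup.toGL
  have hco : ∀ (M : Matrix.SpecialLinearGroup (Fin 2) (ZMod 23)) i j,
      (Matrix.SpecialLinearGroup.toGL M) i j = M.1 i j := fun _ _ _ => rfl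
  have hΦ : ∀ (M : Matrix.SpecialLinearGroup (Fin 2) (ZMod 23)) (g : Equiv.Perm GolayPt),
      (∀ x : OnePoint (ZMod 23), Matrix.SpecialLinearGroup.toGL M • x = g x) → Φ M = g :=
    fun M g h => Equiv.ext h
  have hle : line ≤ Φ.range := by
    refine (Subgroup.closure_le _).mpr (Set.union_subset ?_ ?_)
    · rintro g (rfl | rfl)
      · obtain ⟨M, hM⟩ : ∃ M : Matrix.SpecialLinearGroup (Fin 2) (ZMod 23), M.1 = !![1, 1; 0, 1] :=
          ⟨⟨!![1, 1; 0, 1], by simp [Matrix.det_fin_two]⟩, rfl⟩
        refine ⟨M, hΦ _ _ fun x => ?_⟩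
        cases x with
        | infty =>
          rw [OnePoint.smul_infty_eq_self_iff.mpr (by rw [hco, hM]; rfl)]
          rfl
        | coe z =>
          rw [OnePoint.smul_some_eq_ite]
          simp only [hco, hM, Matrix.cons_val', Matrix.cons_val_zero, Matrix.cons_val_one,
            Matrix.of_apply, Matrix.cons_val_fin_one, zero_mul, zero_add, one_mul, one_ne_zero,
            if_false, div_one]
          rfl
      · obtain ⟨M, hM⟩ : ∃ M : Matrix.SpecialLinearGroup (Fin 2) (ZMod 23), M.1 = !![0, -1; 1, 0] :=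
          ⟨⟨!![0, -1; 1, 0], by simp [Matrix.det_fin_two]⟩, rfl⟩
        refine ⟨M, hΦ _ _ fun x => ?_⟩
        cases x with
        | infty =>
          rw [OnePoint.smul_infty_eq_ite]
          simp only [hco, hM, Matrix.cons_val', Matrix.cons_val_zero, Matrix.cons_val_one,
            Matrix.of_apply, Matrix.cons_val_fin_one, one_ne_zero, if_false, zero_div]
          rfl
        | coe z =>
          rw [OnePoint.smul_some_eq_ite]
          simp only [hco, hM, Matrix.cons_val', Matrix.cons_val_zero, Matrix.cons_val_one,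
            Matrix.of_apply, Matrix.cons_val_fin_one, zero_mul, zero_add, one_mul, add_zero]
          rw [div_eq_mul_inv]
          exact hpi z
    · rintro _ ⟨u, ⟨v, rfl⟩, rfl⟩
      obtain ⟨M, hM⟩ : ∃ M : Matrix.SpecialLinearGroup (Fin 2) (ZMod 23),
          M.1 = !![(v : ZMod 23), 0; 0, ((v⁻¹ : (ZMod 23)ˣ) : ZMod 23)] :=
        ⟨⟨!![(v : ZMod 23), 0; 0, ((v⁻¹ : (ZMod 23)ˣ) : ZMod 23)], by
          rw [Matrix.det_fin_two_of, mul_zero, sub_zero, Units.mul_inv]⟩, rfl⟩
      refine ⟨M, hΦ _ _ fun x => ?_⟩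
      cases x with
      | infty =>
        rw [OnePoint.smul_infty_eq_self_iff.mpr (by rw [hco, hM]; rfl)]
        rfl
      | coe z =>
        rw [OnePoint.smul_some_eq_ite]
        simp only [hco, hM, Matrix.cons_val', Matrix.cons_val_zero, Matrix.cons_val_one,
          Matrix.of_apply, Matrix.cons_val_fin_one, zero_mul, zero_add, add_zero, Units.ne_zero,
          if_false]
        refine congrArg OnePoint.some ?_
        show _ = ((v * v : (ZMod 23)ˣ) : ZMod 23) * z
        rw [Units.val_mul, Units.val_inv_eq_inv_val, div_inv_eq_mul, mul_right_comm]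
  have h1 : (-1 : Matrix.SpecialLinearGroup (Fin 2) (ZMod 23)) ∈ Φ.ker := by
    refine MonoidHom.mem_ker.mpr (hΦ _ _ fun x => ?_)
    cases x with
    | infty =>
      rw [OnePoint.smul_infty_eq_self_iff.mpr (by rw [hco]; rfl)]
      rfl
    | coe z =>
      rw [OnePoint.smul_some_eq_ite]
      simp [hco]
      rfl
  have hker : 2 ≤ Nat.card Φ.ker := by
    have : Nontrivial Φ.ker := ⟨⟨⟨-1, h1⟩, 1, fun h => by
      have := congrArg (fun m : Φ.ker => (m : Matrix.SpecialLinearGroup (Fin 2) (ZMod 23)).1 0 0) h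
      simp at this
      exact absurd this (by decide +kernel)⟩⟩
    exact Finite.one_lt_card
  have hmul := Subgroup.index_mul_card Φ.ker
  rw [Subgroup.index_ker, GLOrder.card_SL_two, Nat.card_zmod] at hmul
  rw [show (23 : ℕ) * (23 ^ 2 - 1) = 12144 by norm_num] at hmul
  have hcard := Nat.le_of_dvd Nat.card_pos (Subgroup.card_dvd_of_le hle)
  nlinarith

theorem card_line : Nat.card line = 6072 := by
  rcases line_cases le_rfl line_le with h | h
  · exact h
  · have := card_line_le
    omega

end Cfsg.Agent.PSL2.M24Line
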