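/-
Icosahedral subgroups of `PSL_2(11)`.

Main results (namespace `Cfsg.Agent.PSL2`):
* `altFive_index`, `normalizer_altFive`, `altFive_classes`, `altFive_not_outer`
-/
import Cfsg.Agent.Lib.PSL2.PGL

set_option autoImplicit false
set_option linter.unusedSectionVars false
set_option linter.dupNamespace false

open Matrix MulAction Subgroup
open scoped Pointwise

namespace Cfsg.Agent.PSL2

variable {F : Type*} [Field F] [Finite F] (hF : Nat.card F = 11)

include hF

theorem card_psl_eleven : Nat.card (PSL2 F) = 660 := by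
  have h := card_psl_mul (F := F)
  rw [hF] at h
  norm_num at h
  omega

theorem exists_altFive_eleven :
    ∃ H : Subgroup (PSL2 F), Nonempty (H ≃* alternatingGroup (Fin 5)) :=
  exists_alternatingFive_sub_iff.2 (by rw [hF]; norm_num)

theorem altFive_index {H : Subgroup (PSL2 F)} (e : H ≃* alternatingGroup (Fin 5)) : H.index = 11 := by
  have h := H.index_mul_card
  rw [Nat.card_congr e.toEquiv, card_alt_five, card_psl_eleven hF] at h
  omega

theorem normalizer_altFive {H : Subgroup (PSL2 F)} (e : H ≃* alternatingGroup (Fin 5)) :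
    normalizer (H : Set (PSL2 F)) = H := by
  have := isSimpleGroup_psl (L := F) (by omega)
  have hi := altFive_index hF e
  have hle : H ≤ normalizer (H : Set (PSL2 F)) := Subgroup.le_normalizer
  have h := Subgroup.relIndex_mul_index hle
  rw [hi] at h
  rcases (Nat.dvd_prime (by norm_num : Nat.Prime 11)).1 ⟨_, by rw [mul_comm]; exact h.symm⟩ with h' | h'
  · exfalso
    have hn : H.Normal := Subgroup.normalizer_eq_top_iff.1 (Subgroup.index_eq_one.1 h')
    rcases hn.eq_bot_or_eq_top with e' | e'
    · rw [e', Subgroup.index_bot, card_psl_eleven hF] at hi; omega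
    · rw [e', Subgroup.index_top] at hi; omega
  · have h1 : H.relIndex (normalizer (H : Set (PSL2 F))) = 1 := by
      rw [h'] at h
      omega
    exact le_antisymm (Subgroup.relIndex_eq_one.1 h1) hle

theorem altFive_not_outer {H : Subgroup (PSL2 F)} (e : H ≃* alternatingGroup (Fin 5))
    {u : GL (Fin 2) F} (hu : ¬ IsSquare ((GeneralLinearGroup.det u : Fˣ) : F)) :
    H.map (outConj u).toMonoidHom ≠ H := by
  intro h
  obtain ⟨p, hp⟩ := CharP.exists F
  have : Fact p.Prime := ⟨CharP.char_is_prime F p⟩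
  have hp5 : p ≠ 5 := by
    rintro rfl
    obtain ⟨a, ha, hq⟩ := GLOrder.exists_card_eq_pow (F := F) 5
    have : 5 ∣ 11 := by rw [← hF, hq]; exact dvd_pow_self 5 ha.ne'
    norm_num at this
  let φ : PSL2 F →* PGL2 F := ProjectiveSpecialLinearGroup.toPGL
  have hφ : Function.Injective φ := ProjectiveSpecialLinearGroup.toPGL_injective
  let H' := H.map φ
  let L := φ.range
  let N := normalizer (H' : Set (PGL2 F))
  have hLN : N ⊓ L = H' := by
    refine le_antisymm ?_ (le_inf Subgroup.le_normalizer (Subgroup.map_le_range _ _))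
    rintro _ ⟨hxN, x, rfl⟩
    refine ⟨x, ?_, rfl⟩
    rw [SetLike.mem_coe, ← normalizer_altFive hF e, Subgroup.mem_normalizer_iff]
    intro y
    have h' := Subgroup.mem_normalizer_iff.1 hxN (φ y)
    rw [← map_inv, ← map_mul, ← map_mul] at h'
    rwa [Subgroup.mem_map_iff_mem hφ, Subgroup.mem_map_iff_mem hφ] at h'
  have huN : ProjGenLinGroup.mk u ∈ N := by
    rw [Subgroup.mem_normalizer_iff_map_conj_eq]
    show (H.map φ).map (MulAut.conj (ProjGenLinGroup.mk u)).toMonoidHom = H.map φ
    conv_rhs => rw [← h]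
    rw [Subgroup.map_map, Subgroup.map_map]
    congr 1
    exact MonoidHom.ext fun x => (toPGL_outConj u x).symm
  have hnot : ¬ N ≤ L := fun hle => hu ((mk_mem_range_iff u).1 (hle huN))
  have : L.Normal := range_toPGL_normal
  have h2 : L.relIndex N = 2 := by
    have hd := Subgroup.relIndex_dvd_index_of_normal L N
    rw [index_range_toPGL, hF] at hd
    rcases (Nat.dvd_prime Nat.prime_two).1 hd with h1 | h1
    · exact absurd (Subgroup.relIndex_eq_one.1 h1) hnot
    · exact h1
  have hH' : Nat.card H' = 60 := by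
    rw [← Nat.card_congr (Subgroup.equivMapOfInjective H φ hφ).toEquiv, Nat.card_congr e.toEquiv,
      card_alt_five]
  have h120 : Nat.card N = 120 := by
    have hmul := (L.subgroupOf N).index_mul_card
    have hc : Nat.card (L.subgroupOf N) = Nat.card H' := by
      rw [← hLN, Nat.card_congr (Subgroup.equivMapOfInjective (L.subgroupOf N) N.subtype
        (Subgroup.subtype_injective N)).toEquiv, Subgroup.subgroupOf_map_subtype, inf_comm]
    rw [show (L.subgroupOf N).index = L.relIndex N from rfl, h2, hc, hH'] at hmul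
    omega
  refine pgl_card_120 p hp5 h120 fun hs => not_isSolvable_altFive ?_
  have hle : H' ≤ N := Subgroup.le_normalizer
  exact Group.isSolvable_of_isSolvable_injective
    (f := ((Subgroup.inclusion hle).comp
      (Subgroup.equivMapOfInjective H φ hφ).toMonoidHom).comp e.symm.toMonoidHom)
    (((Subgroup.inclusion_injective hle).comp
      (Subgroup.equivMapOfInjective H φ hφ).injective).comp e.symm.injective)

theorem altFive_classes :
    ∃ H K : Subgroup (PSL2 F), Nonempty (H ≃* alternatingGroup (Fin 5)) ∧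
      Nonempty (K ≃* alternatingGroup (Fin 5)) ∧ (∀ g : PSL2 F, MulAut.conj g • H ≠ K) ∧
      ∀ L : Subgroup (PSL2 F), Nonempty (L ≃* alternatingGroup (Fin 5)) →
        ∃ g : PSL2 F, MulAut.conj g • L = H ∨ MulAut.conj g • L = K := by
  have h2 : (2 : F) ≠ 0 := two_ne_zero_iff_odd.2 (by rw [hF]; decide)
  obtain ⟨H, ⟨e⟩⟩ := exists_altFive_eleven hF
  obtain ⟨u₀, hu₀⟩ := exists_nonsquare_gl (F := F) (by rw [hF]; decide)
  refine ⟨H, H.map (outConj u₀).toMonoidHom, ⟨e⟩,
    ⟨((Subgroup.equivMapOfInjective H _ (outConj u₀).injective).symm.trans e)⟩, ?_, ?_⟩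
  · intro g hg
    -- the outer automorphism would fix a conjugate
    obtain ⟨s, rfl⟩ := QuotientGroup.mk_surjective g
    let v : GL (Fin 2) F := Matrix.SpecialLinearGroup.toGL s
    have hv : outConj v = MulAut.conj (QuotientGroup.mk s : PSL2 F) := by
      refine MulEquiv.ext fun x => ProjectiveSpecialLinearGroup.toPGL_injective ?_
      rw [toPGL_outConj, MulAut.conj_apply, map_mul, map_mul, map_inv,
        ProjectiveSpecialLinearGroup.toPGL_mk]
    have hdet : ¬ IsSquare ((GeneralLinearGroup.det (v⁻¹ * u₀) : Fˣ) : F) := by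
      have : ((GeneralLinearGroup.det v : Fˣ) : F) = 1 := by simp [v]
      rwa [map_mul, map_inv, Units.val_mul, Units.val_inv_eq_inv_val, this, inv_one, one_mul]
    apply altFive_not_outer hF e hdet
    rw [map_outConj_mul, ← hg]
    show (H.map (MulAut.conj (QuotientGroup.mk s : PSL2 F)).toMonoidHom).map _ = H
    rw [← hv, Subgroup.map_map]
    convert Subgroup.map_id H using 2
    refine MonoidHom.ext fun x => ProjectiveSpecialLinearGroup.toPGL_injective ?_
    show ProjectiveSpecialLinearGroup.toPGL (outConj v⁻¹ (outConj v x)) = _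
    rw [← outConj_mul, inv_mul_cancel, toPGL_outConj]
    simp
  · rintro L ⟨f⟩
    obtain ⟨u, hu⟩ := altFive_conj h2 f e
    by_cases hd : IsSquare ((GeneralLinearGroup.det u : Fˣ) : F)
    · obtain ⟨g, hg⟩ := exists_outConj_eq_conj hd
      exact ⟨g, Or.inl (hg ▸ hu)⟩
    · obtain ⟨g, hg⟩ := exists_outConj_eq_conj (u := u₀ * u) (by
        have := mul_mk_mem_range_iff u₀⁻¹ u (fun h => hu₀ (by
          rw [map_inv, Units.val_inv_eq_inv_val] at h; simpa using h.inv)) hd
        rwa [inv_inv] at this)
      refine ⟨g, Or.inr ?_⟩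
      rw [← hu, ← map_outConj_mul, hg]
      rfl

theorem card_altFive_subgroups :
    Nat.card {H : Subgroup (PSL2 F) // Nonempty (H ≃* alternatingGroup (Fin 5))} = 22 := by
  obtain ⟨H, K, ⟨eH⟩, ⟨eK⟩, hne, hall⟩ := altFive_classes hF
  let T := {H : Subgroup (PSL2 F) // Nonempty (H ≃* alternatingGroup (Fin 5))}
  let mkT : ∀ {A : Subgroup (PSL2 F)}, (A ≃* alternatingGroup (Fin 5)) → PSL2 F → T := fun {A} f g =>
    ⟨MulAut.conj g • A, ⟨(Subgroup.equivSMul (MulAut.conj g) A).symm.trans f⟩⟩
  have key : ∀ {A : Subgroup (PSL2 F)} (f : A ≃* alternatingGroup (Fin 5)) (a b : PSL2 F),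
      MulAut.conj a • A = MulAut.conj b • A ↔ a⁻¹ * b ∈ A := by
    intro A f a b
    conv_rhs => rw [← normalizer_altFive hF f, Subgroup.mem_normalizer_iff_map_conj_eq]
    change _ ↔ MulAut.conj (a⁻¹ * b) • A = A
    rw [map_mul, map_inv, mul_smul, inv_smul_eq_iff, eq_comm]
  let lift : ∀ {A : Subgroup (PSL2 F)}, (A ≃* alternatingGroup (Fin 5)) → PSL2 F ⧸ A → T := fun {A} f =>
    Quotient.lift (mkT f) fun a b hab => Subtype.ext
      ((key f a b).2 (QuotientGroup.leftRel_apply.1 hab))
  let φ : (PSL2 F ⧸ H) ⊕ (PSL2 F ⧸ K) → T := Sum.elim (lift eH) (lift eK)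
  have hφ : Function.Bijective φ := by
    constructor
    · rintro (x | x) (y | y) hxy <;> obtain ⟨a, rfl⟩ := QuotientGroup.mk_surjective x <;>
        obtain ⟨b, rfl⟩ := QuotientGroup.mk_surjective y <;>
        have h := congrArg Subtype.val hxy
      · exact congrArg Sum.inl (QuotientGroup.eq.2 ((key eH a b).1 h))
      · exact absurd (show MulAut.conj (b⁻¹ * a) • H = K by
          rw [map_mul, map_inv, mul_smul, inv_smul_eq_iff]; exact h) (hne _)
      · exact absurd (show MulAut.conj (a⁻¹ * b) • H = K by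
          rw [map_mul, map_inv, mul_smul, inv_smul_eq_iff]; exact h.symm) (hne _)
      · exact congrArg Sum.inr (QuotientGroup.eq.2 ((key eK a b).1 h))
    · rintro ⟨L, hL⟩
      obtain ⟨g, h | h⟩ := hall L hL
      · exact ⟨Sum.inl (QuotientGroup.mk g⁻¹), Subtype.ext (by
          show MulAut.conj g⁻¹ • H = L
          rw [map_inv, inv_smul_eq_iff, h])⟩
      · exact ⟨Sum.inr (QuotientGroup.mk g⁻¹), Subtype.ext (by
          show MulAut.conj g⁻¹ • K = L
          rw [map_inv, inv_smul_eq_iff, h])⟩
  rw [← Nat.card_congr (Equiv.ofBijective φ hφ), Nat.card_sum]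
  show H.index + K.index = 22
  rw [altFive_index hF eH, altFive_index hF eK]

end Cfsg.Agent.PSL2
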