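/-
`PSL_2(13)`: the proper subgroups, and every subgroup other than `⊥`, `⊤` has a maximal normalizer.

* `card_psl_thirteen`      : the order is `1092`
* `card_cases_thirteen`    : orders of the proper subgroups
* `isCoatom_normalizer_thirteen` : maximal normalizers
* `sl_isCoatom_normalizer_thirteen` : the same for the subgroups of `SL_2(13)` that are not normal
-/
import Cfsg.Agent.Lib.PSL2.Soluble
import Cfsg.Agent.Lib.PSL2.Centralizers
import Cfsg.Agent.Lib.PSL2.Klein
import Cfsg.Agent.Lib.PSL2.MaximalTypes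

set_option autoImplicit false

open Subgroup

namespace Cfsg.Agent.PSL2

section Generic

/-- The preimage of a maximal subgroup under a surjection is maximal. -/
theorem isCoatom_comap_surjective {G Q : Type*} [Group G] [Group Q] (f : G →* Q)
    (hf : Function.Surjective f) {M : Subgroup Q} (hM : IsCoatom M) : IsCoatom (M.comap f) := by
  refine ⟨fun h => hM.1 ?_, fun N hN => ?_⟩
  · rw [← map_comap_eq_self_of_surjective hf M, h, ← MonoidHom.range_eq_map,
      MonoidHom.range_eq_top.2 hf]
  · have hker : f.ker ≤ N := le_trans (fun x hx => by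
      rw [Subgroup.mem_comap, MonoidHom.mem_ker.1 hx]; exact one_mem M) hN.le
    have hlt : M < N.map f := by
      refine lt_of_le_of_ne ?_ fun e => hN.ne ?_
      · rw [← map_comap_eq_self_of_surjective hf M]
        exact Subgroup.map_mono hN.le
      · rw [e, comap_map_eq_self hker]
    rw [← comap_map_eq_self hker, hM.2 _ hlt, comap_top]

/-- Maximality of the normalizers of the non-normal subgroups goes up along a surjection whose
kernel is central and equal to the identity or contains all involutions, of order two. -/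
theorem isCoatom_normalizer_of_central {G Q : Type*} [Group G] [Group Q] [Finite G] (π : G →* Q)
    (hπ : Function.Surjective π) (hc : π.ker ≤ center G)
    (hk : π.ker = ⊥ ∨ (Nat.card π.ker = 2 ∧ ∀ g : G, g * g = 1 → g ∈ π.ker))
    (hQ : ∀ H : Subgroup Q, H ≠ ⊥ → H ≠ ⊤ → IsCoatom (normalizer (H : Set Q)))
    (H : Subgroup G) (hH : ¬ H.Normal) : IsCoatom (normalizer (H : Set G)) := by
  have hcN : π.ker ≤ normalizer (H : Set G) := by
    refine hc.trans fun z hz => ?_
    rw [Subgroup.mem_normalizer_iff]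
    intro x
    rw [show z * x * z⁻¹ = x by rw [← Subgroup.mem_center_iff.1 hz x]; group]
  have hne_bot : H.map π ≠ ⊥ := by
    rw [Ne, Subgroup.map_eq_bot_iff]
    intro h
    refine hH ⟨fun n hn g => ?_⟩
    rw [Subgroup.mem_center_iff.1 (hc (h hn)) g, mul_inv_cancel_right]
    exact hn
  have hne_top : H.map π ≠ ⊤ := by
    intro h
    refine hH (Subgroup.normalizer_eq_top_iff.1 (top_le_iff.1 ?_))
    rw [← comap_top π, ← h, comap_map_eq]
    exact sup_le le_normalizer hcN
  have heq : normalizer (H : Set G) = (normalizer ((H.map π : Subgroup Q) : Set Q)).comap π := by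
    rw [comap_normalizer_eq_of_surjective _ hπ, comap_map_eq]
    refine le_antisymm (fun g hg => ?_) (fun g hg => ?_)
    · rw [Subgroup.mem_normalizer_iff_map_conj_eq] at hg ⊢
      rw [Subgroup.map_sup, hg]
      congr 1
      have : π.ker.Normal := inferInstance
      exact Subgroup.mem_normalizer_iff_map_conj_eq.1
        (Subgroup.normalizer_eq_top_iff.2 this ▸ mem_top g)
    · rcases hk with hk | ⟨hk2, hinv⟩
      · rwa [hk, sup_bot_eq] at hg
      by_cases h2 : 2 ∣ Nat.card H
      · have hle : π.ker ≤ H := by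
          obtain ⟨t, ht⟩ := exists_prime_orderOf_dvd_card' 2 h2
          have ht' : (t : G) ∈ π.ker := hinv _ (by
            have h := pow_orderOf_eq_one t
            rw [ht, pow_two] at h
            exact congrArg Subtype.val h)
          have : zpowers (t : G) = π.ker := Subgroup.eq_of_le_of_card_ge (zpowers_le.2 ht') (by
            rw [hk2, Nat.card_zpowers, Subgroup.orderOf_coe, ht])
          rw [← this]
          exact zpowers_le.2 t.2
        rwa [sup_eq_left.2 hle] at hg
      · -- the elements of odd order of `H ⊔ ker π` lie in `H`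
        have key : ∀ x ∈ H ⊔ π.ker, x ^ Nat.card H = 1 → x ∈ H := by
          intro x hx hxn
          obtain ⟨h, hh, z, hz, rfl⟩ := (Subgroup.mem_sup_of_normal_right (s := H) (t := π.ker)).1 hx
          have hcomm : Commute h z := Subgroup.mem_center_iff.1 (hc hz) h
          rw [hcomm.mul_pow, orderOf_dvd_iff_pow_eq_one.1
            (Subgroup.orderOf_dvd_natCard H hh), one_mul] at hxn
          have hz2 : orderOf z ∣ 2 := hk2 ▸ Subgroup.orderOf_dvd_natCard _ hz
          have hz1 : orderOf z = 1 := by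
            rcases (Nat.dvd_prime Nat.prime_two).1 hz2 with e | e
            · exact e
            · exact absurd (e ▸ orderOf_dvd_of_pow_eq_one hxn) h2
          rw [orderOf_eq_one_iff.1 hz1, mul_one]
          exact hh
        have hpow : ∀ h ∈ H, h ^ Nat.card H = 1 := fun h hh =>
          orderOf_dvd_iff_pow_eq_one.1 (Subgroup.orderOf_dvd_natCard H hh)
        rw [Subgroup.mem_normalizer_iff_map_conj_eq]
        have hle : H.map (MulAut.conj g).toMonoidHom ≤ H := by
          rintro _ ⟨h, hh, rfl⟩
          show g * h * g⁻¹ ∈ H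
          refine key _ ((Subgroup.mem_normalizer_iff.1 hg h).1 (mem_sup_left hh)) ?_
          rw [conj_pow, hpow h hh, mul_one, mul_inv_cancel]
        exact Subgroup.eq_of_le_of_card_ge hle
          (Subgroup.card_map_of_injective (MulAut.conj g).injective).ge
  rw [heq]
  exact isCoatom_comap_surjective π hπ (hQ _ hne_bot hne_top)

end Generic

section Thirteen

variable {F : Type*} [Field F] [Finite F] [CharP F 13]

local instance : Fact (Nat.Prime 13) := ⟨by norm_num⟩

omit [CharP F 13] in
theorem card_psl_thirteen (hF : Nat.card F = 13) : Nat.card (PSL2 F) = 1092 := by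
  have h := card_psl_mul (F := F)
  rw [hF] at h
  norm_num at h
  omega

omit [CharP F 13] in
theorem card_borel_thirteen (hF : Nat.card F = 13) (P : Pt F) :
    Nat.card (MulAction.stabilizer (PSL2 F) P) = 78 := by
  have h := card_borel_mul P
  rw [hF, show Nat.gcd 2 (13 - 1) = 2 from rfl, show 13 * (13 - 1) = 2 * 78 from rfl] at h
  exact Nat.eq_of_mul_eq_mul_left two_pos h

theorem card_cases_thirteen (hF : Nat.card F = 13) {H : Subgroup (PSL2 F)} (hH : H ≠ ⊤) :
    (13 ∣ Nat.card H ∧
      ∃ S : Sylow 13 (PSL2 F), H ≤ normalizer ((S : Subgroup (PSL2 F)) : Set (PSL2 F))) ∨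
    (¬ 13 ∣ Nat.card H ∧ Nat.card H ∈ ({1, 2, 3, 4, 6, 7, 12, 14} : Set ℕ) ∧
      (Nat.card H = 4 → IsKleinFour H)) := by
  have hG := card_psl_thirteen hF
  have hdvd : Nat.card H ∣ 1092 := hG ▸ H.card_subgroup_dvd_card
  rcases psl_dickson 13 H with h | ⟨hp, -, h⟩ | ⟨n, h2, hpn, hn, hc, -, ⟨e⟩⟩ |
    ⟨hp, (he | he | he)⟩ | ⟨h, -⟩ | ⟨R, m, hm, hR, h⟩
  · exact Or.inl h
  · refine Or.inr ⟨hp, ?_⟩
    rw [hF] at h
    norm_num at h
    have : Nat.card H = 1 ∨ Nat.card H = 2 ∨ Nat.card H = 3 ∨ Nat.card H = 6 ∨ Nat.card H = 7 := by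
      rcases h with h | h
      · have := Nat.le_of_dvd (by norm_num) h
        interval_cases hc : Nat.card H <;> omega
      · rcases (Nat.dvd_prime (by norm_num)).1 h with h | h <;> omega
    refine ⟨?_, fun h4 => by omega⟩
    simp only [Set.mem_insert_iff, Set.mem_singleton_iff]
    omega
  · rw [hF] at hn
    norm_num at hn
    have hn' : n = 2 ∨ n = 3 ∨ n = 6 ∨ n = 7 := by
      rcases hn with h | h
      · have := Nat.le_of_dvd (by norm_num) h
        interval_cases n <;> omega
      · rcases (Nat.dvd_prime (by norm_num)).1 h with h | h <;> omega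
    refine Or.inr ⟨by rcases hn' with rfl | rfl | rfl | rfl <;> rw [hc] <;> norm_num, ?_, fun h4 => ?_⟩
    · simp only [Set.mem_insert_iff, Set.mem_singleton_iff]
      omega
    · obtain rfl : n = 2 := by omega
      exact ⟨(Nat.card_congr e.toEquiv).trans DihedralGroup.nat_card,
        (Monoid.exponent_eq_of_mulEquiv e).trans (IsKleinFour.exponent_two (G := DihedralGroup 2))⟩
  · obtain ⟨e⟩ := he
    refine Or.inr ⟨hp, ?_, fun h4 => ?_⟩
    · rw [Nat.card_congr e.toEquiv, card_alt_four]
      simp
    · rw [Nat.card_congr e.toEquiv, card_alt_four] at h4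
      omega
  · obtain ⟨e⟩ := he
    rw [Nat.card_congr e.toEquiv, card_perm_four] at hdvd
    norm_num at hdvd
  · obtain ⟨e⟩ := he
    rw [Nat.card_congr e.toEquiv, card_alt_five] at hdvd
    norm_num at hdvd
  · norm_num at h
  · exfalso
    rw [hF] at hR
    have hm1 : m = 1 := ((hR.symm ▸ (by norm_num : Nat.Prime 13)) : (Nat.card R ^ m).Prime).eq_one_of_pow
    subst hm1
    rcases h with ⟨⟨e⟩⟩ | ⟨-, he, -⟩
    · exact hH (eq_top_of_psl (by rw [pow_one] at hR; rw [hR, hF]) e)
    · exact Nat.not_even_one he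

theorem card_normalizer_sylow_dvd_thirteen (hF : Nat.card F = 13) (S : Sylow 13 (PSL2 F)) :
    Nat.card (normalizer ((S : Subgroup (PSL2 F)) : Set (PSL2 F))) ∣ 78 := by
  obtain ⟨P, hP⟩ := normalizer_sylow_le 13 S
  exact card_borel_thirteen hF P ▸ Subgroup.card_dvd_of_le hP

omit [CharP F 13] in
theorem normalizer_ne_top_thirteen (hF : Nat.card F = 13) {H : Subgroup (PSL2 F)} (hb : H ≠ ⊥)
    (ht : H ≠ ⊤) : normalizer (H : Set (PSL2 F)) ≠ ⊤ := by
  intro h
  have : IsSimpleGroup (PSL2 F) := isSimpleGroup_psl (by rw [hF]; norm_num)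
  exact ((Subgroup.normalizer_eq_top_iff.1 h).eq_bot_or_eq_top).elim hb ht

/-- A proper subgroup containing one of order a multiple of `12` or `14` is maximal. -/
theorem isCoatom_of_dvd_thirteen (hF : Nat.card F = 13) {N : Subgroup (PSL2 F)} (hN : N ≠ ⊤)
    (h : 12 ∣ Nat.card N ∨ 14 ∣ Nat.card N) : IsCoatom N := by
  have key : ∀ M : Subgroup (PSL2 F), M ≠ ⊤ → (12 ∣ Nat.card M → Nat.card M = 12) ∧
      (14 ∣ Nat.card M → Nat.card M = 14) := by
    intro M hM
    rcases card_cases_thirteen hF hM with ⟨-, S, hS⟩ | ⟨-, hc, -⟩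
    · have hd := (Subgroup.card_dvd_of_le hS).trans (card_normalizer_sylow_dvd_thirteen hF S)
      exact ⟨fun h' => absurd (h'.trans hd) (by norm_num), fun h' => absurd (h'.trans hd) (by norm_num)⟩
    · simp only [Set.mem_insert_iff, Set.mem_singleton_iff] at hc
      constructor <;> intro h' <;> omega
  refine ⟨hN, fun M hM => by_contra fun hMt => hM.ne ?_⟩
  have hd := Subgroup.card_dvd_of_le hM.le
  refine Subgroup.eq_of_le_of_card_ge hM.le (le_of_eq ?_)
  rcases h with h | h
  · rw [(key M hMt).1 (h.trans hd), (key N hN).1 h]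
  · rw [(key M hMt).2 (h.trans hd), (key N hN).2 h]

/-- The normalizer of a subgroup of order three. -/
theorem dvd_normalizer_three_thirteen (hF : Nat.card F = 13) {x : PSL2 F} (hx : orderOf x = 3) :
    Nat.card (normalizer (zpowers x : Set (PSL2 F))) = 12 := by
  have hnp : ¬ orderOf x ∣ 13 := by rw [hx]; norm_num
  obtain ⟨y, hxy, hC, hy⟩ := centralizer_torus 13 hnp (by rw [hx])
  have hy6 : orderOf y = 6 := by
    have h3 : 3 ∣ orderOf y := hx ▸ orderOf_dvd_of_mem_zpowers hxy
    rw [hF] at hy
    norm_num at hy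
    omega
  obtain ⟨w, -, hw⟩ := exists_inverting (p := 13) hnp
  set N := normalizer (zpowers x : Set (PSL2 F)) with hN
  have hyN : zpowers y ≤ N := by
    rw [← hC]
    refine le_trans ?_ (centralizer_le_normalizer _)
    intro g hg
    rw [mem_centralizer_iff]
    rintro _ ⟨i, rfl⟩
    exact ((Commute.zpow_right (mem_centralizer_singleton_iff.1 hg) i)).eq.symm
  have hwN : w ∈ N := by
    rw [hN, Subgroup.mem_normalizer_iff_map_conj_eq, MonoidHom.map_zpowers]
    show zpowers (w * x * w⁻¹) = zpowers x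
    rw [hw, zpowers_inv]
  have hwy : w ∉ zpowers y := by
    intro hmem
    rw [← hC, mem_centralizer_singleton_iff] at hmem
    rw [hmem, mul_inv_cancel_right] at hw
    have h2 : x ^ 2 = 1 := by
      rw [pow_two]; nth_rewrite 1 [hw]; exact inv_mul_cancel _
    have := orderOf_dvd_of_pow_eq_one h2
    rw [hx] at this
    norm_num at this
  have hNt : N ≠ ⊤ := by
    refine normalizer_ne_top_thirteen hF (fun e => ?_) (fun e => ?_)
    · rw [zpowers_eq_bot.1 e, orderOf_one] at hx
      omega
    · have := congrArg (fun K : Subgroup (PSL2 F) => Nat.card K) e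
      simp only [Nat.card_zpowers, hx, Subgroup.card_top, card_psl_thirteen hF] at this
      omega
  have h6 : 6 ∣ Nat.card N := hy6 ▸ Nat.card_zpowers y ▸ Subgroup.card_dvd_of_le hyN
  rcases card_cases_thirteen hF hNt with ⟨-, S, hS⟩ | ⟨-, hc, -⟩
  · exfalso
    obtain ⟨P, hP⟩ := normalizer_sylow_le 13 S
    have h13 := commutator_pow_char 13 (hP (hS hwN)) (hP (hS (hyN hxy)))
    rw [hw, ← mul_inv_rev, inv_pow, inv_eq_one, ← pow_two, ← pow_mul] at h13
    have := orderOf_dvd_of_pow_eq_one h13
    rw [hx] at this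
    norm_num at this
  · simp only [Set.mem_insert_iff, Set.mem_singleton_iff] at hc
    rcases hc with e | e | e | e | e | e | e | e <;> rw [e] at h6 <;> norm_num at h6
    · exfalso
      refine hwy ?_
      rw [Subgroup.eq_of_le_of_card_ge hyN (by rw [e, Nat.card_zpowers, hy6])]
      exact hwN
    · exact e

set_option maxHeartbeats 1000000 in
/-- Every subgroup other than `⊥` and `⊤` of `PSL_2(13)` has a maximal normalizer. -/
theorem isCoatom_normalizer_thirteen (hF : Nat.card F = 13) {H : Subgroup (PSL2 F)} (hb : H ≠ ⊥)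
    (ht : H ≠ ⊤) : IsCoatom (normalizer (H : Set (PSL2 F))) := by
  have hNt := normalizer_ne_top_thirteen hF hb ht
  have hodd : Odd (Nat.card F) := by rw [hF]; decide
  rcases card_cases_thirteen hF ht with ⟨h13, S, hS⟩ | ⟨-, hc, hK⟩
  · obtain ⟨P, hP⟩ := normalizer_sylow_le 13 S
    obtain ⟨s, hs⟩ := exists_prime_orderOf_dvd_card' 13 h13
    have hScard : Nat.card (S : Subgroup (PSL2 F)) = 13 := by
      rw [Sylow.card_eq_multiplicity, card_psl_thirteen hF]
      rw [show Nat.factorization 1092 13 = 1 from ?_, pow_one]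
      rw [show (1092 : ℕ) = 13 * 84 by norm_num, Nat.factorization_mul (by norm_num) (by norm_num),
        Finsupp.add_apply, Nat.Prime.factorization_self (by norm_num),
        Nat.factorization_eq_zero_of_not_dvd (by norm_num)]
    have hpS : ∀ z ∈ normalizer ((S : Subgroup (PSL2 F)) : Set (PSL2 F)), z ^ 13 = 1 →
        z ∈ (S : Subgroup (PSL2 F)) := by
      intro z hz hz13
      have hp : IsPGroup 13 (zpowers z) := by
        rcases (Nat.dvd_prime (by norm_num)).1 (orderOf_dvd_of_pow_eq_one hz13) with e | e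
        · exact IsPGroup.of_card (n := 0) (by rw [Nat.card_zpowers, e, pow_zero])
        · exact IsPGroup.of_card (n := 1) (by rw [Nat.card_zpowers, e, pow_one])
      have hsup : IsPGroup 13 (zpowers z ⊔ (S : Subgroup (PSL2 F)) : Subgroup (PSL2 F)) :=
        IsPGroup.to_sup_of_normal_right' hp S.isPGroup' (zpowers_le.2 hz)
      rw [← S.is_maximal' hsup le_sup_right]
      exact mem_sup_left (mem_zpowers z)
    have hSH : (S : Subgroup (PSL2 F)) ≤ H := by
      have hsS : (s : PSL2 F) ∈ (S : Subgroup (PSL2 F)) :=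
        hpS _ (hS s.2) (by
          have h := pow_orderOf_eq_one s
          rw [hs] at h
          exact congrArg Subtype.val h)
      rw [← Subgroup.eq_of_le_of_card_ge (zpowers_le.2 hsS)
        (by rw [hScard, Nat.card_zpowers, Subgroup.orderOf_coe, hs])]
      exact zpowers_le.2 s.2
    have hle : normalizer ((S : Subgroup (PSL2 F)) : Set (PSL2 F)) ≤ normalizer (H : Set (PSL2 F)) := by
      intro g hg
      rw [Subgroup.mem_normalizer_iff_map_conj_eq]
      refine Subgroup.eq_of_le_of_card_ge ?_ (Subgroup.card_map_of_injective (MulAut.conj g).injective).ge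
      rintro _ ⟨h, hh, rfl⟩
      show g * h * g⁻¹ ∈ H
      have := hSH (hpS _ (mul_mem (mul_mem (mul_mem hg (hS hh)) (inv_mem hg)) (inv_mem (hS hh)))
        (commutator_pow_char 13 (hP hg) (hP (hS hh))))
      simpa using mul_mem this hh
    refine ⟨hNt, fun M hM => by_contra fun hMt => hM.not_ge ?_⟩
    have hSM : (S : Subgroup (PSL2 F)) ≤ M := le_trans le_normalizer (hle.trans hM.le)
    rcases card_cases_thirteen hF hMt with ⟨-, T, hT⟩ | ⟨h, -, -⟩
    · have hST : (S : Subgroup (PSL2 F)) ≤ T := by
        have hp : IsPGroup 13 ((S : Subgroup (PSL2 F)) ⊔ T : Subgroup (PSL2 F)) :=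
          IsPGroup.to_sup_of_normal_right' S.isPGroup' T.isPGroup' (hSM.trans hT)
        rw [← T.is_maximal' hp le_sup_right]
        exact le_sup_left
      rw [← S.is_maximal' T.isPGroup' hST] at hle
      exact hT.trans hle
    · exact absurd (hScard ▸ Subgroup.card_dvd_of_le hSM) h
  simp only [Set.mem_insert_iff, Set.mem_singleton_iff] at hc
  refine isCoatom_of_dvd_thirteen hF hNt ?_
  have of_le : ∀ K : Subgroup (PSL2 F), K ≤ normalizer (H : Set (PSL2 F)) →
      ∀ k, k ∣ Nat.card K → k ∣ Nat.card (normalizer (H : Set (PSL2 F))) := fun K hK k hk =>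
    hk.trans (Subgroup.card_dvd_of_le hK)
  have hcyc : ∀ q, q.Prime → Nat.card H = q → ∃ x : PSL2 F, orderOf x = q ∧ zpowers x = H := by
    intro q hq e
    have := Fact.mk hq
    obtain ⟨t, ht⟩ := exists_prime_orderOf_dvd_card' q (e ▸ dvd_rfl : q ∣ Nat.card H)
    exact ⟨t, by rw [Subgroup.orderOf_coe, ht], Subgroup.eq_of_le_of_card_ge (zpowers_le.2 t.2)
      (by rw [Nat.card_zpowers, Subgroup.orderOf_coe, ht, e])⟩
  rcases hc with e | e | e | e | e | e | e | e
  · exact absurd (Subgroup.eq_bot_of_card_eq H e) hb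
  · left
    obtain ⟨x, hx, rfl⟩ := hcyc 2 Nat.prime_two e
    refine of_le (centralizer ({x} : Set (PSL2 F))) ?_ _ ?_
    · rw [Subgroup.zpowers_eq_closure, ← Subgroup.centralizer_closure]
      exact centralizer_le_normalizer _
    · rw [(card_centralizer_involution hodd hx).1 (by rw [hF]), hF]
  · left
    obtain ⟨x, hx, rfl⟩ := hcyc 3 Nat.prime_three e
    rw [dvd_normalizer_three_thirteen hF hx]
  · left
    have h2 : (2 : F) ≠ 0 := two_ne_zero_iff_odd.2 hodd
    obtain ⟨A₀, ⟨eA⟩⟩ := exists_alternatingFour_sub (F := F) h2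
    obtain ⟨V₀, hV₀, -, hAV, -⟩ := exists_four A₀ (Or.inl ⟨eA⟩)
    obtain ⟨g, rfl⟩ := (klein_classes hodd).1 (by rw [hF]; norm_num) V₀ H hV₀ (hK e)
    rw [← Subgroup.map_normalizer_eq_of_bijective _ (MulAut.conj g).bijective,
      card_map_mulEquiv]
    exact (Nat.card_congr eA.toEquiv ▸ card_alt_four).symm.dvd.trans (Subgroup.card_dvd_of_le hAV)
  · left
    obtain ⟨t, ht⟩ := exists_prime_orderOf_dvd_card' 3 (e ▸ by norm_num : 3 ∣ Nat.card H)
    have ht' : orderOf (t : PSL2 F) = 3 := by rw [Subgroup.orderOf_coe, ht]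
    have h12 := dvd_normalizer_three_thirteen hF ht'
    set N := normalizer (zpowers (t : PSL2 F) : Set (PSL2 F)) with hN
    have hHN : H ≤ N := by
      have hle : zpowers (t : PSL2 F) ≤ H := zpowers_le.2 t.2
      refine (Subgroup.normal_subgroupOf_iff_le_normalizer hle).1 ?_
      refine Subgroup.normal_of_index_eq_two ?_
      have h := ((zpowers (t : PSL2 F)).subgroupOf H).index_mul_card
      rw [Nat.card_congr (Subgroup.subgroupOfEquivOfLe hle).toEquiv, Nat.card_zpowers, ht', e] at h
      omega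
    refine of_le N ((Subgroup.normal_subgroupOf_iff_le_normalizer hHN).1 ?_) _ h12.symm.dvd
    refine Subgroup.normal_of_index_eq_two ?_
    have h := (H.subgroupOf N).index_mul_card
    rw [Nat.card_congr (Subgroup.subgroupOfEquivOfLe hHN).toEquiv, e, h12] at h
    omega
  · right
    obtain ⟨x, hx, rfl⟩ := hcyc 7 (by norm_num) e
    obtain ⟨w, hw2, hw⟩ := exists_inverting (p := 13) (x := x) (by rw [hx]; norm_num)
    have hwN : w ∈ normalizer (zpowers x : Set (PSL2 F)) := by
      rw [Subgroup.mem_normalizer_iff_map_conj_eq, MonoidHom.map_zpowers]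
      show zpowers (w * x * w⁻¹) = zpowers x
      rw [hw, zpowers_inv]
    have hw1 : w ≠ 1 := by
      rintro rfl
      rw [one_mul, inv_one, mul_one] at hw
      have h2 : x ^ 2 = 1 := by rw [pow_two]; nth_rewrite 1 [hw]; exact inv_mul_cancel _
      have := orderOf_dvd_of_pow_eq_one h2
      rw [hx] at this
      norm_num at this
    have h2 : 2 ∣ Nat.card (normalizer (zpowers x : Set (PSL2 F))) :=
      (orderOf_eq_prime (show w ^ 2 = 1 by rw [pow_two, hw2]) hw1).symm.dvd.trans
        (Subgroup.orderOf_dvd_natCard (normalizer (zpowers x : Set (PSL2 F))) hwN)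
    exact Nat.Coprime.mul_dvd_of_dvd_of_dvd (by norm_num : Nat.Coprime 2 7) h2
      (of_le _ le_normalizer 7 (by rw [e]))
  · exact Or.inl (of_le _ le_normalizer _ e.symm.dvd)
  · exact Or.inr (of_le _ le_normalizer _ e.symm.dvd)

/-- In `SL_2(13)` every subgroup that is not normal has a maximal normalizer. -/
theorem sl_isCoatom_normalizer_thirteen (hF : Nat.card F = 13) (H : Subgroup (SL2 F))
    (hH : ¬ H.Normal) : IsCoatom (normalizer (H : Set (SL2 F))) := by
  have h2 : (2 : F) ≠ 0 := two_ne_zero_iff_odd.2 (by rw [hF]; decide)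
  refine isCoatom_normalizer_of_central (QuotientGroup.mk' (center (SL2 F)))
    (QuotientGroup.mk'_surjective _) (by rw [QuotientGroup.ker_mk']) (Or.inr ?_)
    (fun K => isCoatom_normalizer_thirteen hF) H hH
  rw [QuotientGroup.ker_mk']
  refine ⟨?_, fun g hg => mem_center_of_mul_self h2 hg⟩
  rw [show Nat.card (center (SL2 F)) = Nat.card ↥({1, -1} : Set (SL2 F)) from
    Nat.card_congr (Equiv.subtypeEquivRight fun g => mem_center_iff'), Nat.card_coe_set_eq,
    Set.ncard_pair]
  intro e
  have := congrArg tr e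
  rw [tr_neg, tr_one] at this
  exact h2 ((mul_eq_zero.1 (show (2 : F) * 2 = 0 by linear_combination this)).elim id id)

end Thirteen

end Cfsg.Agent.PSL2
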