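import Cfsg.Agent.Lib.RadicalLines.Count

/-!
A finite subgroup of `PGL_2(K)` of order prime to the characteristic has at most six points whose
stabiliser has order a multiple of four (`card_four_stab_le`).
-/

set_option autoImplicit false
set_option linter.unusedSectionVars false

open MulAction

namespace Cfsg.Agent.PSL2

theorem arith_four {h n₁ n₂ n₃ g₁ g₂ g₃ : ℕ} (h1 : n₁ * g₁ = h) (h2 : n₂ * g₂ = h)
    (h3 : n₃ * g₃ = h) (a1 : 4 ≤ g₁) (a2 : 2 ≤ g₂) (a3 : 2 ≤ g₃) (hd : 4 ∣ g₁)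
    (b1 : 1 ≤ n₁) (_b2 : 1 ≤ n₂) (_b3 : 1 ≤ n₃) (hs : n₁ + n₂ + n₃ = h + 2) (h23 : n₃ ≤ n₂) :
    g₂ ≤ 3 ∧ g₃ ≤ 3 ∧ n₁ ≤ 6 := by
  have hn1 : n₁ * 4 ≤ n₁ * g₁ := Nat.mul_le_mul_left _ a1
  have hg2 : g₂ = 2 := by
    by_contra hne
    have : n₂ * 3 ≤ n₂ * g₂ := Nat.mul_le_mul_left _ (by omega)
    omega
  subst hg2
  have hg3 : g₃ ≤ 3 := by
    by_contra hne
    have : n₃ * 4 ≤ n₃ * g₃ := Nat.mul_le_mul_left _ (by omega)
    omega
  refine ⟨by omega, hg3, ?_⟩
  interval_cases g₃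
  · omega
  · obtain ⟨j, rfl⟩ := hd
    by_cases hj : 2 ≤ j
    · have : n₁ * 8 ≤ n₁ * (4 * j) := Nat.mul_le_mul_left _ (by omega)
      omega
    · obtain rfl : j = 1 := by omega
      omega

variable {K : Type*} [Field K] [IsAlgClosed K] (p : ℕ) [Fact p.Prime] [CharP K p]
  (H : Subgroup (PGL2 K)) [Finite H]

include p in
theorem card_four_stab_le (hp : ¬ p ∣ Nat.card H) (S : Finset (Pt K))
    (hS : ∀ P ∈ S, 4 ∣ Nat.card (stabilizer H P)) : S.card ≤ 6 := by
  classical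
  by_contra hlt
  push Not at hlt
  obtain ⟨P, hP⟩ := Finset.card_pos.1 (show 0 < S.card by omega)
  have h4 : ∀ Q ∈ S, 4 ≤ Nat.card (stabilizer H Q) := fun Q hQ => Nat.le_of_dvd Nat.card_pos (hS Q hQ)
  have hspec : ∀ Q ∈ S, Q ∈ specialF H p := fun Q hQ =>
    RadicalLines.mem_special_of_two_le p H (by have := h4 Q hQ; omega)
  have htot := sum_stab H p
  rw [numUnip_eq_zero H p hp, add_zero] at htot
  obtain ⟨e1, l1, o1, i1⟩ := peel H p (inv_specialF H p) (hspec P hP)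
  have hg1 := h4 P hP
  have hmul1 := card_orbitF_mul H P
  have hH4 : 4 ≤ Nat.card H := by
    rw [← hmul1]
    calc 4 = 1 * 4 := rfl
      _ ≤ _ := Nat.mul_le_mul o1 hg1
  rcases (specialF H p \ orbitF H P).eq_empty_or_nonempty with h | ⟨T, hT⟩
  · rw [h, Finset.sum_empty] at e1
    omega
  obtain ⟨e2, l2, o2, i2⟩ := peel H p i1 hT
  rcases ((specialF H p \ orbitF H P) \ orbitF H T).eq_empty_or_nonempty with h | ⟨U, hU⟩
  · rw [h, Finset.sum_empty] at e2
    have hsub : S ⊆ orbitF H P ∪ orbitF H T := fun Q hQ => by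
      by_contra hc
      rw [Finset.mem_union, not_or] at hc
      have : Q ∈ (specialF H p \ orbitF H P) \ orbitF H T :=
        Finset.mem_sdiff.2 ⟨Finset.mem_sdiff.2 ⟨hspec Q hQ, hc.1⟩, hc.2⟩
      rw [h] at this
      exact absurd this (Finset.notMem_empty Q)
    have := (Finset.card_le_card hsub).trans (Finset.card_union_le _ _)
    omega
  obtain ⟨e3, l3, o3, i3⟩ := peel H p i2 hU
  have hemp : ((specialF H p \ orbitF H P) \ orbitF H T) \ orbitF H U = ∅ := by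
    by_contra hh
    obtain ⟨V, hV⟩ := Finset.nonempty_iff_ne_empty.2 hh
    obtain ⟨e4, l4, o4, -⟩ := peel H p i3 hV
    have : (orbitF H P).card * 4 ≤ (orbitF H P).card * Nat.card (stabilizer H P) :=
      Nat.mul_le_mul_left _ hg1
    omega
  rw [hemp, Finset.sum_empty] at e3
  have hgT := two_le_stab H p (i1.1 hT)
  have hgU := two_le_stab H p (i2.1 hU)
  have hmulT := card_orbitF_mul H T
  have hmulU := card_orbitF_mul H U
  have hres : Nat.card (stabilizer H T) ≤ 3 ∧ Nat.card (stabilizer H U) ≤ 3 ∧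
      (orbitF H P).card ≤ 6 := by
    rcases le_total (orbitF H U).card (orbitF H T).card with h | h
    · exact arith_four hmul1 hmulT hmulU hg1 hgT hgU (hS P hP) o1 o2 o3 (by omega) h
    · obtain ⟨a, b, c⟩ :=
        arith_four hmul1 hmulU hmulT hg1 hgU hgT (hS P hP) o1 o3 o2 (by omega) h
      exact ⟨b, a, c⟩
  have hsub : S ⊆ orbitF H P := fun Q hQ => by
    by_contra hc
    have hQ4 := h4 Q hQ
    have hQ2 : Q ∈ specialF H p \ orbitF H P := Finset.mem_sdiff.2 ⟨hspec Q hQ, hc⟩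
    by_cases hQT : Q ∈ orbitF H T
    · rw [card_stab_of_mem_orbit H hQT] at hQ4; omega
    by_cases hQU : Q ∈ orbitF H U
    · rw [card_stab_of_mem_orbit H hQU] at hQ4; omega
    have : Q ∈ ((specialF H p \ orbitF H P) \ orbitF H T) \ orbitF H U :=
      Finset.mem_sdiff.2 ⟨Finset.mem_sdiff.2 ⟨hQ2, hQT⟩, hQU⟩
    rw [hemp] at this
    exact absurd this (Finset.notMem_empty Q)
  have := Finset.card_le_card hsub
  omega

end Cfsg.Agent.PSL2
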