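/-
The maximal subgroups of `PSL_2(q)`, `q ≥ 4`.

Main results (namespace `Cfsg.Agent.PSL2`):
* `normalizer_eq_of_isCoatom`, `exists_torus_mem`, `not_isCoatom_small`, `cyclic_not_isCoatom`,
  `dihedral_full_of_isCoatom`, `dihedral_absorb`, `four_absorb`, `altFive_absorb`
* `borel_of_isCoatom`, `subfield_prime_of_isCoatom`
-/
import Cfsg.Agent.Lib.PSL2.SubfieldConj
import Cfsg.Agent.Lib.PSL2.Dihedral
import Cfsg.Agent.Lib.PSL2.Soluble

set_option autoImplicit false
set_option linter.unusedSectionVars false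
set_option linter.dupNamespace false

open Matrix MulAction Subgroup
open scoped LinearAlgebra.Projectivization

namespace Cfsg.Agent.PSL2

/-! ### Groups -/

/-- The four-group of `S_4`. -/
def fourV : Subgroup (Equiv.Perm (Fin 4)) where
  carrier := {x | x * x = 1 ∧ Equiv.Perm.sign x = 1}
  mul_mem' := by
    have h : ∀ x y : Equiv.Perm (Fin 4), x * x = 1 ∧ Equiv.Perm.sign x = 1 →
        y * y = 1 ∧ Equiv.Perm.sign y = 1 → x * y * (x * y) = 1 ∧ Equiv.Perm.sign (x * y) = 1 := by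
      decide +kernel
    exact fun {x y} hx hy => h x y hx hy
  one_mem' := ⟨one_mul 1, map_one _⟩
  inv_mem' := fun {x} hx => by
    refine ⟨?_, by rw [map_inv, hx.2, inv_one]⟩
    rw [← _root_.mul_inv_rev, hx.1, inv_one]

theorem mem_fourV {x : Equiv.Perm (Fin 4)} :
    x ∈ fourV ↔ x * x = 1 ∧ Equiv.Perm.sign x = 1 := Iff.rfl

theorem card_fourV : Nat.card fourV = 4 := by
  rw [← SetLike.coe_sort_coe]
  show Nat.card {x : Equiv.Perm (Fin 4) // x * x = 1 ∧ Equiv.Perm.sign x = 1} = 4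
  rw [Nat.card_eq_fintype_card]
  decide +kernel

theorem fourV_conj (g : Equiv.Perm (Fin 4)) {x : Equiv.Perm (Fin 4)} (hx : x ∈ fourV) :
    g * x * g⁻¹ ∈ fourV := by
  refine ⟨?_, ?_⟩
  · rw [← pow_two, conj_pow, pow_two, hx.1, mul_one, mul_inv_cancel]
  · rw [map_mul, map_mul, hx.2, mul_one, map_inv, mul_inv_cancel]

theorem isKleinFour_map_fourV {G : Type*} [Group G] (f : Equiv.Perm (Fin 4) →* G)
    (hf : Function.Injective f) : IsKleinFour (fourV.map f) := by
  have hc : Nat.card (fourV.map f) = 4 := by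
    rw [← Nat.card_congr (Subgroup.equivMapOfInjective _ f hf).toEquiv, card_fourV]
  have : Finite (fourV.map f) := Nat.finite_of_card_ne_zero (by omega)
  have : Nontrivial (fourV.map f) := Finite.one_lt_card_iff_nontrivial.1 (by omega)
  refine ⟨hc, (Monoid.exponent_eq_prime_iff Nat.prime_two).2 fun g hg => ?_⟩
  refine orderOf_eq_prime ?_ hg
  obtain ⟨x, hx, hxg⟩ := g.2
  apply Subtype.ext
  rw [pow_two, Subgroup.coe_mul, Subgroup.coe_one, ← hxg, ← map_mul, hx.1, map_one]

/-- An automorphism carries maximal subgroups to maximal subgroups. -/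
theorem isCoatom_map_mulEquiv {G : Type*} [Group G] (e : G ≃* G) {M : Subgroup G}
    (hM : IsCoatom M) : IsCoatom (M.map e.toMonoidHom) :=
  (e.mapSubgroup.isCoatom_iff M).2 hM

theorem map_ne_top {G : Type*} [Group G] (e : G ≃* G) {H : Subgroup G} (hH : H ≠ ⊤) :
    H.map e.toMonoidHom ≠ ⊤ := by
  intro h
  apply hH
  rw [← Subgroup.comap_map_eq_self_of_injective (f := e.toMonoidHom) e.injective H, h,
    Subgroup.comap_top]

theorem card_map_mulEquiv {G : Type*} [Group G] (e : G ≃* G) (H : Subgroup G) :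
    Nat.card (H.map e.toMonoidHom) = Nat.card H :=
  (Nat.card_congr (Subgroup.equivMapOfInjective _ _ e.injective).toEquiv).symm

theorem map_normalizer_le {G : Type*} [Group G] (e : G ≃* G) {V H : Subgroup G}
    (h : H ≤ normalizer (V : Set G)) :
    H.map e.toMonoidHom ≤ normalizer ((V.map e.toMonoidHom : Subgroup G) : Set G) := by
  rintro _ ⟨x, hx, rfl⟩
  rw [Subgroup.mem_normalizer_iff]
  intro y
  obtain ⟨y, rfl⟩ := e.surjective y
  have h' := Subgroup.mem_normalizer_iff.1 (h hx) y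
  simp only [MulEquiv.coe_toMonoidHom, ← map_inv, ← map_mul]
  show e y ∈ (V.map e.toMonoidHom) ↔ e (x * y * x⁻¹) ∈ (V.map e.toMonoidHom)
  rw [Subgroup.mem_map_equiv, Subgroup.mem_map_equiv, e.symm_apply_apply, e.symm_apply_apply]
  exact h'

theorem permFour_three_inverted :
    ∃ x w : Equiv.Perm (Fin 4), x ≠ 1 ∧ x ^ 3 = 1 ∧ w * x * w⁻¹ = x⁻¹ := by
  refine ⟨Equiv.swap 0 1 * Equiv.swap 1 2, Equiv.swap 0 1, ?_⟩
  decide +kernel

theorem permFour_four_inverted :
    ∃ x w : Equiv.Perm (Fin 4), x ^ 2 ≠ 1 ∧ x ^ 4 = 1 ∧ w * x * w⁻¹ = x⁻¹ := by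
  refine ⟨finRotate 4, Equiv.swap 0 2, ?_⟩
  decide +kernel

theorem altFive_five_inverted :
    ∃ x w : alternatingGroup (Fin 5), x ≠ 1 ∧ x ^ 5 = 1 ∧ w * x * w⁻¹ = x⁻¹ := by
  refine ⟨⟨finRotate 5, Equiv.Perm.mem_alternatingGroup.2 (by decide)⟩,
    ⟨Equiv.swap 1 4 * Equiv.swap 2 3, Equiv.Perm.mem_alternatingGroup.2 (by decide)⟩, ?_⟩
  decide +kernel

variable {F : Type*} [Field F] [Finite F]

theorem card_psl_inj {L L' : Type*} [Field L] [Finite L] [Field L'] [Finite L'] (p : ℕ)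
    [Fact p.Prime] [CharP L p] [CharP L' p] (h : Nat.card (PSL2 L) = Nat.card (PSL2 L')) :
    Nat.card L = Nat.card L' := by
  obtain ⟨x, hx, -, hLx, -⟩ := card_psl_split (F := L) p
  obtain ⟨y, hy, -, hFy, -⟩ := card_psl_split (F := L') p
  obtain ⟨a, -, hLa⟩ := GLOrder.exists_card_eq_pow (F := L) p
  obtain ⟨b, -, hFb⟩ := GLOrder.exists_card_eq_pow (F := L') p
  rw [hLa, hFb]
  exact eq_of_mul_pow_eq Fact.out hx hy (by rw [← hLa, ← hFb, ← hLx, ← hFy, h])

/-! ### Maximal subgroups as normalisers -/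

theorem normalizer_eq_of_isCoatom (h4 : 4 ≤ Nat.card F) {M N : Subgroup (PSL2 F)}
    (hM : IsCoatom M) (hN : N ≠ ⊥) (hNM : N ≤ M)
    (hle : M ≤ normalizer (N : Set (PSL2 F))) : normalizer (N : Set (PSL2 F)) = M := by
  rcases eq_or_lt_of_le hle with h | h
  · exact h.symm
  · exfalso
    have := isSimpleGroup_psl h4
    have hn : N.Normal := Subgroup.normalizer_eq_top_iff.1 (hM.2 _ h)
    rcases hn.eq_bot_or_eq_top with e | e
    · exact hN e
    · exact hM.1 (top_le_iff.1 (e ▸ hNM))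

variable (p : ℕ) [Fact p.Prime] [CharP F p]

theorem not_dvd_char_of_order {n : ℕ} (hn : 2 ≤ n) (hpn : ¬ p ∣ n) : ¬ n ∣ p := fun h => by
  rcases (Fact.out : p.Prime).eq_one_or_self_of_dvd _ h with e | e
  · omega
  · exact hpn (e ▸ dvd_rfl)

include p in
/-- A maximal subgroup normalising `⟨x⟩` contains the torus of `x`. -/
theorem exists_torus_mem (h4 : 4 ≤ Nat.card F) {M : Subgroup (PSL2 F)} (hM : IsCoatom M)
    {x : PSL2 F} (hxM : x ∈ M) (hx : ¬ orderOf x ∣ p)
    (hle : M ≤ normalizer (zpowers x : Set (PSL2 F))) :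
    normalizer (zpowers x : Set (PSL2 F)) = M ∧ ∃ y ∈ M, x ∈ zpowers y ∧
      (orderOf y = (Nat.card F - 1) / Nat.gcd 2 (Nat.card F - 1) ∨
        orderOf y = (Nat.card F + 1) / Nat.gcd 2 (Nat.card F - 1)) := by
  have hN := normalizer_eq_of_isCoatom h4 hM
    (fun h => hx (by rw [Subgroup.zpowers_eq_bot.1 h, orderOf_one]; exact one_dvd p))
    (zpowers_le.2 hxM) hle
  refine ⟨hN, ?_⟩
  obtain ⟨y, hxy, hy⟩ := exists_torus_gen p hx
  refine ⟨y, ?_, hxy, hy⟩
  rw [← hN]
  refine Subgroup.centralizer_le_normalizer _ (Subgroup.mem_centralizer_iff.2 fun z hz => ?_)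
  obtain ⟨i, rfl⟩ := hxy
  obtain ⟨j, rfl⟩ := hz
  exact (((Commute.refl y).zpow_left i).zpow_left j).eq

include p in
theorem not_isCoatom_small (h4 : 4 ≤ Nat.card F) (hp2 : p ≠ 2) {M : Subgroup (PSL2 F)}
    (hM : IsCoatom M) (hexp : ∀ x ∈ M, x * x = 1)
    (hcard : Nat.card M = 2 ∨ Nat.card M = 4) : False := by
  have : Nontrivial M := Finite.one_lt_card_iff_nontrivial.1 (by omega)
  obtain ⟨⟨t, htM⟩, ht⟩ := exists_ne (1 : M)
  have ht1 : t ≠ 1 := fun e => ht (Subtype.ext e)
  have ho : orderOf t = 2 := orderOf_eq_prime (by rw [pow_two]; exact hexp t htM) ht1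
  have htp : ¬ orderOf t ∣ p := by
    rw [ho]
    intro h
    exact hp2 ((Nat.prime_dvd_prime_iff_eq Nat.prime_two Fact.out).1 h).symm
  have hMN : M ≤ normalizer (zpowers t : Set (PSL2 F)) := by
    intro z hz
    refine Subgroup.centralizer_le_normalizer _ (Subgroup.mem_centralizer_iff.2 fun w hw => ?_)
    obtain ⟨i, rfl⟩ := hw
    have hc : Commute t z := by
      have h := hexp (t * z) (mul_mem htM hz)
      calc t * z = t * z * (t * z * (z * t)) := by
            rw [show t * z * (z * t) = t * (z * z) * t by group, hexp z hz, mul_one, hexp t htM,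
              mul_one]
        _ = z * t := by rw [← mul_assoc, h, one_mul]
    exact (hc.zpow_left i).eq
  obtain ⟨-, y, hyM, -, hy⟩ := exists_torus_mem p h4 hM htM htp hMN
  have hy2 : orderOf y ≤ 2 :=
    Nat.le_of_dvd two_pos (orderOf_dvd_of_pow_eq_one (by rw [pow_two]; exact hexp y hyM))
  obtain ⟨a, ha, hqn, ⟨h2, -⟩ | ⟨-, ho', hd, h2⟩⟩ := q_cases (F := F) p
  · exact hp2 h2
  rw [hd] at hy
  rw [Nat.odd_iff] at ho'
  have hq5 : Nat.card F = 5 := by rcases hy with h | h <;> omega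
  obtain ⟨H, ⟨e⟩⟩ := exists_alternatingFour_sub h2
  have hH : Nat.card H = 12 := (Nat.card_congr e.toEquiv).trans card_alt_four
  have hG : Nat.card (PSL2 F) = 60 := by
    have h := card_psl_mul (F := F)
    rw [hq5] at h
    norm_num at h
    omega
  have hMp : IsPGroup 2 M := fun z => ⟨1, Subtype.ext (by
    rw [pow_one, pow_two]; exact hexp z z.2)⟩
  obtain ⟨P, hP⟩ := hMp.exists_le_sylow
  have := Fact.mk Nat.prime_two
  obtain ⟨Q⟩ := (inferInstance : Nonempty (Sylow 2 H))
  have hQ : Nat.card (Q : Subgroup H) = 2 ^ 2 := by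
    rw [SmallOrders.card_sylow_subgroup (e := 2) (m := 3) (by rw [hH]; norm_num) (by norm_num) Q]
  let Q' : Subgroup (PSL2 F) := (Q : Subgroup H).map H.subtype
  have hQ' : Nat.card Q' = 2 ^ (Nat.card (PSL2 F)).factorization 2 := by
    rw [← Nat.card_congr (Subgroup.equivMapOfInjective _ _ H.subtype_injective).toEquiv, hQ, hG]
    congr 1
    rw [show (60 : ℕ) = 2 ^ 2 * 15 by norm_num,
      Nat.factorization_mul (by norm_num) (by norm_num), Finsupp.add_apply,
      Nat.Prime.factorization_pow Nat.prime_two,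
      Nat.factorization_eq_zero_of_not_dvd (show ¬ 2 ∣ 15 by norm_num)]
    simp
  obtain ⟨g, hg⟩ := MulAction.exists_smul_eq (PSL2 F) (Sylow.ofCard Q' hQ') P
  have hle : M ≤ H.map (MulAut.conj g).toMonoidHom := by
    refine hP.trans ?_
    rw [← hg]
    show Q'.map (MulAut.conj g).toMonoidHom ≤ _
    exact Subgroup.map_mono (Subgroup.map_subtype_le _)
  have hne : H.map (MulAut.conj g).toMonoidHom ≠ ⊤ := map_ne_top _ fun h => by
    rw [h, Subgroup.card_top, hG] at hH
    norm_num at hH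
  have hlt : M < H.map (MulAut.conj g).toMonoidHom := lt_of_le_of_ne hle fun h => by
    have := card_map_mulEquiv (MulAut.conj g) H
    rw [← h, hH] at this
    omega
  exact hne (hM.2 _ hlt)

include p in
theorem cyclic_not_isCoatom (h4 : 4 ≤ Nat.card F) {M : Subgroup (PSL2 F)} (hM : IsCoatom M)
    (hc : IsCyclic M) (hpM : ¬ p ∣ Nat.card M) : False := by
  obtain ⟨⟨x, hxM⟩, hx⟩ := hc.exists_ofOrder_eq_natCard
  rw [Subgroup.orderOf_mk] at hx
  have hMx : zpowers x = M :=
    Subgroup.eq_of_le_of_card_ge (zpowers_le.2 hxM) (by rw [Nat.card_zpowers, hx])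
  rcases Nat.lt_or_ge (Nat.card M) 3 with hlt | hge
  · have h0 : 0 < Nat.card M := Nat.card_pos
    rcases (show Nat.card M = 1 ∨ Nat.card M = 2 by omega) with h | h
    · -- a group all of whose elements generate it is abelian
      have hbot : M = ⊥ := Subgroup.eq_bot_of_card_eq M h
      obtain ⟨u, hu⟩ : ∃ u : PSL2 F, u ≠ 1 := by
        by_contra hall
        push Not at hall
        exact hM.1 (top_le_iff.1 fun z _ => (hall z).symm ▸ one_mem M)
      have htop : zpowers u = ⊤ := hM.2 _ (by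
        rw [hbot, bot_lt_iff_ne_bot, Ne, Subgroup.zpowers_eq_bot]; exact hu)
      refine not_comm_psl (L := F) (by omega) fun a b => ?_
      obtain ⟨i, rfl⟩ : a ∈ zpowers u := htop ▸ Subgroup.mem_top a
      obtain ⟨j, rfl⟩ : b ∈ zpowers u := htop ▸ Subgroup.mem_top b
      exact ((Commute.refl u).zpow_zpow i j).eq
    · refine not_isCoatom_small p h4 (fun hp => hpM (by rw [hp, h])) hM (fun z hz => ?_) (Or.inl h)
      have h' : (⟨z, hz⟩ : M) ^ Nat.card M = 1 := pow_card_eq_one'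
      rw [h] at h'
      rw [← pow_two]
      exact congrArg Subtype.val h'
  · have hxp : ¬ orderOf x ∣ p := by rw [hx]; exact not_dvd_char_of_order p (by omega) hpM
    obtain ⟨hN, -⟩ := exists_torus_mem p h4 hM hxM hxp (hMx ▸ Subgroup.le_normalizer)
    obtain ⟨w, -, hw⟩ := exists_inverting p hxp
    have hwM : w ∈ M := by
      rw [← hN, Subgroup.mem_normalizer_iff_map_conj_eq]
      show (zpowers x).map (MulAut.conj w).toMonoidHom = zpowers x
      rw [MonoidHom.map_zpowers]
      show zpowers (w * x * w⁻¹) = zpowers x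
      rw [hw, Subgroup.zpowers_inv]
    obtain ⟨i, rfl⟩ : w ∈ zpowers x := hMx ▸ hwM
    rw [((Commute.refl x).zpow_left i).eq, mul_inv_cancel_right] at hw
    have h2 : x ^ 2 = 1 := by rw [pow_two]; nth_rewrite 1 [hw]; exact inv_mul_cancel x
    have := Nat.le_of_dvd two_pos (orderOf_dvd_of_pow_eq_one h2)
    omega

include p in
/-- Dihedral maximal subgroups are full torus normalisers. -/
theorem dihedral_full_of_isCoatom (h4 : 4 ≤ Nat.card F) {M : Subgroup (PSL2 F)} (hM : IsCoatom M)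
    {n : ℕ} (hn : 2 ≤ n) (hpn : ¬ p ∣ n) (e : M ≃* DihedralGroup n) :
    3 ≤ n ∧ (n = (Nat.card F - 1) / Nat.gcd 2 (Nat.card F - 1) ∨
      n = (Nat.card F + 1) / Nat.gcd 2 (Nat.card F - 1)) ∧
    ∃ x ∈ M, orderOf x = n ∧ normalizer (zpowers x : Set (PSL2 F)) = M := by
  rcases Nat.lt_or_ge n 3 with hlt | hge
  · exfalso
    obtain rfl : n = 2 := by omega
    have hsq : ∀ d : DihedralGroup 2, d * d = 1 := by decide
    refine not_isCoatom_small p h4 (fun h => hpn (h ▸ dvd_rfl)) hM (fun z hz => ?_)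
      (Or.inr ((Nat.card_congr e.toEquiv).trans DihedralGroup.nat_card))
    have h' : (⟨z, hz⟩ : M) * ⟨z, hz⟩ = 1 :=
      e.injective (by rw [map_mul, hsq, map_one])
    exact congrArg Subtype.val h'
  set x : PSL2 F := ((e.symm (DihedralGroup.r 1) : M) : PSL2 F) with hxdef
  have hxo : orderOf x = n := by
    rw [hxdef, Subgroup.orderOf_coe, MulEquiv.orderOf_eq, DihedralGroup.orderOf_r_one]
  have hxM : x ∈ M := (e.symm (DihedralGroup.r 1)).2
  have hxp : ¬ orderOf x ∣ p := hxo ▸ not_dvd_char_of_order p hn hpn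
  have hle : M ≤ normalizer (zpowers x : Set (PSL2 F)) := by
    have hCM : zpowers x ≤ M := zpowers_le.2 hxM
    have hidx : ((zpowers x).subgroupOf M).index = 2 := by
      have h := ((zpowers x).subgroupOf M).index_mul_card
      rw [Nat.card_congr (Subgroup.subgroupOfEquivOfLe hCM).toEquiv, Nat.card_zpowers, hxo,
        Nat.card_congr e.toEquiv, DihedralGroup.nat_card] at h
      exact Nat.eq_of_mul_eq_mul_right (by omega) h
    have := normal_of_index_eq_two hidx
    exact (Subgroup.normal_subgroupOf_iff_le_normalizer hCM).1 this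
  obtain ⟨hN, y, hyM, hxy, hy⟩ := exists_torus_mem p h4 hM hxM hxp hle
  refine ⟨hge, ?_, x, hxM, hxo, hN⟩
  have h1 : n ∣ orderOf y := hxo ▸ orderOf_dvd_of_mem_zpowers hxy
  have h3 : 3 ≤ orderOf y := hge.trans (Nat.le_of_dvd (orderOf_pos y) h1)
  have h2 : orderOf y ∣ n := dvd_of_orderOf_dihedral (x := e ⟨y, hyM⟩)
    (by rw [MulEquiv.orderOf_eq, Subgroup.orderOf_mk]) h3
  rw [← Nat.dvd_antisymm h1 h2] at hy
  exact hy

include p in
/-- A dihedral maximal subgroup is not absorbed by a bigger group with an inverted element of order `n`. -/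
theorem dihedral_absorb (h4 : 4 ≤ Nat.card F) {M : Subgroup (PSL2 F)} (hM : IsCoatom M) {n : ℕ}
    (hn : 3 ≤ n) (hpn : ¬ p ∣ n) (e : M ≃* DihedralGroup n) {H : Subgroup (PSL2 F)} (hH : H ≠ ⊤)
    (hcard : Nat.card H ≠ 2 * n) {x' w' : H} (hx' : orderOf x' = n)
    (hw' : w' * x' * w'⁻¹ = x'⁻¹) : False := by
  obtain ⟨-, -, x, hxM, hxo, hN⟩ := dihedral_full_of_isCoatom p h4 hM (by omega) hpn e
  have hxp : ¬ orderOf x ∣ p := hxo ▸ not_dvd_char_of_order p (by omega) hpn
  obtain ⟨g, hg⟩ := conj_zpowers p hxp (x' := (x' : PSL2 F)) (by rw [hxo, Subgroup.orderOf_coe, hx'])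
  set M' := M.map (MulAut.conj g).toMonoidHom with hM'
  have hM'N : normalizer (zpowers (x' : PSL2 F) : Set (PSL2 F)) = M' := by
    rw [hM', ← hN, Subgroup.map_normalizer_eq_of_bijective _ (MulAut.conj g).bijective,
      MonoidHom.map_zpowers]
    show _ = normalizer (zpowers (g * x * g⁻¹) : Set (PSL2 F))
    rw [hg]
  have hcoatom : IsCoatom M' := isCoatom_map_mulEquiv _ hM
  have hc' : Nat.card M' = 2 * n := by
    rw [hM', card_map_mulEquiv, Nat.card_congr e.toEquiv, DihedralGroup.nat_card]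
  have hw : (w' : PSL2 F) * x' * (w' : PSL2 F)⁻¹ = (x' : PSL2 F)⁻¹ := by
    have := congrArg Subtype.val hw'
    simpa using this
  have hwM : (w' : PSL2 F) ∈ M' := by
    rw [← hM'N, Subgroup.mem_normalizer_iff_map_conj_eq]
    show (zpowers (x' : PSL2 F)).map (MulAut.conj (w' : PSL2 F)).toMonoidHom = zpowers (x' : PSL2 F)
    rw [MonoidHom.map_zpowers]
    show zpowers ((w' : PSL2 F) * x' * (w' : PSL2 F)⁻¹) = zpowers (x' : PSL2 F)
    rw [hw, Subgroup.zpowers_inv]
  have hxM' : zpowers (x' : PSL2 F) ≤ M' := hM'N ▸ Subgroup.le_normalizer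
  have hidx : ((zpowers (x' : PSL2 F)).subgroupOf M').index = 2 := by
    have h := ((zpowers (x' : PSL2 F)).subgroupOf M').index_mul_card
    rw [Nat.card_congr (Subgroup.subgroupOfEquivOfLe hxM').toEquiv, Nat.card_zpowers,
      Subgroup.orderOf_coe, hx', hc'] at h
    exact Nat.eq_of_mul_eq_mul_right (by omega) h
  have hwC : (w' : PSL2 F) ∉ zpowers (x' : PSL2 F) := by
    rintro ⟨i, hi⟩
    simp only at hi
    rw [← hi, ((Commute.refl (x' : PSL2 F)).zpow_left i).eq, mul_inv_cancel_right] at hw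
    have h2 : (x' : PSL2 F) ^ 2 = 1 := by
      rw [pow_two]; nth_rewrite 1 [hw]; exact inv_mul_cancel _
    have h' := Nat.le_of_dvd two_pos (orderOf_dvd_of_pow_eq_one h2)
    rw [Subgroup.orderOf_coe, hx'] at h'
    omega
  have hle : M' ≤ H := by
    intro z hz
    by_cases hzC : z ∈ zpowers (x' : PSL2 F)
    · exact (zpowers_le.2 x'.2) hzC
    · have h := (Subgroup.mul_mem_iff_of_index_two hidx (a := ⟨z, hz⟩) (b := ⟨_, hwM⟩)).2
        ⟨fun h => absurd h hzC, fun h => absurd h hwC⟩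
      have h' : z * (w' : PSL2 F) ∈ H := (zpowers_le.2 x'.2) h
      simpa using mul_mem h' (inv_mem w'.2)
  rcases eq_or_lt_of_le hle with h | h
  · exact hcard (h ▸ hc')
  · exact hH (hcoatom.2 _ h)

/-! ### Polyhedral groups -/

theorem klein_le_normalizer (f : Equiv.Perm (Fin 4) →* PSL2 F) :
    f.range ≤ normalizer ((fourV.map f : Subgroup (PSL2 F)) : Set (PSL2 F)) := by
  rintro _ ⟨g, rfl⟩
  rw [Subgroup.mem_normalizer_iff]
  intro y
  constructor
  · rintro ⟨v, hv, rfl⟩
    exact ⟨g * v * g⁻¹, fourV_conj g hv, by simp⟩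
  · rintro ⟨v, hv, hvy⟩
    refine ⟨g⁻¹ * v * g⁻¹⁻¹, fourV_conj g⁻¹ hv, ?_⟩
    rw [map_mul, map_mul, hvy]
    simp [mul_assoc]

/-- The four-group of a tetrahedral or octahedral subgroup. -/
theorem exists_four (M : Subgroup (PSL2 F))
    (h : Nonempty (M ≃* alternatingGroup (Fin 4)) ∨ Nonempty (M ≃* Equiv.Perm (Fin 4))) :
    ∃ V : Subgroup (PSL2 F), IsKleinFour V ∧ V ≤ M ∧ M ≤ normalizer (V : Set (PSL2 F)) ∧ V ≠ ⊥ := by
  have key : ∀ (G' : Subgroup (Equiv.Perm (Fin 4))), fourV ≤ G' → ∀ f : G' →* PSL2 F,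
      Function.Injective f → f.range = M →
      ∃ V : Subgroup (PSL2 F), IsKleinFour V ∧ V ≤ M ∧ M ≤ normalizer (V : Set (PSL2 F)) ∧
        V ≠ ⊥ := by
    intro G' hV f hf hr
    set V := (fourV.subgroupOf G').map f with hVdef
    have hc : Nat.card V = 4 := by
      rw [hVdef, ← Nat.card_congr (Subgroup.equivMapOfInjective _ f hf).toEquiv,
        Nat.card_congr (Subgroup.subgroupOfEquivOfLe hV).toEquiv, card_fourV]
    refine ⟨V, ⟨hc, ?_⟩, hr ▸ Subgroup.map_le_range _ _, ?_, fun h => ?_⟩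
    · have : Nontrivial V := Finite.one_lt_card_iff_nontrivial.1 (by omega)
      refine (Monoid.exponent_eq_prime_iff Nat.prime_two).2 fun g hg => orderOf_eq_prime ?_ hg
      obtain ⟨x, hx, hxg⟩ := g.2
      apply Subtype.ext
      rw [pow_two, Subgroup.coe_mul, Subgroup.coe_one, ← hxg, ← map_mul,
        show x * x = 1 from Subtype.ext hx.1, map_one]
    · rw [← hr]
      rintro _ ⟨g, rfl⟩
      rw [Subgroup.mem_normalizer_iff]
      intro y
      constructor
      · rintro ⟨v, hv, rfl⟩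
        exact ⟨g * v * g⁻¹, fourV_conj _ hv, by simp⟩
      · rintro ⟨v, hv, hvy⟩
        refine ⟨g⁻¹ * v * g⁻¹⁻¹, fourV_conj _ hv, ?_⟩
        rw [map_mul, map_mul, hvy]
        simp [mul_assoc]
    · rw [h, Subgroup.card_bot] at hc
      omega
  rcases h with ⟨⟨e⟩⟩ | ⟨⟨e⟩⟩
  · refine key (alternatingGroup (Fin 4)) (fun x hx => Equiv.Perm.mem_alternatingGroup.2 hx.2)
      (M.subtype.comp e.symm.toMonoidHom) (Subtype.coe_injective.comp e.symm.injective) ?_
    rw [MonoidHom.range_comp, MonoidHom.range_eq_top.2 e.symm.surjective, ← MonoidHom.range_eq_map,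
      Subgroup.range_subtype]
  · refine key ⊤ le_top (M.subtype.comp (e.symm.toMonoidHom.comp (Subgroup.topEquiv (G := Equiv.Perm (Fin 4))).toMonoidHom))
      (Subtype.coe_injective.comp (e.symm.injective.comp (Subgroup.topEquiv (G := Equiv.Perm (Fin 4))).injective)) ?_
    rw [MonoidHom.range_comp,
      MonoidHom.range_eq_top.2 (e.symm.surjective.comp (Subgroup.topEquiv (G := Equiv.Perm (Fin 4))).surjective),
      ← MonoidHom.range_eq_map, Subgroup.range_subtype]

/-- A tetrahedral or octahedral maximal subgroup inside a bigger subgroup. -/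
theorem four_absorb (h4 : 4 ≤ Nat.card F) (h2 : (2 : F) ≠ 0) {M : Subgroup (PSL2 F)}
    (hM : IsCoatom M)
    (hiso : Nonempty (M ≃* alternatingGroup (Fin 4)) ∨ Nonempty (M ≃* Equiv.Perm (Fin 4)))
    {H : Subgroup (PSL2 F)} (hH : H ≠ ⊤)
    (hA : ∃ f : alternatingGroup (Fin 4) →* PSL2 F, Function.Injective f ∧ f.range ≤ H)
    (h8 : Nat.card M = 24 → 8 ∣ Nat.card H) : Nat.card H = Nat.card M := by
  obtain ⟨V, hV, hVM, hMV, hVb⟩ := exists_four M hiso
  have hMN := normalizer_eq_of_isCoatom h4 hM hVb hVM hMV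
  obtain ⟨f, hf, hfH⟩ := hA
  obtain ⟨V', hV', hV'le, hfN, -⟩ := exists_four f.range
    (Or.inl ⟨(MonoidHom.ofInjective hf).symm⟩)
  obtain ⟨u, hu⟩ := klein_conj h2 hV' hV
  set N' := H ⊓ normalizer (V' : Set (PSL2 F)) with hN'
  have h12 : 12 ∣ Nat.card N' := by
    have h := Subgroup.card_dvd_of_le (le_inf hfH hfN : f.range ≤ N')
    rwa [← Nat.card_congr (MonoidHom.ofInjective hf).toEquiv, card_alt_four] at h
  have hdvd : Nat.card M ∣ Nat.card N' := by
    rcases hiso with ⟨⟨e⟩⟩ | ⟨⟨e⟩⟩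
    · rwa [Nat.card_congr e.toEquiv, card_alt_four]
    · have hM24 : Nat.card M = 24 := (Nat.card_congr e.toEquiv).trans card_perm_four
      have := Fact.mk Nat.prime_two
      have hV'H : V' ≤ H := hV'le.trans hfH
      obtain ⟨K, hK, hVK⟩ := Sylow.exists_subgroup_card_pow_prime_le (G := H) 2
        (n := 2) (m := 3) (by simpa using h8 hM24) (V'.subgroupOf H)
        (by rw [Nat.card_congr (Subgroup.subgroupOfEquivOfLe hV'H).toEquiv, hV'.card_four]; norm_num)
        (by norm_num)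
      let K' := K.map H.subtype
      have hK' : Nat.card K' = 8 := by
        rw [← Nat.card_congr (Subgroup.equivMapOfInjective _ _ H.subtype_injective).toEquiv, hK]
        norm_num
      have hVK' : V' ≤ K' := fun v hv => ⟨⟨v, hV'H hv⟩, hVK hv, rfl⟩
      have hidx : (V'.subgroupOf K').index = 2 := by
        have h := (V'.subgroupOf K').index_mul_card
        rw [Nat.card_congr (Subgroup.subgroupOfEquivOfLe hVK').toEquiv, hV'.card_four, hK'] at h
        omega
      have hnorm := (Subgroup.normal_subgroupOf_iff_le_normalizer hVK').1 (normal_of_index_eq_two hidx)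
      have h8' := Subgroup.card_dvd_of_le (le_inf (Subgroup.map_subtype_le K) hnorm : K' ≤ N')
      rw [hK'] at h8'
      rw [hM24]
      have h3 : 3 ∣ Nat.card N' := (Dvd.dvd.trans (by norm_num) h12)
      exact Nat.Coprime.mul_dvd_of_dvd_of_dvd (by norm_num : Nat.Coprime 8 3) h8' h3
  have hle : N'.map (outConj u).toMonoidHom ≤ M := by
    rw [← hMN, ← hu]
    exact map_normalizer_le _ inf_le_right
  have heq : N'.map (outConj u).toMonoidHom = M :=
    Subgroup.eq_of_le_of_card_ge hle (by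
      rw [card_map_mulEquiv]; exact Nat.le_of_dvd Nat.card_pos hdvd)
  have hMH : M ≤ H.map (outConj u).toMonoidHom := heq ▸ Subgroup.map_mono inf_le_left
  rcases eq_or_lt_of_le hMH with h | h
  · rw [h, card_map_mulEquiv]
  · exact absurd (hM.2 _ h) (map_ne_top _ hH)

/-- An icosahedral maximal subgroup inside a bigger subgroup. -/
theorem altFive_absorb (h2 : (2 : F) ≠ 0) {M H : Subgroup (PSL2 F)} (hM : IsCoatom M)
    (e : M ≃* alternatingGroup (Fin 5)) (hH : H ≠ ⊤)
    (hA : ∃ f : alternatingGroup (Fin 5) →* PSL2 F, Function.Injective f ∧ f.range ≤ H) :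
    Nat.card H = 60 := by
  obtain ⟨f, hf, hfH⟩ := hA
  obtain ⟨u, hu⟩ := altFive_conj h2 (M := f.range) (M' := M) (MonoidHom.ofInjective hf).symm e
  have hMH : M ≤ H.map (outConj u).toMonoidHom := hu ▸ Subgroup.map_mono hfH
  rcases eq_or_lt_of_le hMH with h | h
  · rw [← card_map_mulEquiv (outConj u) H, ← h, Nat.card_congr e.toEquiv, card_alt_five]
  · exact absurd (hM.2 _ h) (map_ne_top _ hH)

/-! ### Subfields -/

theorem mem_subfield_of_pow_card (R : Subfield F) {x : F} (hx : x ^ Nat.card R = x) : x ∈ R := by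
  classical
  by_contra hn
  have := Fintype.ofFinite R
  have := Fintype.ofFinite F
  have hr1 : 1 < Nat.card R := Finite.one_lt_card
  let P : Polynomial F := Polynomial.X ^ Nat.card R - Polynomial.X
  have hdeg : P.natDegree = Nat.card R := FiniteField.X_pow_card_sub_X_natDegree_eq F hr1
  have hP : P ≠ 0 := FiniteField.X_pow_card_sub_X_ne_zero F hr1
  let s : Finset F := insert x (Finset.univ.map ⟨fun z : R => (z : F), Subtype.coe_injective⟩)
  have hs : s.val ⊆ P.roots := by
    intro z hz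
    rw [Polynomial.mem_roots hP, Polynomial.IsRoot]
    simp only [P, Polynomial.eval_sub, Polynomial.eval_pow, Polynomial.eval_X, sub_eq_zero]
    rcases Finset.mem_insert.1 hz with rfl | hz
    · exact hx
    · obtain ⟨w, -, rfl⟩ := Finset.mem_map.1 hz
      show (w : F) ^ Nat.card R = (w : F)
      rw [← SubmonoidClass.coe_pow, Nat.card_eq_fintype_card, FiniteField.pow_card]
  have h := Polynomial.card_le_degree_of_subset_roots hs
  rw [hdeg, Finset.card_insert_of_notMem (by simpa using hn), Finset.card_map, Finset.card_univ,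
    ← Nat.card_eq_fintype_card] at h
  omega

theorem stdPGL_comp_equiv {L L' : Type*} [Field L] [Field L'] (φ : L' →+* F) (σ : L ≃+* L') :
    stdPGL (φ.comp (σ : L →+* L')) = stdPGL φ := by
  rw [stdPGL, stdPGL, ProjGenLinGroup.map_comp, MonoidHom.range_comp,
    MonoidHom.range_eq_top.2 (pglEquiv σ).surjective, ← MonoidHom.range_eq_map]

theorem stdPSL_comp_equiv {L L' : Type*} [Field L] [Finite L] [Field L'] [Finite L']
    (φ : L' →+* F) (σ : L ≃+* L') : stdPSL (φ.comp (σ : L →+* L')) = stdPSL φ := by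
  obtain ⟨e⟩ := nonempty_stdPSL_equiv (φ.comp (σ : L →+* L'))
  obtain ⟨e'⟩ := nonempty_stdPSL_equiv φ
  refine Subgroup.eq_of_le_of_card_ge (stdPSL_le_of_subfield φ _) ?_
  rw [Nat.card_congr e.toEquiv, Nat.card_congr e'.toEquiv, Nat.card_congr (pslEquiv σ).toEquiv]

/-- An intermediate field of prescribed degree over a subfield. -/
theorem exists_intermediate (R : Subfield F) [CharP R p] {m a : ℕ} (ha : a ≠ 0) (ham : a ∣ m)
    (hR : Nat.card R ^ m = Nat.card F) :
    ∃ l : ℕ, l ≠ 0 ∧ Nat.card (GaloisField p l) = Nat.card R ^ a ∧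
      ∃ (ι : GaloisField p l →+* F) (j : R →+* GaloisField p l) (σ : R ≃+* R),
        ι.comp j = R.subtype.comp (σ : R →+* R) := by
  obtain ⟨b, hb, hRb⟩ := GLOrder.exists_card_eq_pow (F := R) p
  obtain ⟨c, rfl⟩ := ham
  refine ⟨b * a, Nat.mul_ne_zero hb.ne' ha, ?_, ?_⟩
  · rw [GaloisField.card p _ (Nat.mul_ne_zero hb.ne' ha), hRb, pow_mul]
  obtain ⟨ι⟩ := exists_ringHom_of_card_pow (F := F) (L := GaloisField p (b * a)) (m := c)
    (by rw [GaloisField.card p _ (Nat.mul_ne_zero hb.ne' ha), ← hR, hRb, ← pow_mul, ← pow_mul,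
      mul_assoc])
  obtain ⟨j⟩ := exists_ringHom_of_card_pow (F := GaloisField p (b * a)) (L := R) (m := a)
    (by rw [GaloisField.card p _ (Nat.mul_ne_zero hb.ne' ha), hRb, ← pow_mul])
  have := Fintype.ofFinite R
  have hmem : ∀ z : R, ι (j z) ∈ R := fun z => mem_subfield_of_pow_card R (by
    rw [← map_pow, ← map_pow, Nat.card_eq_fintype_card, FiniteField.pow_card])
  let σ₀ : R →+* R := (ι.comp j).codRestrict R hmem
  exact ⟨ι, j, RingEquiv.ofBijective σ₀ (Finite.injective_iff_bijective.1 σ₀.injective),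
    RingHom.ext fun z => rfl⟩

include p in
theorem isSquare_of_even_degree {L : Type*} [Field L] [Finite L] {m : ℕ}
    (h : Nat.card L ^ m = Nat.card F) (hm : Even m) (φ : L →+* F) (z : L) : IsSquare (φ z) := by
  by_cases hz : z = 0
  · exact ⟨0, by simp [hz]⟩
  have := Fintype.ofFinite F
  have := Fintype.ofFinite L
  by_cases h2 : ringChar F = 2
  · exact FiniteField.isSquare_of_char_two h2 _
  rw [FiniteField.isSquare_iff h2 ((map_ne_zero φ).2 hz), ← map_pow, ← map_one φ]
  congr 1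
  obtain ⟨k, rfl⟩ := hm
  have hF := FiniteField.odd_card_of_char_ne_two h2
  rw [Nat.card_eq_fintype_card, Nat.card_eq_fintype_card, ← two_mul, pow_mul] at h
  obtain ⟨i, hi⟩ : ∃ i, Fintype.card L = 2 * i + 1 := by
    rcases Nat.even_or_odd (Fintype.card L) with he | ⟨i, hi⟩
    · exfalso
      rcases Nat.eq_zero_or_pos k with rfl | hk
      · rw [pow_zero] at h
        exact Fintype.one_lt_card.ne h
      · have : Even (Fintype.card F) :=
          h ▸ Nat.even_pow.2 ⟨Nat.even_pow.2 ⟨he, two_ne_zero⟩, hk.ne'⟩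
        rw [Nat.even_iff] at this
        omega
    · exact ⟨i, hi⟩
  obtain ⟨t, ht⟩ : (Fintype.card L - 1) * 2 ∣ Fintype.card F - 1 := by
    refine Dvd.dvd.trans ⟨i + 1, ?_⟩ (h ▸ Nat.sub_one_dvd_pow_sub_one (Fintype.card L ^ 2) k)
    rw [GLOrder.sq_sub_one, hi, Nat.add_sub_cancel]
    ring
  have hhalf : Fintype.card F / 2 = (Fintype.card L - 1) * t := by
    rw [mul_right_comm] at ht
    omega
  rw [hhalf, pow_mul, FiniteField.pow_card_sub_one_eq_one z hz, one_pow]

include p in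
theorem borel_of_isCoatom {M : Subgroup (PSL2 F)} (hM : IsCoatom M) {S : Sylow p (PSL2 F)}
    (hS : M ≤ normalizer ((S : Subgroup (PSL2 F)) : Set (PSL2 F))) :
    Nat.gcd 2 (Nat.card F - 1) * Nat.card M = Nat.card F * (Nat.card F - 1) := by
  obtain ⟨P, hP⟩ := normalizer_sylow_le p S
  rcases eq_or_lt_of_le (hS.trans hP) with h | h
  · rw [h]; exact card_borel_mul P
  · exact absurd (hM.2 _ h) (stabilizer_ne_top P)

include p in
/-- Maximal subfield subgroups have prime index field degree. -/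
theorem subfield_prime_of_isCoatom {R : Subfield F} {m : ℕ} (hm : 1 ≤ m)
    (hR : Nat.card R ^ m = Nat.card F) {u : GL (Fin 2) F} {M : Subgroup (PSL2 F)}
    (hM : IsCoatom M)
    (h : M.map (outConj u).toMonoidHom = stdPSL R.subtype ∨
      (p ≠ 2 ∧ Even m ∧ M.map (outConj u).toMonoidHom = stdPGL R.subtype)) :
    (Nonempty (M ≃* PSL2 R) ∧ m.Prime ∧ (p ≠ 2 → Odd m)) ∨
      (Nonempty (M ≃* PGL2 R) ∧ m = 2 ∧ p ≠ 2) := by
  have := charP_subfield p R
  have hr1 : 1 < Nat.card R := Finite.one_lt_card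
  set M' := M.map (outConj u).toMonoidHom with hM'
  have hcoatom : IsCoatom M' := isCoatom_map_mulEquiv _ hM
  have eM : M ≃* M' := Subgroup.equivMapOfInjective _ _ (outConj u).injective
  have hGcard := card_psl_mul (F := F)
  have hd2 : Nat.gcd 2 (Nat.card F - 1) ≤ 2 := Nat.le_of_dvd two_pos (Nat.gcd_dvd_left _ _)
  -- a proper subgroup containing `M'` has the same order
  have hmax : ∀ H : Subgroup (PSL2 F), M' ≤ H → H ≠ ⊤ → Nat.card M' = Nat.card H := by
    intro H hle hne
    rcases eq_or_lt_of_le hle with e | e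
    · rw [e]
    · exact absurd (hcoatom.2 _ e) hne
  have hbig : ∀ N : ℕ, N ^ 2 ≤ Nat.card F → 2 ≤ N →
      N * ((N + 1) * (N - 1)) < Nat.card (PSL2 F) := by
    intro N hN hN2
    have h1 := two_card_psl_ge (F := F)
    have h3 : N * N ≤ Nat.card F := by rwa [← pow_two]
    have h4 : 2 * N ≤ N * N := Nat.mul_le_mul_right N hN2
    have h5 : 2 * N * ((N + 1) * (N - 1)) < Nat.card F * ((Nat.card F + 1) * (Nat.card F - 1)) :=
      Nat.mul_lt_mul_of_le_of_lt (by omega) (Nat.mul_lt_mul_of_lt_of_le (by omega) (by omega)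
        (by omega)) (by omega)
    rw [mul_assoc] at h5
    omega
  rcases h with h | ⟨hp2, hme, h⟩
  · left
    obtain ⟨eS⟩ := nonempty_stdPSL_equiv R.subtype
    let e : M ≃* PSL2 R := eM.trans ((MulEquiv.subgroupCongr h).trans eS)
    have hcM' : Nat.card M' = Nat.card (PSL2 R) := by rw [h, Nat.card_congr eS.toEquiv]
    have hm2 : 2 ≤ m := by
      by_contra hlt
      obtain rfl : m = 1 := by omega
      rw [pow_one] at hR
      exact hM.1 (eq_top_of_psl hR e)
    have hmp : m.Prime := by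
      by_contra hnp
      obtain ⟨a, hap, ha⟩ := Nat.exists_prime_and_dvd (show m ≠ 1 by omega)
      obtain ⟨l, hl, hcl, ι, j, σ, hσ⟩ := exists_intermediate p R hap.ne_zero ha hR
      obtain ⟨eι⟩ := nonempty_stdPSL_equiv ι
      have hle : M' ≤ stdPSL ι := by
        rw [h, ← stdPSL_comp_equiv R.subtype σ, ← hσ]
        exact stdPSL_le_of_subfield ι j
      have hne : stdPSL ι ≠ ⊤ := fun e' => by
        have h1 : Nat.card (PSL2 (GaloisField p l)) = Nat.card (PSL2 F) := by
          rw [← Nat.card_congr eι.toEquiv, e', Subgroup.card_top]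
        have h2 := card_psl_inj p h1
        rw [hcl, ← hR] at h2
        exact hnp (Nat.pow_right_injective (by omega) h2 ▸ hap)
      have h1 := card_psl_inj p
        ((hcM'.symm.trans (hmax _ hle hne)).trans (Nat.card_congr eι.toEquiv))
      rw [hcl] at h1
      exact hap.ne_one (Nat.pow_right_injective (by omega) ((pow_one _).trans h1)).symm
    refine ⟨⟨e⟩, hmp, fun hp2 => ?_⟩
    rcases hmp.eq_two_or_odd' with rfl | hodd
    swap
    · exact hodd
    exfalso
    obtain ⟨eG⟩ := nonempty_stdPGL_equiv R.subtype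
      (isSquare_of_even_degree p hR even_two R.subtype)
    have hGle : Nat.card (stdPGL R.subtype) < Nat.card (PSL2 F) := by
      rw [Nat.card_congr eG.toEquiv, card_pgl_eq]
      exact hbig _ hR.le hr1
    have h1 := hmax _ (h ▸ stdPSL_le_stdPGL R.subtype) fun e' => by
      rw [e', Subgroup.card_top] at hGle; omega
    rw [hcM', Nat.card_congr eG.toEquiv, card_pgl_eq, ← card_psl_mul] at h1
    obtain ⟨c, -, -, ⟨hc2, -⟩ | ⟨-, -, hd, -⟩⟩ := q_cases (F := R) p
    · exact hp2 hc2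
    rw [hd] at h1
    have : 0 < Nat.card (PSL2 R) := Nat.card_pos
    omega
  · obtain ⟨eG⟩ := nonempty_stdPGL_equiv R.subtype (isSquare_of_even_degree p hR hme R.subtype)
    refine Or.inr ⟨⟨eM.trans ((MulEquiv.subgroupCongr h).trans eG)⟩, ?_, hp2⟩
    by_contra hm2
    obtain ⟨l, hl, hcl, ι, j, σ, hσ⟩ := exists_intermediate p R two_ne_zero hme.two_dvd hR
    have hle : M' ≤ stdPSL ι := by
      rw [h, ← stdPGL_comp_equiv R.subtype σ, ← hσ]
      exact stdPGL_le_stdPSL ι j (isSquare_of_even_degree p hcl.symm even_two j)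
    obtain ⟨eι⟩ := nonempty_stdPSL_equiv ι
    have hne : stdPSL ι ≠ ⊤ := fun e' => by
      have h1 : Nat.card (PSL2 (GaloisField p l)) = Nat.card (PSL2 F) := by
        rw [← Nat.card_congr eι.toEquiv, e', Subgroup.card_top]
      have h2 := card_psl_inj p h1
      rw [hcl, ← hR] at h2
      exact hm2 (Nat.pow_right_injective (by omega) h2).symm
    have h1 := (hmax _ hle hne).trans (Nat.card_congr eι.toEquiv)
    rw [h, Nat.card_congr eG.toEquiv, card_pgl_eq] at h1
    have h2 := two_card_psl_ge (F := GaloisField p l)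
    rw [← h1, hcl] at h2
    set r := Nat.card R
    have h4 : 2 * r ≤ r ^ 2 := by rw [pow_two]; exact Nat.mul_le_mul_right r hr1
    have h5 : 2 * r * ((r + 1) * (r - 1)) < r ^ 2 * ((r ^ 2 + 1) * (r ^ 2 - 1)) :=
      Nat.mul_lt_mul_of_le_of_lt h4 (Nat.mul_lt_mul_of_lt_of_le (by omega) (by omega) (by omega))
        (by omega)
    rw [mul_assoc] at h5
    omega

end Cfsg.Agent.PSL2
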