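/-
Subfield groups as `M ∩ L`, and the list of maximal subgroups of `PGL_2(q)` not containing `L`.

Main results (namespace `Cfsg.Agent.PSL2`):
* `isCoatom_stdPSL`, `inter_pgl_false`, `inter_psl`, `pgl_isCoatom_cases`
-/
import Cfsg.Agent.Lib.PSL2.PGLCases

set_option autoImplicit false
set_option linter.unusedSectionVars false
set_option linter.dupNamespace false

open Matrix MulAction Subgroup
open scoped LinearAlgebra.Projectivization

namespace Cfsg.Agent.PSL2

variable {F : Type*} [Field F] [Finite F] (p : ℕ) [Fact p.Prime] [CharP F p]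

local notation "φ" => (ProjectiveSpecialLinearGroup.toPGL : PSL2 F →* PGL2 F)

include p in
/-- The standard `PSL_2(R)` is maximal for a subfield of prime index, odd if `q` is odd. -/
theorem isCoatom_stdPSL (R : Subfield F) {m : ℕ} (hm : m.Prime) (hR : Nat.card R ^ m = Nat.card F)
    (h3 : 3 ≤ Nat.card R) (hodd : Odd (Nat.card R) → Odd m) : IsCoatom (stdPSL R.subtype) := by
  have := charP_subfield p R
  obtain ⟨H, hH, ⟨e⟩⟩ := subfield_psl_isCoatom (F := F) (L := R) p hm hR.symm h3 hodd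
  have hdvd : p ∣ Nat.card H := by rw [Nat.card_congr e.toEquiv]; exact dvd_card_psl p
  let f : PSL2 R →* PSL2 F := H.subtype.comp e.symm.toMonoidHom
  have hf : Function.Injective f := Subtype.coe_injective.comp e.symm.injective
  have hoddH : OddPair H := (oddPair_psl p h3).of_equiv e
  rcases psl_dickson_std p H with ⟨-, S, hS⟩ | ⟨hp, -, -⟩ | ⟨n, -, -, -, -, ⟨ed⟩⟩ | ⟨hp, -⟩ |
    ⟨rfl, h60, -⟩ | ⟨R', m', u, -, hR', h⟩
  · obtain ⟨P, hP⟩ := normalizer_sylow_le p S
    exact (not_psl_le_stabilizer p f hf fun g => hP (hS (e.symm g).2)).elim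
  · exact absurd hdvd hp
  · exact (hoddH.not_dihedral_equiv ed).elim
  · exact absurd hdvd hp
  · exfalso
    have hc := card_psl_mul (F := R)
    rw [← Nat.card_congr e.toEquiv, h60] at hc
    obtain ⟨a, ha, hRa⟩ := GLOrder.exists_card_eq_pow (F := R) 3
    have hd := (odd_card (F := R) 3 (by norm_num)).2
    rw [hd, hRa] at hc
    rcases Nat.lt_or_ge a 2 with h | h
    · rw [show a = 1 by omega] at hc; norm_num at hc
    · have h9 : 9 ≤ 3 ^ a := (Nat.pow_le_pow_right (by norm_num) h).trans' (by norm_num)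
      have : 9 * (10 * 8) ≤ 3 ^ a * ((3 ^ a + 1) * (3 ^ a - 1)) :=
        Nat.mul_le_mul h9 (Nat.mul_le_mul (by omega) (by omega))
      omega
  · have := charP_subfield p R'
    have hc := (card_map_mulEquiv (outConj u) H).trans (Nat.card_congr e.toEquiv)
    rcases h with h | ⟨hp2, hme, h⟩
    · obtain ⟨es⟩ := nonempty_stdPSL_equiv R'.subtype
      rw [h, Nat.card_congr es.toEquiv] at hc
      have hcard := card_psl_inj p hc
      have : R' = R := by
        refine SetLike.ext' (Set.eq_of_subset_of_ncard_le (fun x hx => ?_) ?_ (Set.toFinite _))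
        · refine mem_subfield_of_pow_card R ?_
          have := Fintype.ofFinite R'
          rw [← hcard, Nat.card_eq_fintype_card]
          exact congrArg Subtype.val (FiniteField.pow_card (⟨x, hx⟩ : R'))
        · rw [← Nat.card_coe_set_eq, ← Nat.card_coe_set_eq]
          exact hcard.ge
      subst this
      rw [← h]
      exact isCoatom_map_mulEquiv _ hH
    · obtain ⟨es⟩ := nonempty_stdPGL_equiv R'.subtype
        (isSquare_of_even_degree p hR' hme R'.subtype)
      rw [h, Nat.card_congr es.toEquiv, card_pgl_eq, ← Nat.mul_left_cancel_iff two_pos] at hc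
      have hd := (odd_card (F := R) p hp2).2
      have hcR := card_psl_mul (F := R)
      rw [hd] at hcR
      rw [hcR, mul_left_comm] at hc
      obtain ⟨x, hx, -, hxc, -⟩ := card_psl_split (F := R) p
      obtain ⟨a, ha, hRa⟩ := GLOrder.exists_card_eq_pow (F := R') p
      obtain ⟨b, hb, hRb⟩ := GLOrder.exists_card_eq_pow (F := R) p
      exfalso
      have hcopR : ∀ k : ℕ, 0 < k → ¬ p ∣ (p ^ k + 1) * (p ^ k - 1) := fun k hk h => by
        have h1 : p ∣ p ^ k := dvd_pow_self p hk.ne'
        have hpos : 1 ≤ p ^ k := Nat.one_le_pow _ _ (Fact.out : p.Prime).pos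
        rcases (Fact.out : p.Prime).dvd_mul.1 h with h' | h'
        · exact (Fact.out : p.Prime).not_dvd_one ((Nat.dvd_add_right h1).1 h')
        · exact (Fact.out : p.Prime).not_dvd_one (by
            have := Nat.dvd_sub h1 h'
            rwa [Nat.sub_sub_self hpos] at this)
      rw [hRa, hRb] at hc
      have hp2' : ¬ p ∣ 2 := fun h => hp2 ((Nat.prime_dvd_prime_iff_eq Fact.out Nat.prime_two).1 h)
      have heq := eq_of_mul_pow_eq (a := a) (b := b) (Fact.out : p.Prime)
        (x := 2 * ((p ^ a + 1) * (p ^ a - 1))) (y := (p ^ b + 1) * (p ^ b - 1))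
        (fun h => by
          rcases (Fact.out : p.Prime).dvd_mul.1 h with h' | h'
          · exact hp2' h'
          · exact hcopR a ha h')
        (hcopR b hb) hc
      rw [heq] at hc
      have hpos : 0 < p ^ b * ((p ^ b + 1) * (p ^ b - 1)) := by
        have : 3 ≤ p ^ b := hRb ▸ h3
        exact Nat.mul_pos (by omega) (Nat.mul_pos (by omega) (by omega))
      rw [mul_left_comm] at hc
      omega

include p in
/-- `M ∩ L` is no `PGL_2` of a subfield. -/
theorem inter_pgl_false (hp2 : p ≠ 2) {M : Subgroup (PGL2 F)} {N : Subgroup (PSL2 F)}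
    (hI : Inter M N) {R : Type*} [Field R] [Finite R] [CharP R p] (e : N ≃* PGL2 R) : False := by
  obtain ⟨a, ha, hRa⟩ := GLOrder.exists_card_eq_pow (F := R) p
  obtain ⟨b, -, -, f, hf⟩ := exists_pgl_embed (F := F) p
  let eK := Subgroup.equivMapOfInjective M f hf
  set K := M.map f with hK
  have hKc : Nat.card K = 2 * (p ^ a * ((p ^ a + 1) * (p ^ a - 1))) := by
    rw [← Nat.card_congr eK.toEquiv, hI.card_eq, Nat.card_congr e.toEquiv, card_pgl_eq, hRa]
  let g : N →* M :=
    ((φ).comp N.subtype).codRestrict M fun z => Subgroup.mem_comap.1 (hI.comap_eq.symm ▸ z.2)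
  have hg : Function.Injective g := fun a b h => Subtype.ext
    (ProjectiveSpecialLinearGroup.toPGL_injective (congrArg Subtype.val h))
  let k : PSL2 R →* PSL2 (GaloisField p b) :=
    K.subtype.comp (eK.toMonoidHom.comp (g.comp (e.symm.toMonoidHom.comp
      ProjectiveSpecialLinearGroup.toPGL)))
  have hk : Function.Injective k := Subtype.coe_injective.comp (eK.injective.comp (hg.comp
    (e.symm.injective.comp ProjectiveSpecialLinearGroup.toPGL_injective)))
  have h3 : 3 ≤ Nat.card R := by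
    rw [hRa]
    have hpp : p.Prime := Fact.out
    have := hpp.two_le
    exact (show 3 ≤ p by omega).trans (Nat.le_self_pow ha.ne' p)
  have hodd : OddPair K := OddPair.of_le ((oddPair_psl p h3).map (MonoidHom.ofInjective hk).toMonoidHom
    (MonoidHom.ofInjective hk).injective) (show k.range ≤ K by rintro _ ⟨x, rfl⟩; exact Subtype.prop _)
  have hpK : p ∣ Nat.card K := by
    rw [hKc]; exact Dvd.dvd.mul_left (Dvd.dvd.mul_right (dvd_pow_self p ha.ne') _) 2
  have hp2' : ¬ p ∣ 2 := fun h => hp2 ((Nat.prime_dvd_prime_iff_eq Fact.out Nat.prime_two).1 h)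
  have hcop : ∀ k : ℕ, 0 < k → ¬ p ∣ (p ^ k + 1) * (p ^ k - 1) := fun k hk h => by
    have h1 : p ∣ p ^ k := dvd_pow_self p hk.ne'
    have hpos : 1 ≤ p ^ k := Nat.one_le_pow _ _ (Fact.out : p.Prime).pos
    rcases (Fact.out : p.Prime).dvd_mul.1 h with h' | h'
    · exact (Fact.out : p.Prime).not_dvd_one ((Nat.dvd_add_right h1).1 h')
    · exact (Fact.out : p.Prime).not_dvd_one (by
        have := Nat.dvd_sub h1 h'
        rwa [Nat.sub_sub_self hpos] at this)
  have hpow : 3 ≤ p ^ a := hRa ▸ h3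
  rcases psl_dickson p K with ⟨-, S, hS⟩ | ⟨h, -, -⟩ | ⟨n, -, -, -, -, -, ⟨ek⟩⟩ | ⟨h, -⟩ |
    ⟨h3', h60, -⟩ | ⟨R', m, -, -, h⟩
  · obtain ⟨P, hP⟩ := normalizer_sylow_le p S
    exact not_psl_le_stabilizer p k hk fun x => hP (hS (Subtype.prop _))
  · exact h hpK
  · exact hodd.not_dihedral_equiv ek
  · exact h hpK
  · subst h3'
    rw [h60] at hKc
    rcases Nat.lt_or_ge a 2 with h | h
    · rw [show a = 1 by omega] at hKc; norm_num at hKc
    · have h9 : 9 ≤ 3 ^ a := (Nat.pow_le_pow_right (by norm_num) h).trans' (by norm_num)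
      have : 9 * (10 * 8) ≤ 3 ^ a * ((3 ^ a + 1) * (3 ^ a - 1)) :=
        Nat.mul_le_mul h9 (Nat.mul_le_mul (by omega) (by omega))
      omega
  · have := charP_subfield p R'
    obtain ⟨c, hc, hRc⟩ := GLOrder.exists_card_eq_pow (F := R') p
    rcases h with ⟨⟨er⟩⟩ | ⟨-, -, ⟨er⟩⟩
    · have h1 := card_psl_mul (F := R')
      rw [(odd_card (F := R') p hp2).2, ← Nat.card_congr er.toEquiv, hKc, hRc] at h1
      have heq := eq_of_mul_pow_eq (a := a) (b := c) (Fact.out : p.Prime)
        (x := 2 * (2 * ((p ^ a + 1) * (p ^ a - 1)))) (y := (p ^ c + 1) * (p ^ c - 1))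
        (fun h => by
          rcases (Fact.out : p.Prime).dvd_mul.1 h with h' | h'
          · exact hp2' h'
          rcases (Fact.out : p.Prime).dvd_mul.1 h' with h' | h'
          · exact hp2' h'
          · exact hcop a ha h')
        (hcop c hc) (h1 ▸ by ring)
      rw [← heq] at h1
      have : 0 < p ^ a * ((p ^ a + 1) * (p ^ a - 1)) :=
        Nat.mul_pos (by omega) (Nat.mul_pos (by omega) (by omega))
      omega
    · rw [Nat.card_congr er.toEquiv, card_pgl_eq, hRc] at hKc
      have heq := eq_of_mul_pow_eq (a := c) (b := a) (Fact.out : p.Prime)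
        (x := (p ^ c + 1) * (p ^ c - 1)) (y := 2 * ((p ^ a + 1) * (p ^ a - 1)))
        (hcop c hc)
        (fun h => by
          rcases (Fact.out : p.Prime).dvd_mul.1 h with h' | h'
          · exact hp2' h'
          · exact hcop a ha h')
        (hKc ▸ by ring)
      rw [heq] at hKc
      have : 0 < p ^ a * ((p ^ a + 1) * (p ^ a - 1)) :=
        Nat.mul_pos (by omega) (Nat.mul_pos (by omega) (by omega))
      omega

include p in
theorem inter_psl (hp2 : p ≠ 2) (h4 : 4 ≤ Nat.card F) {M : Subgroup (PGL2 F)} (hM : IsCoatom M)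
    {N : Subgroup (PSL2 F)} (hI : Inter M N) {R : Subfield F} {m : ℕ} (hm : 1 ≤ m)
    (hR : Nat.card R ^ m = Nat.card F) {u : GL (Fin 2) F}
    (h : N.map (outConj u).toMonoidHom = stdPSL R.subtype) :
    m.Prime ∧ Odd m ∧ Nonempty (M ≃* PGL2 R) ∧ IsCoatom N := by
  have := charP_subfield p R
  have : Finite (PGL2 F) := Finite.of_surjective _ ProjGenLinGroup.mk_surjective
  have hinj : Function.Injective φ := ProjectiveSpecialLinearGroup.toPGL_injective
  obtain ⟨b, hb, hRb⟩ := GLOrder.exists_card_eq_pow (F := R) p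
  have h3 : 3 ≤ Nat.card R := by
    rw [hRb]
    have hpp : p.Prime := Fact.out
    have := hpp.two_le
    exact (show 3 ≤ p by omega).trans (Nat.le_self_pow hb.ne' p)
  obtain ⟨es⟩ := nonempty_stdPSL_equiv R.subtype
  let eN : N ≃* PSL2 R := (Subgroup.equivMapOfInjective _ _ (outConj u).injective).trans
    ((MulEquiv.subgroupCongr h).trans es)
  have hNb : N ≠ ⊥ := fun hb' => by
    have : Nat.card N = 1 := by rw [hb', Subgroup.card_bot]
    rw [Nat.card_congr eN.toEquiv] at this
    have hpd := dvd_card_psl (F := R) p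
    rw [this] at hpd
    exact (Fact.out : p.Prime).not_dvd_one hpd
  obtain ⟨-, hMN⟩ := hI.norm N hNb le_rfl fun v hv => (hI.fix v hv).le
  set M₁ := M.map (MulAut.conj (ProjGenLinGroup.mk u)).toMonoidHom with hM₁
  have hM₁co : IsCoatom M₁ := isCoatom_map_mulEquiv _ hM
  have hS : (stdPSL R.subtype).map φ = (toK R.subtype).range := by
    rw [stdPSL, Subgroup.map_comap_eq, inf_eq_right]
    exact stdPSL_le_range_toPGL _
  have hnorm : normalizer (((toK R.subtype).range : Subgroup (PGL2 F)) : Set (PGL2 F)) = M₁ := by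
    rw [hM₁, ← hMN, Subgroup.map_normalizer_eq_of_bijective _
      (MulAut.conj (ProjGenLinGroup.mk u)).bijective, ← map_toPGL_outConj, h, hS]
  let G₁ := (ProjGenLinGroup.map (n := Fin 2) R.subtype).range
  have hG₁ : G₁ ≤ M₁ := by
    rw [← hnorm]
    rintro _ ⟨x, rfl⟩
    rw [Subgroup.mem_normalizer_iff_map_conj_eq]
    refine Subgroup.eq_of_le_of_card_ge ?_ (card_map_mulEquiv _ _).ge
    rintro _ ⟨_, ⟨r, rfl⟩, rfl⟩
    obtain ⟨r', hr'⟩ := (range_toPGL_normal (F := R)).conj_mem _ ⟨r, rfl⟩ x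
    refine ⟨r', ?_⟩
    rw [toK_apply, hr', map_mul, map_mul, map_inv]
    rfl
  have hG₁c : Nat.card G₁ = Nat.card (PGL2 R) :=
    (Nat.card_congr (MonoidHom.ofInjective (pgl_map_injective R.subtype)).toEquiv).symm
  have hM₁c : Nat.card M₁ = Nat.card (PGL2 R) := by
    rw [hM₁, card_map_mulEquiv, hI.card_eq, Nat.card_congr eN.toEquiv, card_pgl_eq, ← card_psl_mul,
      (odd_card (F := R) p hp2).2]
  have heq : G₁ = M₁ := Subgroup.eq_of_le_of_card_ge hG₁ (by rw [hM₁c, hG₁c])
  have hmo : Odd m := by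
    rcases Nat.even_or_odd m with he | ho
    swap
    · exact ho
    exfalso
    apply hI.not_le
    have hn := range_toPGL_normal (F := F)
    have hle : M₁ ≤ (φ).range := by
      rw [← heq]
      rintro _ ⟨x, rfl⟩
      obtain ⟨a, b', c, d, hd, rfl⟩ := exists_mob x
      rw [map_mob]
      exact mem_range_toPGL (by
        rw [← map_mul, ← map_mul, ← map_sub]; exact isSquare_of_even_degree p hR he R.subtype _)
    intro x hx
    have h' := hn.conj_mem _ (hle ⟨x, hx, rfl⟩) (ProjGenLinGroup.mk u)⁻¹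
    simpa [mul_assoc] using h'
  have hm1 : m ≠ 1 := by
    rintro rfl
    rw [pow_one] at hR
    exact hI.ne_top (eq_top_of_psl hR eN)
  have hmp : m.Prime := by
    by_contra hnp
    obtain ⟨a, hap, ha⟩ := Nat.exists_prime_and_dvd hm1
    obtain ⟨l, hl, hcl, ι, j, σ, hσ⟩ := exists_intermediate p R hap.ne_zero ha hR
    let G₂ := (ProjGenLinGroup.map (n := Fin 2) ι).range
    have hle : M₁ ≤ G₂ := by
      rw [← heq]
      rintro _ ⟨x, rfl⟩
      obtain ⟨y, rfl⟩ := (pglEquiv σ).surjective x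
      refine ⟨ProjGenLinGroup.map j y, ?_⟩
      rw [← MonoidHom.comp_apply, ← ProjGenLinGroup.map_comp, hσ, ProjGenLinGroup.map_comp]
      rfl
    have hG₂c : Nat.card G₂ = Nat.card (PGL2 (GaloisField p l)) :=
      (Nat.card_congr (MonoidHom.ofInjective (pgl_map_injective ι)).toEquiv).symm
    have hG₂ : G₂ ≠ ⊤ := fun ht => by
      rw [ht, Subgroup.card_top, card_pgl_eq, card_pgl_eq] at hG₂c
      have hlt : Nat.card (GaloisField p l) < Nat.card F := by
        rw [hcl, ← hR]
        refine Nat.pow_lt_pow_right (by omega) (lt_of_le_of_ne (Nat.le_of_dvd (by omega) ha) ?_)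
        rintro rfl
        exact hnp hap
      have h2 : 2 ≤ Nat.card (GaloisField p l) := Finite.one_lt_card
      have : Nat.card (GaloisField p l) *
          ((Nat.card (GaloisField p l) + 1) * (Nat.card (GaloisField p l) - 1)) <
          Nat.card F * ((Nat.card F + 1) * (Nat.card F - 1)) :=
        Nat.mul_lt_mul_of_lt_of_le hlt (Nat.mul_le_mul (by omega) (by omega))
          (Nat.mul_pos (by omega) (by omega))
      omega
    rcases eq_or_lt_of_le hle with e' | e'
    · have h' := hM₁c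
      rw [e', hG₂c, card_pgl_eq, card_pgl_eq] at h'
      have hlt : Nat.card R < Nat.card (GaloisField p l) := by
        rw [hcl]
        exact (pow_one _).symm.trans_lt (Nat.pow_lt_pow_right (by omega) hap.one_lt)
      have : Nat.card R * ((Nat.card R + 1) * (Nat.card R - 1)) <
          Nat.card (GaloisField p l) *
          ((Nat.card (GaloisField p l) + 1) * (Nat.card (GaloisField p l) - 1)) :=
        Nat.mul_lt_mul_of_lt_of_le hlt (Nat.mul_le_mul (by omega) (by omega))
          (Nat.mul_pos (by omega) (by omega))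
      omega
    · exact hG₂ (hM₁co.2 _ e')
  refine ⟨hmp, hmo, ⟨(Subgroup.equivMapOfInjective M _
    (MulAut.conj (ProjGenLinGroup.mk u)).injective).trans ((MulEquiv.subgroupCongr heq.symm).trans
      (MonoidHom.ofInjective (pgl_map_injective R.subtype)).symm)⟩, ?_⟩
  have hS' := isCoatom_stdPSL p R hmp hR h3 (fun _ => hmo)
  rw [← h] at hS'
  have hback := isCoatom_map_mulEquiv (outConj u).symm hS'
  rw [Subgroup.map_map] at hback
  convert hback using 1
  conv_lhs => rw [← Subgroup.map_id N]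
  congr 1
  exact MonoidHom.ext fun x => ((outConj u).symm_apply_apply x).symm

include p in
/-- The maximal subgroups of `PGL_2(q)`, `q` odd, not containing `PSL_2(q)`. -/
theorem pgl_isCoatom_cases (hp2 : p ≠ 2) (h4 : 4 ≤ Nat.card F) {M : Subgroup (PGL2 F)}
    (hM : IsCoatom M) (hML : ¬ (φ).range ≤ M) :
    (Nat.card M = Nat.card F * (Nat.card F - 1) ∧ IsCoatom (M.comap φ)) ∨
    (∃ n, 3 ≤ n ∧ (2 * n = Nat.card F - 1 ∨ 2 * n = Nat.card F + 1) ∧
      Nonempty (M ≃* DihedralGroup (2 * n)) ∧ Nonempty (M.comap φ ≃* DihedralGroup n)) ∨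
    (Nat.card F = p ∧ (p % 8 = 3 ∨ p % 8 = 5) ∧ Nonempty (M ≃* Equiv.Perm (Fin 4)) ∧
      Nonempty (M.comap φ ≃* alternatingGroup (Fin 4))) ∨
    (∃ (R : Subfield F) (m : ℕ), m.Prime ∧ Odd m ∧ Nat.card R ^ m = Nat.card F ∧
      Nonempty (M ≃* PGL2 R) ∧ IsCoatom (M.comap φ)) := by
  obtain ⟨hqodd, hd⟩ := odd_card (F := F) p hp2
  have hI := inter_of_isCoatom (Nat.odd_iff.2 hqodd) h4 hM hML
  rcases psl_dickson_std p (M.comap φ) with ⟨hp, S, hS⟩ | ⟨hpN, hc, -⟩ |
    ⟨n, hn2, hpn, -, -, ⟨e⟩⟩ | ⟨hpN, h⟩ | ⟨hp3, -, h⟩ | ⟨R, m, u, hm, hR, h⟩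
  · obtain ⟨P, hP⟩ := normalizer_sylow_le p S
    exact Or.inl (inter_borel p hM hI hp (hS.trans hP))
  · exact (inter_cyclic p hp2 hM hI hc hpN).elim
  · obtain ⟨hn3, hn, he⟩ := inter_dihedral p hp2 h4 hI hn2 hpn e
    exact Or.inr (Or.inl ⟨n, hn3, hn, he, ⟨e⟩⟩)
  · rcases h with h | h | h
    · obtain ⟨hq, h8, he⟩ := inter_four p hp2 h4 hM hI hpN h.some
      exact Or.inr (Or.inr (Or.inl ⟨hq, h8, he, h⟩))
    · exact (inter_big p hp2 hI (Or.inl ⟨hpN, h⟩)).elim
    · refine (inter_big p hp2 hI (Or.inr ⟨?_, h⟩)).elim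
      rintro rfl
      exact hpN (by rw [(Nat.card_congr h.some.toEquiv).trans card_alt_five]; norm_num)
  · exact (inter_big p hp2 hI (Or.inr ⟨by omega, h⟩)).elim
  · rcases h with h | ⟨-, hme, h⟩
    · obtain ⟨hmp, hmo, he, hN⟩ := inter_psl p hp2 h4 hM hI hm hR h
      exact Or.inr (Or.inr (Or.inr ⟨R, m, hmp, hmo, hR, he, hN⟩))
    · have := charP_subfield p R
      obtain ⟨es⟩ := nonempty_stdPGL_equiv R.subtype (isSquare_of_even_degree p hR hme R.subtype)
      exact (inter_pgl_false p hp2 hI ((Subgroup.equivMapOfInjective _ _ (outConj u).injective).trans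
        ((MulEquiv.subgroupCongr h).trans es))).elim

end Cfsg.Agent.PSL2
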