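import Cfsg.Agent.Lib.PSL2.Elements
import Mathlib.RingTheory.Polynomial.Basic

/-
Tools for short presentations of `SL_2(q)`.

Main results (namespace `Cfsg.Agent.PSL2.Pres`):
* `card_le`: the Bruhat bound `q M (q+1)` from the Borel relations and two Weyl relations
* `commute_all_one`, `commute_all_two`: all translates of `a` commute, from one or two of them
* `exists_add_hom`: the translates generate an image of the additive group of the field
-/

set_option autoImplicit false
set_option linter.unusedSectionVars false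
set_option linter.dupNamespace false

open Polynomial
open scoped Pointwise

namespace Cfsg.Agent.PSL2.Pres

variable {G : Type*} [Group G]

section bruhat

variable {F : Type*} [Field F] [Finite F]

/-- Bruhat bound. -/
theorem card_le (a b w : G) (u : F → G) (t : F) (ht : t ≠ 0)
    (hu : ∀ r s, u (r + s) = u r * u s) (hu1 : u 1 = a) (hb : ∀ r, b * u r * b⁻¹ = u (t * r))
    (hwb : w * b * w⁻¹ = b⁻¹) {M : ℕ} (hM : 0 < M) (hbM : b ^ M = 1) (k : ℤ) (hw2 : w * w = b ^ k)
    (hrep : ∀ r : F, r ≠ 0 → ∃ (i : ℕ) (r₀ x : F) (j : ℤ) (y : F),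
      r = t ^ i * r₀ ∧ w * u r₀ * w⁻¹ = u x * b ^ j * w * u y)
    (hgen : Subgroup.closure ({a, b, w} : Set G) = ⊤) :
    Finite G ∧ Nat.card G ≤ Nat.card F * M * (Nat.card F + 1) := by
  classical
  have : Fintype F := Fintype.ofFinite F
  have hu0 : u 0 = 1 := by
    have h := hu 0 0
    rw [add_zero] at h
    exact left_eq_mul.mp h
  have hbz : ∀ (i : ℤ) (r : F), b ^ i * u r = u (t ^ i * r) * b ^ i := by
    intro i
    induction i with
    | zero => intro r; simp
    | succ n ih =>
      intro r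
      rw [zpow_add_one, mul_assoc, show b * u r = u (t * r) * b by rw [← hb]; group,
        ← mul_assoc, ih, zpow_add_one₀ ht, mul_assoc (t ^ (n : ℤ)), mul_assoc]
    | pred n ih =>
      intro r
      rw [zpow_sub_one, mul_assoc, show b⁻¹ * u r = u (t⁻¹ * r) * b⁻¹ by
          have h := hb (t⁻¹ * r)
          rw [← mul_assoc t, mul_inv_cancel₀ ht, one_mul] at h
          rw [← h]; group,
        ← mul_assoc, ih, zpow_sub_one₀ ht, mul_assoc (t ^ (-(n : ℤ))), mul_assoc]
  have hwz : ∀ i : ℤ, w * b ^ i = b ^ (-i) * w := by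
    intro i
    rw [zpow_neg, ← inv_zpow, ← hwb, conj_zpow, inv_mul_cancel_right]
  -- the normal forms
  let X : Set G := {g | ∃ (x : F) (i : ℤ), g = u x * b ^ i} ∪
    {g | ∃ (x : F) (i : ℤ) (y : F), g = u x * b ^ i * w * u y}
  have hbX : ∀ (i : ℤ), ∀ g ∈ X, b ^ i * g ∈ X := by
    intro i
    rintro _ (⟨x, j, rfl⟩ | ⟨x, j, y, rfl⟩)
    · exact Or.inl ⟨_, _, by rw [← mul_assoc, hbz, mul_assoc, ← zpow_add]⟩
    · refine Or.inr ⟨t ^ i * x, i + j, y, ?_⟩
      simp only [← mul_assoc]
      rw [hbz, mul_assoc (u _) (b ^ i) (b ^ j), ← zpow_add]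
  have huX : ∀ (r : F), ∀ g ∈ X, u r * g ∈ X := by
    intro r
    rintro _ (⟨x, j, rfl⟩ | ⟨x, j, y, rfl⟩)
    · exact Or.inl ⟨_, _, by rw [← mul_assoc, ← hu]⟩
    · exact Or.inr ⟨r + x, j, y, by rw [hu]; simp only [mul_assoc]⟩
  have hwu : ∀ r : F, r ≠ 0 → ∃ (x : F) (j : ℤ) (y : F), w * u r * w⁻¹ = u x * b ^ j * w * u y := by
    intro r hr
    obtain ⟨i, r₀, x, j, y, rfl, h⟩ := hrep r hr
    refine ⟨t ^ (-(i : ℤ)) * x, -(i : ℤ) + j + -(i : ℤ), t ^ (-(i : ℤ)) * y, ?_⟩
    have h1 : u (t ^ i * r₀) = b ^ (i : ℤ) * u r₀ * b ^ (-(i : ℤ)) := by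
      rw [hbz, mul_assoc, ← zpow_add, add_neg_cancel, zpow_zero, mul_one, zpow_natCast]
    have h2 : b ^ (-(i : ℤ)) * w⁻¹ = w⁻¹ * b ^ (i : ℤ) := by
      rw [eq_inv_mul_iff_mul_eq, ← mul_assoc, hwz, neg_neg, mul_inv_cancel_right]
    calc w * u (t ^ i * r₀) * w⁻¹
        = w * b ^ (i : ℤ) * u r₀ * (b ^ (-(i : ℤ)) * w⁻¹) := by rw [h1]; group
      _ = b ^ (-(i : ℤ)) * (w * u r₀ * w⁻¹) * b ^ (i : ℤ) := by rw [h2, hwz]; group
      _ = b ^ (-(i : ℤ)) * (u x * b ^ j * w * u y) * b ^ (i : ℤ) := by rw [h]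
      _ = b ^ (-(i : ℤ)) * u x * b ^ j * w * (u y * b ^ (i : ℤ)) := by group
      _ = u (t ^ (-(i : ℤ)) * x) * b ^ (-(i : ℤ)) * b ^ j * w * (b ^ (i : ℤ) * u (t ^ (-(i : ℤ)) * y)) := by
          rw [hbz, hbz, ← mul_assoc (t ^ (i : ℤ)), ← zpow_add₀ ht, add_neg_cancel, zpow_zero,
            one_mul]
      _ = u (t ^ (-(i : ℤ)) * x) * b ^ (-(i : ℤ)) * b ^ j * (w * b ^ (i : ℤ)) * u (t ^ (-(i : ℤ)) * y) := by
          group
      _ = u (t ^ (-(i : ℤ)) * x) * (b ^ (-(i : ℤ)) * b ^ j * b ^ (-(i : ℤ))) * w * u (t ^ (-(i : ℤ)) * y) := by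
          rw [hwz]; group
      _ = _ := by
          rw [← zpow_add, ← zpow_add]
  have hwX : ∀ g ∈ X, w * g ∈ X := by
    rintro _ (⟨x, i, rfl⟩ | ⟨x, i, y, rfl⟩)
    · refine Or.inr ⟨0, -i, t ^ (-i) * x, ?_⟩
      rw [hu0, one_mul, ← hwz, mul_assoc w (b ^ i), hbz, ← mul_assoc (t ^ i), ← zpow_add₀ ht,
        add_neg_cancel, zpow_zero, one_mul]
    · by_cases hx : x = 0
      · refine Or.inl ⟨t ^ (-i + k) * y, -i + k, ?_⟩
        rw [hx, hu0, one_mul, ← hbz, ← mul_assoc, ← mul_assoc, hwz, mul_assoc _ w w, hw2, ← zpow_add]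
      · obtain ⟨x', j, y', h⟩ := hwu x hx
        refine Or.inr ⟨x', j - (-i + k), t ^ (-(-i + k)) * y' + y, ?_⟩
        have h' : w * u x = u x' * b ^ j * w * u y' * w := by rw [← h, inv_mul_cancel_right]
        calc w * (u x * b ^ i * w * u y)
            = u x' * b ^ j * w * u y' * (w * b ^ i) * w * u y := by
              simp only [← mul_assoc]; rw [h']
          _ = u x' * b ^ j * w * u y' * (b ^ (-i) * (w * w)) * u y := by rw [hwz]; group
          _ = u x' * b ^ j * w * (u y' * b ^ (-i + k)) * u y := by rw [hw2, ← zpow_add]; group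
          _ = u x' * b ^ j * w * (b ^ (-i + k) * u (t ^ (-(-i + k)) * y')) * u y := by
              rw [hbz, ← mul_assoc (t ^ _), ← zpow_add₀ ht, add_neg_cancel, zpow_zero, one_mul]
          _ = u x' * b ^ j * (w * b ^ (-i + k)) * (u (t ^ (-(-i + k)) * y') * u y) := by group
          _ = u x' * (b ^ j * b ^ (-(-i + k))) * w * u (t ^ (-(-i + k)) * y' + y) := by
              rw [hwz, hu]; group
          _ = _ := by rw [← zpow_add, ← sub_eq_add_neg]
  have hXall : ∀ g : G, g ∈ X := by
    intro g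
    have hg : g ∈ Subgroup.closure ({a, b, w} : Set G) := hgen ▸ Subgroup.mem_top g
    induction hg using Subgroup.closure_induction_left with
    | one => exact Or.inl ⟨0, 0, by rw [hu0]; simp⟩
    | mul_left x hx y _ hy =>
      rcases hx with rfl | rfl | rfl
      · rw [← hu1]; exact huX 1 y hy
      · simpa using hbX 1 y hy
      · exact hwX y hy
    | inv_mul_cancel x hx y _ hy =>
      rcases hx with rfl | rfl | rfl
      · have e : (u 1)⁻¹ = u (-1) := inv_eq_of_mul_eq_one_right (by rw [← hu, add_neg_cancel, hu0])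
        rw [← hu1, e]
        exact huX _ y hy
      · simpa using hbX (-1) y hy
      · have e : x⁻¹ = b ^ (-k) * x := by
          refine inv_eq_of_mul_eq_one_left ?_
          rw [mul_assoc, hw2, ← zpow_add, neg_add_cancel, zpow_zero]
        rw [e, mul_assoc]
        exact hbX _ _ (hwX y hy)
  -- counting
  have hmod : ∀ i : ℤ, ∃ i' : Fin M, b ^ i = b ^ (i' : ℕ) := by
    intro i
    refine ⟨⟨(i % (M : ℤ)).toNat, ?_⟩, ?_⟩
    · have := Int.emod_lt_of_pos i (show (0 : ℤ) < M by omega)
      have := Int.emod_nonneg i (show (M : ℤ) ≠ 0 by omega)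
      omega
    · rw [← zpow_natCast]
      simp only
      rw [Int.toNat_of_nonneg (Int.emod_nonneg i (by omega))]
      conv_lhs => rw [← Int.emod_add_mul_ediv i M]
      rw [zpow_add, zpow_mul, zpow_natCast, hbM, one_zpow, mul_one]
  let f : F × Fin M × Option F → G := fun z =>
    u z.1 * b ^ (z.2.1 : ℕ) * z.2.2.elim 1 (fun y => w * u y)
  have hf : Function.Surjective f := by
    intro g
    rcases hXall g with ⟨x, i, rfl⟩ | ⟨x, i, y, rfl⟩
    · obtain ⟨i', hi⟩ := hmod i
      exact ⟨(x, i', none), by simp [f, hi]⟩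
    · obtain ⟨i', hi⟩ := hmod i
      exact ⟨(x, i', some y), by simp [f, hi, mul_assoc]⟩
  refine ⟨Finite.of_surjective f hf, (Nat.card_le_card_of_surjective f hf).trans_eq ?_⟩
  rw [Nat.card_prod, Nat.card_prod, Nat.card_fin, Finite.card_option, mul_assoc]

end bruhat

section commutation

variable (a b : G)

/-- The translates of `a`. -/
def cj (i : ℤ) : G := b ^ i * a * (b ^ i)⁻¹

theorem cj_zero : cj a b 0 = a := by simp [cj]

theorem cj_add (i j : ℤ) : cj a b (i + j) = MulAut.conj (b ^ i) (cj a b j) := by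
  simp only [cj, MulAut.conj_apply, zpow_add]
  group

theorem commute_shift {i j d : ℤ} (h : Commute (cj a b 0) (cj a b d)) (e : j = i + d) :
    Commute (cj a b i) (cj a b j) := by
  have := h.map (MulAut.conj (b ^ i))
  rwa [← cj_add, ← cj_add, add_zero, ← e] at this

theorem commute_all_of_nat (h : ∀ n : ℕ, Commute (cj a b 0) (cj a b n)) (i j : ℤ) :
    Commute (cj a b i) (cj a b j) := by
  rcases le_total i j with hij | hij
  · exact commute_shift a b (h (j - i).toNat) (by omega)
  · exact (commute_shift a b (h (i - j).toNat) (by omega)).symm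

/-- One commuting translate and `a_m = a a₁`. -/
theorem commute_all_one (h1 : Commute (cj a b 0) (cj a b 1)) (m : ℤ)
    (hm : cj a b m = cj a b 0 * cj a b 1) (i j : ℤ) : Commute (cj a b i) (cj a b j) := by
  refine commute_all_of_nat a b (fun n => ?_) i j
  induction n using Nat.strong_induction_on with
  | _ n ih =>
    rcases n with _ | _ | n
    · exact Commute.refl _
    · exact h1
    have hd : ∀ d : ℕ, d ≤ n + 1 → ∀ p q : ℤ, q = p + d → Commute (cj a b p) (cj a b q) :=
      fun d hd p q e => commute_shift a b (ih d (by omega)) e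
    set n' : ℤ := ((n + 1 : ℕ) : ℤ)
    have hY : cj a b (n' + m) = cj a b n' * cj a b (n' + 1) := by
      rw [cj_add, hm, map_mul, ← cj_add, ← cj_add, add_zero]
    have hXY : Commute (cj a b m) (cj a b (n' + m)) := hd (n + 1) le_rfl _ _ (by omega)
    rw [hY, hm] at hXY
    have c1 : Commute (cj a b 0) (cj a b n') := hd (n + 1) le_rfl _ _ (by omega)
    have c2 : Commute (cj a b 1) (cj a b n') := hd n (by omega) _ _ (by omega)
    have c3 : Commute (cj a b 1) (cj a b (n' + 1)) := hd (n + 1) le_rfl _ _ (by omega)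
    have h4 : Commute (cj a b 0 * cj a b 1) (cj a b (n' + 1)) := by
      have := ((c1.mul_left c2).inv_right).mul_right hXY
      rwa [inv_mul_cancel_left] at this
    have h5 := h4.mul_left c3.inv_left
    rw [mul_inv_cancel_right] at h5
    rwa [show ((n + 1 + 1 : ℕ) : ℤ) = n' + 1 by omega]

/-- Two commuting translates and `a_m = a a₁⁻² a₂`. -/
theorem commute_all_two (h1 : Commute (cj a b 0) (cj a b 1)) (h2 : Commute (cj a b 0) (cj a b 2))
    (m : ℤ) (hm : cj a b m = cj a b 0 * (cj a b 1 * cj a b 1)⁻¹ * cj a b 2) (i j : ℤ) :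
    Commute (cj a b i) (cj a b j) := by
  refine commute_all_of_nat a b (fun n => ?_) i j
  induction n using Nat.strong_induction_on with
  | _ n ih =>
    rcases n with _ | _ | _ | n
    · exact Commute.refl _
    · exact h1
    · exact h2
    have hd : ∀ d : ℕ, d ≤ n + 2 → ∀ p q : ℤ, q = p + d → Commute (cj a b p) (cj a b q) :=
      fun d hd p q e => commute_shift a b (ih d (by omega)) e
    set n' : ℤ := ((n + 1 : ℕ) : ℤ)
    have hY : cj a b (n' + m) =
        cj a b n' * (cj a b (n' + 1) * cj a b (n' + 1))⁻¹ * cj a b (n' + 2) := by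
      rw [cj_add, hm, map_mul, map_mul, map_inv, map_mul, ← cj_add, ← cj_add, ← cj_add, add_zero]
    have hXY : Commute (cj a b m) (cj a b (n' + m)) := hd (n + 1) (by omega) _ _ (by omega)
    rw [hY, hm] at hXY
    have x0 : Commute (cj a b 0) (cj a b n') := hd (n + 1) (by omega) _ _ (by omega)
    have x1 : Commute (cj a b 1) (cj a b n') := hd n (by omega) _ _ (by omega)
    have x2 : Commute (cj a b 2) (cj a b n') := by
      rcases n with _ | n
      · exact (hd 1 (by omega) _ _ (by omega)).symm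
      · exact hd n (by omega) _ _ (by omega)
    have y0 : Commute (cj a b 0) (cj a b (n' + 1)) := hd (n + 2) le_rfl _ _ (by omega)
    have y1 : Commute (cj a b 1) (cj a b (n' + 1)) := hd (n + 1) (by omega) _ _ (by omega)
    have y2 : Commute (cj a b 2) (cj a b (n' + 1)) := hd n (by omega) _ _ (by omega)
    have z1 : Commute (cj a b 1) (cj a b (n' + 2)) := hd (n + 2) le_rfl _ _ (by omega)
    have z2 : Commute (cj a b 2) (cj a b (n' + 2)) := hd (n + 1) (by omega) _ _ (by omega)
    have hXA := (x0.mul_left (x1.mul_left x1).inv_left).mul_left x2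
    have hXB := (y0.mul_left (y1.mul_left y1).inv_left).mul_left y2
    have hXC : Commute (cj a b 0 * (cj a b 1 * cj a b 1)⁻¹ * cj a b 2) (cj a b (n' + 2)) := by
      have := ((hXA.mul_right (hXB.mul_right hXB).inv_right).inv_right).mul_right hXY
      rwa [inv_mul_cancel_left] at this
    have h5 := (hXC.mul_left z2.inv_left).mul_left (z1.mul_left z1)
    rw [mul_inv_cancel_right, inv_mul_cancel_right] at h5
    rwa [show ((n + 1 + 1 + 1 : ℕ) : ℤ) = n' + 2 by omega]

/-- The word of a polynomial. -/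
noncomputable def word (P : ℤ[X]) : G :=
  ((List.range (P.natDegree + 1)).map fun i : ℕ => cj a b i ^ P.coeff i).prod

theorem map_word {H : Type*} [Group H] (φ : G →* H) (P : ℤ[X]) :
    φ (word a b P) = word (φ a) (φ b) P := by
  rw [word, word, map_list_prod, List.map_map]
  congr 1
  refine List.map_congr_left fun i _ => ?_
  simp [cj]

end commutation

/-- The translates generate an image of the polynomial ring, as a module. -/
theorem exists_eval_hom (a b : G) (hc : ∀ i j : ℤ, Commute (cj a b i) (cj a b j)) :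
    ∃ E : ℤ[X] → G, (∀ P Q, E (P + Q) = E P * E Q) ∧ (∀ P, b * E P * b⁻¹ = E (X * P)) ∧
      E 1 = a ∧ (∀ P, word a b P = E P) ∧ (∀ P Q, Commute (E P) (E Q)) ∧
      (∀ P R, E P = 1 → E (R * P) = 1) ∧ (∀ P, E P ∈ Subgroup.closure (Set.range (cj a b))) := by
  classical
  set U := Subgroup.closure (Set.range (cj a b)) with hU
  letI : CommGroup U := Subgroup.closureCommGroupOfComm (by
    rintro _ ⟨i, rfl⟩ _ ⟨j, rfl⟩
    exact hc i j)
  have hbU : ∀ x ∈ U, b * x * b⁻¹ ∈ U := by
    intro x hx
    induction hx using Subgroup.closure_induction with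
    | mem x hx =>
      obtain ⟨i, rfl⟩ := hx
      refine Subgroup.subset_closure ⟨1 + i, ?_⟩
      rw [cj_add, zpow_one]; rfl
    | one => simp
    | mul x y _ _ hx hy => rw [← conj_mul]; exact mul_mem hx hy
    | inv x _ hx => rw [← conj_inv]; exact inv_mem hx
  let e : AddMonoid.End (Additive U) :=
    { toFun := fun x => Additive.ofMul ⟨b * ((Additive.toMul x : U) : G) * b⁻¹, hbU _ (Additive.toMul x).2⟩
      map_zero' := by
        refine Additive.toMul.injective (Subtype.ext ?_)
        simp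
      map_add' := fun x y => by
        refine Additive.toMul.injective (Subtype.ext ?_)
        simp [conj_mul] }
  let a₀ : Additive U := Additive.ofMul ⟨a, Subgroup.subset_closure ⟨0, cj_zero a b⟩⟩
  let E : ℤ[X] → G := fun P => (Additive.toMul (aeval e P a₀) : U)
  have hadd : ∀ P Q, E (P + Q) = E P * E Q := fun P Q => by
    simp only [E, map_add]
    rfl
  have hX : ∀ P, b * E P * b⁻¹ = E (X * P) := fun P => by
    simp only [E, map_mul, aeval_X]
    rfl
  have hpow : ∀ i : ℕ, E (X ^ i) = cj a b i := by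
    intro i
    induction i with
    | zero => rw [pow_zero, Nat.cast_zero, cj_zero]; simp [E, a₀]
    | succ i ih =>
      rw [pow_succ', ← hX, ih, show ((i + 1 : ℕ) : ℤ) = 1 + (i : ℤ) by omega, cj_add, zpow_one]
      rfl
  have hzero : E 0 = 1 := by simp [E]
  have hz : ∀ (z : ℤ) P, E (z • P) = E P ^ z := fun z P => by
    simp only [E, map_zsmul]
    rfl
  refine ⟨E, hadd, hX, ?_, fun P => ?_, fun P Q => ?_, fun P R h => ?_, fun P => (Additive.toMul (aeval e P a₀)).2⟩
  · simp [E, a₀]
  · conv_rhs => rw [P.as_sum_range_C_mul_X_pow]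
    rw [word]
    induction P.natDegree + 1 with
    | zero => rw [Finset.range_zero, Finset.sum_empty, hzero]; rfl
    | succ n ih =>
      rw [List.range_succ, List.map_append, List.prod_append, List.map_singleton,
        List.prod_singleton, Finset.sum_range_succ, hadd, ih, ← smul_eq_C_mul, hz, hpow]
  · exact congrArg Subtype.val (mul_comm (Additive.toMul (aeval e P a₀)) (Additive.toMul (aeval e Q a₀)))
  · have h0 : aeval e P a₀ = 0 := Additive.toMul.injective (Subtype.ext h)
    simp only [E, map_mul]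
    rw [show (aeval e R * aeval e P) a₀ = aeval e R (aeval e P a₀) from rfl, h0, map_zero]
    rfl

/-- The translates generate an image of the additive group of the field. -/
theorem exists_add_hom {F : Type*} [Field F] {p : ℕ} [Fact p.Prime] [CharP F p] {t : F}
    (E : ℤ[X] → G) (hadd : ∀ P Q, E (P + Q) = E P * E Q)
    (hker : ∀ P R, E P = 1 → E (R * P) = 1) (hp : E (C (p : ℤ)) = 1) {f : ℤ[X]}
    (hf : f.map (Int.castRingHom (ZMod p)) = @minpoly (ZMod p) F _ _ (ZMod.algebra F p) t)
    (hEf : E f = 1) (hsurj : Function.Surjective fun P : ℤ[X] => aeval t P) :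
    ∃ u : F → G, (∀ P, u (aeval t P) = E P) ∧ ∀ r s, u (r + s) = u r * u s := by
  let : Algebra (ZMod p) F := ZMod.algebra F p
  have hkey : ∀ P : ℤ[X], aeval t P = 0 → E P = 1 := by
    intro P hP
    have hP' : aeval t (P.map (Int.castRingHom (ZMod p))) = 0 := by
      rw [← algebraMap_int_eq, aeval_map_algebraMap]
      exact hP
    obtain ⟨Qb, hQb⟩ := minpoly.dvd (ZMod p) t hP'
    obtain ⟨Q, rfl⟩ := Polynomial.map_surjective (Int.castRingHom (ZMod p))
      (ZMod.intCast_surjective) Qb
    have hdvd : C (p : ℤ) ∣ P - Q * f := by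
      rw [C_dvd_iff_dvd_coeff]
      intro i
      rw [← ZMod.intCast_zmod_eq_zero_iff_dvd]
      have := congrArg (fun S => coeff S i) (show (P - Q * f).map (Int.castRingHom (ZMod p)) = 0 by
        rw [Polynomial.map_sub, Polynomial.map_mul, hQb, hf, mul_comm, sub_self])
      rw [← eq_intCast (Int.castRingHom (ZMod p)), ← coeff_map]
      simpa only [coeff_zero] using this
    obtain ⟨R, hR⟩ := hdvd
    rw [show P = Q * f + R * C (p : ℤ) by rw [mul_comm R, ← hR]; ring, hadd, hker _ _ hEf, one_mul,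
      hker _ _ hp]
  choose s hs using hsurj
  have hs' : ∀ r, aeval t (s r) = r := hs
  have hu : ∀ P, E (s (aeval t P)) = E P := by
    intro P
    have h := hkey (s (aeval t P) - P) (by rw [map_sub, hs', sub_self])
    have h' := hadd (s (aeval t P) - P) P
    rwa [sub_add_cancel, h, one_mul] at h'
  refine ⟨fun r => E (s r), hu, fun r r' => ?_⟩
  show E (s (r + r')) = _
  rw [← hadd, ← hu (s r + s r'), map_add, hs', hs']

end Cfsg.Agent.PSL2.Pres
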