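/-
When does every `p`-element of `SL₂(q)` lie in at least two Sylow subgroups?

For odd `p`, and in characteristic two, two Sylow subgroups sharing a nontrivial element
coincide.  For `p = 2` and odd `q` everything depends on whether a torus is a `2`-group.

Main results (namespace `Cfsg.Agent.PSL2`):
* `sl_redundant_iff`  : `SL₂(q)` has a redundant Sylow `p`-subgroup iff `p = 2`, `q ≠ 2^k, 2^k ± 1`
* `psl_redundant_iff` : the same for `PSL₂(q)`
-/
import Cfsg.Agent.Lib.PSL2.Torus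
import Cfsg.Agent.EqLemmas

set_option autoImplicit false
set_option linter.unusedSectionVars false

open Matrix Subgroup
open scoped Pointwise

namespace Cfsg.Agent.PSL2.Redundant

section Mapping

variable {p : ℕ} [Fact p.Prime] {G H : Type*} [Group G] [Finite G] [Group H] {f : G →* H}

theorem mem_of_map_eq (hf : f.ker ≤ center G) (P : Sylow p G) {y z : G}
    (hy : ∃ k : ℕ, y ^ p ^ k = 1) (hz : z ∈ P) (h : f y = f z) : y ∈ P := by
  have hc : z⁻¹ * y ∈ center G := hf (by rw [MonoidHom.mem_ker, map_mul, map_inv, h, inv_mul_cancel])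
  have hn : Subgroup.zpowers y ≤ normalizer ((P : Subgroup G) : Set G) := by
    rw [zpowers_le, show y = z * (z⁻¹ * y) by group]
    exact mul_mem (le_normalizer hz) (center_le_normalizer _ hc)
  have hp : IsPGroup p (Subgroup.zpowers y) := by
    obtain ⟨k, hk⟩ := hy
    obtain ⟨j, -, hj⟩ := (Nat.dvd_prime_pow Fact.out).mp (orderOf_dvd_of_pow_eq_one hk)
    exact IsPGroup.of_card (n := j) (by rw [Nat.card_zpowers, hj])
  have := P.3 (hp.to_sup_of_normal_right' P.2 hn) le_sup_right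
  show y ∈ (P : Subgroup G)
  rw [← this]
  exact mem_sup_left (mem_zpowers y)

theorem map_injective (hfs : Function.Surjective f) (hf : f.ker ≤ center G) :
    Function.Injective (Sylow.mapSurjective hfs : Sylow p G → Sylow p H) := by
  intro P Q h
  refine Sylow.ext (Q.3 P.2 fun q hq => ?_)
  have hm : f q ∈ (Q.mapSurjective hfs : Subgroup H) := by simpa using ⟨q, hq, rfl⟩
  rw [← h, Sylow.coe_mapSurjective] at hm
  obtain ⟨z, hz, hzq⟩ := hm
  obtain ⟨k, hk⟩ := Q.2 ⟨q, hq⟩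
  exact mem_of_map_eq hf P ⟨k, congrArg Subtype.val hk⟩ hz hzq.symm

/-- Every Sylow subgroup has an element of its own. -/
theorem map_exclusive (hfs : Function.Surjective f) (hf : f.ker ≤ center G)
    (h : ∀ Q : Sylow p G, ∃ x ∈ Q, ∀ P : Sylow p G, x ∈ P → P = Q) (Q : Sylow p H) :
    ∃ x ∈ Q, ∀ P : Sylow p H, x ∈ P → P = Q := by
  obtain ⟨Q₀, rfl⟩ := Sylow.mapSurjective_surjective hfs p Q
  obtain ⟨x, hx, hu⟩ := h Q₀
  refine ⟨f x, ⟨x, hx, rfl⟩, fun P hP => ?_⟩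
  obtain ⟨P₀, rfl⟩ := Sylow.mapSurjective_surjective hfs p P
  obtain ⟨z, hz, hzx⟩ := hP
  obtain ⟨k, hk⟩ := Q₀.2 ⟨x, hx⟩
  rw [hu P₀ (mem_of_map_eq hf P₀ ⟨k, congrArg Subtype.val hk⟩ hz hzx.symm)]

/-- Every `p`-element lies in two Sylow subgroups. -/
theorem map_shared (hfs : Function.Surjective f) (hf : f.ker ≤ center G)
    (h : ∀ x : G, (∃ k : ℕ, x ^ p ^ k = 1) → ∃ P P' : Sylow p G, P ≠ P' ∧ x ∈ P ∧ x ∈ P')
    (x : H) (hx : ∃ k : ℕ, x ^ p ^ k = 1) : ∃ P P' : Sylow p H, P ≠ P' ∧ x ∈ P ∧ x ∈ P' := by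
  have : Finite H := Finite.of_surjective f hfs
  obtain ⟨k, hk⟩ := hx
  obtain ⟨j, -, hj⟩ := (Nat.dvd_prime_pow Fact.out).mp (orderOf_dvd_of_pow_eq_one hk)
  obtain ⟨S, hS⟩ := (IsPGroup.of_card (p := p) (n := j) (G := Subgroup.zpowers x)
    (by rw [Nat.card_zpowers, hj])).exists_le_sylow
  obtain ⟨S₀, rfl⟩ := Sylow.mapSurjective_surjective hfs p S
  obtain ⟨y, hy, rfl⟩ := hS (mem_zpowers x)
  obtain ⟨i, hi⟩ := S₀.2 ⟨y, hy⟩
  obtain ⟨P, P', hne, hP, hP'⟩ := h y ⟨i, congrArg Subtype.val hi⟩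
  exact ⟨P.mapSurjective hfs, P'.mapSurjective hfs, fun e => hne (map_injective hfs hf e),
    ⟨y, hP, rfl⟩, ⟨y, hP', rfl⟩⟩

end Mapping

variable {F : Type*} [Field F]

theorem eq_or_inv_of_commute {g z : SL2 F} (h2 : (2 : F) ≠ 0) (h4 : tr g ^ 2 ≠ 4) (hz : Commute z g)
    (ht : tr z = tr g) : z = g ∨ z = g⁻¹ := by
  obtain ⟨a, b, hab⟩ := exists_lin_of_commute (not_mem_center_of_tr_sq h4) (congrArg Subtype.val hz.eq)
  have hdet : a ^ 2 + tr g * a * b + b ^ 2 = 1 := by rw [← det_lin, ← hab]; exact z.2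
  have htr : tr z = 2 * a + b * tr g := by
    simp [tr, hab, lin]
    ring
  rw [ht] at htr
  have h0 : (tr g ^ 2 - 4) * (1 - b * b) = 0 := by
    linear_combination (4 : F) * hdet + (-tr g * (b - 1) + 2 * a + 2 * tr g * b - (0 : F)) * htr
  have hb : b * b = 1 := (sub_eq_zero.mp ((mul_eq_zero.mp h0).resolve_left (sub_ne_zero.mpr h4))).symm
  rcases mul_self_eq_one_iff.mp hb with rfl | rfl
  · obtain rfl : a = 0 := (mul_eq_zero.mp (show (2 : F) * a = 0 by linear_combination -htr)).resolve_left h2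
    exact Or.inl (Subtype.ext (by simp [hab, lin]))
  · obtain rfl : a = tr g := mul_left_cancel₀ h2 (by linear_combination -htr)
    refine Or.inr (eq_inv_of_mul_eq_one_left (Subtype.ext ?_))
    rw [Matrix.SpecialLinearGroup.coe_mul, hab, lin, add_mul, smul_mul_assoc, smul_mul_assoc, one_mul,
      coe_sq, Matrix.SpecialLinearGroup.coe_one]
    module

variable [Finite F]

/-- If nontrivial `p`-elements are noncentral, distinct Sylow subgroups meet trivially. -/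
theorem exclusive_of_noncentral {p : ℕ} [Fact p.Prime]
    (hns : ∀ x : SL2 F, (∃ k : ℕ, x ^ p ^ k = 1) → x ≠ 1 → x ∉ center (SL2 F)) (Q : Sylow p (SL2 F)) :
    ∃ x ∈ Q, ∀ P : Sylow p (SL2 F), x ∈ P → P = Q := by
  by_cases hQ : (Q : Subgroup (SL2 F)) = ⊥
  · refine ⟨1, Q.one_mem, fun P _ => Sylow.ext ?_⟩
    rw [hQ, ← Subgroup.card_eq_one, P.card_eq_multiplicity, ← Q.card_eq_multiplicity,
      Subgroup.card_eq_one, hQ]
  · obtain ⟨x, hx, hx1⟩ : ∃ x ∈ (Q : Subgroup (SL2 F)), x ≠ 1 := by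
      by_contra hcon
      push Not at hcon
      exact hQ ((Subgroup.eq_bot_iff_forall _).mpr hcon)
    have hsub : ∀ (R : Sylow p (SL2 F)) {y : SL2 F}, y ∈ R → y ≠ 1 → y ∉ center (SL2 F) :=
      fun R y hy => hns y (by obtain ⟨k, hk⟩ := R.2 ⟨y, hy⟩; exact ⟨k, congrArg Subtype.val hk⟩)
    have hab : ∀ R : Sylow p (SL2 F), x ∈ R → ∀ y ∈ R, Commute y x := by
      intro R hxR y hy
      have : Nontrivial (R : Subgroup (SL2 F)) := (nontrivial_iff_ne_bot _).mpr fun e =>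
        hx1 (mem_bot.mp (e ▸ hxR))
      have := R.2.center_nontrivial
      obtain ⟨⟨z, hz⟩, hz1⟩ := exists_ne (1 : center (R : Subgroup (SL2 F)))
      have hzc : ∀ u ∈ R, Commute u (z : SL2 F) := fun u hu =>
        congrArg Subtype.val (mem_center_iff.mp hz ⟨u, hu⟩)
      exact commute_of_commute (hsub R z.2 fun e => hz1 (Subtype.ext (Subtype.ext e))) (hzc y hy) (hzc x hxR)
    refine ⟨x, hx, fun P hP => ?_⟩
    have hn : (Q : Subgroup (SL2 F)) ≤ normalizer ((P : Subgroup (SL2 F)) : Set (SL2 F)) := by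
      intro y hy
      rw [mem_normalizer_iff]
      intro u
      have key : ∀ u ∈ P, y * u * y⁻¹ = u := fun u hu => by
        rw [(commute_of_commute (hsub Q hx hx1) (hab Q hx y hy) (hab P hP u hu)).eq, mul_inv_cancel_right]
      refine ⟨fun hu => (key u hu).symm ▸ hu, fun hu => ?_⟩
      have h1 := key _ hu
      rw [mul_left_inj, mul_right_inj] at h1
      rwa [h1] at hu
    have hsup := P.3 (Q.2.to_sup_of_normal_right' P.2 hn) le_sup_right
    exact Sylow.ext (Q.3 P.2 (le_sup_left.trans hsup.le))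

variable {p : ℕ}

/-- A torus of order not a power of two gives two Sylow `2`-subgroups through an inverted element. -/
theorem shared_of_torus {T y x : SL2 F} (hy : y ^ 4 = 1) (hT : y * T * y⁻¹ = T⁻¹)
    (hN : ¬ ∃ k : ℕ, orderOf T = 2 ^ k) (hxT : Commute T x) (hx : ∃ k : ℕ, x ^ 2 ^ k = 1)
    (hyx : y * x * y⁻¹ = x⁻¹) :
    ∃ P P' : Sylow 2 (SL2 F), P ≠ P' ∧ x ∈ P ∧ x ∈ P' := by
  have : Fact (Nat.Prime 2) := ⟨Nat.prime_two⟩
  have hpg : ∀ g : SL2 F, (∃ k : ℕ, g ^ 2 ^ k = 1) → IsPGroup 2 (Subgroup.zpowers g) := by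
    rintro g ⟨k, hk⟩
    obtain ⟨j, -, hj⟩ := (Nat.dvd_prime_pow Nat.prime_two).mp (orderOf_dvd_of_pow_eq_one hk)
    exact IsPGroup.of_card (n := j) (by rw [Nat.card_zpowers, hj])
  have hn : Subgroup.zpowers y ≤ normalizer (Subgroup.zpowers x : Set (SL2 F)) := by
    rw [zpowers_le, Subgroup.mem_normalizer_iff_map_conj_eq]
    show (Subgroup.zpowers x).map (MulAut.conj y).toMonoidHom = Subgroup.zpowers x
    rw [MonoidHom.map_zpowers]
    show Subgroup.zpowers (y * x * y⁻¹) = Subgroup.zpowers x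
    rw [hyx, zpowers_inv]
  obtain ⟨S, hS⟩ := ((hpg y ⟨2, hy⟩).to_sup_of_normal_right' (hpg x hx) hn).exists_le_sylow
  obtain ⟨a, m, hm, hNm⟩ := Nat.exists_eq_two_pow_mul_odd (orderOf_pos T).ne'
  set t := T ^ 2 ^ a with ht
  have htm : t ^ m = 1 := by rw [ht, ← pow_mul, ← hNm, pow_orderOf_eq_one]
  have ht1 : t ≠ 1 := fun e => hN (by
    obtain ⟨j, -, hj⟩ := (Nat.dvd_prime_pow Nat.prime_two).mp (orderOf_dvd_of_pow_eq_one e)
    exact ⟨j, hj⟩)
  have hxt : t * x * t⁻¹ = x := by rw [(hxT.pow_left _).eq, mul_inv_cancel_right]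
  refine ⟨S, MulAut.conj t • S, fun e => ?_, hS (mem_sup_right (mem_zpowers x)), ?_⟩
  · have hmem : t * y⁻¹ * t⁻¹ ∈ S := by
      have h : t * y⁻¹ * t⁻¹ ∈ MulAut.conj t • (S : Subgroup (SL2 F)) :=
        Subgroup.smul_mem_pointwise_smul _ _ _ (inv_mem (hS (mem_sup_left (mem_zpowers y))))
      rwa [← Sylow.pointwise_smul_def, ← e] at h
    have hc : y * (t * y⁻¹ * t⁻¹) ∈ S := mul_mem (hS (mem_sup_left (mem_zpowers y))) hmem
    have hyt : y * t * y⁻¹ = t⁻¹ := by rw [ht, ← conj_pow, hT, inv_pow]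
    rw [show y * (t * y⁻¹ * t⁻¹) = (y * t * y⁻¹) * t⁻¹ by group, hyt] at hc
    obtain ⟨j, hj⟩ := S.2 ⟨_, hc⟩
    have hj' : (t⁻¹ * t⁻¹) ^ 2 ^ j = 1 := congrArg Subtype.val hj
    rw [← pow_two, ← pow_mul, inv_pow, inv_eq_one, ← pow_succ'] at hj'
    have h1 := Nat.dvd_gcd (orderOf_dvd_of_pow_eq_one hj') (orderOf_dvd_of_pow_eq_one htm)
    rw [Nat.Coprime.gcd_eq_one ((Nat.coprime_two_left.mpr hm).pow_left _), Nat.dvd_one,
      orderOf_eq_one_iff] at h1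
    exact ht1 h1
  · have h : t * x * t⁻¹ ∈ MulAut.conj t • (S : Subgroup (SL2 F)) :=
      Subgroup.smul_mem_pointwise_smul _ _ _ (hS (mem_sup_right (mem_zpowers x)))
    rwa [hxt] at h

theorem pow_four_eq_one_of_tr_zero {w : SL2 F} (h : tr w = 0) : w ^ 4 = 1 := by
  rw [show 4 = 2 * 2 from rfl, pow_mul, pow_two w, sq_eq_neg_one_of_tr_zero h, neg_one_sq]

theorem shared_odd (hodd : Odd (Nat.card F)) (h1 : ¬ ∃ k : ℕ, Nat.card F + 1 = 2 ^ k)
    (h2 : ¬ ∃ k : ℕ, Nat.card F = 2 ^ k + 1) (x : SL2 F) (hx : ∃ k : ℕ, x ^ 2 ^ k = 1) :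
    ∃ P P' : Sylow 2 (SL2 F), P ≠ P' ∧ x ∈ P ∧ x ∈ P' := by
  have hq : 5 ≤ Nat.card F := by
    have hlt : 1 < Nat.card F := Finite.one_lt_card
    obtain ⟨r, hr⟩ := hodd
    by_contra hlt5
    exact h1 ⟨2, by omega⟩
  obtain ⟨q', hp'⟩ := CharP.exists F
  have : Fact q'.Prime := ⟨CharP.char_is_prime F q'⟩
  have hnot : ∀ N, N = Nat.card F - 1 ∨ N = Nat.card F + 1 → ¬ ∃ k : ℕ, N = 2 ^ k := by
    rintro N (rfl | rfl) ⟨k, hk⟩
    · exact h2 ⟨k, by omega⟩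
    · exact h1 ⟨k, hk⟩
  have hmain : ∀ (T : SL2 F) (N : ℕ), orderOf T = N → (N = Nat.card F - 1 ∨ N = Nat.card F + 1) →
      ∀ z, (∃ k : ℕ, z ^ 2 ^ k = 1) → (z ∈ center (SL2 F) ∨ z ∈ Subgroup.zpowers T) →
      ∃ P P' : Sylow 2 (SL2 F), P ≠ P' ∧ z ∈ P ∧ z ∈ P' := by
    intro T N hT hN z hz hzT
    have h4 := tr_sq_ne_four_of_torus q' hT hN (by omega)
    obtain ⟨w, hw, hwT⟩ := exists_inverting_elt h4
    have hinv := conj_eq_inv_of_tr_zero hw hwT
    refine shared_of_torus (pow_four_eq_one_of_tr_zero hw) hinv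
      (fun ⟨k, hk⟩ => hnot N hN ⟨k, hT ▸ hk⟩) ?_ hz ?_
    · rcases hzT with h | ⟨i, rfl⟩
      · exact mem_center_iff.mp h T
      · exact (Commute.refl T).zpow_right i
    · rcases hzT with h | ⟨i, rfl⟩
      · have hc := mem_center_iff.mp h w
        rw [hc, mul_inv_cancel_right]
        rcases mem_center_iff'.mp h with rfl | rfl <;> simp
      · show w * T ^ i * w⁻¹ = (T ^ i)⁻¹
        rw [← conj_zpow, hinv, _root_.inv_zpow]
  obtain ⟨Tm, hTm⟩ := GLOrder.exists_orderOf_SL_two (F := F) (Or.inl (dvd_refl (Nat.card F - 1)))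
  by_cases hxc : x ∈ center (SL2 F)
  · exact hmain Tm _ hTm (Or.inl rfl) x hx (Or.inl hxc)
  have hcop : Nat.Coprime (orderOf x) q' := by
    obtain ⟨k, hk⟩ := hx
    refine Nat.Coprime.coprime_dvd_left (orderOf_dvd_of_pow_eq_one hk) (Nat.Coprime.pow_left _ ?_)
    rw [Nat.coprime_two_left]
    refine (Fact.out : q'.Prime).eq_two_or_odd'.resolve_left ?_
    rintro rfl
    exact two_ne_zero_of_dvd (F := F) (by obtain ⟨r, hr⟩ := hodd; exact ⟨r, by omega⟩) (CharP.cast_eq_zero F 2)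
  have h4 : tr x ^ 2 ≠ 4 := fun h => hxc (by
    have h2p : x ^ (q' * 2) = 1 := by
      rw [pow_mul]
      rcases pow_char_of_tr_sq q' h with e | e <;> simp [e]
    have := orderOf_dvd_iff_pow_eq_one.mp (hcop.dvd_of_dvd_mul_left (orderOf_dvd_of_pow_eq_one h2p))
    refine mem_center_of_mul_self (two_ne_zero_of_dvd ?_) (by rw [← pow_two, this])
    obtain ⟨r, hr⟩ := hodd
    exact ⟨r, by omega⟩)
  obtain ⟨T, hT, hTx⟩ : ∃ T : SL2 F, (orderOf T = Nat.card F - 1 ∨ orderOf T = Nat.card F + 1) ∧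
      x ^ orderOf T = 1 := by
    rcases orderOf_dvd_of_coprime q' hcop with h | h
    · exact ⟨Tm, Or.inl hTm, orderOf_dvd_iff_pow_eq_one.mp (hTm ▸ h)⟩
    · obtain ⟨Tp, hTp⟩ := GLOrder.exists_orderOf_SL_two (F := F) (Or.inr (dvd_refl (Nat.card F + 1)))
      exact ⟨Tp, Or.inr hTp, orderOf_dvd_iff_pow_eq_one.mp (hTp ▸ h)⟩
  obtain ⟨k, j, rfl⟩ := exists_conj_pow rfl hT hTx h4
  obtain ⟨i, hi⟩ := hx
  rw [conj_pow, conj_eq_one_iff] at hi
  obtain ⟨P, P', hne, hP, hP'⟩ := hmain T _ rfl hT (T ^ j) ⟨i, hi⟩ (Or.inr (pow_mem (mem_zpowers T) j))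
  exact ⟨MulAut.conj k • P, MulAut.conj k • P', fun e => hne (MulAction.injective _ e),
    Subgroup.smul_mem_pointwise_smul _ _ _ hP, Subgroup.smul_mem_pointwise_smul _ _ _ hP'⟩

theorem exclusive_odd (hodd : Odd (Nat.card F)) {N k : ℕ} (hN : N = Nat.card F - 1 ∨ N = Nat.card F + 1)
    (hk : N = 2 ^ k) (hk2 : 2 ≤ k) (Q : Sylow 2 (SL2 F)) :
    ∃ x ∈ Q, ∀ P : Sylow 2 (SL2 F), x ∈ P → P = Q := by
  have : Fact (Nat.Prime 2) := ⟨Nat.prime_two⟩
  obtain ⟨q', hp'⟩ := CharP.exists F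
  have : Fact q'.Prime := ⟨CharP.char_is_prime F q'⟩
  have h4dvd : 4 ∣ N := hk ▸ pow_dvd_pow 2 hk2
  have hlt : 1 < Nat.card F := Finite.one_lt_card
  obtain ⟨r, hr⟩ := hodd
  have h2 : (2 : F) ≠ 0 := two_ne_zero_of_dvd ⟨r, by omega⟩
  obtain ⟨T, hT⟩ := GLOrder.exists_orderOf_SL_two (F := F) (d := N)
    (by rcases hN with h | h <;> simp [h])
  have hT4 := tr_sq_ne_four_of_torus q' hT hN (by omega)
  -- the Sylow order
  have hcard : ∀ P : Sylow 2 (SL2 F), Nat.card P = 2 * N := by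
    intro P
    obtain ⟨c, hc, hodd'⟩ : ∃ c, Nat.card (SL2 F) = 2 ^ (k + 1) * c ∧ Odd c := by
      obtain ⟨s, hs⟩ := h4dvd
      rw [pow_succ, ← hk]
      rcases hN with h | h
      · refine ⟨Nat.card F * (2 * s + 1), ?_, (Nat.odd_iff.mpr (by omega : Nat.card F % 2 = 1)).mul ⟨s, rfl⟩⟩
        rw [GLOrder.card_SL_two', ← h, show Nat.card F + 1 = 2 * (2 * s + 1) by omega]
        ring
      · refine ⟨Nat.card F * (2 * s - 1), ?_, (Nat.odd_iff.mpr (by omega : Nat.card F % 2 = 1)).mul ⟨s - 1, by omega⟩⟩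
        rw [GLOrder.card_SL_two', ← h, show Nat.card F - 1 = 2 * (2 * s - 1) by omega]
        ring
    rw [P.card_eq_multiplicity, hc, Nat.factorization_mul (by positivity) (by rcases hodd' with ⟨u, rfl⟩; omega),
      Finsupp.add_apply, Nat.prime_two.factorization_pow, Finsupp.single_eq_same,
      Nat.factorization_eq_zero_of_not_dvd (Nat.two_dvd_ne_zero.mpr (Nat.odd_iff.mp hodd')), add_zero,
      pow_succ', hk]
  set M := normalizer (Subgroup.zpowers T : Set (SL2 F))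
  have hM : IsPGroup 2 M := by
    rintro ⟨g, hg⟩
    refine ⟨k + 1, Subtype.ext ?_⟩
    show g ^ 2 ^ (k + 1) = 1
    have hgT := (mem_normalizer_iff.mp hg T).mp (mem_zpowers T)
    have hcomm : Commute (g * T * g⁻¹) T := by
      obtain ⟨i, hi⟩ := hgT
      exact hi ▸ (Commute.refl T).zpow_left i
    have h2T : g * (g * T * g⁻¹) * g⁻¹ = T := by
      rcases eq_or_inv_of_commute h2 hT4 hcomm (tr_conj T g) with e | e
      · rw [e, e]
      · rw [e, ← conj_inv, e, inv_inv]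
    have hgg : Commute (g * g) T := by
      rw [Commute, SemiconjBy, ← mul_inv_eq_iff_eq_mul, _root_.mul_inv_rev, show g * g * T * (g⁻¹ * g⁻¹) =
        g * (g * T * g⁻¹) * g⁻¹ by group, h2T]
    obtain ⟨i, hi⟩ := mem_zpowers_of_commute_sl hT hN hT4 hgg
    rw [pow_succ', pow_mul, pow_two, ← hi, ← hk, ← hT]
    show (T ^ i) ^ orderOf T = 1
    rw [← zpow_natCast, ← _root_.zpow_mul, mul_comm, _root_.zpow_mul, zpow_natCast, pow_orderOf_eq_one, _root_.one_zpow]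
  have huniq : ∀ P : Sylow 2 (SL2 F), T ∈ P → M = P := by
    intro P hP
    have hle : Subgroup.zpowers T ≤ P := zpowers_le.mpr hP
    have hidx : ((Subgroup.zpowers T).subgroupOf P).index = 2 := by
      have h := ((Subgroup.zpowers T).subgroupOf P).index_mul_card
      rw [Nat.card_congr (Subgroup.subgroupOfEquivOfLe hle).toEquiv, Nat.card_zpowers, hT, hcard P] at h
      exact Nat.eq_of_mul_eq_mul_right (by omega) h
    have := Subgroup.normal_of_index_eq_two hidx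
    exact P.3 hM (Subgroup.le_normalizer_of_normal_subgroupOf hle)
  obtain ⟨P₀, hP₀⟩ := (IsPGroup.of_card (p := 2) (n := k) (G := Subgroup.zpowers T)
    (by rw [Nat.card_zpowers, hT, hk])).exists_le_sylow
  obtain ⟨g, rfl⟩ := MulAction.exists_smul_eq (SL2 F) P₀ Q
  refine ⟨g * T * g⁻¹, Subgroup.smul_mem_pointwise_smul _ _ _ (hP₀ (mem_zpowers T)), fun P hP => ?_⟩
  have hTP : T ∈ (g⁻¹ • P : Sylow 2 (SL2 F)) := by
    have h : g⁻¹ * (g * T * g⁻¹) * g⁻¹⁻¹ ∈ MulAut.conj g⁻¹ • (P : Subgroup (SL2 F)) :=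
      Subgroup.smul_mem_pointwise_smul _ _ _ hP
    rwa [show g⁻¹ * (g * T * g⁻¹) * g⁻¹⁻¹ = T by group] at h
  rw [← inv_smul_eq_iff]
  exact Sylow.ext ((huniq _ hTP).symm.trans (huniq _ (hP₀ (mem_zpowers T))))

theorem exclusive (p : ℕ) [Fact p.Prime]
    (h : ¬ (p = 2 ∧ (¬ ∃ k : ℕ, Nat.card F + 1 = 2 ^ k) ∧ (¬ ∃ k : ℕ, Nat.card F = 2 ^ k) ∧
      ¬ ∃ k : ℕ, Nat.card F = 2 ^ k + 1)) (Q : Sylow p (SL2 F)) :
    ∃ x ∈ Q, ∀ P : Sylow p (SL2 F), x ∈ P → P = Q := by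
  by_cases hp : p = 2
  · subst hp
    have hlt : 1 < Nat.card F := Finite.one_lt_card
    rcases gcdTwo_eq (F := F) with ⟨-, hneg⟩ | ⟨hd, -⟩
    · refine exclusive_of_noncentral (fun x _ hx1 hxc => hx1 ?_) Q
      rcases mem_center_iff'.mp hxc with rfl | rfl
      exacts [rfl, hneg]
    · obtain ⟨r, hr⟩ := hd ▸ Nat.gcd_dvd_right 2 (Nat.card F - 1)
      have hodd : Odd (Nat.card F) := ⟨r, by omega⟩
      have key : (∃ k, 2 ≤ k ∧ Nat.card F + 1 = 2 ^ k) ∨ ∃ k, 2 ≤ k ∧ Nat.card F - 1 = 2 ^ k := by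
        simp only [true_and] at h
        by_cases h3 : Nat.card F = 3
        · exact Or.inl ⟨2, le_rfl, by omega⟩
        rw [not_and_or, not_and_or, not_not, not_not, not_not] at h
        rcases h with ⟨k, hk⟩ | ⟨k, hk⟩ | ⟨k, hk⟩
        · left
          refine ⟨k, ?_, hk⟩
          by_contra hlt2
          interval_cases k <;> omega
        · exfalso
          rcases k with _ | k
          · simp at hk; omega
          · rw [pow_succ'] at hk; omega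
        · right
          refine ⟨k, ?_, by omega⟩
          by_contra hlt2
          interval_cases k <;> omega
      rcases key with ⟨k, hk2, hk⟩ | ⟨k, hk2, hk⟩
      · exact exclusive_odd hodd (Or.inr rfl) hk hk2 Q
      · exact exclusive_odd hodd (Or.inl rfl) hk hk2 Q
  · refine exclusive_of_noncentral (fun x hx hx1 hxc => hx1 ?_) Q
    rcases mem_center_iff'.mp hxc with rfl | rfl
    · rfl
    · obtain ⟨k, hk⟩ := hx
      rwa [((Fact.out : p.Prime).odd_of_ne_two hp).pow.neg_one_pow] at hk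

theorem shared {p : ℕ} [Fact p.Prime] (h : p = 2 ∧ (¬ ∃ k : ℕ, Nat.card F + 1 = 2 ^ k) ∧
    (¬ ∃ k : ℕ, Nat.card F = 2 ^ k) ∧ ¬ ∃ k : ℕ, Nat.card F = 2 ^ k + 1) (x : SL2 F)
    (hx : ∃ k : ℕ, x ^ p ^ k = 1) : ∃ P P' : Sylow p (SL2 F), P ≠ P' ∧ x ∈ P ∧ x ∈ P' := by
  obtain ⟨rfl, h1, h0, h2⟩ := h
  refine shared_odd ?_ h1 h2 x hx
  have : Fintype F := Fintype.ofFinite F
  obtain ⟨c, hc⟩ := CharP.exists F
  obtain ⟨e, hprime, he⟩ := FiniteField.card F c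
  rw [← Nat.card_eq_fintype_card] at he
  rw [he]
  exact (hprime.odd_of_ne_two fun e2 => h0 ⟨e, by rw [he, e2]⟩).pow

end Cfsg.Agent.PSL2.Redundant

namespace Cfsg.Agent.PSL2

variable {F : Type*} [Field F] [Finite F] (p : ℕ) [Fact p.Prime]

theorem redundant_iff_aux {G : Type*} [Group G] [Finite G] {C : Prop}
    (hno : ¬ C → ∀ Q : Sylow p G, ∃ x ∈ Q, ∀ P : Sylow p G, x ∈ P → P = Q)
    (hyes : C → ∀ x : G, (∃ k : ℕ, x ^ p ^ k = 1) → ∃ P P' : Sylow p G, P ≠ P' ∧ x ∈ P ∧ x ∈ P') :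
    (∃ Q : Sylow p G, ∀ x : G, (∃ k : ℕ, orderOf x = p ^ k) → ∃ P : Sylow p G, P ≠ Q ∧ x ∈ P) ↔ C := by
  constructor
  · rintro ⟨Q, hQ⟩
    by_contra hC
    obtain ⟨x, hx, hu⟩ := hno hC Q
    obtain ⟨k, hk⟩ := IsPGroup.iff_orderOf.mp Q.2 ⟨x, hx⟩
    obtain ⟨P, hPQ, hxP⟩ := hQ x ⟨k, by rwa [Subgroup.orderOf_mk] at hk⟩
    exact hPQ (hu P hxP)
  · intro hC
    obtain ⟨Q⟩ : Nonempty (Sylow p G) := inferInstance
    refine ⟨Q, fun x ⟨k, hk⟩ => ?_⟩
    obtain ⟨P, P', hne, hP, hP'⟩ := hyes hC x ⟨k, hk ▸ pow_orderOf_eq_one x⟩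
    by_cases h : P = Q
    · exact ⟨P', h ▸ hne.symm, hP'⟩
    · exact ⟨P, h, hP⟩

theorem sl_redundant_iff :
    (∃ Q : Sylow p (SL2 F), ∀ x : SL2 F,
        (∃ k : ℕ, orderOf x = p ^ k) → ∃ P : Sylow p (SL2 F), P ≠ Q ∧ x ∈ P) ↔
      (p = 2 ∧ (¬ ∃ k : ℕ, Nat.card F + 1 = 2 ^ k) ∧ (¬ ∃ k : ℕ, Nat.card F = 2 ^ k) ∧
        ¬ ∃ k : ℕ, Nat.card F = 2 ^ k + 1) :=
  redundant_iff_aux p (fun h => Redundant.exclusive p h) Redundant.shared

theorem psl_redundant_iff :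
    (∃ Q : Sylow p (PSL2 F), ∀ x : PSL2 F,
        (∃ k : ℕ, orderOf x = p ^ k) → ∃ P : Sylow p (PSL2 F), P ≠ Q ∧ x ∈ P) ↔
      (p = 2 ∧ (¬ ∃ k : ℕ, Nat.card F + 1 = 2 ^ k) ∧ (¬ ∃ k : ℕ, Nat.card F = 2 ^ k) ∧
        ¬ ∃ k : ℕ, Nat.card F = 2 ^ k + 1) :=
  redundant_iff_aux p
    (fun h => Redundant.map_exclusive (f := QuotientGroup.mk' (center (SL2 F)))
      (QuotientGroup.mk'_surjective _) (QuotientGroup.ker_mk' _).le (Redundant.exclusive p h))
    (fun h => Redundant.map_shared (f := QuotientGroup.mk' (center (SL2 F)))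
      (QuotientGroup.mk'_surjective _) (QuotientGroup.ker_mk' _).le (Redundant.shared h))

end Cfsg.Agent.PSL2
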