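/-
A group with a normal 3-subgroup and the spectrum of `2 × PSL_2(q)` enlarged by 9, `q = 3^α`.

Main results (namespace `Cfsg.Agent.PSL2.ReeSpec`):
* `theta`, `Big`, `orderOf_dvd_four`, `exists_orders`
-/
import Cfsg.Agent.Lib.PSL2.Elements
import Cfsg.Agent.Lib.PSL2.SolCount
import Mathlib.GroupTheory.SemidirectProduct
import Mathlib.FieldTheory.Finite.GaloisField

set_option autoImplicit false
set_option linter.unusedSectionVars false
set_option linter.dupNamespace false

open Matrix

namespace Cfsg.Agent.PSL2.ReeSpec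

variable (F : Type) [Field F] [CharP F 3] [Fact (Nat.Prime 3)]

/-- The module. -/
abbrev Mod : Type := Multiplicative (Matrix (Fin 2) (Fin 2) F)

/-- The Frobenius twist of a matrix. -/
def tw (A : SL2 F) : SL2 F := SpecialLinearGroup.map (frobenius F 3) A

theorem val_mul (A B : SL2 F) : (A * B).1 = A.1 * B.1 := rfl

theorem val_one : (1 : SL2 F).1 = 1 := rfl

theorem tw_mul (A B : SL2 F) : tw F (A * B) = tw F A * tw F B := map_mul _ A B

theorem tw_one : tw F 1 = 1 := map_one _

theorem transpose_val (A : SL2 F) : (SpecialLinearGroup.transpose A).1 = A.1ᵀ := rfl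

/-- The tensor product action of `SL_2`. -/
def rho : SL2 F →* MulAut (Mod F) where
  toFun A :=
    { toFun := fun X => Multiplicative.ofAdd (A.1 * X.toAdd * ((tw F A).1)ᵀ)
      invFun := fun X => Multiplicative.ofAdd ((A⁻¹).1 * X.toAdd * ((tw F A⁻¹).1)ᵀ)
      left_inv := fun X => by
        apply Multiplicative.toAdd.injective
        simp only [toAdd_ofAdd]
        rw [show (A⁻¹).1 * (A.1 * X.toAdd * ((tw F A).1)ᵀ) * ((tw F A⁻¹).1)ᵀ =
          ((A⁻¹).1 * A.1) * X.toAdd * (((tw F A).1)ᵀ * ((tw F A⁻¹).1)ᵀ) by simp only [mul_assoc],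
          ← Matrix.transpose_mul, ← val_mul, ← val_mul, ← tw_mul]
        simp only [inv_mul_cancel, tw_one, val_one, Matrix.transpose_one, one_mul, mul_one]
      right_inv := fun X => by
        apply Multiplicative.toAdd.injective
        simp only [toAdd_ofAdd]
        rw [show A.1 * ((A⁻¹).1 * X.toAdd * ((tw F A⁻¹).1)ᵀ) * ((tw F A).1)ᵀ =
          (A.1 * (A⁻¹).1) * X.toAdd * (((tw F A⁻¹).1)ᵀ * ((tw F A).1)ᵀ) by simp only [mul_assoc],
          ← Matrix.transpose_mul, ← val_mul, ← val_mul, ← tw_mul]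
        simp only [inv_mul_cancel, mul_inv_cancel, tw_one, val_one, Matrix.transpose_one, one_mul, mul_one]
      map_mul' := fun X Y => by
        apply Multiplicative.toAdd.injective
        simp only [toAdd_ofAdd, toAdd_mul, mul_add, add_mul] }
  map_one' := MulEquiv.ext fun X => by
    apply Multiplicative.toAdd.injective
    show (1 : SL2 F).1 * X.toAdd * ((tw F 1).1)ᵀ = X.toAdd
    rw [tw_one, val_one, Matrix.transpose_one, one_mul, mul_one]
  map_mul' A B := MulEquiv.ext fun X => by
    apply Multiplicative.toAdd.injective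
    show (A * B).1 * X.toAdd * ((tw F (A * B)).1)ᵀ =
      A.1 * (B.1 * X.toAdd * ((tw F B).1)ᵀ) * ((tw F A).1)ᵀ
    rw [tw_mul, val_mul, val_mul, Matrix.transpose_mul]
    simp only [mul_assoc]

theorem rho_center : Subgroup.center (SL2 F) ≤ (rho F).ker := by
  intro A hA
  rcases mem_center_iff'.1 hA with rfl | rfl
  · exact one_mem _
  · rw [MonoidHom.mem_ker]
    refine MulEquiv.ext fun X => ?_
    apply Multiplicative.toAdd.injective
    show (-1 : SL2 F).1 * X.toAdd * ((tw F (-1)).1)ᵀ = X.toAdd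
    have : (tw F (-1)).1 = -1 := by
      ext i j
      fin_cases i <;> fin_cases j <;>
        simp [tw, SpecialLinearGroup.map_apply_coe]
    rw [this]
    simp

/-- The action of `PSL_2`. -/
def rhoBar : PSL2 F →* MulAut (Mod F) := QuotientGroup.lift _ (rho F) (rho_center F)

theorem rhoBar_mk (A : SL2 F) (X : Matrix (Fin 2) (Fin 2) F) :
    rhoBar F (QuotientGroup.mk A) (Multiplicative.ofAdd X) =
      Multiplicative.ofAdd (A.1 * X * ((tw F A).1)ᵀ) := rfl

/-- The action of the signs. -/
def sgn : ℤˣ →* MulAut (Mod F) where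
  toFun e :=
    { toFun := fun X => X ^ ((e : ℤ))
      invFun := fun X => X ^ ((e : ℤ))
      left_inv := fun X => by
        show (X ^ (e : ℤ)) ^ (e : ℤ) = X
        rw [← _root_.zpow_mul, Int.units_coe_mul_self, zpow_one]
      right_inv := fun X => by
        show (X ^ (e : ℤ)) ^ (e : ℤ) = X
        rw [← _root_.zpow_mul, Int.units_coe_mul_self, zpow_one]
      map_mul' := fun X Y => mul_zpow X Y _ }
  map_one' := MulEquiv.ext fun X => zpow_one X
  map_mul' a b := MulEquiv.ext fun X => by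
    show X ^ ((a * b : ℤˣ) : ℤ) = (X ^ (b : ℤ)) ^ (a : ℤ)
    rw [← _root_.zpow_mul, Units.val_mul, mul_comm]

/-- The acting group `2 × PSL_2`. -/
abbrev Act : Type := ℤˣ × PSL2 F

/-- The action. -/
def theta : Act F →* MulAut (Mod F) :=
  (sgn F).noncommCoprod (rhoBar F) fun e x => MulEquiv.ext fun X => (map_zpow (rhoBar F x) X (e : ℤ)).symm

theorem theta_apply (e : ℤˣ) (x : PSL2 F) (X : Mod F) :
    theta F (e, x) X = (rhoBar F x X) ^ ((e : ℤ)) := rfl

/-- The group. -/
abbrev Big : Type := Mod F ⋊[theta F] Act F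

theorem mod_pow_three (X : Mod F) : X ^ 3 = 1 := by
  apply Multiplicative.toAdd.injective
  rw [toAdd_pow, toAdd_one]
  ext i j
  have h3 : (3 : F) = 0 := by exact_mod_cast CharP.cast_eq_zero F 3
  simp only [Matrix.smul_apply, nsmul_eq_mul, Nat.cast_ofNat, h3, zero_mul, Matrix.zero_apply]

/-- `h^n` for `n` killing the acting part. -/
theorem pow_eq_inl {g : Act F} {n : ℕ} (hn : g ^ n = 1) {h : Big F} (hh : h.right = g) :
    ∃ w : Mod F, h ^ n = SemidirectProduct.inl w ∧ theta F g w = w := by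
  have hr : (h ^ n).right = 1 := by
    show SemidirectProduct.rightHom (h ^ n) = 1
    rw [map_pow]
    show h.right ^ n = 1
    rw [hh, hn]
  have hinl : h ^ n = SemidirectProduct.inl (h ^ n).left := SemidirectProduct.ext rfl hr
  refine ⟨(h ^ n).left, hinl, ?_⟩
  have hc : h * SemidirectProduct.inl (h ^ n).left = SemidirectProduct.inl (h ^ n).left * h := by
    rw [← hinl]; exact (Commute.self_pow h n).eq
  have := congrArg SemidirectProduct.left hc
  simp only [SemidirectProduct.mul_left, SemidirectProduct.left_inl, SemidirectProduct.right_inl,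
    map_one, MulAut.one_apply, hh] at this
  rw [mul_comm (h ^ n).left h.left] at this
  exact mul_left_cancel this

theorem orderOf_dvd_of_fix_free {g : Act F} {n : ℕ} (hn : g ^ n = 1)
    (hfree : ∀ w : Mod F, theta F g w = w → w = 1) {h : Big F} (hh : h.right = g) :
    orderOf h ∣ n := by
  obtain ⟨w, hw, hw'⟩ := pow_eq_inl F hn hh
  refine orderOf_dvd_of_pow_eq_one ?_
  rw [hw, hfree w hw', map_one]

theorem orderOf_dvd_three_mul {g : Act F} {n : ℕ} (hn : g ^ n = 1) {h : Big F} (hh : h.right = g) :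
    orderOf h ∣ n * 3 := by
  obtain ⟨w, hw, -⟩ := pow_eq_inl F hn hh
  refine orderOf_dvd_of_pow_eq_one ?_
  rw [pow_mul, hw, ← map_pow, mod_pow_three, map_one]

theorem units_sq (e : ℤˣ) : e ^ 2 = 1 := by rcases Int.units_eq_one_or e with rfl | rfl <;> rfl

theorem eq_one_of_inv_eq {w : Mod F} (h : w⁻¹ = w) : w = 1 := by
  have h2 : w * w = 1 := by nth_rewrite 1 [← h]; exact inv_mul_cancel w
  have h3 := mod_pow_three F w
  rwa [pow_succ, pow_two, h2, one_mul] at h3

/-- No semisimple element of order above two has a fixed vector. -/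
theorem fix_free_semisimple {A : SL2 F} (h0 : tr A ≠ 0) (h1 : tr A ^ 2 ≠ 1) (hm : tr A ^ 2 ≠ -1)
    (e : ℤˣ) (w : Mod F) (hw : theta F (e, QuotientGroup.mk A) w = w) : w = 1 := by
  set X := w.toAdd
  set B := tw F A with hB
  have hX : (e : ℤ) • (A.1 * X * B.1ᵀ) = X := by
    have h := congrArg Multiplicative.toAdd hw
    rw [theta_apply, toAdd_zpow, show w = Multiplicative.ofAdd X from rfl, rhoBar_mk] at h
    exact h
  obtain ⟨s, hss, hs2, hsm⟩ : ∃ s : F, s * s = 1 ∧ s • (A.1 * X * B.1ᵀ) = X ∧ s * tr A ^ 2 ≠ 1 := by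
    rcases Int.units_eq_one_or e with rfl | rfl
    · exact ⟨1, one_mul 1, by simpa using hX, by rwa [one_mul]⟩
    · exact ⟨-1, by ring, by simpa using hX, fun h => hm (by linear_combination -h)⟩
  have hBt : (SpecialLinearGroup.transpose B⁻¹).1 * B.1ᵀ = 1 := by
    rw [transpose_val, ← Matrix.transpose_mul, ← val_mul, mul_inv_cancel, val_one, Matrix.transpose_one]
  set C := SpecialLinearGroup.transpose B⁻¹ with hC
  have hBC : B.1ᵀ * C.1 = 1 := mul_eq_one_comm.1 hBt
  have hY : X * C.1 = s • (A.1 * X) := by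
    nth_rewrite 1 [← hs2]
    rw [smul_mul_assoc, mul_assoc, hBC, mul_one]
  have htC : tr C = tr A ^ 3 := by
    rw [hC, tr_eq_trace, transpose_val, Matrix.trace_transpose, ← tr_eq_trace,
      tr_inv]
    show tr (SpecialLinearGroup.map (frobenius F 3) A) = _
    simp only [tr, SpecialLinearGroup.map_apply_coe, RingHom.mapMatrix_apply, Matrix.map_apply,
      frobenius_def]
    rw [add_pow_char]
  have h1' : X * C.1 * C.1 = A.1 * A.1 * X := by
    rw [hY, smul_mul_assoc, mul_assoc A.1 X C.1, hY, Matrix.mul_smul, smul_smul, hss, one_smul,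
      ← mul_assoc]
  rw [mul_assoc X, coe_sq C, htC, mul_sub, mul_one, Matrix.mul_smul, hY, smul_smul, coe_sq A,
    sub_mul, one_mul, smul_mul_assoc, sub_left_inj] at h1'
  have hne : tr A ^ 3 * s - tr A ≠ 0 := by
    rw [show tr A ^ 3 * s - tr A = tr A * (s * tr A ^ 2 - 1) by ring]
    exact mul_ne_zero h0 (sub_ne_zero.2 hsm)
  have hAX : A.1 * X = 0 := by
    have h : (tr A ^ 3 * s - tr A) • (A.1 * X) = 0 := by rw [sub_smul, h1', sub_self]
    exact (smul_eq_zero.1 h).resolve_left hne
  have hX0 : X = 0 := by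
    have : (A⁻¹).1 * (A.1 * X) = X := by
      rw [← mul_assoc, ← val_mul, inv_mul_cancel, val_one, one_mul]
    rw [← this, hAX, mul_zero]
  exact Multiplicative.toAdd.injective hX0

variable [Finite F]

/-- Every order divides `6`, `9`, `q - 1` or `(q + 1) / 2`. -/
theorem orderOf_dvd_four (h4 : Nat.card F % 4 = 3) (h : Big F) :
    orderOf h ∣ 6 ∨ orderOf h ∣ 9 ∨ orderOf h ∣ Nat.card F - 1 ∨
      orderOf h ∣ (Nat.card F + 1) / 2 := by
  have h2 : (2 : F) ≠ 0 := by
    intro e
    have h' := (CharP.cast_eq_zero_iff F 3 2).1 (by exact_mod_cast e)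
    omega
  rcases hh : h.right with ⟨e, x⟩
  by_cases hx1 : x = 1
  · subst hx1
    rcases Int.units_eq_one_or e with rfl | rfl
    · right; left
      exact (orderOf_dvd_three_mul F (n := 1) (pow_one _) hh).trans (by norm_num)
    · left
      exact (orderOf_dvd_three_mul F (n := 2) (by simp [Prod.ext_iff]) hh).trans (by norm_num)
  obtain ⟨A, rfl⟩ := QuotientGroup.mk_surjective x
  by_cases ht0 : tr A = 0
  · left
    refine (orderOf_dvd_three_mul F (n := 2) (Prod.ext (units_sq e) ?_) hh).trans (by norm_num)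
    show (QuotientGroup.mk A : PSL2 F) ^ 2 = 1
    rw [pow_two, ← QuotientGroup.mk_mul, mk_one_iff]
    exact Or.inr (sq_eq_neg_one_of_tr_zero ht0)
  by_cases ht1 : tr A ^ 2 = 1
  · have hx3 : (QuotientGroup.mk A : PSL2 F) ^ 3 = 1 := by
      have h4' : tr A ^ 2 = 4 := by
        rw [ht1]
        linear_combination -(by exact_mod_cast CharP.cast_eq_zero F 3 : (3 : F) = 0)
      rw [← QuotientGroup.mk_pow, mk_one_iff]
      exact pow_char_of_tr_sq 3 h4'
    rcases Int.units_eq_one_or e with rfl | rfl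
    · right; left
      exact orderOf_dvd_three_mul F (n := 3) (Prod.ext (one_pow 3) hx3) hh
    · left
      refine orderOf_dvd_of_fix_free F (g := (-1, QuotientGroup.mk A)) (Prod.ext ?_ ?_) ?_ hh
      · rfl
      · show (QuotientGroup.mk A : PSL2 F) ^ 6 = 1
        rw [show 6 = 3 * 2 from rfl, pow_mul, hx3, one_pow]
      · intro w hw
        have hw3 : theta F ((-1, QuotientGroup.mk A) ^ 3) w = w := by
          rw [map_pow, pow_succ, pow_two, MulAut.mul_apply, MulAut.mul_apply, hw, hw, hw]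
        rw [show ((-1 : ℤˣ), (QuotientGroup.mk A : PSL2 F)) ^ 3 = (-1, 1) from Prod.ext rfl hx3,
          theta_apply, map_one, MulAut.one_apply] at hw3
        exact eq_one_of_inv_eq F (by simpa using hw3)
  have htm : tr A ^ 2 ≠ -1 := by
    intro hm
    have hsq : IsSquare (-1 : F) := ⟨tr A, by rw [← hm, pow_two]⟩
    have := Fintype.ofFinite F
    rw [FiniteField.isSquare_neg_one_iff, ← Nat.card_eq_fintype_card] at hsq
    exact hsq h4
  have hfree := fix_free_semisimple F ht0 ht1 htm e
  have hg : Nat.gcd 2 (Nat.card F - 1) = 2 := Nat.gcd_eq_left (by omega)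
  rcases psl_orderOf_cases (p := 3) (QuotientGroup.mk A : PSL2 F) with hd | hd | hd
  · right; right; left
    rw [hg] at hd
    refine orderOf_dvd_of_fix_free F (Prod.ext ?_ ?_) hfree hh
    · show e ^ (Nat.card F - 1) = 1
      obtain ⟨k, hk⟩ : 2 ∣ Nat.card F - 1 := by omega
      rw [hk, pow_mul, units_sq, one_pow]
    · exact orderOf_dvd_iff_pow_eq_one.1 (hd.trans (Nat.div_dvd_of_dvd (by omega)))
  · right; right; right
    rw [hg] at hd
    refine orderOf_dvd_of_fix_free F (Prod.ext ?_ ?_) hfree hh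
    · show e ^ ((Nat.card F + 1) / 2) = 1
      obtain ⟨k, hk⟩ : 2 ∣ (Nat.card F + 1) / 2 := by omega
      rw [hk, pow_mul, units_sq, one_pow]
    · exact orderOf_dvd_iff_pow_eq_one.1 hd
  · exfalso
    have hx3 := orderOf_dvd_iff_pow_eq_one.1 hd
    exact ht1 (tr_sq_eq_one_of_pow_three hx3 hx1)

/-- The four orders occur. -/
theorem exists_orders (h4 : Nat.card F % 4 = 3) :
    (∃ h : Big F, orderOf h = 6) ∧ (∃ h : Big F, orderOf h = 9) ∧
      (∃ h : Big F, orderOf h = Nat.card F - 1) ∧
      (∃ h : Big F, orderOf h = (Nat.card F + 1) / 2) := by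
  have hinr : ∀ g : Act F, orderOf (SemidirectProduct.inr g : Big F) = orderOf g := fun g =>
    orderOf_injective (SemidirectProduct.inr : Act F →* Big F) SemidirectProduct.inr_injective g
  have hg : Nat.gcd 2 (Nat.card F - 1) = 2 := Nat.gcd_eq_left (by omega)
  have hq : 1 < Nat.card F := Finite.one_lt_card
  have hneg : orderOf (-1 : ℤˣ) = 2 := orderOf_eq_prime rfl (by decide)
  let U : SL2 F := ⟨!![1, 1; 0, 1], by simp [Matrix.det_fin_two_of]⟩
  have hU1 : (QuotientGroup.mk U : PSL2 F) ≠ 1 := by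
    intro e
    rcases mk_one_iff.1 e with h | h <;>
      have h' := congrArg (fun M : SL2 F => M.1 0 1) h <;> simp [U] at h'
  have hUtw : tw F U = U := Subtype.ext (Matrix.ext fun i j => by
    show frobenius F 3 (U.1 i j) = U.1 i j
    fin_cases i <;> fin_cases j <;> simp [U])
  have hUt : tr U ^ 2 = 4 := by simp [tr, U]; ring
  have hU3 : (QuotientGroup.mk U : PSL2 F) ^ 3 = 1 := by
    rw [← QuotientGroup.mk_pow, mk_one_iff]; exact pow_char_of_tr_sq 3 hUt
  have hUo : orderOf (QuotientGroup.mk U : PSL2 F) = 3 := orderOf_eq_prime hU3 hU1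
  obtain ⟨a, ha⟩ := exists_psl_orderOf (F := F) 3 (m := (Nat.card F - 1) / 2)
    (Or.inr (Or.inl (by rw [hg])))
  obtain ⟨b, hb⟩ := exists_psl_orderOf (F := F) 3 (m := (Nat.card F + 1) / 2)
    (Or.inr (Or.inr (by rw [hg])))
  refine ⟨⟨SemidirectProduct.inr (-1, QuotientGroup.mk U), ?_⟩, ?_,
    ⟨SemidirectProduct.inr (-1, a), ?_⟩, ⟨SemidirectProduct.inr (1, b), ?_⟩⟩
  · rw [hinr, Prod.orderOf_mk, hneg, hUo]; rfl
  · let E : Mod F := Multiplicative.ofAdd !![0, 0; 0, 1]
    let h : Big F := SemidirectProduct.inl E * SemidirectProduct.inr (1, QuotientGroup.mk U)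
    refine ⟨h, orderOf_eq_prime_pow (p := 3) (n := 1) ?_ ?_⟩
    · intro h1
      have hl := congrArg (fun z : Big F => z.left.toAdd 0 0) h1
      simp only [pow_succ, pow_zero, one_mul, h, SemidirectProduct.mul_left,
        SemidirectProduct.mul_right, SemidirectProduct.left_inl, SemidirectProduct.right_inl,
        SemidirectProduct.left_inr, SemidirectProduct.right_inr, map_one, mul_one,
        SemidirectProduct.one_left, map_mul, MulAut.mul_apply, toAdd_mul, toAdd_one,
        theta_apply, Units.val_one, zpow_one, E, rhoBar_mk, toAdd_ofAdd] at hl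
      rw [hUtw] at hl
      simp [U, Matrix.vecMul, dotProduct, Fin.sum_univ_two, Matrix.vecHead] at hl
      have h3 : (3 : F) = 0 := by exact_mod_cast CharP.cast_eq_zero F 3
      have h2 : (2 : F) = 0 := by linear_combination hl - h3
      have h' := (CharP.cast_eq_zero_iff F 3 2).1 (by exact_mod_cast h2)
      omega
    · obtain ⟨w, hw, -⟩ := pow_eq_inl F (g := (1, QuotientGroup.mk U)) (n := 3)
        (Prod.ext (one_pow 3) hU3) (h := h) (by simp [h])
      rw [show 3 ^ (1 + 1) = 3 * 3 from rfl, pow_mul, hw, ← map_pow, mod_pow_three, map_one]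
  · rw [hinr, Prod.orderOf_mk, hneg, ha, Nat.Coprime.lcm_eq_mul]
    · omega
    · rw [Nat.coprime_two_left, Nat.odd_iff]; omega
  · rw [hinr, Prod.orderOf_mk, orderOf_one, hb, Nat.lcm_one_left]

/-- The kernel is a normal `3`-subgroup. -/
theorem exists_three_core : ∃ P : Subgroup (Big F), P.Normal ∧ P ≠ ⊥ ∧ IsPGroup 3 P := by
  refine ⟨(SemidirectProduct.inl : Mod F →* Big F).range, ?_, ?_, ?_⟩
  · rw [SemidirectProduct.range_inl_eq_ker_rightHom]
    exact MonoidHom.normal_ker _
  · intro h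
    rw [MonoidHom.range_eq_bot_iff] at h
    have h' := congrArg (fun f : Mod F →* Big F =>
      (f (Multiplicative.ofAdd (1 : Matrix (Fin 2) (Fin 2) F))).left.toAdd 0 0) h
    simp at h'
  · rintro ⟨_, X, rfl⟩
    refine ⟨1, Subtype.ext ?_⟩
    show (SemidirectProduct.inl X : Big F) ^ (3 ^ 1) = 1
    rw [pow_one, ← map_pow, mod_pow_three, map_one]

end Cfsg.Agent.PSL2.ReeSpec
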