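import Cfsg.Agent.Lib.PSL2.Transvections

/-!
# An upper root group and a lower transvection

Main results (namespace `Cfsg.Agent.PSL2`):
* `rootGen_eq_top` : `upT A` and `loT 1` generate when `A` generates the field
-/

set_option autoImplicit false
set_option linter.unusedSectionVars false
set_option linter.dupNamespace false

open Matrix MulAction Subgroup
open scoped LinearAlgebra.Projectivization

namespace Cfsg.Agent.PSL2

local notation "φ" => ProjectiveSpecialLinearGroup.toPGL

variable {F : Type*} [Field F] [Finite F] (p : ℕ) [Fact p.Prime] [CharP F p]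

theorem upT_add (a b : F) : upT (a + b) = upT a * upT b := Subtype.ext (by
  rw [Matrix.SpecialLinearGroup.coe_mul]
  ext i j
  fin_cases i <;> fin_cases j <;> simp [upT, Matrix.mul_apply, Fin.sum_univ_two, add_comm])

include p in
/-- A root subgroup generating the field and an opposite transvection generate `PSL₂`. -/
theorem rootGen_eq_top {A : AddSubgroup F} (hgen : Subfield.closure (A : Set F) = ⊤)
    (hne : A ≠ ⊥) (h2 : p = 2 → 2 < Nat.card A)
    (h3 : p = 3 → Nat.card A = 3 → ¬ 5 ∣ Nat.card F * (Nat.card F ^ 2 - 1))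
    {H : Subgroup (PSL2 F)} (ha : (QuotientGroup.mk (loT 1) : PSL2 F) ∈ H)
    (hb : ∀ a ∈ A, (QuotientGroup.mk (upT a) : PSL2 F) ∈ H) : H = ⊤ := by
  classical
  obtain ⟨c, hcA, hc0⟩ : ∃ c ∈ A, c ≠ 0 := by
    by_contra h
    push Not at h
    exact hne ((AddSubgroup.eq_bot_iff_forall A).2 h)
  have hbo := mk_upT_order p hc0
  have hpH : p ∣ Nat.card H := hbo ▸ Subgroup.orderOf_dvd_natCard _ (hb c hcA)
  have hnb : ∀ P : Pt F, ¬ H ≤ stabilizer (PSL2 F) P := by
    intro P hP
    have hPinf : P = pinf := fix_unique p hbo (hP (hb c hcA))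
      (by rw [← toPGL_smul, toPGL_upT, aff_smul_pinf])
    have h := hP ha
    rw [mem_stabilizer_iff, hPinf, ← toPGL_smul, toPGL_loT, mob_smul_pinf_eq_pinf] at h
    exact one_ne_zero h
  -- the root group inside `H`
  let f : Multiplicative A →* H :=
    { toFun := fun a => ⟨QuotientGroup.mk (upT (a.toAdd : F)), hb _ a.toAdd.2⟩
      map_one' := Subtype.ext (by
        show (QuotientGroup.mk (upT (((1 : Multiplicative A).toAdd : A) : F)) : PSL2 F) = 1
        rw [toAdd_one, AddSubgroup.coe_zero]
        exact mk_one_iff.2 (Or.inl (Subtype.ext (by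
          rw [Matrix.SpecialLinearGroup.coe_one]; simp [upT, Matrix.one_fin_two]))))
      map_mul' := fun a b => Subtype.ext (by
        show (QuotientGroup.mk (upT (((a * b).toAdd : A) : F)) : PSL2 F) = _
        rw [toAdd_mul, AddSubgroup.coe_add, upT_add, QuotientGroup.mk_mul]
        rfl) }
  have hf : Function.Injective f := by
    refine (injective_iff_map_eq_one f).2 fun a ha1 => ?_
    have h' : (QuotientGroup.mk (upT (a.toAdd : F)) : PSL2 F) = 1 := congrArg Subtype.val ha1
    by_contra hne1
    have ha0 : (a.toAdd : F) ≠ 0 := fun e => hne1 (Multiplicative.toAdd.injective (Subtype.ext e))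
    have h1 := mk_upT_order p ha0
    rw [h', orderOf_one] at h1
    exact (Fact.out : p.Prime).one_lt.ne h1
  have hAH : Nat.card A ∣ Nat.card H := by
    have := Subgroup.card_dvd_of_injective f hf
    rwa [Nat.card_congr Multiplicative.toAdd] at this
  obtain ⟨j, hj⟩ : ∃ j, Nat.card A = p ^ j := by
    obtain ⟨l, -, hl, -⟩ := q_cases (F := F) p
    obtain ⟨j, -, hj⟩ := (Nat.dvd_prime_pow (Fact.out : p.Prime)).1
      (hl ▸ AddSubgroup.card_addSubgroup_dvd_card A)
    exact ⟨j, hj⟩
  rcases psl_dickson_std p H with ⟨-, S, hS⟩ | ⟨h, -⟩ | ⟨n, -, hn, -, hc, -⟩ | ⟨h, -⟩ |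
    ⟨rfl, hcard, ⟨e⟩⟩ | ⟨R, m, u, hm, hR, h⟩
  · obtain ⟨P, hP⟩ := normalizer_sylow_le p S
    exact absurd (hS.trans hP) (hnb P)
  · exact absurd hpH h
  · exfalso
    rw [hc] at hpH hAH
    rcases (Fact.out : p.Prime).dvd_mul.1 hpH with h | h
    · obtain rfl := (Nat.prime_dvd_prime_iff_eq Fact.out Nat.prime_two).1 h
      have hA := h2 rfl
      rw [hj] at hA hAH
      have h4 : 2 ^ 2 ∣ 2 * n := (pow_dvd_pow 2 (by
        by_contra hlt
        interval_cases j <;> norm_num at hA)).trans hAH
      omega
    · exact hn h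
  · exact absurd hpH h
  · exfalso
    rw [hcard, hj] at hAH
    have hj1 : j = 1 := by
      have hj0 : j ≠ 0 := fun h0 => hne (AddSubgroup.eq_bot_of_card_le A (by rw [hj, h0, pow_zero]))
      by_contra hne1
      have : 3 ^ 2 ∣ 60 := (pow_dvd_pow 3 (by omega)).trans hAH
      norm_num at this
    refine h3 rfl (by rw [hj, hj1, pow_one]) ?_
    have hd := (show 5 ∣ Nat.card H by rw [hcard]; norm_num).trans
      (Subgroup.card_subgroup_dvd_card H)
    rw [show Nat.card F ^ 2 - 1 = (Nat.card F + 1) * (Nat.card F - 1) from by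
      simpa using Nat.sq_sub_sq (Nat.card F) 1, ← card_psl_mul]
    exact dvd_mul_of_dvd_right hd _
  · have hle : H.map (outConj u).toMonoidHom ≤ stdPGL R.subtype := by
      rcases h with h | ⟨-, -, h⟩
      · exact h ▸ stdPSL_le_stdPGL _
      · exact h.le
    have hinR : ∀ a ∈ A, a ∈ R := by
      intro a haA
      have key : ∀ c : F, (QuotientGroup.mk (upT c) : PSL2 F) ∈ H → (2 + c) ^ 2 ∈ R := by
        intro c hc
        have h : (QuotientGroup.mk (AutPSL.semiSL u (RingEquiv.refl F) (loT 1 * upT c)) : PSL2 F) ∈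
            stdPGL R.subtype := by
          rw [← outConj_mk']
          exact hle ⟨_, mul_mem ha hc, rfl⟩
        have h' := tr_sq_mem_of_stdPGL h
        rwa [tr_semiSL, tr_loT_upT] at h'
      have h1 := key a (hb a haA)
      by_cases hp : p = 2
      · subst hp
        have h20 : (2 : F) = 0 := by exact_mod_cast CharP.cast_eq_zero F 2
        haveI : CharP R 2 :=
          (RingHom.charP_iff R.subtype Subtype.val_injective 2).2 inferInstance
        obtain ⟨d, hd⟩ := FiniteField.isSquare_of_char_two (F := R) (ringChar.eq R 2) ⟨_, h1⟩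
        have hd' : (2 + a) ^ 2 = (d : F) * d := congrArg Subtype.val hd
        have : ((d : F) - a) * ((d : F) - a) = 0 := by
          linear_combination -hd' + (2 + 2 * a - (d : F) * a + a * a) * h20
        rw [← sub_eq_zero.1 (mul_self_eq_zero.1 this)]
        exact d.2
      · have h2' := two_ne_zero_of_char (F := F) p hp
        have h2R : (2 : F) ^ 3 ∈ R := pow_mem (by exact_mod_cast natCast_mem R 2) 3
        have h := mul_mem (inv_mem h2R)
          (sub_mem h1 (key (-a) (hb _ (neg_mem haA))))
        rwa [show ((2 : F) ^ 3)⁻¹ * ((2 + a) ^ 2 - (2 + -a) ^ 2) = a by field_simp; ring] at h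
    have hRtop : R = ⊤ := by
      rw [eq_top_iff, ← hgen, Subfield.closure_le]; exact hinR
    have hRc : Nat.card R = Nat.card F := by
      subst hRtop; exact Nat.card_congr (Subfield.topEquiv (K := F)).toEquiv
    rcases h with h | ⟨-, hev, -⟩
    · obtain ⟨es⟩ := nonempty_stdPSL_equiv R.subtype
      exact eq_top_of_psl hRc
        ((Subgroup.equivMapOfInjective H _ (outConj u).injective).trans
          ((MulEquiv.subgroupCongr h).trans es))
    · have hm1 : m = 1 := by
        rw [hRc] at hR
        exact Nat.pow_right_injective Finite.one_lt_card (hR.trans (pow_one _).symm)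
      rw [hm1] at hev
      simp at hev

end Cfsg.Agent.PSL2
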