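import Mathlib
import Cfsg.Agent.EqLemmas

/-!
A group of order 660 acting faithfully and transitively on eleven points is simple
(`isSimpleGroup_660`).
-/

set_option autoImplicit false

open MulAction Subgroup

namespace Cfsg.Agent.PSL2

variable {G X : Type*} [Group G] [Finite G] [MulAction G X] [Finite X] [FaithfulSMul G X]
  [IsPretransitive G X]

omit [Finite G] in
theorem eleven_dvd_of_normal (hX : Nat.card X = 11) (N : Subgroup G) [N.Normal] (hN : N ≠ ⊥) :
    11 ∣ Nat.card N := by
  obtain ⟨⟨n, hn⟩, hn'⟩ := Subgroup.ne_bot_iff_exists_ne_one.1 hN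
  have hn1 : n ≠ 1 := fun h => hn' (Subtype.ext h)
  obtain ⟨a, ha⟩ : ∃ a : X, n • a ≠ a := by
    by_contra hc
    push Not at hc
    exact hn1 (eq_of_smul_eq_smul fun x : X => (hc x).trans (one_smul G x).symm)
  have hB : IsBlock G (orbit N a) := IsBlock.orbit_of_normal a
  have hd := hB.ncard_dvd_card ⟨a, mem_orbit_self a⟩
  rw [hX] at hd
  have h2 : 2 ≤ (orbit N a).ncard :=
    (Set.one_lt_ncard (Set.toFinite _)).2 ⟨a, mem_orbit_self a, n • a, ⟨⟨n, hn⟩, rfl⟩, ha.symm⟩
  rcases (Nat.dvd_prime (by norm_num)).1 hd with h | h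
  · omega
  · have hi := MulAction.index_stabilizer (G := N) (x := a)
    rw [h] at hi
    rw [← hi]
    exact Subgroup.index_dvd_card _

theorem eq_of_dvd_660 {d : ℕ} (h : d ∣ 660) (h' : 132 ∣ d) : d = 132 ∨ d = 660 := by
  have := Nat.le_of_dvd (by norm_num) h
  obtain ⟨c, rfl⟩ := h'
  have hc : c ≤ 5 := by omega
  interval_cases c <;> first | (norm_num at h; done) | norm_num

/-- A group of order 660 acting faithfully and transitively on eleven points is simple. -/
theorem isSimpleGroup_660 (hG : Nat.card G = 660) (hX : Nat.card X = 11) : IsSimpleGroup G := by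
  classical
  have h11 : Fact (Nat.Prime 11) := ⟨by norm_num⟩
  have hfac : ∀ {H : Type _} [Group H] [Finite H] (Q : Sylow 11 H), 11 ∣ Nat.card H →
      ¬ 121 ∣ Nat.card H → Nat.card (Q : Subgroup H) = 11 := by
    intro H _ _ Q h1 h2
    rw [Q.card_eq_multiplicity]
    have : (Nat.card H).factorization 11 = 1 := by
      have hle : 1 ≤ (Nat.card H).factorization 11 :=
        (Nat.Prime.dvd_iff_one_le_factorization (by norm_num) Nat.card_pos.ne').1 h1
      have hlt : ¬ 2 ≤ (Nat.card H).factorization 11 := fun h =>
        h2 ((Nat.Prime.pow_dvd_iff_le_factorization (p := 11) (k := 2) (by norm_num) Nat.card_pos.ne').2 h)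
      omega
    rw [this, pow_one]
  have hPc : ∀ P : Sylow 11 G, Nat.card (P : Subgroup G) = 11 := fun P =>
    hfac P (by rw [hG]; norm_num) (by rw [hG]; norm_num)
  obtain ⟨P⟩ := (inferInstance : Nonempty (Sylow 11 G))
  have hn : Nat.card (Sylow 11 G) = 12 := by
    have hd : Nat.card (Sylow 11 G) ∣ 60 := by
      have h := P.card_dvd_index
      have h' := (P : Subgroup G).index_mul_card
      rw [hPc, hG] at h'
      rwa [show (P : Subgroup G).index = 60 by omega] at h
    have hm := card_sylow_modEq_one 11 G
    unfold Nat.ModEq at hm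
    norm_num at hm
    have hle := Nat.le_of_dvd (by norm_num) hd
    have h0 : 0 < Nat.card (Sylow 11 G) := Nat.card_pos
    rcases (show Nat.card (Sylow 11 G) = 1 ∨ Nat.card (Sylow 11 G) = 12 ∨
      Nat.card (Sylow 11 G) = 23 ∨ Nat.card (Sylow 11 G) = 34 ∨ Nat.card (Sylow 11 G) = 45 ∨
      Nat.card (Sylow 11 G) = 56 by omega) with h | h | h | h | h | h
    · -- a normal subgroup of order eleven is regular, so self-centralising
      exfalso
      have : Subsingleton (Sylow 11 G) := Finite.card_le_one_iff_subsingleton.1 h.le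
      have hnP : (P : Subgroup G).Normal := P.normal_of_subsingleton
      have hne : (P : Subgroup G) ≠ ⊥ := by
        intro e
        have := hPc P
        rw [e, Subgroup.card_bot] at this
        omega
      obtain ⟨a⟩ : Nonempty X := Nat.card_pos_iff.1 (by omega) |>.1
      have horb : ∀ x : X, ∃ k ∈ (P : Subgroup G), k • a = x := by
        have hB : IsBlock G (orbit (P : Subgroup G) a) := IsBlock.orbit_of_normal a
        have hd := hB.ncard_dvd_card ⟨a, mem_orbit_self a⟩
        rw [hX] at hd
        have hne1 : (orbit (P : Subgroup G) a).ncard ≠ 1 := by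
          intro h1
          obtain ⟨b, hb⟩ := Set.ncard_eq_one.1 h1
          refine hne ((Subgroup.eq_bot_iff_forall _).2 fun k hk => eq_of_smul_eq_smul fun x : X => ?_)
          rw [one_smul]
          obtain ⟨g, rfl⟩ := MulAction.exists_smul_eq G a x
          have hk' : g⁻¹ * k * g ∈ (P : Subgroup G) := by simpa using hnP.conj_mem k hk g⁻¹
          have hm0 : a ∈ orbit (P : Subgroup G) a := mem_orbit_self a
          have hm1 : (g⁻¹ * k * g) • a ∈ orbit (P : Subgroup G) a := ⟨⟨_, hk'⟩, rfl⟩
          rw [hb, Set.mem_singleton_iff] at hm0 hm1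
          have hab : a = b := hm0
          have hkb : (g⁻¹ * k * g) • a = b := hm1
          rw [← hab, mul_smul, mul_smul, inv_smul_eq_iff] at hkb
          exact hkb
        have h11' := ((Nat.dvd_prime (by norm_num)).1 hd).resolve_left hne1
        have huniv : orbit (P : Subgroup G) a = Set.univ :=
          Set.eq_of_subset_of_ncard_le (Set.subset_univ _)
            (by rw [h11', Set.ncard_univ, hX]) (Set.toFinite _)
        intro x
        obtain ⟨⟨k, hk⟩, hkx⟩ := (huniv ▸ Set.mem_univ x : x ∈ orbit (P : Subgroup G) a)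
        exact ⟨k, hk, hkx⟩
      -- the centraliser is semiregular
      set C := centralizer ((P : Subgroup G) : Set G) with hC
      have hCle : Nat.card C ≤ 11 := by
        refine hX ▸ Nat.card_le_card_of_injective (fun c : C => (c : G) • a) fun c d h => ?_
        refine Subtype.ext (eq_of_smul_eq_smul fun x : X => ?_)
        obtain ⟨k, hk, rfl⟩ := horb x
        rw [← mul_smul, ← mul_smul, ← mem_centralizer_iff.1 c.2 k hk, ← mem_centralizer_iff.1 d.2 k hk,
          mul_smul, mul_smul]
        exact congrArg (k • ·) h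
      -- and its index is at most the number of automorphisms
      let f := (P : Subgroup G).normalizerMonoidHom
      have hN : normalizer ((P : Subgroup G) : Set G) = ⊤ := Subgroup.normalizer_eq_top_iff.2 hnP
      have hcyc : IsCyclic (P : Subgroup G) := isCyclic_of_prime_card (hPc P)
      have haut : Nat.card (MulAut (P : Subgroup G)) = 10 := by
        rw [IsCyclic.card_mulAut, hPc]
        decide
      have hle' : Nat.card f.range ≤ 10 := haut ▸ Nat.card_le_card_of_injective _ Subtype.coe_injective
      have hk : f.ker = C.subgroupOf _ := Subgroup.normalizerMonoidHom_ker _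
      have hmul := f.ker.card_mul_index
      rw [Subgroup.index_ker, hk, Nat.card_congr (Subgroup.subgroupOfEquivOfLe
        (centralizer_le_normalizer _)).toEquiv] at hmul
      rw [show Nat.card (normalizer ((P : Subgroup G) : Set G)) = 660 by
        rw [hN, Subgroup.card_top, hG]] at hmul
      have h110 := Nat.mul_le_mul hCle hle'
      rw [show C = centralizer ((P : Subgroup G) : Set G) from hC, hmul] at h110
      omega
    · exact h
    all_goals (rw [h] at hd; norm_num at hd)
  have : Nontrivial G := Finite.one_lt_card_iff_nontrivial.1 (by omega)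
  refine ⟨fun N hNn => ?_⟩
  by_cases hN : N = ⊥
  · exact Or.inl hN
  right
  have h11d := eleven_dvd_of_normal hX N hN
  have hNd : Nat.card N ∣ 660 := hG ▸ N.card_subgroup_dvd_card
  have h121 : ¬ 121 ∣ Nat.card N := fun h => by
    have := h.trans hNd
    norm_num at this
  obtain ⟨Q⟩ := (inferInstance : Nonempty (Sylow 11 N))
  have hQc := hfac Q h11d h121
  -- every Sylow subgroup lies in `N`
  have hall : ∀ R : Sylow 11 G, (R : Subgroup G) ≤ N := by
    intro R
    have hQG : IsPGroup 11 ((Q : Subgroup N).map N.subtype) := Q.isPGroup'.map _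
    obtain ⟨S, hS⟩ := hQG.exists_le_sylow
    have hSe : (Q : Subgroup N).map N.subtype = (S : Subgroup G) :=
      Subgroup.eq_of_le_of_card_ge hS (by
        rw [Subgroup.card_map_of_injective N.subtype_injective, hQc, hPc])
    have hSN : (S : Subgroup G) ≤ N := hSe ▸ Subgroup.map_subtype_le _
    obtain ⟨g, rfl⟩ := MulAction.exists_smul_eq G S R
    rw [Sylow.coe_subgroup_smul]
    rintro _ ⟨s, hs, rfl⟩
    exact hNn.conj_mem s (hSN hs) g
  have hn12 : 12 ∣ Nat.card N := by
    have hcard : Nat.card (Sylow 11 N) = 12 := by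
      rw [← hn]
      refine Nat.card_congr (Equiv.ofBijective (fun R : Sylow 11 G => R.subtype (hall R))
        ⟨fun R S h => ?_, fun R => ?_⟩).symm
      · exact Sylow.subtype_injective h
      · have hR : IsPGroup 11 ((R : Subgroup N).map N.subtype) := R.isPGroup'.map _
        obtain ⟨S, hS⟩ := hR.exists_le_sylow
        refine ⟨S, Sylow.ext ?_⟩
        refine R.is_maximal' (S.subtype (hall S)).isPGroup' fun r hr => ?_
        exact hS ⟨r, hr, rfl⟩
    rw [← hcard, Sylow.card_eq_index_normalizer Q]
    exact Subgroup.index_dvd_card _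
  rcases eq_of_dvd_660 hNd (Nat.Coprime.mul_dvd_of_dvd_of_dvd (by norm_num : Nat.Coprime 11 12) h11d hn12)
    with h | h
  swap
  · exact Subgroup.eq_top_of_card_eq N (h.trans hG.symm)
  -- order 132: a normal complement of order twelve
  exfalso
  have hQi : (Q : Subgroup N).index = 12 := by
    have h' := (Q : Subgroup N).index_mul_card
    rw [hQc, h] at h'
    omega
  have hcQ : IsCyclic (Q : Subgroup N) := isCyclic_of_prime_card hQc
  have hQn : Nat.card (Sylow 11 N) = 12 := by
    rw [← hn]
    refine Nat.card_congr (Equiv.ofBijective (fun R : Sylow 11 G => R.subtype (hall R))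
      ⟨fun R S h => ?_, fun R => ?_⟩).symm
    · exact Sylow.subtype_injective h
    · have hR : IsPGroup 11 ((R : Subgroup N).map N.subtype) := R.isPGroup'.map _
      obtain ⟨S, hS⟩ := hR.exists_le_sylow
      refine ⟨S, Sylow.ext ?_⟩
      refine R.is_maximal' (S.subtype (hall S)).isPGroup' fun r hr => ?_
      exact hS ⟨r, hr, rfl⟩
  rw [Sylow.card_eq_index_normalizer Q] at hQn
  have hQeq : (Q : Subgroup N) = normalizer ((Q : Subgroup N) : Set N) := by
    refine Subgroup.eq_of_le_of_card_ge Subgroup.le_normalizer ?_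
    have h' := (normalizer ((Q : Subgroup N) : Set N)).index_mul_card
    rw [show (normalizer ((Q : Subgroup N) : Set N)).index = 12 from hQn, h] at h'
    rw [hQc]
    omega
  have hQab : IsMulCommutative (Q : Subgroup N) := inferInstance
  have hNC : normalizer ((Q : Subgroup N) : Set N) ≤ centralizer ((Q : Subgroup N) : Set N) := by
    rw [← hQeq]
    exact Subgroup.le_centralizer _
  have hK := (MonoidHom.ker_transferSylow_isComplement' Q hNC).index_eq_card
  set K := (MonoidHom.transferSylow Q hNC).ker
  have hKi : K.index = 11 := by rw [← hQc]; exact (MonoidHom.ker_transferSylow_isComplement' Q hNC).symm.index_eq_card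
  have hKc : Nat.card K = 12 := by
    have h' := K.index_mul_card
    rw [hKi, h] at h'
    omega
  have hKn : K.Normal := MonoidHom.normal_ker _
  have hmem : ∀ x : N, x ∈ K ↔ x ^ 12 = 1 := by
    intro x
    constructor
    · intro hx
      have := pow_card_eq_one' (G := K) (x := ⟨x, hx⟩)
      rw [hKc] at this
      exact congrArg Subtype.val this
    · intro hx
      have h1 : orderOf (MonoidHom.transferSylow Q hNC x) ∣ 12 :=
        orderOf_dvd_of_pow_eq_one (by rw [← map_pow, hx, map_one])
      have h2 : orderOf (MonoidHom.transferSylow Q hNC x) ∣ 11 := (_root_.orderOf_dvd_natCard _).trans (dvd_of_eq hQc)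
      have h3 := Nat.dvd_gcd h1 h2
      rw [show Nat.gcd 12 11 = 1 from rfl, Nat.dvd_one, orderOf_eq_one_iff] at h3
      exact h3
  have hKG : (K.map N.subtype).Normal := ⟨fun y hy g => by
    obtain ⟨x, hx, rfl⟩ := hy
    refine ⟨⟨g * x * g⁻¹, hNn.conj_mem x x.2 g⟩, (hmem _).2 (Subtype.ext ?_), rfl⟩
    rw [Subgroup.coe_pow, conj_pow, ← Subgroup.coe_pow, (hmem x).1 hx]
    simp⟩
  have hKb : K.map N.subtype ≠ ⊥ := by
    intro e
    have := Subgroup.card_map_of_injective (K := K) N.subtype_injective
    rw [e, Subgroup.card_bot, hKc] at this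
    omega
  have := eleven_dvd_of_normal hX (K.map N.subtype) hKb
  rw [Subgroup.card_map_of_injective N.subtype_injective, hKc] at this
  norm_num at this

end Cfsg.Agent.PSL2
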