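/-
Sizes of solubilisers in `PSL_2(3^r)`, `r` an odd prime: elements of order two and three.

Main results (namespace `Cfsg.Agent.PSL2`):
* `card_tetra_inv`, `card_tetra_three`
* `card_solSet_involution_three`, `card_solSet_order_three`
-/
import Cfsg.Agent.Lib.PSL2.SolEven

set_option autoImplicit false
set_option linter.unusedSectionVars false
set_option linter.dupNamespace false

open Matrix MulAction Subgroup
open scoped LinearAlgebra.Projectivization

namespace Cfsg.Agent.PSL2

theorem altFour_sol_two : ∀ x y : alternatingGroup (Fin 4), x * x = 1 →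
    x * y = y * x ∨ y * y = 1 ∨ x * y * (x * y) = 1 ∨ (y ^ 3 = 1 ∧ (x * y) ^ 3 = 1) := by
  decide +kernel

theorem altFour_sol_three : ∀ x y : alternatingGroup (Fin 4), x ^ 3 = 1 → x ≠ 1 →
    x * y = y * x ∨ (y ≠ 1 ∧ y * y = 1 ∧ (x * y) ^ 3 = 1) ∨
      (x * y ≠ 1 ∧ x * y * (x * y) = 1 ∧ (x * (x * y)) ^ 3 = 1) ∨
      (x⁻¹ * y ≠ 1 ∧ x⁻¹ * y * (x⁻¹ * y) = 1 ∧ (x * (x⁻¹ * y)) ^ 3 = 1) := by
  decide +kernel

theorem pow_three_mul_comm {G : Type*} [Group G] {a b : G} (h : (a * b) ^ 3 = 1) :
    (b * a) ^ 3 = 1 := by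
  rw [show b * a = b * (a * b) * b⁻¹ by group, conj_pow, h, mul_one, mul_inv_cancel]

theorem card_dihedral_sq_one {n : ℕ} [NeZero n] (hn : Even n) :
    Nat.card {i : DihedralGroup n // i * i = 1} = n + 2 := by
  classical
  obtain ⟨m, hm⟩ := hn
  have hm0 : 0 < m := by
    have := NeZero.pos n
    omega
  have e : {i : DihedralGroup n // i * i = 1} ≃ {i : ZMod n // i + i = 0} ⊕ ZMod n :=
    { toFun := fun g => match g with
        | ⟨.r i, h⟩ => Sum.inl ⟨i, by
            rw [DihedralGroup.r_mul_r, DihedralGroup.one_def] at h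
            exact DihedralGroup.r.inj h⟩
        | ⟨.sr i, _⟩ => Sum.inr i
      invFun := fun s => match s with
        | Sum.inl i => ⟨.r i.1, by rw [DihedralGroup.r_mul_r, i.2, DihedralGroup.one_def]⟩
        | Sum.inr i => ⟨.sr i, by simp⟩
      left_inv := by rintro ⟨i | i, h⟩ <;> rfl
      right_inv := by rintro (i | i) <;> rfl }
  rw [Nat.card_congr e, Nat.card_sum, Nat.card_zmod]
  have hset : {i : ZMod n | i + i = 0} = {0, (m : ZMod n)} := by
    ext i
    simp only [Set.mem_ofPred_eq, Set.mem_insert_iff, Set.mem_singleton_iff]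
    constructor
    · intro h
      have hi := ZMod.val_lt i
      have hd : n ∣ i.val + i.val := by
        rw [← ZMod.natCast_eq_zero_iff, Nat.cast_add, ZMod.natCast_zmod_val, h]
      obtain ⟨c, hc⟩ := hd
      have hc2 : c < 2 := by
        by_contra hc'
        have : n * 2 ≤ n * c := Nat.mul_le_mul_left n (by omega)
        omega
      interval_cases c
      · left
        rw [← ZMod.natCast_zmod_val i, show i.val = 0 by omega, Nat.cast_zero]
      · right
        rw [← ZMod.natCast_zmod_val i, show i.val = m by omega]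
    · rintro (rfl | rfl)
      · exact add_zero 0
      · rw [← Nat.cast_add, ← hm, ZMod.natCast_self]
  rw [show Nat.card {i : ZMod n // i + i = 0} = ({i : ZMod n | i + i = 0}).ncard from
    Nat.card_coe_set_eq _, hset, Set.ncard_pair]
  · omega
  · intro h
    have := congrArg ZMod.val h
    rw [ZMod.val_zero, ZMod.val_natCast, Nat.mod_eq_of_lt (by omega)] at this
    omega

variable {F : Type*} [Field F] [Finite F]

local notation "φ" => (ProjectiveSpecialLinearGroup.toPGL : PSL2 F →* PGL2 F)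

section Three

variable [CharP F 3] [Fact (Nat.Prime 3)]

theorem two_ne_zero_char_three : (2 : F) ≠ 0 := by
  intro h
  have h' := (CharP.cast_eq_zero_iff F 3 2).1 (by exact_mod_cast h)
  omega

theorem odd_card_char_three : Odd (Nat.card F) := two_ne_zero_iff_odd.1 two_ne_zero_char_three

theorem gcd_two_char_three : Nat.gcd 2 (Nat.card F - 1) = 2 :=
  Nat.gcd_eq_left (by have := Nat.odd_iff.1 (odd_card_char_three (F := F)); omega)

/-- Conjugation does not change the number of involutions `z` with `(xz)^3 = 1`. -/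
theorem card_tetra_inv_conj (g x : PSL2 F) :
    Nat.card {z : PSL2 F // orderOf z = 2 ∧ (g * x * g⁻¹ * z) ^ 3 = 1} =
      Nat.card {z : PSL2 F // orderOf z = 2 ∧ (x * z) ^ 3 = 1} := by
  refine (Nat.card_congr (Equiv.subtypeEquiv (MulAut.conj g).toEquiv fun z => ?_)).symm
  show orderOf z = 2 ∧ (x * z) ^ 3 = 1 ↔
    orderOf (MulAut.conj g z) = 2 ∧ (g * x * g⁻¹ * (g * z * g⁻¹)) ^ 3 = 1
  rw [MulEquiv.orderOf_eq, show g * x * g⁻¹ * (g * z * g⁻¹) = g * (x * z) * g⁻¹ by group, conj_pow,
    conj_eq_one_iff]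

/-- For `x` of order three there are `q` involutions `z` with `(xz)^3 = 1`. -/
theorem card_tetra_inv {x : PSL2 F} (hx : orderOf x = 3) :
    Nat.card {z : PSL2 F // orderOf z = 2 ∧ (x * z) ^ 3 = 1} = Nat.card F := by
  obtain ⟨P, hP⟩ := exists_fix_of_pow_char 3 (z := x) (orderOf_dvd_iff_pow_eq_one.1 hx.dvd)
  obtain ⟨s, hs⟩ := MulAction.exists_smul_eq (PSL2 F) P pinf
  rw [← card_tetra_inv_conj s x]
  set x' := s * x * s⁻¹ with hx'
  have hx'o : orderOf x' = 3 := by
    rw [hx', show s * x * s⁻¹ = MulAut.conj s x from rfl, MulEquiv.orderOf_eq, hx]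
  have hfix : x' • (pinf : Pt F) = pinf := by
    rw [hx', ← hs, mul_smul, mul_smul, inv_smul_smul, hP]
  obtain ⟨a, b, hab⟩ := exists_aff_of_fix (g := φ x') (by rw [toPGL_smul, hfix])
  have ha : a = 1 := (aff_pow_char_iff 3).1 (by
    rw [← hab, ← map_pow, orderOf_dvd_iff_pow_eq_one.1 hx'o.dvd, map_one])
  subst ha
  have hx'1 : x' ≠ 1 := fun e => by rw [e, orderOf_one] at hx'o; omega
  have hb : b ≠ 0 := fun e => by
    rw [e, aff_one_zero, ← map_one φ] at hab
    exact hx'1 (ProjectiveSpecialLinearGroup.toPGL_injective hab)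
  obtain ⟨U, hU⟩ : ∃ U : SL2 F, U.1 = !![1, b; 0, 1] := ⟨⟨_, by simp⟩, rfl⟩
  have hxU : x' = QuotientGroup.mk U := by
    refine ProjectiveSpecialLinearGroup.toPGL_injective ?_
    rw [hab, ProjectiveSpecialLinearGroup.toPGL_mk, aff, mob]
    refine congrArg ProjGenLinGroup.mk (Units.ext ?_)
    rw [Matrix.SpecialLinearGroup.coe_GL_coe_matrix, hU]
    simp
  rw [hxU] at hx'o ⊢
  have hZ : ∀ t : F, ∃ Z : SL2 F, Z.1 = !![t, -(1 + t ^ 2) * b; b⁻¹, -t] := fun t =>
    ⟨⟨_, by rw [Matrix.det_fin_two_of]; field_simp; ring⟩, rfl⟩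
  choose Z hZ using hZ
  have hZtr : ∀ t, tr (Z t) = 0 := fun t => by simp [tr, hZ t]
  have hUZ : ∀ W : SL2 F, tr W = 0 → tr (U * W) = b * W.1 1 0 := fun W hW => by
    rw [tr, Matrix.SpecialLinearGroup.coe_mul, hU]
    simp only [tr] at hW
    simp [Matrix.mul_apply, Fin.sum_univ_two]
    linear_combination hW
  have hZmem : ∀ t, orderOf (QuotientGroup.mk (Z t) : PSL2 F) = 2 ∧
      ((QuotientGroup.mk U : PSL2 F) * QuotientGroup.mk (Z t)) ^ 3 = 1 := fun t => by
    constructor
    · refine orderOf_eq_prime ?_ (ne_one_of_tr_zero two_ne_zero_char_three (hZtr t))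
      rw [pow_two, ← QuotientGroup.mk_mul, mk_one_iff]
      exact Or.inr (sq_eq_neg_one_of_tr_zero (hZtr t))
    · rw [← QuotientGroup.mk_mul, ← QuotientGroup.mk_pow, mk_one_iff]
      right
      have ht : tr (U * Z t) = 1 := by
        rw [hUZ _ (hZtr t), hZ t]
        simp [hb]
      refine Subtype.ext ?_
      rw [Matrix.SpecialLinearGroup.coe_pow, Matrix.SpecialLinearGroup.coe_neg,
        Matrix.SpecialLinearGroup.coe_one]
      have h2 := coe_sq (U * Z t)
      rw [ht, one_smul] at h2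
      rw [pow_succ, pow_two, h2, sub_mul, h2, one_mul]
      abel
  refine (Nat.card_congr (Equiv.ofBijective (fun t : F =>
    (⟨QuotientGroup.mk (Z t), hZmem t⟩ :
      {z : PSL2 F // orderOf z = 2 ∧ ((QuotientGroup.mk U : PSL2 F) * z) ^ 3 = 1}))
    ⟨fun t t' h => ?_, fun z => ?_⟩)).symm
  · have h' := congrArg Subtype.val h
    rcases mk_eq_mk_iff.1 h' with e | e
    · have := congrArg (fun M : SL2 F => M.1 0 0) e
      simpa [hZ] using this
    · exfalso
      have := congrArg (fun M : SL2 F => M.1 1 0) e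
      simp [hZ] at this
      have h2 : (2 : F) * b⁻¹ = 0 := by linear_combination this
      exact (mul_ne_zero two_ne_zero_char_three (inv_ne_zero hb)) h2
  · obtain ⟨z, hz2, hz3⟩ := z
    have hz1 : z ≠ 1 := fun e => by rw [e, orderOf_one] at hz2; omega
    obtain ⟨W, rfl, hW⟩ := exists_lift_involution two_ne_zero_char_three hz1
      (by rw [← pow_two]; exact orderOf_dvd_iff_pow_eq_one.1 hz2.dvd)
    have hne : (QuotientGroup.mk (U * W) : PSL2 F) ≠ 1 := fun e => by
      rw [QuotientGroup.mk_mul] at e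
      rw [eq_inv_of_mul_eq_one_right e, orderOf_inv, hx'o] at hz2
      omega
    rw [← QuotientGroup.mk_mul] at hz3
    have ht := tr_sq_eq_one_of_pow_three hz3 hne
    rw [hUZ W hW] at ht
    have key : ∀ W : SL2 F, tr W = 0 → b * W.1 1 0 = 1 → Z (W.1 0 0) = W := by
      intro W hW h
      have hd := det_eq W
      simp only [tr] at hW
      refine Subtype.ext ?_
      rw [hZ]
      have h10 : W.1 1 0 = b⁻¹ := eq_inv_of_mul_eq_one_right h
      ext i j
      fin_cases i <;> fin_cases j <;> simp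
      · linear_combination b * hd + W.1 0 1 * h - (b * W.1 0 0) * hW
      · exact h10.symm
      · linear_combination -hW
    rcases sq_eq_one_iff.1 ht with h | h
    · exact ⟨W.1 0 0, Subtype.ext (congrArg (QuotientGroup.mk : SL2 F → PSL2 F) (key W hW h))⟩
    · exact ⟨(-W).1 0 0, Subtype.ext ((congrArg (QuotientGroup.mk : SL2 F → PSL2 F)
        (key (-W) (by rw [tr_neg, hW, neg_zero]) (by simp; linear_combination -h))).trans (mk_neg W))⟩

/-- The number of involutions of `PSL_2(q)` for `q ≡ 3 (mod 4)`. -/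
theorem card_involution_set (h4 : Nat.card F % 4 = 3) {x : PSL2 F} (hx : orderOf x = 2) :
    2 * Nat.card {z : PSL2 F // orderOf z = 2} = Nat.card F * (Nat.card F - 1) := by
  have hodd := odd_card_char_three (F := F)
  have horb : MulAction.orbit (ConjAct (PSL2 F)) x = {z | orderOf z = 2} := by
    ext z
    rw [ConjAct.mem_orbit_conjAct, Set.mem_ofPred_eq, isConj_iff]
    constructor
    · rintro ⟨c, hc⟩
      rw [show c * z * c⁻¹ = MulAut.conj c z from rfl] at hc
      rw [← MulEquiv.orderOf_eq (MulAut.conj c) z, hc, hx]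
    · intro hz; exact isConj_iff.1 (involution_isConj hodd hz hx)
  have h := MulAction.index_stabilizer (G := ConjAct (PSL2 F)) (x := x)
  rw [horb] at h
  have hmul := (MulAction.stabilizer (ConjAct (PSL2 F)) x).index_mul_card
  have hC : Nat.card (MulAction.stabilizer (ConjAct (PSL2 F)) x) =
      Nat.card (centralizer ({x} : Set (PSL2 F))) := by
    refine Nat.card_congr (Equiv.subtypeEquiv ConjAct.ofConjAct.toEquiv fun g => ?_)
    show g ∈ MulAction.stabilizer (ConjAct (PSL2 F)) x ↔
      ConjAct.ofConjAct g ∈ centralizer ({x} : Set (PSL2 F))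
    rw [MulAction.mem_stabilizer_iff, ConjAct.smul_def, mul_inv_eq_iff_eq_mul,
      mem_centralizer_singleton_iff]
  rw [h, ← Nat.card_coe_set_eq, hC, (card_centralizer_involution hodd hx).2 h4] at hmul
  have hpsl := card_psl_mul (F := F)
  rw [gcd_two_char_three, show Nat.card (PSL2 F) = Nat.card (ConjAct (PSL2 F)) from rfl, ← hmul,
    ← mul_assoc, mul_comm (Nat.card F + 1), ← mul_assoc (Nat.card F)] at hpsl
  exact Nat.eq_of_mul_eq_mul_right (Nat.succ_pos _) hpsl

/-- For an involution `x` there are `2(q+1)` elements `y` of order three with `(xy)^3 = 1`. -/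
theorem card_tetra_three (h4 : Nat.card F % 4 = 3) {x : PSL2 F} (hx : orderOf x = 2) :
    Nat.card {y : PSL2 F // orderOf y = 3 ∧ (x * y) ^ 3 = 1} = 2 * (Nat.card F + 1) := by
  classical
  let I := {z : PSL2 F // orderOf z = 2}
  let Y := {y : PSL2 F // orderOf y = 3}
  let e : (Σ z : I, {y : PSL2 F // orderOf y = 3 ∧ (z.1 * y) ^ 3 = 1}) ≃
      Σ y : Y, {z : PSL2 F // orderOf z = 2 ∧ (y.1 * z) ^ 3 = 1} :=
    { toFun := fun s => ⟨⟨s.2.1, s.2.2.1⟩, ⟨s.1.1, s.1.2, pow_three_mul_comm s.2.2.2⟩⟩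
      invFun := fun s => ⟨⟨s.2.1, s.2.2.1⟩, ⟨s.1.1, s.1.2, pow_three_mul_comm s.2.2.2⟩⟩
      left_inv := fun _ => rfl
      right_inv := fun _ => rfl }
  have := Fintype.ofFinite I
  have := Fintype.ofFinite Y
  have h := Nat.card_congr e
  rw [Nat.card_sigma, Nat.card_sigma, Finset.sum_congr rfl fun (y : Y) _ => card_tetra_inv y.2] at h
  have hconst : ∀ z : I, Nat.card {y : PSL2 F // orderOf y = 3 ∧ (z.1 * y) ^ 3 = 1} =
      Nat.card {y : PSL2 F // orderOf y = 3 ∧ (x * y) ^ 3 = 1} := by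
    intro z
    obtain ⟨c, hc⟩ := isConj_iff.1 (involution_isConj odd_card_char_three hx z.2)
    refine (Nat.card_congr (Equiv.subtypeEquiv (MulAut.conj c).toEquiv fun y => ?_)).symm
    show orderOf y = 3 ∧ (x * y) ^ 3 = 1 ↔
      orderOf (MulAut.conj c y) = 3 ∧ (z.1 * (c * y * c⁻¹)) ^ 3 = 1
    rw [MulEquiv.orderOf_eq, ← hc, show c * x * c⁻¹ * (c * y * c⁻¹) = c * (x * y) * c⁻¹ by group,
      conj_pow, conj_eq_one_iff]
  simp only [hconst, Finset.sum_const, Finset.card_univ, smul_eq_mul, ← Nat.card_eq_fintype_card] at h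
  rw [card_orderOf_char 3] at h
  have hI := card_involution_set h4 hx
  obtain ⟨n, hn⟩ : ∃ n, Nat.card F = n + 3 := ⟨Nat.card F - 3, by omega⟩
  rw [hn, show n + 3 - 1 = n + 2 by omega] at h hI
  rw [hn]
  refine Nat.eq_of_mul_eq_mul_left (show 0 < (n + 3) * (n + 2) by positivity) ?_
  change Nat.card I * _ = _ at h
  change 2 * Nat.card I = _ at hI
  calc (n + 3) * (n + 2) * Nat.card {y : PSL2 F // orderOf y = 3 ∧ (x * y) ^ 3 = 1}
      = 2 * (Nat.card I * Nat.card {y : PSL2 F // orderOf y = 3 ∧ (x * y) ^ 3 = 1}) := by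
        rw [← hI, mul_assoc]
    _ = _ := by rw [h]; ring

theorem card_mod_four {r : ℕ} (ho : Odd r) (hq : Nat.card F = 3 ^ r) : Nat.card F % 4 = 3 := by
  obtain ⟨t, rfl⟩ := ho
  rw [hq, pow_succ, pow_mul, Nat.mul_mod, Nat.pow_mod]
  norm_num

/-- In `PSL_2(q)`, `q ≡ 3 (mod 4)`, an involution fixes no point. -/
theorem involution_no_fix (h4 : Nat.card F % 4 = 3) {x : PSL2 F} (hx : orderOf x = 2) (P : Pt F) :
    x • P ≠ P := by
  intro hP
  have h := Subgroup.orderOf_dvd_natCard (stabilizer (PSL2 F) P) (show x ∈ stabilizer (PSL2 F) P from hP)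
  rw [hx, card_borel, gcd_two_char_three] at h
  rcases Nat.prime_two.dvd_mul.1 h with h' | h' <;> omega

/-- The number of solutions of `z² = 1` centralising an involution. -/
theorem card_centralizer_sq_one (h4 : Nat.card F % 4 = 3) {x : PSL2 F} (hx : orderOf x = 2) :
    Nat.card {z : centralizer ({x} : Set (PSL2 F)) // z * z = 1} = (Nat.card F + 1) / 2 + 2 := by
  set C := centralizer ({x} : Set (PSL2 F))
  have hC : Nat.card C = Nat.card F + 1 := (card_centralizer_involution odd_card_char_three hx).2 h4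
  have hnd : ¬ 3 ∣ Nat.card C := by
    obtain ⟨l, hl, hcard, -⟩ := q_cases (F := F) 3
    rw [hC, hcard]
    intro h
    have := (Nat.dvd_add_right (dvd_pow_self 3 (show l ≠ 0 by omega))).1 h
    omega
  rcases psl_dickson 3 C with ⟨h, -⟩ | ⟨-, -, h⟩ | ⟨k, hk, -, -, hck, -, ⟨e⟩⟩ | ⟨-, h⟩ |
    ⟨-, h, -⟩ | ⟨R, m, hm, hR, h⟩
  · exact absurd h hnd
  · exfalso
    rw [gcd_two_char_three, hC] at h
    rcases h with h | h <;> have := Nat.le_of_dvd (by omega) h <;> omega
  · have : NeZero k := ⟨by omega⟩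
    rw [hC] at hck
    rw [show (Nat.card F + 1) / 2 = k by omega, ← card_dihedral_sq_one (n := k) (Nat.even_iff.2 (by omega))]
    refine Nat.card_congr (Equiv.subtypeEquiv e.toEquiv fun z => ?_)
    show z * z = 1 ↔ e z * e z = 1
    rw [← map_mul, MulEquiv.map_eq_one_iff]
  · exfalso
    rcases h with ⟨⟨e⟩⟩ | ⟨⟨e⟩⟩ | ⟨⟨e⟩⟩ <;> rw [Nat.card_congr e.toEquiv] at hnd
    · rw [card_alt_four] at hnd; norm_num at hnd
    · rw [card_perm_four] at hnd; norm_num at hnd
    · rw [card_alt_five] at hnd; norm_num at hnd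
  · rw [h] at hnd; norm_num at hnd
  · exfalso
    have := charP_subfield 3 R
    have hd := dvd_card_psl (F := R) 3
    rcases h with ⟨⟨e⟩⟩ | ⟨-, -, ⟨e⟩⟩
    · rw [Nat.card_congr e.toEquiv] at hnd; exact hnd hd
    · rw [Nat.card_congr e.toEquiv] at hnd
      exact hnd (hd.trans (Subgroup.card_dvd_of_injective _ ProjectiveSpecialLinearGroup.toPGL_injective))

/-- The solubiliser of an involution, `q = 3^r`. -/
theorem card_solSet_involution_three {r : ℕ} (hr : r.Prime) (ho : Odd r)
    (hq : Nat.card F = 3 ^ r) {x : PSL2 F} (hx : orderOf x = 2) :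
    (solSet x).ncard = Nat.card F * (Nat.card F + 1) := by
  have h4 := card_mod_four ho hq
  have hx1 : x ≠ 1 := fun e => by rw [e, orderOf_one] at hx; omega
  have hx2 : x * x = 1 := by rw [← pow_two]; exact orderOf_dvd_iff_pow_eq_one.1 hx.dvd
  set C := centralizer ({x} : Set (PSL2 F)) with hC
  set I : Set (PSL2 F) := {z | z * z = 1} with hI
  set J : Set (PSL2 F) := {y | x * y ∈ I} with hJ
  set A : Set (PSL2 F) := {y | orderOf y = 3 ∧ (x * y) ^ 3 = 1} with hA
  have hCmem : ∀ y, x * y = y * x → y ∈ (C : Set (PSL2 F)) := fun y h =>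
    mem_centralizer_singleton_iff.2 h.symm
  have hsol : solSet x = (((C : Set (PSL2 F)) ∪ I) ∪ J) ∪ A := by
    ext y
    constructor
    · intro hy
      have hxH := mem_closure_left x y
      have hyH := mem_closure_right x y
      rcases soluble_cases 3 hr hq (Or.inr ⟨rfl, ho⟩) hy with
        ⟨R, hR⟩ | ⟨-, hc⟩ | ⟨k, -, -, -, ⟨e⟩⟩ | ⟨-, ⟨e⟩⟩
      · exact absurd (hR hxH) (involution_no_fix h4 hx R)
      · exact Or.inl (Or.inl (Or.inl (hCmem y
          (congrArg Subtype.val (hc.commGroup.mul_comm ⟨x, hxH⟩ ⟨y, hyH⟩)))))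
      · have hx' : e ⟨x, hxH⟩ * e ⟨x, hxH⟩ = 1 := by
          rw [← map_mul, ← map_one e]; exact congrArg e (Subtype.ext hx2)
        rcases dihedral_sol _ (e ⟨y, hyH⟩) hx' with h | h | h
        · rw [← map_mul, ← map_mul] at h
          exact Or.inl (Or.inl (Or.inl (hCmem y (congrArg Subtype.val (e.injective h)))))
        · rw [← map_mul, ← map_one e] at h
          exact Or.inl (Or.inl (Or.inr (congrArg Subtype.val (e.injective h))))
        · rw [← map_mul, ← map_mul, ← map_one e] at h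
          exact Or.inl (Or.inr (congrArg Subtype.val (e.injective h)))
      · have hx' : e ⟨x, hxH⟩ * e ⟨x, hxH⟩ = 1 := by
          rw [← map_mul, ← map_one e]; exact congrArg e (Subtype.ext hx2)
        rcases altFour_sol_two _ (e ⟨y, hyH⟩) hx' with h | h | h | ⟨h, h'⟩
        · rw [← map_mul, ← map_mul] at h
          exact Or.inl (Or.inl (Or.inl (hCmem y (congrArg Subtype.val (e.injective h)))))
        · rw [← map_mul, ← map_one e] at h
          exact Or.inl (Or.inl (Or.inr (congrArg Subtype.val (e.injective h))))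
        · rw [← map_mul, ← map_mul, ← map_one e] at h
          exact Or.inl (Or.inr (congrArg Subtype.val (e.injective h)))
        · rw [← map_pow, ← map_one e] at h
          rw [← map_mul, ← map_pow, ← map_one e] at h'
          by_cases hy1 : y = 1
          · exact Or.inl (Or.inl (Or.inl (hCmem y (by rw [hy1, mul_one, one_mul]))))
          · exact Or.inr ⟨orderOf_eq_prime (congrArg Subtype.val (e.injective h)) hy1,
              congrArg Subtype.val (e.injective h')⟩
    · rintro (((h | h) | h) | ⟨h, h'⟩)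
      · exact isSolvable_closure_comm (mem_centralizer_singleton_iff.1 h).symm
      · exact isSolvable_two_involutions hx2 h
      · exact mem_solSet_translate (isSolvable_two_involutions hx2 h)
      · exact isSolvable_tetra hx2 (orderOf_dvd_iff_pow_eq_one.1 h.dvd) h'
  have hxi : x⁻¹ = x := inv_eq_of_mul_eq_one_right hx2
  have hCI : ((C : Set (PSL2 F)) ∪ I) ∩ J = (C : Set (PSL2 F)) ∩ I := by
    ext z
    constructor
    · rintro ⟨h | h, hJ'⟩
      · refine ⟨h, ?_⟩
        have hc : Commute x z := (mem_centralizer_singleton_iff.1 h).symm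
        have h' : (x * z) ^ 2 = 1 := by rw [pow_two]; exact hJ'
        rw [hc.mul_pow, pow_two, hx2, one_mul, pow_two] at h'
        exact h'
      · have hzi : z⁻¹ = z := inv_eq_of_mul_eq_one_right h
        have h' : (x * z)⁻¹ = x * z := inv_eq_of_mul_eq_one_right hJ'
        rw [_root_.mul_inv_rev, hxi, hzi] at h'
        exact ⟨hCmem z h'.symm, h⟩
    · rintro ⟨h, h'⟩
      refine ⟨Or.inl h, ?_⟩
      have hc : Commute x z := (mem_centralizer_singleton_iff.1 h).symm
      show x * z * (x * z) = 1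
      rw [← pow_two, hc.mul_pow, pow_two, hx2, one_mul, pow_two]
      exact h'
  have hdis : (((C : Set (PSL2 F)) ∪ I) ∪ J) ∩ A = ∅ := by
    refine Set.eq_empty_of_forall_notMem ?_
    rintro y ⟨((h | h) | h), hy, hy'⟩
    · have hc : Commute x y := (mem_centralizer_singleton_iff.1 h).symm
      rw [hc.mul_pow, orderOf_dvd_iff_pow_eq_one.1 hy.dvd, mul_one, pow_succ, pow_two, hx2,
        one_mul] at hy'
      exact hx1 hy'
    · have := orderOf_dvd_of_pow_eq_one (show y ^ 2 = 1 by rw [pow_two]; exact h)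
      rw [hy] at this
      omega
    · have h2 : (x * y) ^ 2 = 1 := by rw [pow_two]; exact h
      rw [pow_succ, h2, one_mul] at hy'
      have hyx : y = x := (eq_inv_of_mul_eq_one_right hy').trans hxi
      rw [hyx, hx] at hy
      omega
  have hS : ((C : Set (PSL2 F)) ∩ I).ncard = (Nat.card F + 1) / 2 + 2 := by
    rw [← Nat.card_coe_set_eq, ← card_centralizer_sq_one h4 hx]
    exact Nat.card_congr
      { toFun := fun z => ⟨⟨z.1, z.2.1⟩, Subtype.ext z.2.2⟩
        invFun := fun z => ⟨z.1.1, z.1.2, congrArg Subtype.val z.2⟩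
        left_inv := fun _ => rfl
        right_inv := fun _ => rfl }
  have hIc : I.ncard = Nat.card {z : PSL2 F // orderOf z = 2} + 1 := by
    have hI' : I = insert 1 {z : PSL2 F | orderOf z = 2} := by
      ext z
      simp only [hI, Set.mem_ofPred_eq, Set.mem_insert_iff]
      constructor
      · intro h
        by_cases h1 : z = 1
        · exact Or.inl h1
        · exact Or.inr (orderOf_eq_prime (by rw [pow_two]; exact h) h1)
      · rintro (rfl | h)
        · exact one_mul 1
        · rw [← pow_two]; exact orderOf_dvd_iff_pow_eq_one.1 h.dvd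
    rw [hI', Set.ncard_insert_of_notMem (by simp), ← Nat.card_coe_set_eq]
    rfl
  have hJc : J.ncard = I.ncard := ncard_preimage_mul_left x I
  have hAc : A.ncard = 2 * (Nat.card F + 1) := by
    rw [← Nat.card_coe_set_eq]; exact card_tetra_three h4 hx
  have hCc : (C : Set (PSL2 F)).ncard = Nat.card F + 1 := by
    rw [← Nat.card_coe_set_eq]; exact (card_centralizer_involution odd_card_char_three hx).2 h4
  have h1 := Set.ncard_union_add_ncard_inter (C : Set (PSL2 F)) I (Set.toFinite _) (Set.toFinite _)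
  have h2 := Set.ncard_union_add_ncard_inter ((C : Set (PSL2 F)) ∪ I) J (Set.toFinite _) (Set.toFinite _)
  have h3 := Set.ncard_union_add_ncard_inter (((C : Set (PSL2 F)) ∪ I) ∪ J) A (Set.toFinite _)
    (Set.toFinite _)
  rw [hS, hCc] at h1
  rw [hCI, hS, hJc] at h2
  rw [hdis, Set.ncard_empty, hAc] at h3
  rw [hIc] at h1 h2
  have hN := card_involution_set h4 hx
  obtain ⟨t, ht⟩ : ∃ t, Nat.card F = 4 * t + 3 := ⟨Nat.card F / 4, by omega⟩
  rw [ht, show (4 * t + 3 + 1) / 2 = 2 * t + 2 by omega] at h1 h2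
  rw [ht] at h3
  rw [ht, show 4 * t + 3 - 1 = 4 * t + 2 by omega] at hN
  rw [hsol, ht]
  nlinarith

/-- The solubiliser of an element of order three, `q = 3^r`. -/
theorem card_solSet_order_three {r : ℕ} (hr : r.Prime) (ho : Odd r)
    (hq : Nat.card F = 3 ^ r) {x : PSL2 F} (hx : orderOf x = 3) :
    2 * (solSet x).ncard = Nat.card F * (Nat.card F + 5) := by
  have h4 := card_mod_four ho hq
  have hx1 : x ≠ 1 := fun e => by rw [e, orderOf_one] at hx; omega
  have hx3 : x ^ 3 = 1 := orderOf_dvd_iff_pow_eq_one.1 hx.dvd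
  obtain ⟨P, hP⟩ := exists_fix_of_pow_char 3 (z := x) hx3
  set B := stabilizer (PSL2 F) P with hB
  set W : Set (PSL2 F) := {y | orderOf y = 2 ∧ (x * y) ^ 3 = 1} with hW
  set W₁ : Set (PSL2 F) := {y | x * y ∈ W} with hW1
  set W₂ : Set (PSL2 F) := {y | x⁻¹ * y ∈ W} with hW2
  have hxB : x ∈ B := hP
  have hsol : solSet x = (((B : Set (PSL2 F)) ∪ W) ∪ W₁) ∪ W₂ := by
    ext y
    constructor
    · intro hy
      have hxH := mem_closure_left x y
      have hyH := mem_closure_right x y
      have hd : 3 ∣ Nat.card (closure ({x, y} : Set (PSL2 F))) := by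
        have h' := Subgroup.orderOf_dvd_natCard _ hxH
        rw [hx] at h'
        exact h'
      rcases soluble_cases 3 hr hq (Or.inr ⟨rfl, ho⟩) hy with
        ⟨R, hR⟩ | ⟨hn, -⟩ | ⟨k, -, hk, -, ⟨e⟩⟩ | ⟨-, ⟨e⟩⟩
      · have hRP : R = P := fix_unique 3 hx (hR hxH) hP
        subst hRP
        exact Or.inl (Or.inl (Or.inl (hR hyH)))
      · exact absurd hd hn
      · refine absurd (dvd_of_orderOf_dihedral (x := e ⟨x, hxH⟩) ?_ le_rfl) hk
        rw [MulEquiv.orderOf_eq, Subgroup.orderOf_mk, hx]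
      · have hx' : e ⟨x, hxH⟩ ^ 3 = 1 := by
          rw [← map_pow, ← map_one e]; exact congrArg e (Subtype.ext hx3)
        have hx'' : e ⟨x, hxH⟩ ≠ 1 := fun h => hx1 (by
          rw [← map_one e] at h
          exact congrArg Subtype.val (e.injective h))
        have mkW : ∀ z : closure ({x, y} : Set (PSL2 F)), e z ≠ 1 → e z * e z = 1 →
            (e ⟨x, hxH⟩ * e z) ^ 3 = 1 → (z : PSL2 F) ∈ W := by
          intro z hz1 hz2 hz3
          rw [← map_mul, ← map_one e] at hz2
          rw [← map_mul, ← map_pow, ← map_one e] at hz3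
          refine ⟨orderOf_eq_prime ?_ fun h => hz1 ?_, congrArg Subtype.val (e.injective hz3)⟩
          · rw [pow_two]; exact congrArg Subtype.val (e.injective hz2)
          · rw [show z = 1 from Subtype.ext h, map_one]
        rcases altFour_sol_three _ (e ⟨y, hyH⟩) hx' hx'' with
          h | ⟨a, b, c⟩ | ⟨a, b, c⟩ | ⟨a, b, c⟩
        · rw [← map_mul, ← map_mul] at h
          have h' := congrArg Subtype.val (e.injective h)
          exact Or.inl (Or.inl (Or.inl (((centralizer_char_eq 3 hx hP).1 h'.symm).2)))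
        · exact Or.inl (Or.inl (Or.inr (mkW _ a b c)))
        · rw [← map_mul] at a b c
          exact Or.inl (Or.inr (mkW _ a b c))
        · rw [← map_inv, ← map_mul] at a b c
          exact Or.inr (mkW _ a b c)
    · have hWsol : ∀ z ∈ W, z ∈ solSet x := fun z hz => by
        have hz2 : z * z = 1 := by rw [← pow_two]; exact orderOf_dvd_iff_pow_eq_one.1 hz.1.dvd
        exact mem_solSet_of_le (isSolvable_tetra hz2 hx3 (pow_three_mul_comm hz.2))
          (mem_closure_right z x) (mem_closure_left z x)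
      rintro (((h | h) | h) | h)
      · exact mem_solSet_stabilizer hP h
      · exact hWsol y h
      · exact mem_solSet_translate (hWsol _ h)
      · exact mem_solSet_translate' (hWsol _ h)
  have hBW : ∀ z ∈ W, z ∉ B := fun z hz hzB => involution_no_fix h4 hz.1 P hzB
  have hd1 : (B : Set (PSL2 F)) ∩ W = ∅ :=
    Set.eq_empty_of_forall_notMem fun y h => hBW y h.2 h.1
  have hd2 : ((B : Set (PSL2 F)) ∪ W) ∩ W₁ = ∅ := by
    refine Set.eq_empty_of_forall_notMem ?_
    rintro y ⟨h | h, h'⟩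
    · exact hBW _ h' (mul_mem hxB h)
    · have h2 : (x * y) ^ 2 = 1 := orderOf_dvd_iff_pow_eq_one.1 h'.1.dvd
      have h3 := h.2
      rw [pow_succ, h2, one_mul] at h3
      have h4' := h'.1
      rw [h3, orderOf_one] at h4'
      norm_num at h4'
  have hd3 : (((B : Set (PSL2 F)) ∪ W) ∪ W₁) ∩ W₂ = ∅ := by
    refine Set.eq_empty_of_forall_notMem ?_
    rintro y ⟨(h | h) | h, h'⟩
    · exact hBW _ h' (mul_mem (inv_mem hxB) h)
    · have h3 := h'.2
      rw [mul_inv_cancel_left] at h3
      have h2 : y ^ 2 = 1 := orderOf_dvd_iff_pow_eq_one.1 h.1.dvd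
      rw [pow_succ, h2, one_mul] at h3
      have h4' := h.1
      rw [h3, orderOf_one] at h4'
      norm_num at h4'
    · have h2 : (x⁻¹ * y) ^ 2 = 1 := orderOf_dvd_iff_pow_eq_one.1 h'.1.dvd
      have h3 := h.2
      rw [← mul_assoc, show x * x = x⁻¹ from
        eq_inv_of_mul_eq_one_left (by rw [← pow_two, ← pow_succ]; exact hx3),
        pow_succ, h2, one_mul] at h3
      have h4' := h'.1
      rw [h3, orderOf_one] at h4'
      norm_num at h4'
  have hWc : W.ncard = Nat.card F := by
    rw [← Nat.card_coe_set_eq]; exact card_tetra_inv hx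
  have hW1c : W₁.ncard = Nat.card F := (ncard_preimage_mul_left x W).trans hWc
  have hW2c : W₂.ncard = Nat.card F := (ncard_preimage_mul_left x⁻¹ W).trans hWc
  have h1 := Set.ncard_union_add_ncard_inter (B : Set (PSL2 F)) W (Set.toFinite _) (Set.toFinite _)
  have h2 := Set.ncard_union_add_ncard_inter ((B : Set (PSL2 F)) ∪ W) W₁ (Set.toFinite _) (Set.toFinite _)
  have h3 := Set.ncard_union_add_ncard_inter (((B : Set (PSL2 F)) ∪ W) ∪ W₁) W₂ (Set.toFinite _)
    (Set.toFinite _)
  rw [hd1, Set.ncard_empty, hWc, show (B : Set (PSL2 F)).ncard = Nat.card B from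
    (Nat.card_coe_set_eq _).symm, hB, card_borel, gcd_two_char_three] at h1
  rw [hd2, Set.ncard_empty, hW1c] at h2
  rw [hd3, Set.ncard_empty, hW2c] at h3
  rw [hsol]
  obtain ⟨t, ht⟩ : ∃ t, Nat.card F = 4 * t + 3 := ⟨Nat.card F / 4, by omega⟩
  rw [ht, show (4 * t + 3 - 1) / 2 = 2 * t + 1 by omega] at h1
  rw [ht] at h2 h3 ⊢
  nlinarith

end Three

end Cfsg.Agent.PSL2
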