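import Cfsg.Agent.Lib.PSL2.Presentation
import Cfsg.Agent.Lib.GLOrder.SympRootData

/-
The two rank-one subgroups of `Sp₄`.

Main results (namespace `Cfsg.Agent.PSL2.SpFour`): `E₁`, `E₂`, `target_rels`, `closure_target`.
-/

set_option autoImplicit false
set_option linter.unusedSectionVars false
set_option linter.dupNamespace false

open Matrix
open scoped MatrixGroups

namespace Cfsg.Agent.PSL2.SpFour

open Cfsg.Agent.PSL2.Pres (dg wM dg_coe upT_coe wM_coe)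

variable {F : Type*} [Field F]

local notation "Sp" => Matrix.symplecticGroup (Fin 2) F
local notation "Mx" => Matrix (Fin 2 ⊕ Fin 2) (Fin 2 ⊕ Fin 2) F

/-- The short root embedding, as matrices. -/
def mat₁ (g : Matrix (Fin 2) (Fin 2) F) : Mx :=
  fromBlocks !![g 0 0, g 0 1; g 1 0, g 1 1] 0 0 !![g 1 1, -g 1 0; -g 0 1, g 0 0]

/-- The long root embedding, as matrices. -/
def mat₂ (g : Matrix (Fin 2) (Fin 2) F) : Mx :=
  fromBlocks !![1, 0; 0, g 0 0] !![0, 0; 0, g 0 1] !![0, 0; 0, g 1 0] !![1, 0; 0, g 1 1]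

theorem mat₁_mem (g : SL(2, F)) : mat₁ g.1 ∈ Sp := by
  have h : g.1 0 0 * g.1 1 1 - g.1 0 1 * g.1 1 0 = 1 := by rw [← Matrix.det_fin_two]; exact g.2
  rw [SymplecticGroup.mem_iff, Matrix.J, mat₁, fromBlocks_transpose, fromBlocks_multiply,
    fromBlocks_multiply]
  ext i j
  rcases i with i | i <;> rcases j with j | j <;> fin_cases i <;> fin_cases j <;>
    simp [Matrix.mul_apply, Matrix.vecMul, Matrix.vecMul_transpose, dotProduct, Fin.sum_univ_two] <;>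
    first
      | ring1
      | linear_combination h
      | linear_combination -h

theorem mat₂_mem (g : SL(2, F)) : mat₂ g.1 ∈ Sp := by
  have h : g.1 0 0 * g.1 1 1 - g.1 0 1 * g.1 1 0 = 1 := by rw [← Matrix.det_fin_two]; exact g.2
  rw [SymplecticGroup.mem_iff, Matrix.J, mat₂, fromBlocks_transpose, fromBlocks_multiply,
    fromBlocks_multiply]
  ext i j
  rcases i with i | i <;> rcases j with j | j <;> fin_cases i <;> fin_cases j <;>
    simp [Matrix.mul_apply, Matrix.vecMul, Matrix.vecMul_transpose, dotProduct, Fin.sum_univ_two] <;>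
    first
      | ring1
      | linear_combination h
      | linear_combination -h

/-- The short root `SL₂`. -/
def E₁ : SL(2, F) →* Sp where
  toFun g := ⟨mat₁ g.1, mat₁_mem g⟩
  map_one' := Subtype.ext (by
    show mat₁ (1 : Matrix (Fin 2) (Fin 2) F) = 1
    rw [mat₁, ← fromBlocks_one]
    congr 1 <;> ext i j <;> fin_cases i <;> fin_cases j <;> simp)
  map_mul' g k := Subtype.ext (by
    show mat₁ (g.1 * k.1) = mat₁ g.1 * mat₁ k.1
    rw [mat₁, mat₁, mat₁, fromBlocks_multiply]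
    congr 1 <;> ext i j <;> fin_cases i <;> fin_cases j <;>
      simp [Matrix.mul_apply, Fin.sum_univ_two] <;> ring)

/-- The long root `SL₂`. -/
def E₂ : SL(2, F) →* Sp where
  toFun g := ⟨mat₂ g.1, mat₂_mem g⟩
  map_one' := Subtype.ext (by
    show mat₂ (1 : Matrix (Fin 2) (Fin 2) F) = 1
    rw [mat₂, ← fromBlocks_one]
    congr 1 <;> ext i j <;> fin_cases i <;> fin_cases j <;> simp)
  map_mul' g k := Subtype.ext (by
    show mat₂ (g.1 * k.1) = mat₂ g.1 * mat₂ k.1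
    rw [mat₂, mat₂, mat₂, fromBlocks_multiply]
    congr 1 <;> ext i j <;> fin_cases i <;> fin_cases j <;>
      simp [Matrix.mul_apply, Fin.sum_univ_two])

theorem E₁_coe (g : SL(2, F)) : (E₁ g : Sp).1 = mat₁ g.1 := rfl

theorem E₂_coe (g : SL(2, F)) : (E₂ g : Sp).1 = mat₂ g.1 := rfl

theorem loT_coe (r : F) : (loT r : SL(2, F)).1 = !![1, 0; r, 1] := rfl

/-- The inverse of the Weyl element. -/
theorem wM_inv : (wM : SL(2, F))⁻¹.1 = !![0, -1; 1, 0] := by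
  rw [Matrix.SpecialLinearGroup.coe_inv, wM_coe, Matrix.adjugate_fin_two_of]
  simp

/-- Closing an identity between products of images by computing entries. -/
macro "sp_calc" : tactic => `(tactic| (
  refine Subtype.ext ?_
  simp only [Submonoid.coe_mul, E₁_coe, E₂_coe, ← map_inv, ← map_pow, dg_coe, upT_coe, wM_coe,
    wM_inv, mat₁, mat₂, fromBlocks_multiply, Matrix.mul_fin_two, Matrix.of_apply, Matrix.cons_val',
    Matrix.cons_val_zero, Matrix.cons_val_one, Matrix.cons_val_fin_one, Matrix.fromBlocks_inj]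
  refine ⟨?_, ?_, ?_, ?_⟩ <;> ext i j <;> fin_cases i <;> fin_cases j <;> simp <;>
    first | ring1 | (field_simp; done) | (field_simp; ring1)))

/-- Comparing with a root element by computing entries. -/
macro "sp_root" : tactic => `(tactic| (
  simp only [Submonoid.coe_mul, E₁_coe, E₂_coe, upT_coe, loT_coe, wM_coe, wM_inv, mat₁, mat₂,
    fromBlocks_multiply, Matrix.mul_fin_two, Matrix.of_apply, Matrix.cons_val', Matrix.cons_val_zero,
    Matrix.cons_val_one, Matrix.cons_val_fin_one, ← fromBlocks_one]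
  ext i j
  rcases i with i | i <;> rcases j with j | j <;> fin_cases i <;> fin_cases j <;>
    simp [GLOrder.SpRoot.rootMat, GLOrder.SpRoot.cf]))

theorem upT_inv' (r : F) : (upT r : SL(2, F))⁻¹ = upT (-r) := upT_inv r

theorem rel_torus (z y : Fˣ) : E₁ (dg z) * E₂ (dg y) = (E₂ (dg y) * E₁ (dg z) : Sp) := by sp_calc

theorem rel_one_two (z : Fˣ) :
    E₁ (dg z) * E₂ (upT (1 : F)) = (E₂ (upT (((z⁻¹ : Fˣ) : F) ^ 2)) * E₁ (dg z) : Sp) := by sp_calc

theorem rel_two_one (z : Fˣ) :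
    E₂ (dg z) * E₁ (upT (1 : F)) = (E₁ (upT ((z⁻¹ : Fˣ) : F)) * E₂ (dg z) : Sp) := by sp_calc

theorem rel_wa (z : Fˣ) : E₁ wM * E₂ (dg z) = (E₁ (dg z) * E₂ (dg z) * E₁ wM : Sp) := by sp_calc

theorem rel_wb (z : Fˣ) :
    E₂ wM * E₁ (dg z) = (E₁ (dg z) * (E₂ (dg z) * E₂ (dg z)) * E₂ wM : Sp) := by sp_calc

theorem rel_fixC : E₁ wM * (E₂ wM * E₁ (upT (1 : F)) * E₂ wM⁻¹) =
    ((E₂ wM * E₁ (upT (-1)) * E₂ wM⁻¹) * E₁ wM : Sp) := by sp_calc

theorem rel_fixD : E₂ wM * (E₁ wM * E₂ (upT (1 : F)) * E₁ wM⁻¹) =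
    ((E₁ wM * E₂ (upT 1) * E₁ wM⁻¹) * E₂ wM : Sp) := by sp_calc

theorem rel_braid :
    E₁ wM * E₂ wM * E₁ wM * E₂ wM = (E₂ wM * E₁ wM * E₂ wM * E₁ wM : Sp) := by sp_calc

theorem rel_BD : E₂ (upT (1 : F)) * (E₁ wM * E₂ (upT (1 : F)) * E₁ wM⁻¹) =
    ((E₁ wM * E₂ (upT 1) * E₁ wM⁻¹) * E₂ (upT 1) : Sp) := by sp_calc

theorem rel_AD : E₁ (upT (1 : F)) * (E₁ wM * E₂ (upT (1 : F)) * E₁ wM⁻¹) =
    ((E₁ wM * E₂ (upT 1) * E₁ wM⁻¹) * E₁ (upT 1) : Sp) := by sp_calc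

theorem rel_AB : E₁ (upT (1 : F)) * E₂ (upT 1) =
    (E₂ (upT 1) * E₁ (upT 1) * (E₂ wM * E₁ (upT (-1)) * E₂ wM⁻¹) *
      (E₁ wM * E₂ (upT (-1)) * E₁ wM⁻¹) : Sp) := by sp_calc

theorem rel_AC : E₁ (upT (1 : F)) * (E₂ wM * E₁ (upT (1 : F)) * E₂ wM⁻¹) =
    ((E₂ wM * E₁ (upT 1) * E₂ wM⁻¹) * E₁ (upT 1) *
      (E₁ wM * E₂ (upT (-2)) * E₁ wM⁻¹) : Sp) := by sp_calc

open GLOrder.SpRoot in
/-- The two `SL₂` generate `Sp₄`. -/
theorem range_sup_range [Finite F] :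
    (E₁ (F := F)).range ⊔ E₂.range = (⊤ : Subgroup Sp) := by
  set K := (E₁ (F := F)).range ⊔ E₂.range with hK
  have h₁ : ∀ g, E₁ g ∈ K := fun g => Subgroup.mem_sup_left ⟨g, rfl⟩
  have h₂ : ∀ g, E₂ g ∈ K := fun g => Subgroup.mem_sup_right ⟨g, rfl⟩
  refine eq_top_of_rootX_mem fun a b h t => ?_
  have key : ∀ M : Sp, M ∈ K → M.1 = 1 + rootMat a b t → rootX a b h t ∈ K := fun M hM e =>
    (Subtype.ext e : M = rootX a b h t) ▸ hM
  have hw₁ := h₁ wM
  have hw₁' := h₁ wM⁻¹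
  have hw₂ := h₂ wM
  have hw₂' := h₂ wM⁻¹
  have mD : ∀ g, E₁ wM * E₂ g * E₁ wM⁻¹ ∈ K := fun g => mul_mem (mul_mem hw₁ (h₂ g)) hw₁'
  have mC : ∀ g, E₂ wM * E₁ g * E₂ wM⁻¹ ∈ K := fun g => mul_mem (mul_mem hw₂ (h₁ g)) hw₂'
  rcases a with a | a <;> rcases b with b | b <;> fin_cases a <;> fin_cases b
  · exact absurd rfl h
  · exact key _ (h₁ (upT t)) (by sp_root)
  · exact key _ (h₁ (loT t)) (by sp_root)
  · exact absurd rfl h
  · exact key _ (mD (upT t)) (by sp_root)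
  · exact key _ (mC (upT (-t))) (by sp_root)
  · exact key _ (mC (upT (-t))) (by sp_root)
  · exact key _ (h₂ (upT t)) (by sp_root)
  · exact key _ (mD (loT t)) (by sp_root)
  · exact key _ (mC (loT (-t))) (by sp_root)
  · exact key _ (mC (loT (-t))) (by sp_root)
  · exact key _ (h₂ (loT t)) (by sp_root)
  · exact absurd rfl h
  · exact key _ (h₁ (loT (-t))) (by sp_root)
  · exact key _ (h₁ (upT (-t))) (by sp_root)
  · exact absurd rfl h

end Cfsg.Agent.PSL2.SpFour
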