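import Cfsg.Agent.Lib.SpAmalgam.Base
import Cfsg.Agent.Lib.SympSylowTwo.Monomial
import Cfsg.Agent.Lib.PSL2.SpFourEmb

/-
`Sp₄` on a pair of indices inside `Sp₂ₙ`.

Main results (namespace `Cfsg.Agent.PSL2.SpN`): `emb`, `emb_injective`, `exists_emb_eq`, `conj_emb`,
`emb_swap`, `eq_top_of_gens`, `Mn_decomp`.
-/

set_option autoImplicit false
set_option linter.unusedSectionVars false
set_option linter.dupNamespace false

open Matrix
open scoped MatrixGroups

namespace Cfsg.Agent.PSL2.SpN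

open Cfsg.Agent.SpAmalgam
open Cfsg.Agent.SympSylowTwo (permHom permMat permMat_apply)
open Cfsg.Agent.AutPSp (tv tv_mulVec sp_form)

variable {F : Type*} [Field F] {n : ℕ}

local notation "Sp2" => Matrix.symplecticGroup (Fin 2) F
local notation "Spn" => Matrix.symplecticGroup (Fin n) F
local notation "Vn" => (Fin n ⊕ Fin n → F)
local notation "V2" => (Fin 2 ⊕ Fin 2 → F)

/-- The matrix of the inclusion of a pair of indices. -/
def pm (F : Type*) [Field F] (f : Fin 2 ↪ Fin n) : Matrix (Fin n ⊕ Fin n) (Fin 2 ⊕ Fin 2) F :=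
  (1 : Matrix (Fin n ⊕ Fin n) (Fin n ⊕ Fin n) F).submatrix id (Sum.map f f)

theorem pm_apply (f : Fin 2 ↪ Fin n) (x : Fin n ⊕ Fin n) (a : Fin 2 ⊕ Fin 2) :
    (pm F f) x a = if x = Sum.map f f a then 1 else 0 := by
  simp [pm, Matrix.one_apply]

theorem pm_mul_apply {κ : Type*} (f : Fin 2 ↪ Fin n) (A : Matrix κ (Fin n ⊕ Fin n) F) (i : κ)
    (a : Fin 2 ⊕ Fin 2) : (A * (pm F f)) i a = A i (Sum.map f f a) := by
  simp [Matrix.mul_apply, pm_apply]

theorem pmT_pm (f : Fin 2 ↪ Fin n) :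
    (pm F f)ᵀ * (pm F f) = 1 := by
  ext a b
  rw [pm_mul_apply, Matrix.transpose_apply, pm_apply, Matrix.one_apply]
  exact if_congr ⟨fun h => (Sum.map_injective.mpr ⟨f.injective, f.injective⟩ h).symm, fun h => by rw [h]⟩
    rfl rfl

theorem J_pm (f : Fin 2 ↪ Fin n) :
    Matrix.J (Fin n) F * (pm F f) = (pm F f) * Matrix.J (Fin 2) F := by
  ext x b
  rw [pm_mul_apply, Matrix.mul_apply, Fintype.sum_sum_type]
  rcases x with x | x <;> rcases b with b | b <;>
    simp [Matrix.J, pm_apply, Matrix.fromBlocks, Matrix.one_apply]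

theorem pmT_J (f : Fin 2 ↪ Fin n) :
    (pm F f)ᵀ * Matrix.J (Fin n) F =
      Matrix.J (Fin 2) F * (pm F f)ᵀ := by
  have h := congrArg Matrix.transpose (J_pm (F := F) f)
  rw [Matrix.transpose_mul, Matrix.transpose_mul, Matrix.J_transpose, Matrix.J_transpose,
    Matrix.mul_neg, Matrix.neg_mul, neg_inj] at h
  exact h

/-- The embedded matrix. -/
def embMat (f : Fin 2 ↪ Fin n) (g : Matrix (Fin 2 ⊕ Fin 2) (Fin 2 ⊕ Fin 2) F) :
    Matrix (Fin n ⊕ Fin n) (Fin n ⊕ Fin n) F :=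
  1 + (pm F f) * (g - 1) * (pm F f)ᵀ

theorem embMat_mul (f : Fin 2 ↪ Fin n) (g h : Matrix (Fin 2 ⊕ Fin 2) (Fin 2 ⊕ Fin 2) F) :
    embMat f g * embMat f h = embMat f (g * h) := by
  have e : (pm F f) * (g - 1) * (pm F f)ᵀ * ((pm F f) * (h - 1) * (pm F f)ᵀ) =
      (pm F f) * ((g - 1) * (h - 1)) * (pm F f)ᵀ := by
    calc (pm F f) * (g - 1) * (pm F f)ᵀ * ((pm F f) * (h - 1) * (pm F f)ᵀ)
        = (pm F f) * (g - 1) * ((pm F f)ᵀ * (pm F f)) * (h - 1) * (pm F f)ᵀ := by simp only [Matrix.mul_assoc]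
      _ = _ := by rw [pmT_pm, Matrix.mul_one]; simp only [Matrix.mul_assoc]
  rw [embMat, embMat, embMat, add_mul, mul_add, mul_add, one_mul, one_mul, mul_one, e,
    show g * h - 1 = (g - 1) + (h - 1) + (g - 1) * (h - 1) by noncomm_ring]
  simp only [Matrix.mul_add, Matrix.add_mul]
  abel

theorem embMat_mem (f : Fin 2 ↪ Fin n) (g : Sp2) : embMat f g.1 ∈ Spn := by
  rw [SymplecticGroup.mem_iff]
  have hg : g.1 * Matrix.J (Fin 2) F * g.1ᵀ = Matrix.J (Fin 2) F := SymplecticGroup.mem_iff.mp g.2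
  set a : Matrix (Fin 2 ⊕ Fin 2) (Fin 2 ⊕ Fin 2) F := g.1 - 1 with ha
  set J2 : Matrix (Fin 2 ⊕ Fin 2) (Fin 2 ⊕ Fin 2) F := Matrix.J (Fin 2) F
  set Jn : Matrix (Fin n ⊕ Fin n) (Fin n ⊕ Fin n) F := Matrix.J (Fin n) F
  set P : Matrix (Fin n ⊕ Fin n) (Fin 2 ⊕ Fin 2) F := (pm F f)
  have h0 : a * J2 + J2 * aᵀ + a * J2 * aᵀ = 0 := by
    have : g.1 * J2 * g.1ᵀ - J2 = a * J2 + J2 * aᵀ + a * J2 * aᵀ := by
      rw [ha, Matrix.transpose_sub, Matrix.transpose_one]; noncomm_ring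
    rw [← this, hg, sub_self]
  have eT : (embMat f g.1)ᵀ = 1 + P * aᵀ * Pᵀ := by
    show (1 + P * a * Pᵀ)ᵀ = _
    rw [Matrix.transpose_add, Matrix.transpose_one, Matrix.transpose_mul, Matrix.transpose_mul,
      Matrix.transpose_transpose, Matrix.mul_assoc]
  have e1 : P * a * Pᵀ * Jn = P * (a * J2) * Pᵀ := by
    calc P * a * Pᵀ * Jn = P * a * (Pᵀ * Jn) := by simp only [Matrix.mul_assoc]
      _ = _ := by rw [pmT_J]; simp only [Matrix.mul_assoc]; rfl
  have e2 : Jn * (P * aᵀ * Pᵀ) = P * (J2 * aᵀ) * Pᵀ := by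
    calc Jn * (P * aᵀ * Pᵀ) = (Jn * P) * (aᵀ * Pᵀ) := by simp only [Matrix.mul_assoc]
      _ = _ := by rw [J_pm]; simp only [Matrix.mul_assoc]; rfl
  have e3 : P * a * Pᵀ * Jn * (P * aᵀ * Pᵀ) = P * (a * J2 * aᵀ) * Pᵀ := by
    rw [e1]
    calc P * (a * J2) * Pᵀ * (P * aᵀ * Pᵀ) = P * (a * J2) * (Pᵀ * P) * aᵀ * Pᵀ := by
          simp only [Matrix.mul_assoc]
      _ = _ := by rw [pmT_pm, Matrix.mul_one]; simp only [Matrix.mul_assoc]
  rw [eT]
  show (1 + P * a * Pᵀ) * Jn * (1 + P * aᵀ * Pᵀ) = Jn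
  rw [add_mul, one_mul, mul_add, mul_one, add_mul, e2, e3, e1,
    show Jn + P * (a * J2) * Pᵀ + (P * (J2 * aᵀ) * Pᵀ + P * (a * J2 * aᵀ) * Pᵀ) =
      Jn + P * (a * J2 + J2 * aᵀ + a * J2 * aᵀ) * Pᵀ by
      simp only [Matrix.mul_add, Matrix.add_mul]; abel,
    h0, Matrix.mul_zero, Matrix.zero_mul, add_zero]

/-- `Sp₄` on a pair of indices. -/
def emb (f : Fin 2 ↪ Fin n) : Sp2 →* Spn where
  toFun g := ⟨embMat f g.1, embMat_mem f g⟩
  map_one' := Subtype.ext (by show embMat f 1 = 1; simp [embMat])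
  map_mul' g h := Subtype.ext (embMat_mul f g.1 h.1).symm

theorem emb_coe (f : Fin 2 ↪ Fin n) (g : Sp2) :
    (emb f g).1 = 1 + (pm F f) * (g.1 - 1) * (pm F f)ᵀ := rfl

theorem emb_mul_pm (f : Fin 2 ↪ Fin n) (g : Sp2) : (emb f g).1 * (pm F f) = (pm F f) * g.1 := by
  rw [emb_coe, Matrix.add_mul, Matrix.one_mul, Matrix.mul_assoc, pmT_pm, Matrix.mul_one,
    Matrix.mul_sub, Matrix.mul_one, add_sub_cancel]

theorem emb_injective (f : Fin 2 ↪ Fin n) : Function.Injective (emb (F := F) f) := fun g h e => by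
  have h1 := congrArg (fun M : Spn => (pm F f)ᵀ * (M.1 * (pm F f))) e
  simp only [emb_mul_pm, ← Matrix.mul_assoc, pmT_pm, Matrix.one_mul] at h1
  exact Subtype.ext h1

/-- The inclusion of vectors. -/
def inc (f : Fin 2 ↪ Fin n) (v : V2) : Vn := (pm F f) *ᵥ v

theorem act_emb_inc (f : Fin 2 ↪ Fin n) (g : Sp2) (v : V2) :
    act (emb f g) (inc f v) = inc f (act g v) := by
  simp only [act, inc, Matrix.mulVec_mulVec, emb_mul_pm]

theorem inc_ee (f : Fin 2 ↪ Fin n) (a : Fin 2) : inc f (ee a : V2) = ee (f a) := by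
  rw [inc, ee, Matrix.mulVec_single_one]
  funext x
  simp [Matrix.col, pm_apply, ee, Pi.single_apply] <;> exact if_congr Iff.rfl rfl rfl

theorem inc_ff (f : Fin 2 ↪ Fin n) (a : Fin 2) : inc f (ff a : V2) = ff (f a) := by
  rw [inc, ff, Matrix.mulVec_single_one]
  funext x
  simp [Matrix.col, pm_apply, ff, Pi.single_apply] <;> exact if_congr Iff.rfl rfl rfl

theorem inc_apply (f : Fin 2 ↪ Fin n) (v : V2) (a : Fin 2 ⊕ Fin 2) :
    inc f v (Sum.map f f a) = v a := by
  have h : ((pm F f)ᵀ * (pm F f) : Matrix (Fin 2 ⊕ Fin 2) (Fin 2 ⊕ Fin 2) F) *ᵥ v = v := by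
    rw [pmT_pm, Matrix.one_mulVec]
  conv_rhs => rw [← h]
  rw [← Matrix.mulVec_mulVec]
  simp [inc, Matrix.mulVec, dotProduct, pm_apply]

theorem inc_injective (f : Fin 2 ↪ Fin n) : Function.Injective (inc (F := F) f) := fun u v h =>
  funext fun a => by rw [← inc_apply f u a, h, inc_apply]

/-- The complement of a pair. -/
def outP (f : Fin 2 ↪ Fin n) (l : Fin n) : Prop := ∀ a, l ≠ f a

theorem pmT_out (f : Fin 2 ↪ Fin n) {l : Fin n} (hl : outP f l) :
    (pm F f)ᵀ *ᵥ (ee l : Vn) = 0 ∧ (pm F f)ᵀ *ᵥ (ff l : Vn) = 0 := by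
  constructor <;> (first | rw [ee] | rw [ff]) <;> rw [Matrix.mulVec_single_one] <;> funext a <;>
    rcases a with a | a <;> simp [Matrix.col, pm_apply, hl a]

theorem act_emb_out (f : Fin 2 ↪ Fin n) (g : Sp2) {x : Vn} (hx : (pm F f)ᵀ *ᵥ x = 0) :
    act (emb f g) x = x := by
  rw [act, emb_coe, Matrix.add_mulVec, Matrix.one_mulVec, ← Matrix.mulVec_mulVec, hx,
    Matrix.mulVec_zero, add_zero]

theorem emb_mem (f : Fin 2 ↪ Fin n) (g : Sp2) : emb f g ∈ Kfix F (outP f) :=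
  mem_Kfix.2 fun _ hl => ⟨act_emb_out f g (pmT_out f hl).1, act_emb_out f g (pmT_out f hl).2⟩

theorem ext_basis {g h : Spn} (h1 : ∀ l, act g (ee l) = act h (ee l))
    (h2 : ∀ l, act g (ff l) = act h (ff l)) : g = h := by
  have := eq_one_of_fix (g := h⁻¹ * g) fun l => ⟨by rw [act_mul, h1, act_inv_act],
    by rw [act_mul, h2, act_inv_act]⟩
  rw [inv_mul_eq_one] at this
  exact this.symm

theorem pm_pmT_out (f : Fin 2 ↪ Fin n) {x : Vn} (hx : SpAmalgam.Out (outP f) x) :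
    inc f ((pm F f)ᵀ *ᵥ x) = x := by
  funext y
  have hv : ∀ a : Fin 2 ⊕ Fin 2, ((pm F f)ᵀ *ᵥ x) a = x (Sum.map f f a) := fun a => by
    simp [Matrix.mulVec, dotProduct, pm_apply]
  by_cases h : ∃ a, y = Sum.map f f a
  · obtain ⟨a, rfl⟩ := h
    rw [inc_apply, hv]
  · have h0 : inc f ((pm F f)ᵀ *ᵥ x) y = 0 := by
      simp only [inc, Matrix.mulVec, dotProduct]
      exact Finset.sum_eq_zero fun a _ => by rw [pm_apply, if_neg fun e => h ⟨a, e⟩, zero_mul]
    rw [h0]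
    rcases y with l | l
    · exact (hx l fun a e => h ⟨.inl a, by rw [e]; rfl⟩).1.symm
    · exact (hx l fun a e => h ⟨.inr a, by rw [e]; rfl⟩).2.symm

theorem out_inside (f : Fin 2 ↪ Fin n) (a : Fin 2) :
    SpAmalgam.Out (outP f) (ee (f a) : Vn) ∧ SpAmalgam.Out (outP f) (ff (f a) : Vn) :=
  ⟨out_ee fun h => h a rfl, out_ff fun h => h a rfl⟩

/-- The fixer of the complement is the image. -/
theorem exists_emb_eq (f : Fin 2 ↪ Fin n) {g : Spn} (hg : g ∈ Kfix F (outP f)) :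
    ∃ h : Sp2, emb f h = g := by
  set P : Matrix (Fin n ⊕ Fin n) (Fin 2 ⊕ Fin 2) F := (pm F f)
  have hgP : P * (Pᵀ * g.1 * P) = g.1 * P := by
    refine Matrix.ext_of_mulVec_single fun a => ?_
    rw [← Matrix.mulVec_mulVec, ← Matrix.mulVec_mulVec, ← Matrix.mulVec_mulVec, ← Matrix.mulVec_mulVec]
    refine pm_pmT_out f (out_act hg ?_)
    rcases a with a | a
    · show SpAmalgam.Out (outP f) (inc f (ee a : V2))
      rw [inc_ee]; exact (out_inside f a).1
    · show SpAmalgam.Out (outP f) (inc f (ff a : V2))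
      rw [inc_ff]; exact (out_inside f a).2
  set M := Pᵀ * g.1 * P
  have hM : M ∈ Sp2 := by
    rw [SymplecticGroup.mem_iff']
    have hg' : g.1ᵀ * Matrix.J (Fin n) F * g.1 = Matrix.J (Fin n) F := SymplecticGroup.mem_iff'.mp g.2
    have hJ : Pᵀ * Matrix.J (Fin n) F * P = Matrix.J (Fin 2) F := by
      rw [pmT_J, Matrix.mul_assoc, pmT_pm, Matrix.mul_one]
    calc Mᵀ * Matrix.J (Fin 2) F * M = Mᵀ * (Pᵀ * Matrix.J (Fin n) F * P) * M := by rw [hJ]
      _ = (P * M)ᵀ * Matrix.J (Fin n) F * (P * M) := by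
        rw [Matrix.transpose_mul P M]; simp only [Matrix.mul_assoc]
      _ = Pᵀ * (g.1ᵀ * Matrix.J (Fin n) F * g.1) * P := by
        rw [hgP, Matrix.transpose_mul]; simp only [Matrix.mul_assoc]
      _ = _ := by rw [hg', hJ]
  refine ⟨⟨M, hM⟩, ?_⟩
  have hin : ∀ v : V2, act (emb f ⟨M, hM⟩) (inc f v) = act g (inc f v) := fun v => by
    rw [act_emb_inc]
    simp only [act, inc, Matrix.mulVec_mulVec]
    rw [hgP]
  refine ext_basis (fun l => ?_) fun l => ?_ <;> by_cases h : outP f l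
  · rw [act_emb_out f _ (pmT_out f h).1, (mem_Kfix.1 hg l h).1]
  · simp only [outP, not_forall, not_not] at h
    obtain ⟨a, rfl⟩ := h
    rw [← inc_ee, hin]
  · rw [act_emb_out f _ (pmT_out f h).2, (mem_Kfix.1 hg l h).2]
  · simp only [outP, not_forall, not_not] at h
    obtain ⟨a, rfl⟩ := h
    rw [← inc_ff, hin]

theorem form_inc (f : Fin 2 ↪ Fin n) (x : Vn) (e : V2) :
    Cfsg.sympForm n F x (inc f e) = Cfsg.sympForm 2 F ((pm F f)ᵀ *ᵥ x) e := by
  simp only [Cfsg.sympForm, inc]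
  rw [Matrix.mulVec_mulVec, J_pm, ← Matrix.mulVec_mulVec, Matrix.dotProduct_mulVec,
    ← Matrix.mulVec_transpose]

theorem form_inc_inc (f : Fin 2 ↪ Fin n) (u v : V2) :
    Cfsg.sympForm n F (inc f u) (inc f v) = Cfsg.sympForm 2 F u v := by
  rw [form_inc, inc, Matrix.mulVec_mulVec, pmT_pm, Matrix.one_mulVec]

theorem act_emb (f : Fin 2 ↪ Fin n) (g : Sp2) (x : Vn) :
    act (emb f g) x = x + inc f (act g ((pm F f)ᵀ *ᵥ x) - (pm F f)ᵀ *ᵥ x) := by
  rw [act, emb_coe, Matrix.add_mulVec, Matrix.one_mulVec, ← Matrix.mulVec_mulVec,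
    ← Matrix.mulVec_mulVec, Matrix.sub_mulVec, Matrix.one_mulVec]
  rfl

theorem emb_tv (f : Fin 2 ↪ Fin n) (v : V2) (c : F) : emb f (tv v c) = tv (inc f v) c := by
  refine act_ext fun x => ?_
  rw [act_emb, act_tv, act_tv, add_sub_cancel_left, form_inc, inc, inc, Matrix.mulVec_smul]

theorem emb_eic (f : Fin 2 ↪ Fin n) (e a : V2) (t : F) :
    emb f (eic e a t) = eic (inc f e) (inc f a) t := by
  simp only [eic, map_mul, emb_tv, inc, Matrix.mulVec_add]

theorem emb_wS (f : Fin 2 ↪ Fin n) (a : Fin 2) (c : F) : emb f (wS a c) = wS (f a) c := by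
  simp only [wS, map_mul, emb_tv, inc_ee, inc_ff]

theorem emb_hS (f : Fin 2 ↪ Fin n) (a : Fin 2) (c : F) : emb f (hS a c) = hS (f a) c := by
  simp only [hS, map_mul, map_inv, emb_wS]

theorem emb_mem_Sn (f : Fin 2 ↪ Fin n) {a : Fin 2} {h : Sp2} (hh : h ∈ Sn F a) :
    emb f h ∈ Sn F (f a) := by
  refine mem_Kfix.2 fun l hl => ?_
  by_cases ho : outP f l
  · exact mem_Kfix.1 (emb_mem f h) l ho
  · simp only [outP, not_forall, not_not] at ho
    obtain ⟨b, rfl⟩ := ho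
    obtain ⟨h1, h2⟩ := mem_Kfix.1 hh b fun e => hl (by rw [e])
    exact ⟨by rw [← inc_ee, act_emb_inc, h1], by rw [← inc_ff, act_emb_inc, h2]⟩

theorem mem_Sn_of_emb (f : Fin 2 ↪ Fin n) {a : Fin 2} {h : Sp2} (hh : emb f h ∈ Sn F (f a)) :
    h ∈ Sn F a := by
  refine mem_Kfix.2 fun b hb => ?_
  obtain ⟨h1, h2⟩ := mem_Kfix.1 hh (f b) fun e => hb (f.injective e)
  constructor
  · refine inc_injective f ?_
    rw [← act_emb_inc, inc_ee, h1]
  · refine inc_injective f ?_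
    rw [← act_emb_inc, inc_ff, h2]

theorem act_permHom (π : Equiv.Perm (Fin n)) (l : Fin n) :
    act (permHom n F π) (ee l) = ee (π l) ∧ act (permHom n F π) (ff l) = ff (π l) := by
  constructor <;> simp only [act, ee, ff] <;> rw [Matrix.mulVec_single_one] <;> funext x <;>
    rcases x with x | x <;>
    simp [Matrix.col, permHom, permMat_apply, Matrix.fromBlocks, Pi.single_apply]

theorem permHom_inc (π : Equiv.Perm (Fin n)) (f : Fin 2 ↪ Fin n) (v : V2) :
    act (permHom n F π) (inc f v) = inc (f.trans π.toEmbedding) v := by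
  have h : (permHom n F π).1 * (pm F f) = pm F (f.trans π.toEmbedding) := by
    ext x a
    rw [pm_mul_apply, pm_apply]
    rcases a with a | a <;> rcases x with x | x <;> simp [permHom, permMat_apply, Matrix.fromBlocks]
  rw [act, inc, inc, Matrix.mulVec_mulVec, h]

/-- Permutations permute the embeddings. -/
theorem conj_emb (π : Equiv.Perm (Fin n)) (f : Fin 2 ↪ Fin n) (g : Sp2) :
    permHom n F π * emb f g * (permHom n F π)⁻¹ = emb (f.trans π.toEmbedding) g := by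
  rw [mul_inv_eq_iff_eq_mul]
  set f' := f.trans π.toEmbedding
  have ho : ∀ l, outP f l → outP f' (π l) := fun l hl a e => hl a (π.injective e)
  refine ext_basis (fun l => ?_) fun l => ?_ <;> rw [act_mul, act_mul] <;> by_cases h : outP f l
  · rw [act_emb_out f _ (pmT_out f h).1, (act_permHom π l).1, act_emb_out f' _ (pmT_out f' (ho l h)).1]
  · simp only [outP, not_forall, not_not] at h
    obtain ⟨a, rfl⟩ := h
    rw [← inc_ee, act_emb_inc, permHom_inc, permHom_inc, act_emb_inc]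
  · rw [act_emb_out f _ (pmT_out f h).2, (act_permHom π l).2, act_emb_out f' _ (pmT_out f' (ho l h)).2]
  · simp only [outP, not_forall, not_not] at h
    obtain ⟨a, rfl⟩ := h
    rw [← inc_ff, act_emb_inc, permHom_inc, permHom_inc, act_emb_inc]

variable (F)

/-- The interchange of the two indices of `Sp₄`. -/
def sw : Matrix.symplecticGroup (Fin 2) F := permHom 2 F (Equiv.swap 0 1)

variable {F}

/-- The pair in the other order. -/
def flip (f : Fin 2 ↪ Fin n) : Fin 2 ↪ Fin n := (Equiv.swap (0 : Fin 2) 1).toEmbedding.trans f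

theorem flip_zero (f : Fin 2 ↪ Fin n) : flip f 0 = f 1 := by simp [flip]

theorem flip_one (f : Fin 2 ↪ Fin n) : flip f 1 = f 0 := by simp [flip]

theorem emb_sw (f : Fin 2 ↪ Fin n) :
    emb f (sw F) = permHom n F (Equiv.swap (f 0) (f 1)) := by
  have hsw : ∀ a : Fin 2, Equiv.swap (f 0) (f 1) (f a) = f (Equiv.swap 0 1 a) := fun a => by
    fin_cases a <;> simp
  refine ext_basis (fun l => ?_) fun l => ?_ <;> by_cases h : outP f l
  · rw [act_emb_out f _ (pmT_out f h).1, (act_permHom _ l).1,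
      Equiv.swap_apply_of_ne_of_ne (h 0) (h 1)]
  · simp only [outP, not_forall, not_not] at h
    obtain ⟨a, rfl⟩ := h
    rw [← inc_ee, act_emb_inc, sw, (act_permHom (F := F) _ a).1, inc_ee, inc_ee,
      (act_permHom _ (f a)).1, hsw]
  · rw [act_emb_out f _ (pmT_out f h).2, (act_permHom _ l).2,
      Equiv.swap_apply_of_ne_of_ne (h 0) (h 1)]
  · simp only [outP, not_forall, not_not] at h
    obtain ⟨a, rfl⟩ := h
    rw [← inc_ff, act_emb_inc, sw, (act_permHom (F := F) _ a).2, inc_ff, inc_ff,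
      (act_permHom _ (f a)).2, hsw]

theorem emb_flip (f : Fin 2 ↪ Fin n) (g : Sp2) :
    emb (flip f) g = emb f (sw F * g * (sw F)⁻¹) := by
  rw [map_mul, map_mul, map_inv, emb_sw, conj_emb]
  refine congrArg (fun e => emb e g) (Function.Embedding.ext fun a => ?_)
  fin_cases a <;> simp [flip]

/-- The standard short root element of `Sp₄`. -/
noncomputable def xr (s : F) : Matrix.symplecticGroup (Fin 2) F := eic (ee 0) (s • ee 1) 0

theorem xr_mem_Mn (s : F) : xr s ∈ Mn F (0 : Fin 2) 1 := eic_ee_mem_Mn s 0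

theorem emb_xr (f : Fin 2 ↪ Fin n) (s : F) : emb f (xr s) = eic (ee (f 0)) (s • ee (f 1)) 0 := by
  rw [xr, emb_eic, inc_ee]
  congr 1
  rw [inc, Matrix.mulVec_smul]
  exact congrArg _ (inc_ee f 1)

theorem xr_zero : xr (0 : F) = 1 := by rw [xr, zero_smul, eic_zero]

theorem hS_conj_xr (a : Fin 2) {c : F} (hc : c ≠ 0) : hS a c * xr 1 * (hS a c)⁻¹ = xr c := by
  rw [xr, xr, conj_eic, one_smul]
  obtain rfl | rfl : a = 0 ∨ a = 1 := by omega
  · rw [(act_hS (0 : Fin 2) hc).1, (hS_fix (show (1 : Fin 2) ≠ 0 by decide) c).1,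
      eic_smul (by simp), mul_zero]
  · rw [(act_hS (1 : Fin 2) hc).1, (hS_fix (show (0 : Fin 2) ≠ 1 by decide) c).1]

/-- The elements of an abelian piece. -/
theorem Mn_decomp {p r : Fin n} (hpr : p ≠ r) {g : Spn} (hg : g ∈ Mn F p r) :
    ∃ a b c : F, g = tv (ee p) a * eic (ee p) (b • ee r) 0 * tv (ee r) c := by
  obtain ⟨h1, h2⟩ := mem_Mn.1 hg
  set a := act g (ff p) (.inl p)
  set b := act g (ff p) (.inl r)
  set c := act g (ff r) (.inl r)
  have hR : ∀ x l, act g x (.inr l) = x (.inr l) := fun x l => by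
    rw [← f_ee (act g x) l, ← f_ee x l]
    conv_lhs => rw [← h1 l, f_act]
  have hL : ∀ x l, l ≠ p → l ≠ r → act g x (.inl l) = x (.inl l) := fun x l hp hr => by
    have := f_act g x (ff l)
    rw [h2 l hp hr, f_ff, f_ff, neg_inj] at this
    exact this
  have hsym : act g (ff r) (.inl p) = b := by
    have h := f_act g (ff p) (ff r)
    have e : act g (ff p) = ff p + (a • ee p + b • ee r) := by
      funext i
      rcases i with l | l
      · by_cases hp : l = p
        · subst hp; simp [hpr, a]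
        by_cases hr : l = r
        · subst hr; simp [hpr.symm, b]
        rw [hL _ l hp hr]; simp [hp, hr]
      · rw [hR]; simp
    rw [e] at h
    simp only [Linear.sympForm_add_left, Linear.sympForm_smul_left] at h
    rw [Linear.sympForm_swap (ff p), Linear.sympForm_swap (ee p), Linear.sympForm_swap (ee r)] at h
    simp [hR, hpr, hpr.symm] at h
    linear_combination h
  refine ⟨a, b, c, ext_basis (fun l => ?_) fun l => ?_⟩
  · rw [h1 l]
    have hm : tv (ee p) a * eic (ee p) (b • ee r) 0 * tv (ee r) c ∈ Mn F p r :=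
      mul_mem (mul_mem (tv_ee_mem_Mn (.inl rfl) _) (eic_ee_mem_Mn b 0)) (tv_ee_mem_Mn (.inr rfl) _)
    rw [(mem_Mn.1 hm).1 l]
  · rw [act_mul, act_mul, act_tv, act_eic (by simp), act_tv]
    funext i
    rcases i with i | i
    · by_cases hi : i = p
      · subst hi
        by_cases hl : l = i
        · subst hl; simp [hpr, hpr.symm, a]
        by_cases hl' : l = r
        · subst hl'; simp [hpr, hpr.symm, hsym]
        rw [h2 l hl hl']; simp [hl, hl', Ne.symm hl, Ne.symm hl']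
      by_cases hi' : i = r
      · subst hi'
        by_cases hl : l = p
        · subst hl; simp [hpr, hpr.symm, b]
        by_cases hl' : l = i
        · subst hl'; simp [hpr, hpr.symm, c]
        rw [h2 l hl hl']; simp [hl, hl', Ne.symm hl, Ne.symm hl', hpr, hpr.symm]
      rw [hL _ i hi hi']; simp [hi, hi'] <;> split_ifs <;> simp [hi, hi']
    · rw [hR]; simp <;> split_ifs <;> simp

/-- Generation of `Sp₄`. -/
theorem eq_top_of_gens (R : Subgroup Sp2) (h0 : Sn F (0 : Fin 2) ≤ R) (h1 : Sn F (1 : Fin 2) ≤ R)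
    (hx : xr 1 ∈ R) : R = ⊤ := by
  have hxs : ∀ s : F, xr s ∈ R := fun s => by
    rcases eq_or_ne s 0 with rfl | hs
    · rw [xr_zero]; exact one_mem _
    · rw [← hS_conj_xr 0 hs]
      exact mul_mem (mul_mem (h0 (hS_mem_Sn 0 s)) hx) (inv_mem (h0 (hS_mem_Sn 0 s)))
  refine eq_top_iff.mpr fun g _ => ?_
  refine mem_of_gens (p := (0 : Fin 2)) (fun k hk => h1 (mem_Kfix.2 fun l hl => ?_)) h0
    (fun r hr k hk => ?_) (mem_Kfix.2 fun l hl => absurd hl (Nat.not_lt_zero _) : g ∈ Kn F ((0 : Fin 2) : ℕ))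
  · exact mem_Kfix.1 hk l (by simp; omega)
  · have hr1 : r = 1 := Fin.ext (by simpa using hr.symm)
    subst hr1
    obtain ⟨a, b, c, rfl⟩ := Mn_decomp (by decide) hk
    exact mul_mem (mul_mem (h0 (tv_mem_Sn (.inl rfl) a)) (hxs b)) (h1 (tv_mem_Sn (.inl rfl) c))

/-- The long root `SL₂` is the fixer of the first plane. -/
theorem range_E₂ : (SpFour.E₂ (F := F)).range = Sn F (1 : Fin 2) := by
  refine le_antisymm ?_ fun g hg => ?_
  · rintro _ ⟨x, rfl⟩
    refine mem_Kfix.2 fun l hl => ?_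
    have hl0 : l = 0 := by omega
    subst hl0
    constructor <;> simp only [act, ee, ff] <;> rw [Matrix.mulVec_single_one] <;> funext i <;>
      rcases i with i | i <;> fin_cases i <;>
      simp [Matrix.col, SpFour.E₂_coe, SpFour.mat₂, Pi.single_apply]
  · obtain ⟨e0, f0⟩ := mem_Kfix.1 hg (0 : Fin 2) (by decide)
    have hcol : ∀ x, g.1 x (.inl 0) = (ee 0 : V2) x ∧ g.1 x (.inr 0) = (ff 0 : V2) x := fun x => by
      rw [← e0, ← f0]
      simp [act, ee, ff, Matrix.mulVec_single_one, Matrix.col]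
    have hrow : ∀ x : V2, act g x (.inl 0) = x (.inl 0) ∧ act g x (.inr 0) = x (.inr 0) := fun x => by
      have a1 := f_act g x (ee (0 : Fin 2))
      have a2 := f_act g x (ff (0 : Fin 2))
      rw [e0, f_ee, f_ee] at a1
      rw [f0, f_ff, f_ff, neg_inj] at a2
      exact ⟨a2, a1⟩
    have hr : ∀ b, g.1 (.inl 0) b = (Pi.single b 1 : V2) (.inl 0) ∧
        g.1 (.inr 0) b = (Pi.single b 1 : V2) (.inr 0) := fun b => by
      have := hrow (Pi.single b 1)
      simpa [act, Matrix.mulVec_single_one, Matrix.col] using this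
    have hdet : g.1 (.inl 1) (.inl 1) * g.1 (.inr 1) (.inr 1) -
        g.1 (.inl 1) (.inr 1) * g.1 (.inr 1) (.inl 1) = 1 := by
      have h := congrFun (congrFun (SymplecticGroup.mem_iff.mp g.2) (.inl (1 : Fin 2))) (.inr (1 : Fin 2))
      simp [Matrix.mul_apply, Matrix.J, Matrix.fromBlocks, Fin.sum_univ_two, Matrix.one_apply,
        (hcol _).1, (hcol _).2] at h
      first | linear_combination h | linear_combination -h
    refine ⟨⟨!![g.1 (.inl 1) (.inl 1), g.1 (.inl 1) (.inr 1);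
      g.1 (.inr 1) (.inl 1), g.1 (.inr 1) (.inr 1)], by rw [Matrix.det_fin_two_of]; exact hdet⟩,
      Subtype.ext ?_⟩
    show SpFour.mat₂ _ = _
    ext i j
    rcases i with i | i <;> rcases j with j | j <;> fin_cases i <;> fin_cases j <;>
      simp [SpFour.mat₂, (hr _).1, (hr _).2, (hcol _).1, (hcol _).2, Pi.single_apply]

theorem act_E₁_loT : act (SpFour.E₁ (loT (1 : F))) (ee (0 : Fin 2)) = ee 0 + ee 1 := by
  simp only [act, ee]
  rw [Matrix.mulVec_single_one]
  funext i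
  rcases i with i | i <;> fin_cases i <;>
    simp [Matrix.col, SpFour.E₁_coe, SpFour.mat₁, SpFour.loT_coe, Pi.single_apply]

end Cfsg.Agent.PSL2.SpN
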