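import Cfsg.Agent.EqLemmas
import Mathlib.Algebra.Field.Basic

/-
The Bruhat bound in rank two, type C₂.

Main result (namespace `Cfsg.Agent.PSL2.SpFour`): `card_le`.

`A`, `B` are the simple root elements (short, long); `C`, `D` the remaining positive ones,
`C t = wb A(t) wb⁻¹` and `D t = wa B(t) wa⁻¹`.
-/

set_option autoImplicit false
set_option linter.unusedSectionVars false
set_option linter.dupNamespace false

namespace Cfsg.Agent.PSL2.SpFour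

variable {F : Type*} [Field F] [Finite F] {G : Type*} [Group G]

/-- The rank two data. -/
structure Data (F : Type*) [Field F] (G : Type*) [Group G] where
  A : F → G
  B : F → G
  wa : G
  wb : G
  T : Subgroup G
  A_add : ∀ t u, A (t + u) = A t * A u
  B_add : ∀ t u, B (t + u) = B t * B u
  T_A : ∀ τ ∈ T, ∀ t, ∃ t', τ * A t * τ⁻¹ = A t'
  T_B : ∀ τ ∈ T, ∀ t, ∃ t', τ * B t * τ⁻¹ = B t'
  wa_T : ∀ τ ∈ T, wa * τ * wa⁻¹ ∈ T
  wb_T : ∀ τ ∈ T, wb * τ * wb⁻¹ ∈ T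
  wa_sq : wa * wa ∈ T
  wb_sq : wb * wb ∈ T
  fix_C : ∀ t, ∃ t', wa * (wb * A t * wb⁻¹) * wa⁻¹ = wb * A t' * wb⁻¹
  fix_D : ∀ t, ∃ t', wb * (wa * B t * wa⁻¹) * wb⁻¹ = wa * B t' * wa⁻¹
  comm_BD : ∀ t u, Commute (B t) (wa * B u * wa⁻¹)
  comm_AD : ∀ t u, Commute (A t) (wa * B u * wa⁻¹)
  comm_AB : ∀ t u, ∃ v x, A t * B u = B u * A t * (wb * A v * wb⁻¹) * (wa * B x * wa⁻¹)
  comm_AC : ∀ t u, ∃ x,
    A t * (wb * A u * wb⁻¹) = (wb * A u * wb⁻¹) * A t * (wa * B x * wa⁻¹)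
  rank_A : ∀ t, t ≠ 0 → ∃ x, ∃ τ ∈ T, ∃ y, wa * A t * wa = A x * τ * wa * A y
  rank_B : ∀ t, t ≠ 0 → ∃ x, ∃ τ ∈ T, ∃ y, wb * B t * wb = B x * τ * wb * B y
  braid : wa * wb * wa * wb = wb * wa * wb * wa
  gen : Subgroup.closure (Set.range A ∪ Set.range B ∪ (T : Set G) ∪ {wa, wb}) = ⊤

namespace Data

variable (S : Data F G)

/-- The short root `α + β`. -/
def C (t : F) : G := S.wb * S.A t * S.wb⁻¹

/-- The long root `2α + β`. -/
def D (t : F) : G := S.wa * S.B t * S.wa⁻¹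

theorem A_zero : S.A 0 = 1 := by
  have h := S.A_add 0 0
  rw [add_zero] at h
  exact left_eq_mul.mp h

theorem B_zero : S.B 0 = 1 := by
  have h := S.B_add 0 0
  rw [add_zero] at h
  exact left_eq_mul.mp h

theorem A_neg (t : F) : S.A (-t) = (S.A t)⁻¹ :=
  eq_inv_of_mul_eq_one_left (by rw [← S.A_add, neg_add_cancel, S.A_zero])

theorem B_neg (t : F) : S.B (-t) = (S.B t)⁻¹ :=
  eq_inv_of_mul_eq_one_left (by rw [← S.B_add, neg_add_cancel, S.B_zero])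

theorem C_add (t u : F) : S.C (t + u) = S.C t * S.C u := by
  simp only [C, S.A_add]; group

theorem D_add (t u : F) : S.D (t + u) = S.D t * S.D u := by
  simp only [D, S.B_add]; group

theorem C_zero : S.C 0 = 1 := by simp [C, S.A_zero]

theorem D_zero : S.D 0 = 1 := by simp [D, S.B_zero]

theorem C_neg (t : F) : S.C (-t) = (S.C t)⁻¹ := by simp only [C, S.A_neg]; group

theorem D_neg (t : F) : S.D (-t) = (S.D t)⁻¹ := by simp only [D, S.B_neg]; group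

theorem D_B (t u : F) : S.D u * S.B t = S.B t * S.D u := (S.comm_BD t u).eq.symm

theorem D_A (t u : F) : S.D u * S.A t = S.A t * S.D u := (S.comm_AD t u).eq.symm

theorem waInv_T {τ : G} (h : τ ∈ S.T) : S.wa⁻¹ * τ * S.wa ∈ S.T := by
  have := mul_mem (mul_mem (inv_mem S.wa_sq) (S.wa_T τ h)) S.wa_sq
  convert this using 1; group

theorem wbInv_T {τ : G} (h : τ ∈ S.T) : S.wb⁻¹ * τ * S.wb ∈ S.T := by
  have := mul_mem (mul_mem (inv_mem S.wb_sq) (S.wb_T τ h)) S.wb_sq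
  convert this using 1; group

theorem T_C {τ : G} (h : τ ∈ S.T) (t : F) : ∃ t', τ * S.C t * τ⁻¹ = S.C t' := by
  obtain ⟨t', e⟩ := S.T_A _ (S.wbInv_T h) t
  exact ⟨t', by simp only [C, ← e]; group⟩

theorem T_D {τ : G} (h : τ ∈ S.T) (t : F) : ∃ t', τ * S.D t * τ⁻¹ = S.D t' := by
  obtain ⟨t', e⟩ := S.T_B _ (S.waInv_T h) t
  exact ⟨t', by simp only [D, ← e]; group⟩

theorem wa_B (t : F) : ∃ t', S.wa * S.B t = S.D t' * S.wa :=
  ⟨t, by simp only [D]; group⟩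

theorem wa_D (t : F) : ∃ t', S.wa * S.D t = S.B t' * S.wa := by
  obtain ⟨t', e⟩ := S.T_B _ S.wa_sq t
  exact ⟨t', by rw [← e]; simp only [D]; group⟩

theorem wa_C (t : F) : ∃ t', S.wa * S.C t = S.C t' * S.wa := by
  obtain ⟨t', e⟩ := S.fix_C t
  exact ⟨t', by simp only [C, ← e]; group⟩

theorem B_wa (t : F) : ∃ t', S.B t * S.wa = S.wa * S.D t' := by
  obtain ⟨t', e⟩ := S.T_D (inv_mem S.wa_sq) t
  exact ⟨t', by rw [← e]; simp only [D]; group⟩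

theorem D_wa (t : F) : ∃ t', S.D t * S.wa = S.wa * S.B t' :=
  ⟨t, by simp only [D]; group⟩

theorem C_wa (t : F) : ∃ t', S.C t * S.wa = S.wa * S.C t' := by
  obtain ⟨t', e⟩ := S.T_C (inv_mem S.wa_sq) t
  obtain ⟨t'', e'⟩ := S.fix_C t'
  exact ⟨t'', by simp only [C] at e e' ⊢; rw [← e', ← e]; group⟩

theorem wb_A (t : F) : ∃ t', S.wb * S.A t = S.C t' * S.wb :=
  ⟨t, by simp only [C]; group⟩

theorem wb_C (t : F) : ∃ t', S.wb * S.C t = S.A t' * S.wb := by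
  obtain ⟨t', e⟩ := S.T_A _ S.wb_sq t
  exact ⟨t', by rw [← e]; simp only [C]; group⟩

theorem wb_D (t : F) : ∃ t', S.wb * S.D t = S.D t' * S.wb := by
  obtain ⟨t', e⟩ := S.fix_D t
  exact ⟨t', by simp only [D, ← e]; group⟩

theorem A_wb (t : F) : ∃ t', S.A t * S.wb = S.wb * S.C t' := by
  obtain ⟨t', e⟩ := S.T_C (inv_mem S.wb_sq) t
  exact ⟨t', by rw [← e]; simp only [C]; group⟩

theorem C_wb (t : F) : ∃ t', S.C t * S.wb = S.wb * S.A t' :=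
  ⟨t, by simp only [C]; group⟩

theorem D_wb (t : F) : ∃ t', S.D t * S.wb = S.wb * S.D t' := by
  obtain ⟨t', e⟩ := S.T_D (inv_mem S.wb_sq) t
  obtain ⟨t'', e'⟩ := S.fix_D t'
  exact ⟨t'', by simp only [D] at e e' ⊢; rw [← e', ← e]; group⟩

theorem D_C (t u : F) : S.D u * S.C t = S.C t * S.D u := by
  obtain ⟨u', hu⟩ := S.D_wb u
  have h := congrArg (fun z => S.wb * z * S.wb⁻¹) (S.D_A t u')
  simp only [C]
  calc S.D u * (S.wb * S.A t * S.wb⁻¹)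
      = (S.D u * S.wb) * S.A t * S.wb⁻¹ := by group
    _ = S.wb * (S.D u' * S.A t) * S.wb⁻¹ := by rw [hu]; group
    _ = S.wb * (S.A t * S.D u') * S.wb⁻¹ := h
    _ = (S.wb * S.A t) * (S.wb⁻¹ * (S.D u * S.wb)) * S.wb⁻¹ := by rw [hu]; group
    _ = _ := by group

theorem C_B (t u : F) : S.C t * S.B u = S.B u * S.C t := by
  obtain ⟨t', ht⟩ := S.wa_C t
  have h := congrArg (fun z => S.wa⁻¹ * z * S.wa) (S.D_C t' u)
  have e : S.C t = S.wa⁻¹ * S.C t' * S.wa := by rw [mul_assoc, ← ht]; group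
  rw [e]
  calc S.wa⁻¹ * S.C t' * S.wa * S.B u = S.wa⁻¹ * (S.C t' * S.D u) * S.wa := by
        simp only [D]; group
    _ = S.wa⁻¹ * (S.D u * S.C t') * S.wa := h.symm
    _ = _ := by simp only [D]; group

/-! ### The positive unipotent group -/

/-- The products `B C D A`. -/
def U : Set G := {g | ∃ b c d a, g = S.B b * S.C c * S.D d * S.A a}

theorem one_mem_U : (1 : G) ∈ S.U :=
  ⟨0, 0, 0, 0, by rw [S.B_zero, S.C_zero, S.D_zero, S.A_zero]; group⟩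

theorem B_U (t : F) {g : G} (h : g ∈ S.U) : S.B t * g ∈ S.U := by
  obtain ⟨b, c, d, a, rfl⟩ := h
  exact ⟨t + b, c, d, a, by rw [S.B_add]; group⟩

theorem C_U (t : F) {g : G} (h : g ∈ S.U) : S.C t * g ∈ S.U := by
  obtain ⟨b, c, d, a, rfl⟩ := h
  refine ⟨b, t + c, d, a, ?_⟩
  simp only [← mul_assoc]
  rw [S.C_B, S.C_add, ← mul_assoc]

theorem D_U (t : F) {g : G} (h : g ∈ S.U) : S.D t * g ∈ S.U := by
  obtain ⟨b, c, d, a, rfl⟩ := h
  refine ⟨b, c, t + d, a, ?_⟩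
  simp only [← mul_assoc]
  rw [S.D_B, mul_assoc (S.B b), S.D_C, S.D_add, ← mul_assoc, ← mul_assoc]

theorem A_U (t : F) {g : G} (h : g ∈ S.U) : S.A t * g ∈ S.U := by
  obtain ⟨b, c, d, a, rfl⟩ := h
  obtain ⟨v, x, hAB⟩ := S.comm_AB t b
  obtain ⟨y, hAC⟩ := S.comm_AC t (v + c)
  change S.A t * S.B b = S.B b * S.A t * S.C v * S.D x at hAB
  change S.A t * S.C (v + c) = S.C (v + c) * S.A t * S.D y at hAC
  refine ⟨b, v + c, y + (x + d), t + a, ?_⟩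
  calc S.A t * (S.B b * S.C c * S.D d * S.A a)
      = (S.A t * S.B b) * S.C c * S.D d * S.A a := by group
    _ = S.B b * S.A t * S.C v * (S.D x * S.C c) * S.D d * S.A a := by rw [hAB]; group
    _ = S.B b * (S.A t * (S.C v * S.C c)) * (S.D x * S.D d) * S.A a := by rw [S.D_C]; group
    _ = S.B b * S.C (v + c) * S.A t * (S.D y * (S.D x * S.D d)) * S.A a := by
        rw [← S.C_add, hAC]; group
    _ = S.B b * S.C (v + c) * (S.A t * S.D (y + (x + d))) * S.A a := by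
        rw [S.D_add, S.D_add]; group
    _ = S.B b * S.C (v + c) * S.D (y + (x + d)) * (S.A t * S.A a) := by rw [← S.D_A]; group
    _ = _ := by rw [← S.A_add]

theorem BCDA_U (b c d a : F) {g : G} (h : g ∈ S.U) :
    S.B b * S.C c * S.D d * S.A a * g ∈ S.U := by
  have := S.B_U b (S.C_U c (S.D_U d (S.A_U a h)))
  simpa only [mul_assoc] using this

/-- The other order `A D C B`. -/
theorem exists_ADCB {g : G} (h : g ∈ S.U) : ∃ a d c b, g = S.A a * S.D d * S.C c * S.B b := by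
  obtain ⟨b, c, d, a, rfl⟩ := h
  have hi : (S.B b * S.C c * S.D d * S.A a)⁻¹ ∈ S.U := by
    have := S.A_U (-a) (S.D_U (-d) (S.C_U (-c) (S.B_U (-b) S.one_mem_U)))
    rw [S.A_neg, S.D_neg, S.C_neg, S.B_neg, mul_one] at this
    simpa only [_root_.mul_inv_rev, mul_assoc] using this
  obtain ⟨b', c', d', a', e⟩ := hi
  refine ⟨-a', -d', -c', -b', ?_⟩
  rw [S.A_neg, S.D_neg, S.C_neg, S.B_neg, ← inv_inv (S.B b * S.C c * S.D d * S.A a), e]
  group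

theorem T_U {τ : G} (hτ : τ ∈ S.T) {g : G} (h : g ∈ S.U) : ∃ g' ∈ S.U, τ * g = g' * τ := by
  obtain ⟨b, c, d, a, rfl⟩ := h
  obtain ⟨b', hb⟩ := S.T_B τ hτ b
  obtain ⟨c', hc⟩ := S.T_C hτ c
  obtain ⟨d', hd⟩ := S.T_D hτ d
  obtain ⟨a', ha⟩ := S.T_A τ hτ a
  exact ⟨_, ⟨b', c', d', a', rfl⟩, by rw [← hb, ← hc, ← hd, ← ha]; group⟩

theorem A_T {τ : G} (hτ : τ ∈ S.T) (a : F) : ∃ a', S.A a * τ = τ * S.A a' := by
  obtain ⟨a', ha⟩ := S.T_A τ⁻¹ (inv_mem hτ) a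
  exact ⟨a', by rw [← ha]; group⟩

theorem B_T {τ : G} (hτ : τ ∈ S.T) (a : F) : ∃ a', S.B a * τ = τ * S.B a' := by
  obtain ⟨a', ha⟩ := S.T_B τ⁻¹ (inv_mem hτ) a
  exact ⟨a', by rw [← ha]; group⟩

/-- `wa` passes the part `B C D`. -/
theorem wa_U {g : G} (h : g ∈ S.U) : ∃ g' ∈ S.U, ∃ a, S.wa * g = g' * S.wa * S.A a := by
  obtain ⟨b, c, d, a, rfl⟩ := h
  obtain ⟨b', hb⟩ := S.wa_B b
  obtain ⟨c', hc⟩ := S.wa_C c
  obtain ⟨d', hd⟩ := S.wa_D d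
  refine ⟨S.D b' * (S.C c' * (S.B d' * 1)), S.D_U _ (S.C_U _ (S.B_U _ S.one_mem_U)), a, ?_⟩
  calc S.wa * (S.B b * S.C c * S.D d * S.A a) = (S.wa * S.B b) * S.C c * S.D d * S.A a := by group
    _ = S.D b' * (S.wa * S.C c) * S.D d * S.A a := by rw [hb]; group
    _ = S.D b' * S.C c' * (S.wa * S.D d) * S.A a := by rw [hc]; group
    _ = _ := by rw [hd]; group

/-- `wb` passes the part `A D C`. -/
theorem wb_U {g : G} (h : g ∈ S.U) : ∃ g' ∈ S.U, ∃ b, S.wb * g = g' * S.wb * S.B b := by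
  obtain ⟨a, d, c, b, rfl⟩ := S.exists_ADCB h
  obtain ⟨a', ha⟩ := S.wb_A a
  obtain ⟨d', hd⟩ := S.wb_D d
  obtain ⟨c', hc⟩ := S.wb_C c
  refine ⟨S.C a' * (S.D d' * (S.A c' * 1)), S.C_U _ (S.D_U _ (S.A_U _ S.one_mem_U)), b, ?_⟩
  calc S.wb * (S.A a * S.D d * S.C c * S.B b) = (S.wb * S.A a) * S.D d * S.C c * S.B b := by group
    _ = S.C a' * (S.wb * S.D d) * S.C c * S.B b := by rw [ha]; group
    _ = S.C a' * S.D d' * (S.wb * S.C c) * S.B b := by rw [hd]; group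
    _ = _ := by rw [hc]; group

/-- The part `D C B` passes `wa` from the left. -/
theorem U_wa {g : G} (h : g ∈ S.U) : ∃ a, ∃ g' ∈ S.U, g * S.wa = S.A a * S.wa * g' := by
  obtain ⟨a, d, c, b, rfl⟩ := S.exists_ADCB h
  obtain ⟨b', hb⟩ := S.B_wa b
  obtain ⟨c', hc⟩ := S.C_wa c
  obtain ⟨d', hd⟩ := S.D_wa d
  refine ⟨a, S.B d' * (S.C c' * (S.D b' * 1)), S.B_U _ (S.C_U _ (S.D_U _ S.one_mem_U)), ?_⟩
  calc S.A a * S.D d * S.C c * S.B b * S.wa = S.A a * S.D d * S.C c * (S.B b * S.wa) := by group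
    _ = S.A a * S.D d * (S.C c * S.wa) * S.D b' := by rw [hb]; group
    _ = S.A a * (S.D d * S.wa) * S.C c' * S.D b' := by rw [hc]; group
    _ = _ := by rw [hd]; group

/-- The part `C D A` passes `wb` from the left. -/
theorem U_wb {g : G} (h : g ∈ S.U) : ∃ b, ∃ g' ∈ S.U, g * S.wb = S.B b * S.wb * g' := by
  obtain ⟨b, c, d, a, rfl⟩ := h
  obtain ⟨a', ha⟩ := S.A_wb a
  obtain ⟨d', hd⟩ := S.D_wb d
  obtain ⟨c', hc⟩ := S.C_wb c
  refine ⟨b, S.A c' * (S.D d' * (S.C a' * 1)), S.A_U _ (S.D_U _ (S.C_U _ S.one_mem_U)), ?_⟩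
  calc S.B b * S.C c * S.D d * S.A a * S.wb = S.B b * S.C c * S.D d * (S.A a * S.wb) := by group
    _ = S.B b * S.C c * (S.D d * S.wb) * S.C a' := by rw [ha]; group
    _ = S.B b * (S.C c * S.wb) * S.D d' * S.C a' := by rw [hd]; group
    _ = _ := by rw [hc]; group

/-! ### The parabolic and the three layers -/

/-- The parabolic of the short root. -/
def P : Set G := {g | ∃ u ∈ S.U, ∃ τ ∈ S.T, g = u * τ} ∪
  {g | ∃ u ∈ S.U, ∃ τ ∈ S.T, ∃ y, g = u * τ * S.wa * S.A y}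

/-- The first layer. -/
def X₁ : Set G := {g | ∃ u ∈ S.U, ∃ p ∈ S.P, g = u * S.wb * p}

/-- The second layer. -/
def X₂ : Set G := {g | ∃ u ∈ S.U, ∃ p ∈ S.P, g = u * S.wa * S.wb * p}

/-- The third layer. -/
def X₃ : Set G := {g | ∃ u ∈ S.U, ∃ p ∈ S.P, g = u * S.wb * S.wa * S.wb * p}

/-- Everything. -/
def X : Set G := S.P ∪ S.X₁ ∪ S.X₂ ∪ S.X₃

theorem U_mul_U {u g : G} (hu : u ∈ S.U) (hg : g ∈ S.U) : u * g ∈ S.U := by
  obtain ⟨b, c, d, a, rfl⟩ := hu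
  exact S.BCDA_U b c d a hg

theorem A_mem_U (t : F) : S.A t ∈ S.U := by simpa using S.A_U t S.one_mem_U

theorem B_mem_U (t : F) : S.B t ∈ S.U := by simpa using S.B_U t S.one_mem_U

theorem C_mem_U (t : F) : S.C t ∈ S.U := by simpa using S.C_U t S.one_mem_U

theorem D_mem_U (t : F) : S.D t ∈ S.U := by simpa using S.D_U t S.one_mem_U

theorem U_P {u p : G} (hu : u ∈ S.U) (hp : p ∈ S.P) : u * p ∈ S.P := by
  rcases hp with ⟨u', hu', τ, hτ, rfl⟩ | ⟨u', hu', τ, hτ, y, rfl⟩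
  · exact Or.inl ⟨_, S.U_mul_U hu hu', τ, hτ, (mul_assoc _ _ _).symm⟩
  · exact Or.inr ⟨_, S.U_mul_U hu hu', τ, hτ, y, by group⟩

theorem T_P {σ p : G} (hσ : σ ∈ S.T) (hp : p ∈ S.P) : σ * p ∈ S.P := by
  rcases hp with ⟨u, hu, τ, hτ, rfl⟩ | ⟨u, hu, τ, hτ, y, rfl⟩
  all_goals obtain ⟨u', hu', e⟩ := S.T_U hσ hu
  · exact Or.inl ⟨u', hu', σ * τ, mul_mem hσ hτ, by rw [← mul_assoc, e]; group⟩
  · exact Or.inr ⟨u', hu', σ * τ, mul_mem hσ hτ, y, by simp only [← mul_assoc]; rw [e]⟩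

theorem wa_P {p : G} (hp : p ∈ S.P) : S.wa * p ∈ S.P := by
  rcases hp with ⟨u, hu, τ, hτ, rfl⟩ | ⟨u, hu, τ, hτ, y, rfl⟩
  all_goals obtain ⟨g, hg, a, e⟩ := S.wa_U hu
  all_goals obtain ⟨a', ha⟩ := S.A_T hτ a
  · refine Or.inr ⟨g, hg, _, S.wa_T τ hτ, a', ?_⟩
    calc S.wa * (u * τ) = g * S.wa * (S.A a * τ) := by rw [← mul_assoc, e]; group
      _ = _ := by rw [ha]; group
  · have e' : S.wa * (u * τ * S.wa * S.A y) =
        g * (S.wa * S.A a * S.wa) * (S.wa⁻¹ * τ * S.wa) * S.A y := by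
      calc S.wa * (u * τ * S.wa * S.A y) = (S.wa * u) * τ * S.wa * S.A y := by group
        _ = _ := by rw [e]; group
    rw [e']
    by_cases h0 : a = 0
    · obtain ⟨y', hy⟩ := S.T_A _ (mul_mem S.wa_sq (S.waInv_T hτ)) y
      refine Or.inl ⟨g * S.A y', S.U_mul_U hg (S.A_mem_U _), _, mul_mem S.wa_sq (S.waInv_T hτ), ?_⟩
      rw [h0, S.A_zero, ← hy]; group
    · obtain ⟨x, σ, hσ, z, hz⟩ := S.rank_A a h0
      obtain ⟨z', hz'⟩ := S.A_T (S.waInv_T hτ) z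
      refine Or.inr ⟨g * S.A x, S.U_mul_U hg (S.A_mem_U _), σ * τ, mul_mem hσ hτ, z' + y, ?_⟩
      calc g * (S.wa * S.A a * S.wa) * (S.wa⁻¹ * τ * S.wa) * S.A y
          = g * S.A x * σ * S.wa * (S.A z * (S.wa⁻¹ * τ * S.wa)) * S.A y := by rw [hz]; group
        _ = _ := by rw [hz', S.A_add]; group

theorem U_X {u g : G} (hu : u ∈ S.U) (hg : g ∈ S.X) : u * g ∈ S.X := by
  rcases hg with ((hg | ⟨v, hv, p, hp, rfl⟩) | ⟨v, hv, p, hp, rfl⟩) | ⟨v, hv, p, hp, rfl⟩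
  · exact Or.inl (Or.inl (Or.inl (S.U_P hu hg)))
  · exact Or.inl (Or.inl (Or.inr ⟨_, S.U_mul_U hu hv, p, hp, by group⟩))
  · exact Or.inl (Or.inr ⟨_, S.U_mul_U hu hv, p, hp, by group⟩)
  · exact Or.inr ⟨_, S.U_mul_U hu hv, p, hp, by group⟩

theorem T_X {τ g : G} (hτ : τ ∈ S.T) (hg : g ∈ S.X) : τ * g ∈ S.X := by
  rcases hg with ((hg | ⟨v, hv, p, hp, rfl⟩) | ⟨v, hv, p, hp, rfl⟩) | ⟨v, hv, p, hp, rfl⟩
  · exact Or.inl (Or.inl (Or.inl (S.T_P hτ hg)))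
  all_goals obtain ⟨v', hv', e⟩ := S.T_U hτ hv
  · refine Or.inl (Or.inl (Or.inr ⟨v', hv', _, S.T_P (S.wbInv_T hτ) hp, ?_⟩))
    simp only [← mul_assoc]; rw [e]; group
  · refine Or.inl (Or.inr ⟨v', hv', _, S.T_P (S.wbInv_T (S.waInv_T hτ)) hp, ?_⟩)
    simp only [← mul_assoc]; rw [e]; group
  · refine Or.inr ⟨v', hv', _, S.T_P (S.wbInv_T (S.waInv_T (S.wbInv_T hτ))) hp, ?_⟩
    simp only [← mul_assoc]; rw [e]; group

theorem wb_X {g : G} (hg : g ∈ S.X) : S.wb * g ∈ S.X := by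
  rcases hg with ((hg | ⟨v, hv, p, hp, rfl⟩) | ⟨v, hv, p, hp, rfl⟩) | ⟨v, hv, p, hp, rfl⟩
  · exact Or.inl (Or.inl (Or.inr ⟨1, S.one_mem_U, g, hg, by group⟩))
  all_goals obtain ⟨v', hv', b, e⟩ := S.wb_U hv
  all_goals simp only [← mul_assoc]; rw [e]
  · by_cases h0 : b = 0
    · have h1 := S.U_X hv' (T_X S S.wb_sq (Or.inl (Or.inl (Or.inl hp))))
      convert h1 using 1
      rw [h0, S.B_zero]; group
    · obtain ⟨x, τ, hτ, y, hy⟩ := S.rank_B b h0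
      have h1 := S.U_X hv' (S.U_X (S.B_mem_U x) (T_X S hτ
        (Or.inl (Or.inl (Or.inr ⟨1, S.one_mem_U, _, S.U_P (S.B_mem_U y) hp, rfl⟩)))))
      convert h1 using 1
      calc v' * S.wb * S.B b * S.wb * p = v' * (S.wb * S.B b * S.wb) * p := by group
        _ = _ := by rw [hy]; group
  · obtain ⟨d, hd⟩ := S.B_wa b
    obtain ⟨d', hd'⟩ := S.D_wb d
    refine Or.inr ⟨v', hv', _, S.U_P (S.D_mem_U d') hp, ?_⟩
    calc v' * S.wb * S.B b * S.wa * S.wb * p = v' * S.wb * (S.B b * S.wa) * S.wb * p := by group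
      _ = v' * S.wb * S.wa * (S.D d * S.wb) * p := by rw [hd]; group
      _ = _ := by rw [hd']; group
  · by_cases h0 : b = 0
    · have h1 := S.U_X hv' (T_X S S.wb_sq (Or.inl (Or.inr ⟨1, S.one_mem_U, p, hp, rfl⟩)))
      convert h1 using 1
      rw [h0, S.B_zero]; group
    · obtain ⟨x, τ, hτ, y, hy⟩ := S.rank_B b h0
      obtain ⟨d, hd⟩ := S.B_wa y
      obtain ⟨d', hd'⟩ := S.D_wb d
      have h1 := S.U_X hv' (S.U_X (S.B_mem_U x) (T_X S hτ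
        (Or.inr ⟨1, S.one_mem_U, _, S.U_P (S.D_mem_U d') hp, rfl⟩)))
      convert h1 using 1
      calc v' * S.wb * S.B b * S.wb * S.wa * S.wb * p
          = v' * (S.wb * S.B b * S.wb) * S.wa * S.wb * p := by group
        _ = v' * S.B x * τ * S.wb * (S.B y * S.wa) * S.wb * p := by rw [hy]; group
        _ = v' * S.B x * τ * S.wb * S.wa * (S.D d * S.wb) * p := by rw [hd]; group
        _ = _ := by rw [hd']; group

theorem wa_X {g : G} (hg : g ∈ S.X) : S.wa * g ∈ S.X := by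
  rcases hg with ((hg | ⟨v, hv, p, hp, rfl⟩) | ⟨v, hv, p, hp, rfl⟩) | ⟨v, hv, p, hp, rfl⟩
  · exact Or.inl (Or.inl (Or.inl (S.wa_P hg)))
  all_goals obtain ⟨v', hv', a, e⟩ := S.wa_U hv
  all_goals simp only [← mul_assoc]; rw [e]
  · obtain ⟨c, hc⟩ := S.A_wb a
    refine Or.inl (Or.inr ⟨v', hv', _, S.U_P (S.C_mem_U c) hp, ?_⟩)
    calc v' * S.wa * S.A a * S.wb * p = v' * S.wa * (S.A a * S.wb) * p := by group
      _ = _ := by rw [hc]; group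
  · by_cases h0 : a = 0
    · have h1 := S.U_X hv' (T_X S S.wa_sq (Or.inl (Or.inl (Or.inr ⟨1, S.one_mem_U, p, hp, rfl⟩))))
      convert h1 using 1
      rw [h0, S.A_zero]; group
    · obtain ⟨x, τ, hτ, y, hy⟩ := S.rank_A a h0
      obtain ⟨c, hc⟩ := S.A_wb y
      have h1 := S.U_X hv' (S.U_X (S.A_mem_U x) (T_X S hτ
        (Or.inl (Or.inr ⟨1, S.one_mem_U, _, S.U_P (S.C_mem_U c) hp, rfl⟩))))
      convert h1 using 1
      calc v' * S.wa * S.A a * S.wa * S.wb * p = v' * (S.wa * S.A a * S.wa) * S.wb * p := by group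
        _ = v' * S.A x * τ * S.wa * (S.A y * S.wb) * p := by rw [hy]; group
        _ = _ := by rw [hc]; group
  · obtain ⟨c, hc⟩ := S.A_wb a
    obtain ⟨c', hc'⟩ := S.C_wa c
    obtain ⟨a', ha'⟩ := S.C_wb c'
    refine Or.inr ⟨v', hv', _, S.wa_P (S.U_P (S.A_mem_U a') hp), ?_⟩
    calc v' * S.wa * S.A a * S.wb * S.wa * S.wb * p
        = v' * S.wa * (S.A a * S.wb) * S.wa * S.wb * p := by group
      _ = v' * S.wa * S.wb * (S.C c * S.wa) * S.wb * p := by rw [hc]; group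
      _ = v' * S.wa * S.wb * S.wa * (S.C c' * S.wb) * p := by rw [hc']; group
      _ = v' * (S.wa * S.wb * S.wa * S.wb) * S.A a' * p := by rw [ha']; group
      _ = _ := by rw [S.braid]; group

theorem X_all (g : G) : g ∈ S.X := by
  have hg : g ∈ Subgroup.closure (Set.range S.A ∪ Set.range S.B ∪ (S.T : Set G) ∪ {S.wa, S.wb}) :=
    S.gen ▸ Subgroup.mem_top g
  induction hg using Subgroup.closure_induction_left with
  | one => exact Or.inl (Or.inl (Or.inl (Or.inl ⟨1, S.one_mem_U, 1, one_mem _, by group⟩)))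
  | mul_left x hx y _ hy =>
    rcases hx with ((⟨t, rfl⟩ | ⟨t, rfl⟩) | hx) | (rfl | rfl)
    · exact S.U_X (S.A_mem_U t) hy
    · exact S.U_X (S.B_mem_U t) hy
    · exact S.T_X hx hy
    · exact S.wa_X hy
    · exact S.wb_X hy
  | inv_mul_cancel x hx y _ hy =>
    rcases hx with ((⟨t, rfl⟩ | ⟨t, rfl⟩) | hx) | (rfl | rfl)
    · rw [← S.A_neg]; exact S.U_X (S.A_mem_U _) hy
    · rw [← S.B_neg]; exact S.U_X (S.B_mem_U _) hy
    · exact S.T_X (inv_mem hx) hy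
    · rw [show S.wa⁻¹ * y = (S.wa * S.wa)⁻¹ * (S.wa * y) by group]
      exact S.T_X (inv_mem S.wa_sq) (S.wa_X hy)
    · rw [show S.wb⁻¹ * y = (S.wb * S.wb)⁻¹ * (S.wb * y) by group]
      exact S.T_X (inv_mem S.wb_sq) (S.wb_X hy)

/-- The Bruhat bound. -/
theorem card_le [Finite S.T] : Finite G ∧ Nat.card G ≤
    Nat.card F ^ 4 * Nat.card S.T * (1 + Nat.card F) *
      (1 + Nat.card F + Nat.card F ^ 2 + Nat.card F ^ 3) := by
  classical
  let π : (F × F × F × F) × S.T × Option F → G := fun z =>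
    S.B z.1.1 * S.C z.1.2.1 * S.D z.1.2.2.1 * S.A z.1.2.2.2 * (z.2.1 : G) *
      z.2.2.elim 1 (fun y => S.wa * S.A y)
  have hP : ∀ p ∈ S.P, ∃ z, π z = p := by
    rintro _ (⟨_, ⟨b, c, d, a, rfl⟩, τ, hτ, rfl⟩ | ⟨_, ⟨b, c, d, a, rfl⟩, τ, hτ, y, rfl⟩)
    · exact ⟨((b, c, d, a), ⟨τ, hτ⟩, none), by simp [π]⟩
    · exact ⟨((b, c, d, a), ⟨τ, hτ⟩, some y), by simp [π, mul_assoc]⟩
  let Φ : ((F × F × F × F) × S.T × Option F) × (Unit ⊕ F ⊕ (F × F) ⊕ (F × F × F)) → G := fun z =>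
    (match z.2 with
      | .inl _ => 1
      | .inr (.inl b) => S.B b * S.wb
      | .inr (.inr (.inl (a, b))) => S.A a * S.wa * (S.B b * S.wb)
      | .inr (.inr (.inr (r, a, b))) => S.B r * S.wb * (S.A a * S.wa * (S.B b * S.wb))) * π z.1
  have h1 : ∀ u ∈ S.U, ∀ p ∈ S.P, ∃ b z, u * S.wb * p = S.B b * S.wb * π z := by
    intro u hu p hp
    obtain ⟨b, u', hu', e⟩ := S.U_wb hu
    obtain ⟨z, hz⟩ := hP _ (S.U_P hu' hp)
    exact ⟨b, z, by rw [hz, e]; group⟩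
  have h2 : ∀ u ∈ S.U, ∀ p ∈ S.P,
      ∃ a b z, u * S.wa * S.wb * p = S.A a * S.wa * (S.B b * S.wb) * π z := by
    intro u hu p hp
    obtain ⟨a, u', hu', e⟩ := S.U_wa hu
    obtain ⟨b, z, hz⟩ := h1 u' hu' p hp
    refine ⟨a, b, z, ?_⟩
    rw [mul_assoc (S.A a * S.wa), ← hz, e]; group
  have hΦ : Function.Surjective Φ := by
    intro g
    rcases S.X_all g with ((hg | ⟨u, hu, p, hp, rfl⟩) | ⟨u, hu, p, hp, rfl⟩) | ⟨u, hu, p, hp, rfl⟩
    · obtain ⟨z, hz⟩ := hP g hg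
      exact ⟨(z, .inl ()), by simp [Φ, hz]⟩
    · obtain ⟨b, z, hz⟩ := h1 u hu p hp
      exact ⟨(z, .inr (.inl b)), hz.symm⟩
    · obtain ⟨a, b, z, hz⟩ := h2 u hu p hp
      exact ⟨(z, .inr (.inr (.inl (a, b)))), hz.symm⟩
    · obtain ⟨r, u', hu', e⟩ := S.U_wb hu
      obtain ⟨a, b, z, hz⟩ := h2 u' hu' p hp
      refine ⟨(z, .inr (.inr (.inr (r, a, b)))), ?_⟩
      show S.B r * S.wb * (S.A a * S.wa * (S.B b * S.wb)) * π z = _
      rw [mul_assoc (S.B r * S.wb), ← hz, e]; group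
  refine ⟨Finite.of_surjective Φ hΦ, (Nat.card_le_card_of_surjective Φ hΦ).trans (le_of_eq ?_)⟩
  simp only [Nat.card_prod, Nat.card_sum, Nat.card_unique, Finite.card_option]
  ring

end Data

end Cfsg.Agent.PSL2.SpFour
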