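import Cfsg.Agent.Lib.PSL2.SpFourBound
import Cfsg.Agent.Lib.PSL2.SpFourEmb
import Cfsg.Agent.Lib.GLOrder.Symplectic
import Cfsg.Agent.Lib.GLOrder.SympTwoGen

/-
A presentation of `Sp₄(q)` with six generators and thirty relations.

Main results (namespace `Cfsg.Agent.PSL2.SpFour`): `Rels`, `Rels.card_le`, `exists_pres`.
-/

set_option autoImplicit false
set_option linter.unusedSectionVars false
set_option linter.dupNamespace false

open Polynomial
open scoped MatrixGroups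

namespace Cfsg.Agent.PSL2.SpFour

open Cfsg.Agent.PSL2.Pres (dg wM dg_conj wM_sq wM_dg wM_upT upT_add word word_target upT_zpow
  closure_target range_fin_three exists_pow_eq)

variable {F : Type*} [Field F] [Finite F]

/-- A property closed under addition and holding on squares holds everywhere. -/
theorem of_squares (P : F → Prop) (h0 : P 0) (hadd : ∀ r s, P r → P s → P (r + s))
    (hsq : ∀ z : Fˣ, P ((z : F) ^ 2)) (r : F) : P r := by
  have hn : ∀ (n : ℕ) r, P r → P (n • r) := by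
    intro n r hr
    induction n with
    | zero => rwa [zero_smul]
    | succ n ih => rw [succ_nsmul]; exact hadd _ _ ih hr
  let S : AddSubgroup F :=
    { carrier := {r | P r}
      zero_mem' := h0
      add_mem' := fun {a b} => hadd a b
      neg_mem' := fun {a} ha => by
        show P (-a)
        have e : -a = (addOrderOf a - 1) • a := by
          refine neg_eq_of_add_eq_zero_left ?_
          rw [← succ_nsmul, Nat.sub_add_cancel (addOrderOf_pos a), addOrderOf_nsmul_eq_zero]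
        rw [e]
        exact hn _ a ha }
  exact GLOrder.SpRoot.mem_of_squares S (fun z => by
    show P _
    rw [← pow_two]
    exact hsq z) r

theorem of_generator {ω : Fˣ} (hω : ∀ x : Fˣ, x ∈ Subgroup.zpowers ω) (P : Fˣ → Prop) (h1 : P 1)
    (hmul : ∀ z, P z → P (z * ω)) (z : Fˣ) : P z := by
  obtain ⟨n, hn⟩ := mem_powers_iff_mem_zpowers.mpr (hω z)
  simp only at hn
  rw [← hn]
  clear hn
  induction n with
  | zero => rwa [pow_zero]
  | succ n ih => rw [pow_succ]; exact hmul _ ih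

variable {G : Type*} [Group G]

theorem conj_two (g a b : G) : g * (a * b) * g⁻¹ = g * a * g⁻¹ * (g * b * g⁻¹) := by group

theorem conj_three (g a b c : G) :
    g * (a * b * c) * g⁻¹ = g * a * g⁻¹ * (g * b * g⁻¹) * (g * c * g⁻¹) := by group

theorem conj_four (g a b c d : G) :
    g * (a * b * c * d) * g⁻¹ = g * a * g⁻¹ * (g * b * g⁻¹) * (g * c * g⁻¹) * (g * d * g⁻¹) := by
  group

/-- The mixed relations between two copies of `SL₂`. -/
structure Rels (ω : Fˣ) (A B : SL(2, F) →* G) : Prop where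
  torus : A (dg ω) * B (dg ω) = B (dg ω) * A (dg ω)
  one_two : A (dg ω) * B (upT (1 : F)) = B (upT (((ω⁻¹ : Fˣ) : F) ^ 2)) * A (dg ω)
  two_one : B (dg ω) * A (upT (1 : F)) = A (upT ((ω⁻¹ : Fˣ) : F)) * B (dg ω)
  wa_torus : A wM * B (dg ω) = A (dg ω) * B (dg ω) * A wM
  wb_torus : B wM * A (dg ω) = A (dg ω) * (B (dg ω) * B (dg ω)) * B wM
  fixC : A wM * (B wM * A (upT (1 : F)) * B wM⁻¹) = (B wM * A (upT (-1)) * B wM⁻¹) * A wM
  fixD : B wM * (A wM * B (upT (1 : F)) * A wM⁻¹) = (A wM * B (upT 1) * A wM⁻¹) * B wM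
  braid : A wM * B wM * A wM * B wM = B wM * A wM * B wM * A wM
  commBD : B (upT (1 : F)) * (A wM * B (upT (1 : F)) * A wM⁻¹) =
    (A wM * B (upT 1) * A wM⁻¹) * B (upT 1)
  commAD : A (upT (1 : F)) * (A wM * B (upT (1 : F)) * A wM⁻¹) =
    (A wM * B (upT 1) * A wM⁻¹) * A (upT 1)
  commAB : A (upT (1 : F)) * B (upT 1) =
    B (upT 1) * A (upT 1) * (B wM * A (upT (-1)) * B wM⁻¹) * (A wM * B (upT (-1)) * A wM⁻¹)
  commAC : A (upT (1 : F)) * (B wM * A (upT (1 : F)) * B wM⁻¹) =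
    (B wM * A (upT 1) * B wM⁻¹) * A (upT 1) * (A wM * B (upT (-2)) * A wM⁻¹)

namespace Rels

variable {ω : Fˣ} {A B : SL(2, F) →* G}

theorem upT_zero : upT (0 : F) = 1 := map_one (Pres.upHom (F := F))

theorem dg_neg_one_comm (g : SL(2, F)) : dg (-1 : Fˣ) * g = g * dg (-1) := by
  have h : dg (-1 : Fˣ) = -1 := by
    refine Subtype.ext ?_
    rw [Pres.dg_coe, Matrix.SpecialLinearGroup.coe_neg, Matrix.SpecialLinearGroup.coe_one]
    ext i j; fin_cases i <;> fin_cases j <;> simp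
  rw [h]
  refine Subtype.ext ?_
  simp

variable (hω : ∀ x : Fˣ, x ∈ Subgroup.zpowers ω) (R : Rels ω A B)

include hω R

theorem torus_comm (z y : Fˣ) : Commute (A (dg z)) (B (dg y)) := by
  refine of_generator hω (fun z => Commute (A (dg z)) (B (dg y))) (by simp) (fun z hz => ?_) z
  simp only [map_mul]
  refine hz.mul_left ?_
  refine of_generator hω (fun y => Commute (A (dg ω)) (B (dg y))) (by simp) (fun y hy => ?_) y
  simp only [map_mul]
  exact hy.mul_right R.torus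

theorem a_uB (z : Fˣ) : ∀ r : F,
    A (dg z) * B (upT r) * (A (dg z))⁻¹ = B (upT (((z⁻¹ : Fˣ) : F) ^ 2 * r)) := by
  refine of_generator hω (fun z => ∀ r : F,
    A (dg z) * B (upT r) * (A (dg z))⁻¹ = B (upT (((z⁻¹ : Fˣ) : F) ^ 2 * r))) (by simp) (fun z hz => ?_) z
  have hbase : ∀ r : F,
      A (dg ω) * B (upT r) * (A (dg ω))⁻¹ = B (upT (((ω⁻¹ : Fˣ) : F) ^ 2 * r)) := by
    refine of_squares _ (by simp [upT_zero]) (fun r s hr hs => ?_) (fun y => ?_)
    · rw [upT_add, map_mul, ← conj_mul, hr, hs, ← map_mul, ← upT_add, mul_add]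
    · rw [show upT ((y : F) ^ 2) = dg y * upT 1 * (dg y)⁻¹ by rw [dg_conj, mul_one],
        map_mul, map_mul, map_inv]
      calc A (dg ω) * (B (dg y) * B (upT 1) * (B (dg y))⁻¹) * (A (dg ω))⁻¹
          = B (dg y) * (A (dg ω) * B (upT 1) * (A (dg ω))⁻¹) * (B (dg y))⁻¹ := by
            have h := (R.torus_comm hω ω y).eq
            have h' : (B (dg y))⁻¹ * (A (dg ω))⁻¹ = (A (dg ω))⁻¹ * (B (dg y))⁻¹ := by
              rw [← mul_inv_rev, ← mul_inv_rev, h]
            simp only [← mul_assoc]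
            rw [h]
            simp only [mul_assoc]
            rw [h']
        _ = _ := by
          rw [R.one_two, mul_inv_cancel_right, ← map_inv, ← map_mul, ← map_mul, dg_conj, mul_comm]
  intro r
  rw [map_mul, map_mul]
  calc A (dg z) * A (dg ω) * B (upT r) * (A (dg z) * A (dg ω))⁻¹
      = A (dg z) * (A (dg ω) * B (upT r) * (A (dg ω))⁻¹) * (A (dg z))⁻¹ := by group
    _ = _ := by rw [hbase, hz, mul_inv, Units.val_mul, mul_pow, mul_assoc]

theorem b_uA (z : Fˣ) : ∀ r : F,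
    B (dg z) * A (upT r) * (B (dg z))⁻¹ = A (upT (((z⁻¹ : Fˣ) : F) * r)) := by
  refine of_generator hω (fun z => ∀ r : F,
    B (dg z) * A (upT r) * (B (dg z))⁻¹ = A (upT (((z⁻¹ : Fˣ) : F) * r))) (by simp) (fun z hz => ?_) z
  have hbase : ∀ r : F,
      B (dg ω) * A (upT r) * (B (dg ω))⁻¹ = A (upT (((ω⁻¹ : Fˣ) : F) * r)) := by
    refine of_squares _ (by simp [upT_zero]) (fun r s hr hs => ?_) (fun y => ?_)
    · rw [upT_add, map_mul, ← conj_mul, hr, hs, ← map_mul, ← upT_add, mul_add]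
    · rw [show upT ((y : F) ^ 2) = dg y * upT 1 * (dg y)⁻¹ by rw [dg_conj, mul_one],
        map_mul, map_mul, map_inv]
      calc B (dg ω) * (A (dg y) * A (upT 1) * (A (dg y))⁻¹) * (B (dg ω))⁻¹
          = A (dg y) * (B (dg ω) * A (upT 1) * (B (dg ω))⁻¹) * (A (dg y))⁻¹ := by
            have h := (R.torus_comm hω y ω).eq.symm
            have h' : (A (dg y))⁻¹ * (B (dg ω))⁻¹ = (B (dg ω))⁻¹ * (A (dg y))⁻¹ := by
              rw [← mul_inv_rev, ← mul_inv_rev, h]
            simp only [← mul_assoc]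
            rw [h]
            simp only [mul_assoc]
            rw [h']
        _ = _ := by
          rw [R.two_one, mul_inv_cancel_right, ← map_inv, ← map_mul, ← map_mul, dg_conj, mul_comm]
  intro r
  rw [map_mul, map_mul]
  calc B (dg z) * B (dg ω) * A (upT r) * (B (dg z) * B (dg ω))⁻¹
      = B (dg z) * (B (dg ω) * A (upT r) * (B (dg ω))⁻¹) * (B (dg z))⁻¹ := by group
    _ = _ := by rw [hbase, hz, mul_inv, Units.val_mul, mul_assoc]

omit R in
theorem a_uA (z : Fˣ) (r : F) :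
    A (dg z) * A (upT r) * (A (dg z))⁻¹ = A (upT ((z : F) ^ 2 * r)) := by
  rw [← map_inv, ← map_mul, ← map_mul, dg_conj]

omit R in
theorem b_uB (z : Fˣ) (r : F) :
    B (dg z) * B (upT r) * (B (dg z))⁻¹ = B (upT ((z : F) ^ 2 * r)) := by
  rw [← map_inv, ← map_mul, ← map_mul, dg_conj]

theorem wa_b (z : Fˣ) : A wM * B (dg z) * (A wM)⁻¹ = A (dg z) * B (dg z) := by
  refine of_generator hω (fun z => A wM * B (dg z) * (A wM)⁻¹ = A (dg z) * B (dg z)) (by simp)
    (fun z hz => ?_) z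
  rw [map_mul, map_mul, map_mul, ← conj_mul, hz, R.wa_torus, mul_inv_cancel_right]
  have h := (R.torus_comm hω ω z).eq
  calc A (dg z) * B (dg z) * (A (dg ω) * B (dg ω))
      = A (dg z) * (B (dg z) * A (dg ω)) * B (dg ω) := by group
    _ = _ := by rw [← h]; group

theorem wb_a (z : Fˣ) : B wM * A (dg z) * (B wM)⁻¹ = A (dg z) * B (dg (z * z)) := by
  refine of_generator hω (fun z => B wM * A (dg z) * (B wM)⁻¹ = A (dg z) * B (dg (z * z)))
    (by simp) (fun z hz => ?_) z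
  rw [show z * ω * (z * ω) = (z * z) * (ω * ω) by rw [mul_mul_mul_comm]]
  rw [map_mul dg (z * z), map_mul B, map_mul dg z ω, map_mul A, ← conj_mul, hz, R.wb_torus,
    mul_inv_cancel_right, map_mul dg ω ω, map_mul B]
  have h := (R.torus_comm hω ω (z * z)).eq
  calc A (dg z) * B (dg (z * z)) * (A (dg ω) * (B (dg ω) * B (dg ω)))
      = A (dg z) * (B (dg (z * z)) * A (dg ω)) * (B (dg ω) * B (dg ω)) := by group
    _ = _ := by rw [← h]; group

omit R in
theorem wa_a (z : Fˣ) : A wM * A (dg z) * (A wM)⁻¹ = A (dg z⁻¹) := by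
  rw [← map_inv, ← map_mul, ← map_mul, wM_dg, map_inv dg]

omit R in
theorem wb_b (z : Fˣ) : B wM * B (dg z) * (B wM)⁻¹ = B (dg z⁻¹) := by
  rw [← map_inv, ← map_mul, ← map_mul, wM_dg, map_inv dg]

/-- The torus on `C`. -/
theorem torus_C (z y : Fˣ) (r : F) :
    A (dg z) * B (dg y) * (B wM * A (upT r) * (B wM)⁻¹) * (A (dg z) * B (dg y))⁻¹ =
      B wM * A (upT ((y : F) * r)) * (B wM)⁻¹ := by
  have hb : ∀ (y : Fˣ) (r : F), B (dg y) * (B wM * A (upT r) * (B wM)⁻¹) * (B (dg y))⁻¹ =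
      B wM * A (upT ((y : F) * r)) * (B wM)⁻¹ := by
    intro y r
    have h := R.b_uA hω y⁻¹ r
    rw [inv_inv] at h
    have e := wb_b hω (B := B) y⁻¹
    rw [inv_inv] at e
    rw [← e, ← h]
    group
  have ha : ∀ (z : Fˣ) (r : F), A (dg z) * (B wM * A (upT r) * (B wM)⁻¹) * (A (dg z))⁻¹ =
      B wM * A (upT r) * (B wM)⁻¹ := by
    intro z r
    have e := R.wb_a hω z
    have e' : A (dg z) = (B wM * A (dg z) * (B wM)⁻¹) * (B (dg (z * z)))⁻¹ := by
      rw [e, mul_inv_cancel_right]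
    have h := hb (z * z)⁻¹ r
    rw [map_inv dg, map_inv B, inv_inv] at h
    have h2 : ∀ X, A (dg z) * A (upT X) * (A (dg z))⁻¹ = A (upT ((z : F) ^ 2 * X)) :=
      fun X => a_uA hω z X
    rw [e']
    calc B wM * A (dg z) * (B wM)⁻¹ * (B (dg (z * z)))⁻¹ * (B wM * A (upT r) * (B wM)⁻¹) *
          (B wM * A (dg z) * (B wM)⁻¹ * (B (dg (z * z)))⁻¹)⁻¹
        = B wM * A (dg z) * (B wM)⁻¹ *
            ((B (dg (z * z)))⁻¹ * (B wM * A (upT r) * (B wM)⁻¹) * B (dg (z * z))) *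
            (B wM * (A (dg z))⁻¹ * (B wM)⁻¹) := by group
      _ = B wM * A (dg z) * (B wM)⁻¹ * (B wM * A (upT (((z * z)⁻¹ : Fˣ) * r)) * (B wM)⁻¹) *
            (B wM * (A (dg z))⁻¹ * (B wM)⁻¹) := by rw [h]
      _ = B wM * (A (dg z) * A (upT (((z * z)⁻¹ : Fˣ) * r)) * (A (dg z))⁻¹) * (B wM)⁻¹ := by group
      _ = _ := by
          rw [h2]
          congr 4
          rw [← mul_assoc, ← Units.val_pow_eq_pow_val, ← Units.val_mul, pow_two, mul_inv_cancel,
            Units.val_one, one_mul]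
  calc A (dg z) * B (dg y) * (B wM * A (upT r) * (B wM)⁻¹) * (A (dg z) * B (dg y))⁻¹
      = A (dg z) * (B (dg y) * (B wM * A (upT r) * (B wM)⁻¹) * (B (dg y))⁻¹) * (A (dg z))⁻¹ := by
        group
    _ = _ := by rw [hb, ha]

/-- The torus on `D`. -/
theorem torus_D (z y : Fˣ) (r : F) :
    A (dg z) * B (dg y) * (A wM * B (upT r) * (A wM)⁻¹) * (A (dg z) * B (dg y))⁻¹ =
      A wM * B (upT ((z : F) ^ 2 * r)) * (A wM)⁻¹ := by
  have ha : ∀ (z : Fˣ) (r : F), A (dg z) * (A wM * B (upT r) * (A wM)⁻¹) * (A (dg z))⁻¹ =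
      A wM * B (upT ((z : F) ^ 2 * r)) * (A wM)⁻¹ := by
    intro z r
    have h := R.a_uB hω z⁻¹ r
    rw [inv_inv] at h
    have e := wa_a hω (A := A) z⁻¹
    rw [inv_inv] at e
    rw [← e, ← h]
    group
  have hb : ∀ (y : Fˣ) (r : F), B (dg y) * (A wM * B (upT r) * (A wM)⁻¹) * (B (dg y))⁻¹ =
      A wM * B (upT r) * (A wM)⁻¹ := by
    intro y r
    have e := R.wa_b hω y
    have e' : B (dg y) = (A (dg y))⁻¹ * (A wM * B (dg y) * (A wM)⁻¹) := by
      rw [e, inv_mul_cancel_left]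
    rw [e']
    calc (A (dg y))⁻¹ * (A wM * B (dg y) * (A wM)⁻¹) * (A wM * B (upT r) * (A wM)⁻¹) *
          ((A (dg y))⁻¹ * (A wM * B (dg y) * (A wM)⁻¹))⁻¹
        = (A (dg y))⁻¹ * (A wM * (B (dg y) * B (upT r) * (B (dg y))⁻¹) * (A wM)⁻¹) *
            A (dg y) := by group
      _ = A (dg y⁻¹) * (A wM * B (upT ((y : F) ^ 2 * r)) * (A wM)⁻¹) * (A (dg y⁻¹))⁻¹ := by
          rw [b_uB hω, map_inv dg, map_inv A, inv_inv]
      _ = _ := by
          rw [ha]
          congr 4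
          rw [← mul_assoc, ← mul_pow, ← Units.val_mul, inv_mul_cancel, Units.val_one, one_pow,
            one_mul]
  calc A (dg z) * B (dg y) * (A wM * B (upT r) * (A wM)⁻¹) * (A (dg z) * B (dg y))⁻¹
      = A (dg z) * (B (dg y) * (A wM * B (upT r) * (A wM)⁻¹) * (B (dg y))⁻¹) * (A (dg z))⁻¹ := by
        group
    _ = _ := by rw [hb, ha]

/-- The torus on the short root. -/
theorem torus_A (z y : Fˣ) (r : F) :
    A (dg z) * B (dg y) * A (upT r) * (A (dg z) * B (dg y))⁻¹ =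
      A (upT ((z : F) ^ 2 * ((y⁻¹ : Fˣ) : F) * r)) := by
  calc A (dg z) * B (dg y) * A (upT r) * (A (dg z) * B (dg y))⁻¹
      = A (dg z) * (B (dg y) * A (upT r) * (B (dg y))⁻¹) * (A (dg z))⁻¹ := by group
    _ = _ := by rw [R.b_uA hω, a_uA hω, mul_assoc]

/-- The torus on the long root. -/
theorem torus_B (z y : Fˣ) (r : F) :
    A (dg z) * B (dg y) * B (upT r) * (A (dg z) * B (dg y))⁻¹ =
      B (upT (((z⁻¹ : Fˣ) : F) ^ 2 * (y : F) ^ 2 * r)) := by
  calc A (dg z) * B (dg y) * B (upT r) * (A (dg z) * B (dg y))⁻¹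
      = A (dg z) * (B (dg y) * B (upT r) * (B (dg y))⁻¹) * (A (dg z))⁻¹ := by group
    _ = _ := by rw [b_uB hω, R.a_uB hω, mul_assoc]

omit R in
theorem rank_one (Φ : SL(2, F) →* G) (t : F) (ht : t ≠ 0) :
    ∃ x, ∃ d : Fˣ, ∃ y, Φ wM * Φ (upT t) * Φ wM = Φ (upT x) * Φ (dg d) * Φ wM * Φ (upT y) := by
  refine ⟨-(((Units.mk0 t ht)⁻¹ : Fˣ) : F), (Units.mk0 t ht)⁻¹ * -1,
    -(((Units.mk0 t ht)⁻¹ : Fˣ) : F), ?_⟩
  have h := wM_upT (Units.mk0 t ht)
  rw [Units.val_mk0, mul_inv_eq_iff_eq_mul] at h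
  simp only [← map_mul]
  congr 1
  rw [h]
  have hc := dg_neg_one_comm (F := F)
  rw [map_mul, mul_assoc, mul_assoc, wM_sq]
  simp only [mul_assoc]
  rw [hc (wM * upT _), mul_assoc]

theorem fixC_all (r : F) :
    A wM * (B wM * A (upT r) * (B wM)⁻¹) * (A wM)⁻¹ = B wM * A (upT (-r)) * (B wM)⁻¹ := by
  by_cases hr : r = 0
  · simp [hr, upT_zero]
  have h1 := R.fixC
  rw [map_inv] at h1
  set y := Units.mk0 r hr
  have e1 := R.torus_C hω 1 y 1
  have e2 := R.torus_C hω y y (-1)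
  rw [map_one, map_one, one_mul, mul_one] at e1
  rw [mul_neg, mul_one] at e2
  rw [show r = (y : F) from rfl, ← e1, ← e2, ← R.wa_b hω y]
  calc A wM * (B (dg y) * (B wM * A (upT 1) * (B wM)⁻¹) * (B (dg y))⁻¹) * (A wM)⁻¹
      = (A wM * B (dg y) * (A wM)⁻¹) *
          ((A wM * (B wM * A (upT 1) * (B wM)⁻¹)) * (A wM)⁻¹) *
          (A wM * B (dg y) * (A wM)⁻¹)⁻¹ := by group
    _ = _ := by rw [h1, mul_inv_cancel_right]

theorem fixD_all : ∀ r : F,
    B wM * (A wM * B (upT r) * (A wM)⁻¹) * (B wM)⁻¹ = A wM * B (upT r) * (A wM)⁻¹ := by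
  refine of_squares _ (by simp [upT_zero]) (fun r s hr hs => ?_) fun y => ?_
  · rw [upT_add, map_mul, conj_two (A wM), conj_two (B wM), hr, hs]
  · have h1 := R.fixD
    rw [map_inv] at h1
    have e1 := R.torus_D hω y 1 1
    have e2 := R.torus_D hω y (y * y) 1
    rw [map_one, map_one, mul_one, mul_one] at e1
    rw [mul_one, ← R.wb_a hω y] at e2
    conv_lhs => rw [← e1]
    rw [← e2]
    calc B wM * (A (dg y) * (A wM * B (upT 1) * (A wM)⁻¹) * (A (dg y))⁻¹) * (B wM)⁻¹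
        = (B wM * A (dg y) * (B wM)⁻¹) *
            ((B wM * (A wM * B (upT 1) * (A wM)⁻¹)) * (B wM)⁻¹) *
            (B wM * A (dg y) * (B wM)⁻¹)⁻¹ := by group
      _ = _ := by rw [h1, mul_inv_cancel_right]

theorem commBD_all (t u : F) : Commute (B (upT t)) (A wM * B (upT u) * (A wM)⁻¹) := by
  refine of_squares (fun u => Commute (B (upT t)) (A wM * B (upT u) * (A wM)⁻¹))
    (by simp [upT_zero]) (fun r s hr hs => ?_) (fun s => ?_) u
  · rw [upT_add, map_mul, ← conj_mul]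
    exact hr.mul_right hs
  refine of_squares (fun t => Commute (B (upT t)) (A wM * B (upT ((s : F) ^ 2)) * (A wM)⁻¹))
    (by simp [upT_zero]) (fun r r' hr hr' => ?_) (fun y => ?_) t
  · rw [upT_add, map_mul]
    exact hr.mul_left hr'
  have h : Commute (B (upT 1)) (A wM * B (upT (1 : F)) * (A wM)⁻¹) := by
    have := R.commBD
    rwa [map_inv] at this
  have h' := h.map (MulAut.conj (A (dg s) * B (dg (s * y))))
  simp only [MulAut.conj_apply, R.torus_B hω, R.torus_D hω, mul_one] at h'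
  rwa [← mul_pow, ← Units.val_mul, inv_mul_cancel_left] at h'

theorem commAD_all (t u : F) : Commute (A (upT t)) (A wM * B (upT u) * (A wM)⁻¹) := by
  refine of_squares (fun u => Commute (A (upT t)) (A wM * B (upT u) * (A wM)⁻¹))
    (by simp [upT_zero]) (fun r s hr hs => ?_) (fun s => ?_) u
  · rw [upT_add, map_mul, ← conj_mul]
    exact hr.mul_right hs
  by_cases ht : t = 0
  · simp [ht, upT_zero]
  have h : Commute (A (upT 1)) (A wM * B (upT (1 : F)) * (A wM)⁻¹) := by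
    have := R.commAD
    rwa [map_inv] at this
  have h' := h.map (MulAut.conj (A (dg s) * B (dg (s * s * (Units.mk0 t ht)⁻¹))))
  simp only [MulAut.conj_apply, R.torus_A hω, R.torus_D hω, mul_one] at h'
  convert h' using 6
  rw [mul_inv, inv_inv, Units.val_mul, Units.val_mk0, pow_two, ← Units.val_mul, ← mul_assoc,
    Units.mul_inv, one_mul]

theorem commAC_all (t u : F) : A (upT t) * (B wM * A (upT u) * (B wM)⁻¹) =
    (B wM * A (upT u) * (B wM)⁻¹) * A (upT t) * (A wM * B (upT (-2 * t * u)) * (A wM)⁻¹) := by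
  by_cases hu : u = 0
  · simp [hu, upT_zero]
  suffices ∀ r : F, A (upT (r * u⁻¹)) * (B wM * A (upT u) * (B wM)⁻¹) =
      (B wM * A (upT u) * (B wM)⁻¹) * A (upT (r * u⁻¹)) *
        (A wM * B (upT (-2 * r)) * (A wM)⁻¹) by
    have := this (t * u)
    rwa [mul_inv_cancel_right₀ hu, ← mul_assoc (-2 : F)] at this
  refine of_squares _ (by simp [upT_zero]) (fun r s hr hs => ?_) (fun z => ?_)
  · rw [add_mul, upT_add, map_mul]
    have hc := (R.commAD_all hω (s * u⁻¹) (-2 * r)).eq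
    calc A (upT (r * u⁻¹)) * A (upT (s * u⁻¹)) * (B wM * A (upT u) * (B wM)⁻¹)
        = A (upT (r * u⁻¹)) * (A (upT (s * u⁻¹)) * (B wM * A (upT u) * (B wM)⁻¹)) := by group
      _ = (A (upT (r * u⁻¹)) * (B wM * A (upT u) * (B wM)⁻¹)) * A (upT (s * u⁻¹)) *
            (A wM * B (upT (-2 * s)) * (A wM)⁻¹) := by rw [hs]; group
      _ = (B wM * A (upT u) * (B wM)⁻¹) * A (upT (r * u⁻¹)) *
            ((A wM * B (upT (-2 * r)) * (A wM)⁻¹) * A (upT (s * u⁻¹))) *
            (A wM * B (upT (-2 * s)) * (A wM)⁻¹) := by rw [hr]; group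
      _ = (B wM * A (upT u) * (B wM)⁻¹) * (A (upT (r * u⁻¹)) * A (upT (s * u⁻¹))) *
            (A wM * (B (upT (-2 * r)) * B (upT (-2 * s))) * (A wM)⁻¹) := by rw [← hc]; group
      _ = _ := by simp only [← map_mul, ← upT_add, mul_add]
  · have h := R.commAC
    rw [map_inv, map_inv] at h
    have e := congrArg (fun x => A (dg z) * B (dg (Units.mk0 u hu)) * x *
      (A (dg z) * B (dg (Units.mk0 u hu)))⁻¹) h
    rw [conj_two _ (A (upT 1)), conj_three _ (B wM * A (upT 1) * (B wM)⁻¹), R.torus_A hω,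
      R.torus_C hω, R.torus_D hω] at e
    simp only [mul_one, Units.val_inv_eq_inv_val, Units.val_mk0] at e
    rw [mul_comm (-2 : F)]
    exact e

theorem commAB_sq (t : F) (s : Fˣ) : A (upT t) * B (upT ((s : F) ^ 2)) =
    B (upT ((s : F) ^ 2)) * A (upT t) * (B wM * A (upT (-(t * (s : F) ^ 2))) * (B wM)⁻¹) *
      (A wM * B (upT (-(t ^ 2 * (s : F) ^ 2))) * (A wM)⁻¹) := by
  by_cases ht : t = 0
  · simp [ht, upT_zero]
  set y := Units.mk0 t ht
  -- conjugation by `(z, v)` with `v / z = s` and `z² / v = t`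
  have h := R.commAB
  rw [map_inv, map_inv] at h
  have e := congrArg (fun x => A (dg (s * y)) * B (dg (s * s * y)) * x *
    (A (dg (s * y)) * B (dg (s * s * y)))⁻¹) h
  rw [conj_two _ (A (upT 1)), conj_four _ (B (upT 1)), R.torus_A hω, R.torus_B hω, R.torus_C hω, R.torus_D hω] at e
  have hs : (s : F) ≠ 0 := s.ne_zero
  simp only [mul_one, mul_neg, Units.val_inv_eq_inv_val, Units.val_mul, y, Units.val_mk0] at e
  rw [show ((s : F) * t) ^ 2 * ((s : F) * s * t)⁻¹ = t by field_simp,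
    show ((s : F) * t)⁻¹ ^ 2 * ((s : F) * s * t) ^ 2 = (s : F) ^ 2 by field_simp] at e
  rw [e]
  congr 5 <;> ring_nf

theorem commC_D (t u : F) : Commute (B wM * A (upT t) * (B wM)⁻¹) (A wM * B (upT u) * (A wM)⁻¹) := by
  have h := (R.commAD_all hω t u).map (MulAut.conj (B wM))
  simp only [MulAut.conj_apply, R.fixD_all hω] at h
  exact h

theorem commC_B (t u : F) : Commute (B wM * A (upT t) * (B wM)⁻¹) (B (upT u)) := by
  have h := (R.commC_D hω (-t) u).map (MulAut.conj (A wM)⁻¹)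
  simp only [MulAut.conj_apply, ← R.fixC_all hω t] at h
  simpa [mul_assoc] using h

theorem commAB_all (t u : F) : A (upT t) * B (upT u) =
    B (upT u) * A (upT t) * (B wM * A (upT (-(t * u))) * (B wM)⁻¹) *
      (A wM * B (upT (-(t ^ 2 * u))) * (A wM)⁻¹) := by
  refine of_squares (fun u => A (upT t) * B (upT u) =
    B (upT u) * A (upT t) * (B wM * A (upT (-(t * u))) * (B wM)⁻¹) *
      (A wM * B (upT (-(t ^ 2 * u))) * (A wM)⁻¹)) (by simp [upT_zero]) (fun r s hr hs => ?_)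
    (R.commAB_sq hω t) u
  set Cr := B wM * A (upT (-(t * r))) * (B wM)⁻¹ with hCr
  set Cs := B wM * A (upT (-(t * s))) * (B wM)⁻¹ with hCs
  set Dr := A wM * B (upT (-(t ^ 2 * r))) * (A wM)⁻¹ with hDr
  set Ds := A wM * B (upT (-(t ^ 2 * s))) * (A wM)⁻¹ with hDs
  have c1 : Cr * B (upT s) = B (upT s) * Cr := (R.commC_B hω _ _).eq
  have c2 : Dr * B (upT s) = B (upT s) * Dr := (R.commBD_all hω _ _).eq.symm
  have c3 : Cs * Dr = Dr * Cs := (R.commC_D hω _ _).eq
  have c5 : Cr * Ds = Ds * Cr := (R.commC_D hω _ _).eq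
  have c4 : Cr * Cs = Cs * Cr := by
    simp only [hCr, hCs, conj_mul, ← map_mul, ← upT_add]
    rw [add_comm]
  calc A (upT t) * B (upT (r + s)) = A (upT t) * B (upT r) * B (upT s) := by
        rw [upT_add, map_mul, mul_assoc]
    _ = B (upT r) * A (upT t) * Cr * (Dr * B (upT s)) := by rw [hr]; group
    _ = B (upT r) * A (upT t) * (Cr * B (upT s)) * Dr := by rw [c2]; group
    _ = B (upT r) * (A (upT t) * B (upT s)) * Cr * Dr := by rw [c1]; group
    _ = B (upT r) * B (upT s) * A (upT t) * Cs * (Ds * Cr) * Dr := by rw [hs]; group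
    _ = B (upT r) * B (upT s) * A (upT t) * (Cs * Cr) * (Ds * Dr) := by
        rw [← c5]; group
    _ = _ := by
        rw [← c4, ← map_mul B, ← upT_add]
        simp only [hCr, hCs, hDr, hDs, conj_mul, ← map_mul, ← upT_add]
        congr 5 <;> ring_nf

/-- The torus. -/
def torusHom : Fˣ × Fˣ →* G :=
  MonoidHom.noncommCoprod (A.comp dg) (B.comp dg) fun z y => R.torus_comm hω z y

/-- The Bruhat data. -/
def data (hgen : Subgroup.closure ({A (upT 1), A (dg ω), A wM, B (upT 1), B (dg ω), B wM} : Set G) = ⊤) :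
    Data F G where
  A t := A (upT t)
  B t := B (upT t)
  wa := A wM
  wb := B wM
  T := (torusHom hω R).range
  A_add t u := by rw [upT_add, map_mul]
  B_add t u := by rw [upT_add, map_mul]
  T_A := by rintro _ ⟨⟨z, y⟩, rfl⟩ t; exact ⟨_, R.torus_A hω z y t⟩
  T_B := by rintro _ ⟨⟨z, y⟩, rfl⟩ t; exact ⟨_, R.torus_B hω z y t⟩
  wa_T := by
    rintro _ ⟨⟨z, y⟩, rfl⟩
    refine ⟨(z⁻¹ * y, y), ?_⟩
    show A (dg (z⁻¹ * y)) * B (dg y) = A wM * (A (dg z) * B (dg y)) * (A wM)⁻¹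
    rw [← conj_mul, wa_a hω, R.wa_b hω, ← mul_assoc, ← map_mul, ← map_mul]
  wb_T := by
    rintro _ ⟨⟨z, y⟩, rfl⟩
    refine ⟨(z, z * z * y⁻¹), ?_⟩
    show A (dg z) * B (dg (z * z * y⁻¹)) = B wM * (A (dg z) * B (dg y)) * (B wM)⁻¹
    rw [← conj_mul, R.wb_a hω, wb_b hω, mul_assoc (A (dg z)), ← map_mul, ← map_mul]
  wa_sq := ⟨(-1, 1), by
    show A (dg (-1)) * B (dg 1) = A wM * A wM
    rw [map_one, map_one, mul_one, ← map_mul, wM_sq]⟩
  wb_sq := ⟨(1, -1), by
    show A (dg 1) * B (dg (-1)) = B wM * B wM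
    rw [map_one, map_one, one_mul, ← map_mul, wM_sq]⟩
  fix_C t := ⟨_, R.fixC_all hω t⟩
  fix_D t := ⟨_, R.fixD_all hω t⟩
  comm_BD := R.commBD_all hω
  comm_AD := R.commAD_all hω
  comm_AB t u := ⟨_, _, R.commAB_all hω t u⟩
  comm_AC t u := ⟨_, R.commAC_all hω t u⟩
  rank_A t ht := by
    obtain ⟨x, d, y, h⟩ := rank_one hω A t ht
    exact ⟨x, _, ⟨(d, 1), show A (dg d) * B (dg 1) = A (dg d) by simp⟩, y, h⟩
  rank_B t ht := by
    obtain ⟨x, d, y, h⟩ := rank_one hω B t ht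
    exact ⟨x, _, ⟨(1, d), show A (dg 1) * B (dg d) = B (dg d) by simp⟩, y, h⟩
  braid := R.braid
  gen := by
    rw [eq_top_iff, ← hgen, Subgroup.closure_le]
    rintro g (rfl | rfl | rfl | rfl | rfl | rfl) <;> refine Subgroup.subset_closure ?_
    · exact Or.inl (Or.inl (Or.inl ⟨1, rfl⟩))
    · exact Or.inl (Or.inr ⟨(ω, 1), show A (dg ω) * B (dg 1) = A (dg ω) by simp⟩)
    · exact Or.inr (Or.inl rfl)
    · exact Or.inl (Or.inl (Or.inr ⟨1, rfl⟩))
    · exact Or.inl (Or.inr ⟨(1, ω), show A (dg 1) * B (dg ω) = B (dg ω) by simp⟩)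
    · exact Or.inr (Or.inr rfl)

/-- The bound, in terms of the torus. -/
theorem card_le
    (hgen : Subgroup.closure ({A (upT 1), A (dg ω), A wM, B (upT 1), B (dg ω), B wM} : Set G) = ⊤) :
    Finite G ∧ Nat.card G * Nat.card (torusHom hω R).ker ≤
      Nat.card (Matrix.symplecticGroup (Fin 2) F) := by
  haveI : Finite (data hω R hgen).T :=
    Finite.of_surjective (torusHom hω R).rangeRestrict (torusHom hω R).rangeRestrict_surjective
  obtain ⟨hfin, hle⟩ := (data hω R hgen).card_le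
  refine ⟨hfin, ?_⟩
  change Nat.card G ≤ _ * Nat.card (torusHom hω R).range * _ * _ at hle
  have hk := Subgroup.index_mul_card (torusHom hω R).ker
  rw [Subgroup.index_ker, Nat.card_prod, Nat.card_units] at hk
  refine (Nat.mul_le_mul_right _ hle).trans (le_of_eq ?_)
  rw [GLOrder.card_Sp, show (2 : ℕ) ^ 2 = 4 from rfl, Finset.prod_range_succ,
    Finset.prod_range_one]
  have hq : 1 ≤ Nat.card F := Nat.card_pos
  calc Nat.card F ^ 4 * Nat.card (torusHom hω R).range * (1 + Nat.card F) *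
        (1 + Nat.card F + Nat.card F ^ 2 + Nat.card F ^ 3) * Nat.card (torusHom hω R).ker
      = Nat.card F ^ 4 * (Nat.card (torusHom hω R).range * Nat.card (torusHom hω R).ker) *
          (1 + Nat.card F) * (1 + Nat.card F + Nat.card F ^ 2 + Nat.card F ^ 3) := by ring
    _ = _ := by
      rw [hk]
      obtain ⟨m, hm⟩ : ∃ m, Nat.card F = m + 1 := ⟨Nat.card F - 1, by omega⟩
      rw [hm, Nat.add_sub_cancel]
      have e1 : (m + 1) ^ (2 * (0 + 1)) - 1 = m * (m + 2) := by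
        rw [Nat.sub_eq_iff_eq_add (Nat.one_le_pow _ _ (by omega))]; ring
      have e2 : (m + 1) ^ (2 * (1 + 1)) - 1 = m * ((m + 2) * ((m + 1) ^ 2 + 1)) := by
        rw [Nat.sub_eq_iff_eq_add (Nat.one_le_pow _ _ (by omega))]; ring
      rw [e1, e2]; ring

end Rels

end Cfsg.Agent.PSL2.SpFour
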