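import Cfsg.Agent.Lib.PSL2.SpEmb
import Cfsg.Agent.Lib.SpAmalgam.Main

/-
Gluing a copy of `Sp₄` and a copy of the symmetric group.

Main results (namespace `Cfsg.Agent.PSL2.SpN`): `Glue`, `exists_join`, `Glue.exists_hom`.
-/

set_option autoImplicit false
set_option linter.unusedSectionVars false
set_option linter.dupNamespace false

open Matrix
open scoped MatrixGroups

namespace Cfsg.Agent.PSL2.SpN

open Cfsg.Agent.SpAmalgam
open Cfsg.Agent.SympSylowTwo (permHom)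
open Cfsg.Agent.AutPSp (tv)

variable {F : Type*} [Field F] {n : ℕ}

local notation "Sp2" => Matrix.symplecticGroup (Fin 2) F
local notation "Spn" => Matrix.symplecticGroup (Fin n) F

/-- Homomorphisms on two commuting subgroups agreeing on their intersection extend to the product. -/
theorem exists_join {A H : Type*} [Group A] [Group H] {K L : Subgroup A} (φK : K →* H) (φL : L →* H)
    (hc : ∀ a ∈ K, ∀ b ∈ L, Commute a b) (himg : ∀ a b, Commute (φK a) (φL b))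
    (hag : ∀ g (hK : g ∈ K) (hL : g ∈ L), φK ⟨g, hK⟩ = φL ⟨g, hL⟩) :
    ∃ Ψ : ↥(K ⊔ L) →* H,
      (∀ g (hg : g ∈ K), Ψ ⟨g, Subgroup.mem_sup_left hg⟩ = φK ⟨g, hg⟩) ∧
        ∀ g (hg : g ∈ L), Ψ ⟨g, Subgroup.mem_sup_right hg⟩ = φL ⟨g, hg⟩ := by
  let iK : K →* ↥(K ⊔ L) := Subgroup.inclusion le_sup_left
  let iL : L →* ↥(K ⊔ L) := Subgroup.inclusion le_sup_right
  let π : K × L →* ↥(K ⊔ L) := MonoidHom.noncommCoprod iK iL fun a b => Subtype.ext (hc a a.2 b b.2)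
  let θ : K × L →* H := MonoidHom.noncommCoprod φK φL himg
  have hπ : Function.Surjective π := by
    rintro ⟨g, hg⟩
    have hle : K ⊔ L ≤ π.range.map (K ⊔ L).subtype := sup_le
      (fun a ha => ⟨iK ⟨a, ha⟩, ⟨(⟨a, ha⟩, 1), by show iK ⟨a, ha⟩ * iL 1 = _; rw [map_one, mul_one]⟩, rfl⟩)
      (fun b hb => ⟨iL ⟨b, hb⟩, ⟨(1, ⟨b, hb⟩), by show iK 1 * iL ⟨b, hb⟩ = _; rw [map_one, one_mul]⟩, rfl⟩)
    obtain ⟨y, ⟨x, hx⟩, e⟩ := hle hg
    exact ⟨x, hx.trans (Subtype.ext e)⟩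
  have hker : π.ker ≤ θ.ker := by
    rintro ⟨a, b⟩ h
    have h1 : (a : A) * b = 1 := congrArg Subtype.val (MonoidHom.mem_ker.mp h)
    have ha : (a : A) ∈ L := by rw [eq_inv_of_mul_eq_one_left h1]; exact inv_mem b.2
    rw [MonoidHom.mem_ker]
    show φK a * φL b = 1
    rw [hag a a.2 ha, ← map_mul, show (⟨(a : A), ha⟩ : L) * b = 1 from Subtype.ext h1, map_one]
  refine ⟨π.liftOfSurjective hπ ⟨θ, hker⟩, fun g hg => ?_, fun g hg => ?_⟩
  · have h := MonoidHom.liftOfRightInverse_comp_apply π (Function.surjInv hπ)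
      (Function.rightInverse_surjInv hπ) ⟨θ, hker⟩ (⟨g, hg⟩, 1)
    simpa [π, θ, iK, Subgroup.inclusion] using h
  · have h := MonoidHom.liftOfRightInverse_comp_apply π (Function.surjInv hπ)
      (Function.rightInverse_surjInv hπ) ⟨θ, hker⟩ (1, ⟨g, hg⟩)
    simpa [π, θ, iL, Subgroup.inclusion] using h

/-- A copy of `Sp₄` and a copy of the symmetric group, fitting together. -/
structure Glue (F : Type*) [Field F] (n : ℕ) (G : Type*) [Group G] where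
  /-- the symmetric group -/
  ρ : Equiv.Perm (Fin n) →* G
  /-- `Sp₄` -/
  φ : Matrix.symplecticGroup (Fin 2) F →* G
  /-- the pair of indices of `Sp₄` -/
  f₀ : Fin 2 ↪ Fin n
  /-- a third index -/
  i₂ : Fin n
  hi₂ : outP f₀ i₂
  swap_eq : ρ (Equiv.swap (f₀ 0) (f₀ 1)) = φ (sw F)
  commS : ∀ π : Equiv.Perm (Fin n), π (f₀ 1) = f₀ 1 → ∀ x : SL(2, F), Commute (ρ π) (φ (SpFour.E₂ x))
  commX : ∀ π : Equiv.Perm (Fin n), π (f₀ 0) = f₀ 0 → π (f₀ 1) = f₀ 1 → Commute (ρ π) (φ (xr 1))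
  commSX : ∀ x : SL(2, F),
    Commute (ρ (Equiv.swap (f₀ 1) i₂) * φ (SpFour.E₂ x) * (ρ (Equiv.swap (f₀ 1) i₂))⁻¹) (φ (xr 1))
  /-- a shift of the pair by one -/
  τ : Equiv.Perm (Fin n)
  hτ₀ : τ (f₀ 0) = f₀ 1
  hτ₁ : τ (f₀ 1) = i₂
  commXX : Commute (φ (xr 1)) (ρ τ * φ (xr 1) * (ρ τ)⁻¹)
  commXX' : (∃ π : Equiv.Perm (Fin n), ∀ a, outP f₀ (π (f₀ a))) →
    ∃ π : Equiv.Perm (Fin n), (∀ a, outP f₀ (π (f₀ a))) ∧ Commute (φ (xr 1)) (ρ π * φ (xr 1) * (ρ π)⁻¹)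
  two₁ : φ (xr 1) * (ρ (Equiv.swap (f₀ 1) i₂) * φ (xr 1) * (ρ (Equiv.swap (f₀ 1) i₂))⁻¹) =
    (ρ τ * φ (SpFour.E₁ (loT 1)) * (ρ τ)⁻¹) * φ (xr 1) * (ρ τ * φ (SpFour.E₁ (loT 1)) * (ρ τ)⁻¹)⁻¹
  two₂ : φ (xr 1) * (φ (wS 0 1) *
      (ρ (Equiv.swap (f₀ 1) i₂) * φ (xr 1) * (ρ (Equiv.swap (f₀ 1) i₂))⁻¹) * (φ (wS 0 1))⁻¹) =
    (ρ τ * φ (xr (-1)) * (ρ τ)⁻¹)⁻¹ * (φ (wS 0 1) *
      (ρ (Equiv.swap (f₀ 1) i₂) * φ (xr 1) * (ρ (Equiv.swap (f₀ 1) i₂))⁻¹) * (φ (wS 0 1))⁻¹) * φ (xr 1)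

theorem exists_perm_extend {α β : Type*} [Fintype β] [DecidableEq β] (f g : α ↪ β) :
    ∃ π : Equiv.Perm β, ∀ a, π (f a) = g a := by
  classical
  have e : {x // x ∈ Set.range f} ≃ {x // x ∈ Set.range g} :=
    (Equiv.ofInjective f f.injective).symm.trans (Equiv.ofInjective g g.injective)
  refine ⟨((Equiv.ofInjective f f.injective).symm.trans
    (Equiv.ofInjective g g.injective)).extendSubtype, fun a => ?_⟩
  rw [Equiv.extendSubtype_apply_of_mem _ _ ⟨a, rfl⟩]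
  simp [Equiv.ofInjective_symm_apply]

/-- Three indices as an embedding. -/
def triple (f : Fin 2 ↪ Fin n) {k : Fin n} (hk : outP f k) : Fin 3 ↪ Fin n :=
  ⟨![f 0, f 1, k], fun a b h => by
    fin_cases a <;> fin_cases b <;> simp at h ⊢
    · exact absurd h.symm (hk 0)
    · exact absurd h.symm (hk 1)
    · exact absurd h (hk 0)
    · exact absurd h (hk 1)⟩

/-- A pair of distinct indices as an embedding. -/
def pairE {i r : Fin n} (h : i ≠ r) : Fin 2 ↪ Fin n :=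
  ⟨![i, r], fun a b e => by fin_cases a <;> fin_cases b <;> simp [h, h.symm] at e ⊢⟩

@[simp] theorem pairE_zero {i r : Fin n} (h : i ≠ r) : pairE h 0 = i := rfl
@[simp] theorem pairE_one {i r : Fin n} (h : i ≠ r) : pairE h 1 = r := rfl

namespace Glue

variable {G : Type*} [Group G] (D : Glue F n G)
include D

theorem comm_all {π : Equiv.Perm (Fin n)} (h0 : π (D.f₀ 0) = D.f₀ 0) (h1 : π (D.f₀ 1) = D.f₀ 1)
    (h : Sp2) : Commute (D.ρ π) (D.φ h) := by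
  have hs : Commute (D.ρ π) (D.φ (sw F)) := by
    rw [← D.swap_eq]
    refine Commute.map ?_ D.ρ
    show π * Equiv.swap (D.f₀ 0) (D.f₀ 1) = Equiv.swap (D.f₀ 0) (D.f₀ 1) * π
    rw [← mul_inv_eq_iff_eq_mul, ← Equiv.swap_apply_apply, h0, h1]
  set R : Subgroup Sp2 := (Subgroup.centralizer {D.ρ π}).comap D.φ
  have hR : ∀ g, g ∈ R ↔ Commute (D.ρ π) (D.φ g) := fun g => by
    rw [Subgroup.mem_comap, Subgroup.mem_centralizer_singleton_iff]
    exact ⟨fun e => e.symm, fun e => e.symm⟩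
  have hS1 : Sn F (1 : Fin 2) ≤ R := by
    rw [← range_E₂]
    rintro _ ⟨x, rfl⟩
    exact (hR _).mpr (D.commS π h1 x)
  have hS0 : Sn F (0 : Fin 2) ≤ R := fun g hg => by
    have hsR := (hR _).mpr hs
    have hm : sw F * g * (sw F)⁻¹ ∈ R := by
      refine hS1 (mem_Kfix.2 fun l hl => ?_)
      have hl0 : l = 0 := by omega
      subst hl0
      obtain ⟨e1, e2⟩ := mem_Kfix.1 hg (1 : Fin 2) (by decide)
      obtain ⟨s1, s2⟩ := act_permHom (F := F) (Equiv.swap (0 : Fin 2) 1) 1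
      simp only [Equiv.swap_apply_right] at s1 s2
      constructor
      · rw [act_mul, act_mul, sw, act_inv_eq _ s1, e1, s1]
      · rw [act_mul, act_mul, sw, act_inv_eq _ s2, e2, s2]
    have := mul_mem (mul_mem (inv_mem hsR) hm) hsR
    rwa [show (sw F)⁻¹ * (sw F * g * (sw F)⁻¹) * sw F = g by group] at this
  have htop := eq_top_of_gens R hS0 hS1 ((hR _).mpr (D.commX π h0 h1))
  exact (hR h).mp (htop ▸ Subgroup.mem_top h)

/-- A permutation carrying the standard pair to a given one. -/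
noncomputable def pick (f : Fin 2 ↪ Fin n) : Equiv.Perm (Fin n) := (exists_perm_extend D.f₀ f).choose

theorem pick_spec (f : Fin 2 ↪ Fin n) (a : Fin 2) : D.pick f (D.f₀ a) = f a :=
  (exists_perm_extend D.f₀ f).choose_spec a

/-- `Sp₄` on a pair. -/
noncomputable def Φ (f : Fin 2 ↪ Fin n) : Sp2 →* G := (MulAut.conj (D.ρ (D.pick f))).toMonoidHom.comp D.φ

theorem Φ_eq (π : Equiv.Perm (Fin n)) (f : Fin 2 ↪ Fin n) (h : ∀ a, π (D.f₀ a) = f a) (g : Sp2) :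
    D.Φ f g = D.ρ π * D.φ g * (D.ρ π)⁻¹ := by
  show D.ρ (D.pick f) * D.φ g * (D.ρ (D.pick f))⁻¹ = _
  have hc := D.comm_all (π := π⁻¹ * D.pick f)
    (by rw [Equiv.Perm.mul_apply, D.pick_spec, ← h 0]; simp)
    (by rw [Equiv.Perm.mul_apply, D.pick_spec, ← h 1]; simp) g
  rw [show D.ρ (D.pick f) = D.ρ π * D.ρ (π⁻¹ * D.pick f) by rw [← map_mul, mul_inv_cancel_left],
    _root_.mul_inv_rev]
  rw [show ∀ a b : G, D.ρ π * a * b * (a⁻¹ * (D.ρ π)⁻¹) = D.ρ π * (a * b * a⁻¹) * (D.ρ π)⁻¹ from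
    fun a b => by group, hc.eq, mul_inv_cancel_right]

theorem Φ_zero (g : Sp2) : D.Φ D.f₀ g = D.φ g := by
  rw [D.Φ_eq 1 D.f₀ (fun a => rfl), map_one, one_mul, inv_one, mul_one]

theorem Φ_conj (σ : Equiv.Perm (Fin n)) (f : Fin 2 ↪ Fin n) (g : Sp2) :
    D.ρ σ * D.Φ f g * (D.ρ σ)⁻¹ = D.Φ (f.trans σ.toEmbedding) g := by
  rw [D.Φ_eq (D.pick f) f (D.pick_spec f), D.Φ_eq (σ * D.pick f) (f.trans σ.toEmbedding)
    (fun a => by simp [D.pick_spec]), map_mul]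
  group

theorem Φ_swap (f : Fin 2 ↪ Fin n) : D.ρ (Equiv.swap (f 0) (f 1)) = D.Φ f (sw F) := by
  rw [D.Φ_eq (D.pick f) f (D.pick_spec f), ← D.swap_eq, ← map_inv, ← map_mul, ← map_mul,
    ← Equiv.swap_apply_apply, D.pick_spec, D.pick_spec]

theorem Φ_flip (f : Fin 2 ↪ Fin n) (g : Sp2) :
    D.Φ (flip f) g = D.Φ f (sw F * g * (sw F)⁻¹) := by
  rw [D.Φ_eq (D.pick f * Equiv.swap (D.f₀ 0) (D.f₀ 1)) (flip f) (fun a => by
      fin_cases a <;> simp [flip, D.pick_spec]),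
    D.Φ_eq (D.pick f) f (D.pick_spec f), map_mul, map_mul, map_mul, map_inv, D.swap_eq]
  group

/-- The homomorphism on the fixer of the complement of a pair. -/
noncomputable def Ψ (f : Fin 2 ↪ Fin n) : ↥(Kfix F (outP f)) →* G :=
  MonoidHom.mk' (fun g => D.Φ f (exists_emb_eq f g.2).choose) fun a b => by
    rw [← map_mul]
    congr 1
    apply emb_injective f
    rw [map_mul, (exists_emb_eq f a.2).choose_spec, (exists_emb_eq f b.2).choose_spec,
      (exists_emb_eq f (a * b).2).choose_spec, Subgroup.coe_mul]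

theorem Ψ_emb (f : Fin 2 ↪ Fin n) {g : Spn} (hg : g ∈ Kfix F (outP f)) {h : Sp2} (he : emb f h = g) :
    D.Ψ f ⟨g, hg⟩ = D.Φ f h := by
  show D.Φ f (exists_emb_eq f hg).choose = _
  congr 1
  exact emb_injective f ((exists_emb_eq f hg).choose_spec.trans he.symm)

omit D in
theorem Sn_le_fix (f : Fin 2 ↪ Fin n) (a : Fin 2) : Sn F (f a) ≤ Kfix F (outP f) :=
  Kfix_mono fun l hl e => hl a e

/-- A pair with a given second index. -/
noncomputable def fk (k : Fin n) : Fin 2 ↪ Fin n := D.f₀.trans (Equiv.swap (D.f₀ 1) k).toEmbedding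

theorem fk_one (k : Fin n) : D.fk k 1 = k := by simp [fk]

/-- The `SL₂` of an index. -/
noncomputable def σ (k : Fin n) : ↥(Sn F k) →* G :=
  (D.Ψ (D.fk k)).comp (Subgroup.inclusion (Kfix_mono fun l hl e => hl 1 (e.trans (D.fk_one k).symm)))

theorem σ_emb (f : Fin 2 ↪ Fin n) (a : Fin 2) {k : Fin n} (hk : f a = k) {g : Spn} (hg : g ∈ Sn F k)
    {h : Sp2} (he : emb f h = g) : D.σ k ⟨g, hg⟩ = D.Φ f h := by
  have main : ∀ (f : Fin 2 ↪ Fin n), f 1 = k → ∀ h : Sp2, emb f h = g → D.σ k ⟨g, hg⟩ = D.Φ f h := by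
    intro f hf h he
    have hgk : g ∈ Kfix F (outP (D.fk k)) :=
      Kfix_mono (fun l hl e => hl 1 (e.trans (D.fk_one k).symm)) hg
    obtain ⟨h', he'⟩ := exists_emb_eq (D.fk k) hgk
    show D.Ψ (D.fk k) ⟨g, hgk⟩ = _
    rw [D.Ψ_emb _ hgk he']
    set π := D.pick f * (D.pick (D.fk k))⁻¹ with hπdef
    have hp : ∀ b, (D.pick (D.fk k))⁻¹ (D.fk k b) = D.f₀ b := fun b => by
      rw [Equiv.Perm.inv_eq_iff_eq, D.pick_spec]
    have hπ : ∀ b, π (D.fk k b) = f b := fun b => by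
      rw [hπdef, Equiv.Perm.mul_apply, hp, D.pick_spec]
    have hπk : π k = k := by
      have := hπ 1
      rwa [D.fk_one, hf] at this
    have htr : (D.fk k).trans π.toEmbedding = f := Function.Embedding.ext hπ
    have hfix : permHom n F π * g * (permHom n F π)⁻¹ = g := by
      have hc : Commute g (permHom n F π) := Sn_comm hg (by rw [(act_permHom π k).1, hπk])
        (by rw [(act_permHom π k).2, hπk])
      rw [← hc.eq, mul_inv_cancel_right]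
    have hhh : h' = h := by
      apply emb_injective f
      rw [he, ← hfix, ← he', conj_emb, htr]
    subst hhh
    have hS1 : h' ∈ Sn F (1 : Fin 2) := by
      refine mem_Sn_of_emb (D.fk k) ?_
      rw [he', D.fk_one]
      exact hg
    rw [← range_E₂] at hS1
    obtain ⟨x, rfl⟩ := hS1
    rw [← htr, ← D.Φ_conj π (D.fk k)]
    have hπ' : ((D.pick (D.fk k))⁻¹ * π * D.pick (D.fk k)) (D.f₀ 1) = D.f₀ 1 := by
      simp only [Equiv.Perm.mul_apply, D.pick_spec, D.fk_one, hπk]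
      rw [Equiv.Perm.inv_eq_iff_eq, D.pick_spec, D.fk_one]
    have hc := (D.commS _ hπ' x).map (MulAut.conj (D.ρ (D.pick (D.fk k)))).toMonoidHom
    simp only [MulEquiv.coe_toMonoidHom, MulAut.conj_apply] at hc
    rw [← D.Φ_eq _ (D.fk k) (D.pick_spec _), ← map_inv, ← map_mul, ← map_mul,
      show D.pick (D.fk k) * ((D.pick (D.fk k))⁻¹ * π * D.pick (D.fk k)) * (D.pick (D.fk k))⁻¹ = π by group] at hc
    rw [hc.eq, mul_inv_cancel_right]
  obtain rfl | rfl : a = 0 ∨ a = 1 := by omega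
  · have hsq : sw F * sw F = 1 := by
      rw [sw, ← map_mul, Equiv.swap_mul_self, map_one]
    have hinv : (sw F)⁻¹ = sw F := inv_eq_of_mul_eq_one_right hsq
    have hh : sw F * (sw F * h * (sw F)⁻¹) * (sw F)⁻¹ = h := by
      rw [hinv, show sw F * (sw F * h * sw F) * sw F = (sw F * sw F) * h * (sw F * sw F) by group,
        hsq, one_mul, mul_one]
    rw [main (flip f) (by rw [flip_one, hk]) (sw F * h * (sw F)⁻¹) (by rw [emb_flip, hh, he]),
      D.Φ_flip, hh]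
  · exact main f hk h he

theorem Ψ_σ (f : Fin 2 ↪ Fin n) (a : Fin 2) {k : Fin n} (hk : f a = k) {g : Spn} (hg : g ∈ Sn F k)
    (hg' : g ∈ Kfix F (outP f)) : D.Ψ f ⟨g, hg'⟩ = D.σ k ⟨g, hg⟩ := by
  obtain ⟨h, he⟩ := exists_emb_eq f hg'
  rw [D.Ψ_emb f hg' he, D.σ_emb f a hk hg he]

theorem hSS {k l : Fin n} (hkl : k ≠ l) : ∃ Ψ : ↥(Sn F k ⊔ Sn F l) →* G,
    (∀ g (hg : g ∈ Sn F k), Ψ ⟨g, Subgroup.mem_sup_left hg⟩ = D.σ k ⟨g, hg⟩) ∧
      ∀ g (hg : g ∈ Sn F l), Ψ ⟨g, Subgroup.mem_sup_right hg⟩ = D.σ l ⟨g, hg⟩ := by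
  have h : Sn F k ⊔ Sn F l ≤ Kfix F (outP (pairE hkl)) := sup_le
    (Kfix_mono fun x hx => hx 0) (Kfix_mono fun x hx => hx 1)
  refine ⟨(D.Ψ (pairE hkl)).comp (Subgroup.inclusion h), fun g hg => ?_, fun g hg => ?_⟩
  · exact D.Ψ_σ (pairE hkl) 0 rfl hg _
  · exact D.Ψ_σ (pairE hkl) 1 rfl hg _

theorem σ_comm {k l : Fin n} (hkl : k ≠ l) {g g' : Spn} (hg : g ∈ Sn F k) (hg' : g' ∈ Sn F l) :
    Commute (D.σ k ⟨g, hg⟩) (D.σ l ⟨g', hg'⟩) := by
  obtain ⟨Ψ, h1, h2⟩ := D.hSS hkl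
  have hc : Commute g g' :=
    Sn_comm hg (mem_Kfix.1 hg' k hkl).1 (mem_Kfix.1 hg' k hkl).2
  have h := Amalgam.pair_commute Ψ hg hg' hc
  rwa [h1 _ hg, h2 _ hg'] at h

/-- The short root elements of a pair. -/
noncomputable def X (f : Fin 2 ↪ Fin n) (s : F) : G := D.Φ f (xr s)

theorem X_zero (f : Fin 2 ↪ Fin n) : D.X f 0 = 1 := by rw [X, xr_zero, map_one]

theorem X_conj (π : Equiv.Perm (Fin n)) (f : Fin 2 ↪ Fin n) (s : F) :
    D.ρ π * D.X f s * (D.ρ π)⁻¹ = D.X (f.trans π.toEmbedding) s := D.Φ_conj π f _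

theorem X_scale (f : Fin 2 ↪ Fin n) (a : Fin 2) {s : F} (hs : s ≠ 0) :
    D.σ (f a) ⟨hS (f a) s, hS_mem_Sn _ s⟩ * D.X f 1 * (D.σ (f a) ⟨hS (f a) s, hS_mem_Sn _ s⟩)⁻¹ =
      D.X f s := by
  rw [D.σ_emb f a rfl (hS_mem_Sn _ s) (emb_hS f a s), X, X, ← hS_conj_xr a hs, map_mul, map_mul, map_inv]

theorem σ_comm_X_one {k : Fin n} {g : Spn} (hg : g ∈ Sn F k) {f : Fin 2 ↪ Fin n} (hk : outP f k) :
    Commute (D.σ k ⟨g, hg⟩) (D.X f 1) := by
  obtain ⟨π, hπ⟩ := exists_perm_extend (triple D.f₀ D.hi₂) (triple f hk)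
  have h0 : π (D.f₀ 0) = f 0 := hπ 0
  have h1 : π (D.f₀ 1) = f 1 := hπ 1
  have h2 : π D.i₂ = k := hπ 2
  set f' : Fin 2 ↪ Fin n := (D.fk D.i₂).trans π.toEmbedding
  have hf' : f' 1 = k := by
    show π (D.fk D.i₂ 1) = k
    rw [D.fk_one, h2]
  have hgf : g ∈ Kfix F (outP f') := Kfix_mono (fun l hl e => hl 1 (e.trans hf'.symm)) hg
  obtain ⟨h, he⟩ := exists_emb_eq f' hgf
  have hS1 : h ∈ Sn F (1 : Fin 2) := by
    refine mem_Sn_of_emb f' ?_
    rw [he, hf']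
    exact hg
  rw [← range_E₂] at hS1
  obtain ⟨x, rfl⟩ := hS1
  rw [D.σ_emb f' 1 hf' hg he, ← D.Φ_conj π, D.Φ_eq (Equiv.swap (D.f₀ 1) D.i₂) (D.fk D.i₂) (fun a => rfl),
    X, D.Φ_eq π f (fun a => by obtain rfl | rfl : a = 0 ∨ a = 1 := by omega
                               exacts [h0, h1])]
  exact (D.commSX x).map (MulAut.conj (D.ρ π)).toMonoidHom

theorem σ_comm_X {k : Fin n} {g : Spn} (hg : g ∈ Sn F k) {f : Fin 2 ↪ Fin n} (hk : outP f k) (s : F) :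
    Commute (D.σ k ⟨g, hg⟩) (D.X f s) := by
  rcases eq_or_ne s 0 with rfl | hs
  · rw [D.X_zero]; exact Commute.one_right _
  rw [← D.X_scale f 0 hs]
  have hc := D.σ_comm (hk 0) hg (hS_mem_Sn (f 0) s)
  exact (hc.mul_right (D.σ_comm_X_one hg hk)).mul_right hc.inv_right

theorem X_comm_one_adj {f f' : Fin 2 ↪ Fin n} (h : f 1 = f' 0) (h' : outP f (f' 1)) :
    Commute (D.X f 1) (D.X f' 1) := by
  obtain ⟨π, hπ⟩ := exists_perm_extend (triple D.f₀ D.hi₂) (triple f h')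
  have h0 : π (D.f₀ 0) = f 0 := hπ 0
  have h1 : π (D.f₀ 1) = f 1 := hπ 1
  have h2 : π D.i₂ = f' 1 := hπ 2
  rw [X, X, D.Φ_eq π f (fun a => by obtain rfl | rfl : a = 0 ∨ a = 1 := by omega
                                    exacts [h0, h1]),
    D.Φ_eq (π * D.τ) f' (fun a => by
      obtain rfl | rfl : a = 0 ∨ a = 1 := by omega
      · rw [Equiv.Perm.mul_apply, D.hτ₀, h1, h]
      · rw [Equiv.Perm.mul_apply, D.hτ₁, h2])]
  have := D.commXX.map (MulAut.conj (D.ρ π)).toMonoidHom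
  simp only [MulEquiv.coe_toMonoidHom, MulAut.conj_apply] at this
  convert this using 1
  rw [map_mul]; group

theorem X_comm_one_disj {f f' : Fin 2 ↪ Fin n} (h : ∀ a, outP f (f' a)) :
    Commute (D.X f 1) (D.X f' 1) := by
  set π₁ := D.pick f
  have hex : ∃ π : Equiv.Perm (Fin n), ∀ a, outP D.f₀ (π (D.f₀ a)) :=
    ⟨π₁⁻¹ * D.pick f', fun a b e => h a b (by
      rw [Equiv.Perm.mul_apply, D.pick_spec, Equiv.Perm.inv_eq_iff_eq, D.pick_spec] at e
      exact e)⟩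
  obtain ⟨π, hπ, hc⟩ := D.commXX' hex
  let q : Fin 2 ⊕ Fin 2 ↪ Fin n := ⟨Sum.elim D.f₀ (fun a => π (D.f₀ a)),
    Function.Injective.sumElim D.f₀.injective (π.injective.comp D.f₀.injective)
      fun a b e => hπ b a e.symm⟩
  let q' : Fin 2 ⊕ Fin 2 ↪ Fin n := ⟨Sum.elim f f',
    Function.Injective.sumElim f.injective f'.injective fun a b e => h b a e.symm⟩
  obtain ⟨σ, hσ⟩ := exists_perm_extend q q'
  rw [X, X, D.Φ_eq σ f (fun a => hσ (.inl a)), D.Φ_eq (σ * π) f' (fun a => hσ (.inr a))]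
  have := hc.map (MulAut.conj (D.ρ σ)).toMonoidHom
  simp only [MulEquiv.coe_toMonoidHom, MulAut.conj_apply] at this
  convert this using 1
  rw [map_mul]; group

/-- Two pairs which are either disjoint or share the middle one of three indices. -/
def Linked (_D : Glue F n G) (f f' : Fin 2 ↪ Fin n) : Prop :=
  (∀ a, outP f (f' a)) ∨ (f 1 = f' 0 ∧ outP f (f' 1))

theorem X_comm {f f' : Fin 2 ↪ Fin n} (h : D.Linked f f') (s t : F) :
    Commute (D.X f s) (D.X f' t) := by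
  rcases eq_or_ne s 0 with rfl | hs
  · rw [D.X_zero]; exact Commute.one_left _
  rcases eq_or_ne t 0 with rfl | ht
  · rw [D.X_zero]; exact Commute.one_right _
  have h11 : Commute (D.X f 1) (D.X f' 1) :=
    h.elim D.X_comm_one_disj fun h => D.X_comm_one_adj h.1 h.2
  have h0 : outP f' (f 0) := by
    rcases h with h | ⟨h1, h2⟩
    · exact fun b e => h b 0 e.symm
    · intro b e
      obtain rfl | rfl : b = 0 ∨ b = 1 := by omega
      · exact absurd (f.injective (e.trans h1.symm)) (by decide)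
      · exact h2 0 e.symm
  have h1 : outP f (f' 1) := h.elim (fun h => h 1) And.right
  rw [← D.X_scale f 0 hs]
  have hA := D.σ_comm_X_one (hS_mem_Sn (f 0) s) h0
  have h2 : Commute (D.σ (f 0) ⟨hS (f 0) s, hS_mem_Sn _ s⟩ * D.X f 1 *
      (D.σ (f 0) ⟨hS (f 0) s, hS_mem_Sn _ s⟩)⁻¹) (D.X f' 1) :=
    (hA.mul_left h11).mul_left hA.inv_left
  rw [← D.X_scale f' 1 ht]
  have hB : Commute (D.σ (f' 1) ⟨hS (f' 1) t, hS_mem_Sn _ t⟩)
      (D.σ (f 0) ⟨hS (f 0) s, hS_mem_Sn _ s⟩ * D.X f 1 * (D.σ (f 0) ⟨hS (f 0) s, hS_mem_Sn _ s⟩)⁻¹) := by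
    have hc := D.σ_comm (h1 0) (hS_mem_Sn (f' 1) t) (hS_mem_Sn (f 0) s)
    exact (hc.mul_right (D.σ_comm_X_one _ h1)).mul_right hc.inv_right
  exact (hB.symm.mul_right h2).mul_right hB.symm.inv_right

omit D in
theorem Mn_le_fix (f : Fin 2 ↪ Fin n) : Mn F (f 0) (f 1) ≤ Kfix F (outP f) := fun _ hg =>
  mem_Kfix.2 fun l hl => ⟨(mem_Mn.1 hg).1 l, (mem_Mn.1 hg).2 l (hl 0) (hl 1)⟩

/-- The abelian piece of a consecutive pair. -/
noncomputable def μ (i r : Fin n) (h : (i : ℕ) + 1 = r) : ↥(Mn F i r) →* G :=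
  (D.Ψ (pairE (fun e => by rw [e] at h; omega : i ≠ r))).comp
    (Subgroup.inclusion (Mn_le_fix (pairE (fun e => by rw [e] at h; omega : i ≠ r))))

theorem μ_eq {i r : Fin n} (h : (i : ℕ) + 1 = r) (hir : i ≠ r) {g : Spn} (hg : g ∈ Mn F i r) :
    D.μ i r h ⟨g, hg⟩ = D.Ψ (pairE hir) ⟨g, Mn_le_fix (pairE hir) hg⟩ := rfl

theorem μ_decomp {i r : Fin n} (h : (i : ℕ) + 1 = r) (hir : i ≠ r) {g : Spn} (hg : g ∈ Mn F i r) :
    ∃ a b c : F, D.μ i r h ⟨g, hg⟩ =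
      D.σ i ⟨tv (ee i) a, tv_mem_Sn (.inl rfl) a⟩ * D.X (pairE hir) b *
        D.σ r ⟨tv (ee r) c, tv_mem_Sn (.inl rfl) c⟩ := by
  obtain ⟨a, b, c, rfl⟩ := Mn_decomp hir hg
  refine ⟨a, b, c, ?_⟩
  have e1 : emb (pairE hir) (tv (ee 0) a) = tv (ee i) a := by rw [emb_tv, inc_ee]; rfl
  have e2 : emb (pairE hir) (xr b) = eic (ee i) (b • ee r) 0 := by rw [emb_xr]; rfl
  have e3 : emb (pairE hir) (tv (ee 1) c) = tv (ee r) c := by rw [emb_tv, inc_ee]; rfl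
  rw [D.μ_eq h hir, D.Ψ_emb _ _ (h := tv (ee 0) a * xr b * tv (ee 1) c)
    (by rw [map_mul, map_mul, e1, e2, e3]), map_mul, map_mul,
    D.σ_emb (pairE hir) 0 (k := i) rfl (tv_mem_Sn (.inl rfl) a) e1,
    D.σ_emb (pairE hir) 1 (k := r) rfl (tv_mem_Sn (.inl rfl) c) e3]
  rfl

theorem μ_comm_σ {i r : Fin n} (h : (i : ℕ) + 1 = r) (hir : i ≠ r) {g : Spn} (hg : g ∈ Mn F i r)
    {k : Fin n} (hki : k ≠ i) (hkr : k ≠ r) {g' : Spn} (hg' : g' ∈ Sn F k) :
    Commute (D.μ i r h ⟨g, hg⟩) (D.σ k ⟨g', hg'⟩) := by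
  have hk : outP (pairE hir) k := fun a => by
    obtain rfl | rfl : a = 0 ∨ a = 1 := by omega
    exacts [hki, hkr]
  obtain ⟨a, b, c, e⟩ := D.μ_decomp h hir hg
  rw [e]
  exact ((D.σ_comm hki.symm _ hg').mul_left (D.σ_comm_X hg' hk b).symm).mul_left
    (D.σ_comm hkr.symm _ hg')

theorem hMS (i r : Fin n) (h : (i : ℕ) + 1 = r) (k : Fin n) : ∃ Ψ : ↥(Mn F i r ⊔ Sn F k) →* G,
    (∀ g (hg : g ∈ Mn F i r), Ψ ⟨g, Subgroup.mem_sup_left hg⟩ = D.μ i r h ⟨g, hg⟩) ∧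
      ∀ g (hg : g ∈ Sn F k), Ψ ⟨g, Subgroup.mem_sup_right hg⟩ = D.σ k ⟨g, hg⟩ := by
  have hir : i ≠ r := fun e => by rw [e] at h; omega
  by_cases hk : outP (pairE hir) k
  · have hki : k ≠ i := hk 0
    have hkr : k ≠ r := hk 1
    refine exists_join (D.μ i r h) (D.σ k) (fun g hg g' hg' => ?_)
      (fun a b => D.μ_comm_σ h hir a.2 hki hkr b.2) fun g hM hS => ?_
    · exact Mn_comm hg (mem_Kfix.1 hg' i hki.symm).1 (mem_Kfix.1 hg' r hkr.symm).1
    · have h1 : g = 1 := eq_one_of_fix fun l => ⟨(mem_Mn.1 hM).1 l, by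
        by_cases hl : l = k
        · subst hl; exact (mem_Mn.1 hM).2 l hki hkr
        · exact (mem_Kfix.1 hS l hl).2⟩
      subst h1
      exact (map_one (D.μ i r h)).trans (map_one (D.σ k)).symm
  · simp only [outP, not_forall, not_not] at hk
    obtain ⟨a, rfl⟩ := hk
    have hle : Mn F i r ⊔ Sn F (pairE hir a) ≤ Kfix F (outP (pairE hir)) :=
      sup_le (Mn_le_fix (pairE hir)) (Sn_le_fix (pairE hir) a)
    exact ⟨(D.Ψ (pairE hir)).comp (Subgroup.inclusion hle), fun g hg => rfl,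
      fun g hg => D.Ψ_σ (pairE hir) a rfl hg _⟩

theorem hMM (i r : Fin n) (h : (i : ℕ) + 1 = r) (i' r' : Fin n) (h' : (i' : ℕ) + 1 = r')
    (hne : i ≠ i') : ∃ Ψ : ↥(Mn F i r ⊔ Mn F i' r') →* G,
      (∀ g (hg : g ∈ Mn F i r), Ψ ⟨g, Subgroup.mem_sup_left hg⟩ = D.μ i r h ⟨g, hg⟩) ∧
        ∀ g (hg : g ∈ Mn F i' r'), Ψ ⟨g, Subgroup.mem_sup_right hg⟩ = D.μ i' r' h' ⟨g, hg⟩ := by
  have hir : i ≠ r := fun e => by rw [e] at h; omega
  have hir' : i' ≠ r' := fun e => by rw [e] at h'; omega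
  have hrr : r ≠ r' := fun e => hne (Fin.ext (by rw [e] at h; omega))
  have out_of : ∀ {x y z : Fin n} (hxy : x ≠ y), z ≠ x → z ≠ y → outP (pairE hxy) z :=
    fun hxy h1 h2 a => by obtain rfl | rfl : a = 0 ∨ a = 1 := by omega
                          exacts [h1, h2]
  refine exists_join (D.μ i r h) (D.μ i' r' h') (fun g hg g' hg' => ?_) (fun a b => ?_)
    fun g hM hM' => ?_
  · exact Mn_comm hg ((mem_Mn.1 hg').1 i) ((mem_Mn.1 hg').1 r)
  · have hX : ∀ s t, Commute (D.X (pairE hir) s) (D.X (pairE hir') t) := by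
      intro s t
      rcases eq_or_ne r i' with h1 | h1
      · have hne2 : r' ≠ i := fun e => by rw [e] at h'; rw [← h1] at h'; omega
        exact D.X_comm (.inr ⟨h1, out_of hir hne2 hrr.symm⟩) s t
      rcases eq_or_ne r' i with h2 | h2
      · exact (D.X_comm (.inr ⟨h2, out_of hir' h1 hrr⟩) t s).symm
      · refine D.X_comm (.inl fun a => ?_) s t
        obtain rfl | rfl : a = 0 ∨ a = 1 := by omega
        exacts [out_of hir hne.symm h1.symm, out_of hir h2 hrr.symm]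
    obtain ⟨x, y, z, e⟩ := D.μ_decomp h hir a.2
    obtain ⟨x', y', z', e'⟩ := D.μ_decomp h' hir' b.2
    have hσσ : ∀ (p q : Fin n) (s t : F), Commute (D.σ p ⟨tv (ee p) s, tv_mem_Sn (.inl rfl) s⟩)
        (D.σ q ⟨tv (ee q) t, tv_mem_Sn (.inl rfl) t⟩) := by
      intro p q s t
      rcases eq_or_ne p q with rfl | hpq
      · refine Commute.map (Subtype.ext (act_ext fun v => ?_)) (D.σ p)
        simp only [Subgroup.coe_mul, act_mul, act_tv, Linear.sympForm_add_left,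
          Linear.sympForm_smul_left, Linear.sympForm_self]
        module
      · exact D.σ_comm hpq _ _
    have hσX : ∀ (f : Fin 2 ↪ Fin n) (p : Fin n) (s t : F),
        Commute (D.σ p ⟨tv (ee p) s, tv_mem_Sn (.inl rfl) s⟩) (D.X f t) := by
      intro f p s t
      by_cases hp : outP f p
      · exact D.σ_comm_X _ hp t
      simp only [outP, not_forall, not_not] at hp
      obtain ⟨a, rfl⟩ := hp
      rw [D.σ_emb f a rfl (tv_mem_Sn (.inl rfl) s) (h := tv (ee a) s) (by rw [emb_tv, inc_ee]), X]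
      refine Commute.map (act_ext fun v => ?_) (D.Φ f)
      have h0 : Cfsg.sympForm 2 F (ee 0) (t • ee 1) = 0 := by simp
      simp only [act_mul, act_tv, xr, act_eic h0, Linear.sympForm_add_left, Linear.sympForm_smul_left,
        Linear.sympForm_smul_right]
      simp
      module
    rw [e, e']
    exact ((((hσσ i i' x x').mul_left (hσX _ i' x' y).symm).mul_left (hσσ r i' z x')).mul_right
      (((hσX _ i x y').mul_left (hX y y')).mul_left (hσX _ r z y'))).mul_right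
      (((hσσ i r' x z').mul_left (hσX _ r' z' y).symm).mul_left (hσσ r r' z z'))
  · by_cases hs : ∃ a b, pairE hir a = pairE hir' b
    · obtain ⟨a, b, hab⟩ := hs
      have hgS : g ∈ Sn F (pairE hir a) := by
        refine mem_Kfix.2 fun l hl => ⟨(mem_Mn.1 hM).1 l, ?_⟩
        by_cases hl1 : l = i ∨ l = r
        · have h2 : l ≠ i' ∧ l ≠ r' := by
            obtain rfl | rfl : a = 0 ∨ a = 1 := by omega
            · obtain rfl | rfl : b = 0 ∨ b = 1 := by omega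
              · exact absurd hab hne
              · simp only [pairE_zero, pairE_one] at hab hl
                have := hl1.resolve_left hl
                subst this
                exact ⟨fun e => by rw [e] at h; rw [hab] at h; omega, hrr⟩
            · obtain rfl | rfl : b = 0 ∨ b = 1 := by omega
              · simp only [pairE_zero, pairE_one] at hab hl
                have := hl1.resolve_right hl
                subst this
                exact ⟨hne, fun e => by rw [e] at h; rw [hab] at h; omega⟩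
              · exact absurd hab hrr
          exact (mem_Mn.1 hM').2 l h2.1 h2.2
        · push Not at hl1
          exact (mem_Mn.1 hM).2 l hl1.1 hl1.2
      rw [D.μ_eq h hir, D.μ_eq h' hir', D.Ψ_σ (pairE hir) a rfl hgS, D.Ψ_σ (pairE hir') b hab.symm hgS]
    · push Not at hs
      have h1 : g = 1 := eq_one_of_fix fun l => ⟨(mem_Mn.1 hM).1 l, by
        by_cases hl1 : l = i ∨ l = r
        · refine (mem_Mn.1 hM').2 l ?_ ?_ <;> rcases hl1 with rfl | rfl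
          exacts [hs 0 0, hs 1 0, hs 0 1, hs 1 1]
        · push Not at hl1
          exact (mem_Mn.1 hM).2 l hl1.1 hl1.2⟩
      subst h1
      exact (map_one (D.μ i r h)).trans (map_one (D.μ i' r' h')).symm

theorem graph_emb {j : ℕ} {r s : Fin n} (hrs : (r : ℕ) + 1 = s) (hj : j ≤ (r : ℕ)) (hne : r ≠ s)
    (g : Sp2) : (emb (pairE hne) g, D.Φ (pairE hne) g) ∈ Subgroup.closure (graphs D.σ D.μ j) := by
  set R : Subgroup Sp2 :=
    (Subgroup.closure (graphs D.σ D.μ j)).comap ((emb (pairE hne)).prod (D.Φ (pairE hne)))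
  suffices h : R = ⊤ from (show g ∈ R by rw [h]; trivial)
  have hS : ∀ a : Fin 2, j ≤ ((pairE hne a : Fin n) : ℕ) → Sn F a ≤ R := fun a ha x hx =>
    Subgroup.subset_closure (.inl ⟨_, ha, emb_mem_Sn (pairE hne) hx,
      (D.σ_emb (pairE hne) a rfl _ rfl).symm⟩)
  refine eq_top_of_gens R (hS 0 hj) (hS 1 (by simp; omega)) (Subgroup.subset_closure (.inr ?_))
  have hm : emb (pairE hne) (xr (1 : F)) ∈ Mn F r s := by
    rw [emb_xr]; exact eic_ee_mem_Mn 1 0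
  exact ⟨r, s, hrs, hj, hm, ((D.μ_eq hrs hne hm).trans (D.Ψ_emb _ _ rfl)).symm⟩

theorem small_data (p r s : Fin n) (hpr : (p : ℕ) + 1 = r) (hrs : (r : ℕ) + 1 = s) :
    ∃ (k k' : Spn) (h h' e : G),
      (k, h) ∈ Subgroup.closure (graphs D.σ D.μ (r : ℕ)) ∧
      (k', h') ∈ Subgroup.closure (graphs D.σ D.μ (r : ℕ)) ∧
      (eic (ee r) ((-1 : F) • ee s) 0, e) ∈ Subgroup.closure (graphs D.σ D.μ (r : ℕ)) ∧
      act k (ee r) = ee s ∧ act k' (ee r) = ee r + ee s ∧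
      D.μ p r hpr ⟨eic (ee p) ((1 : F) • ee r) 0, eic_ee_mem_Mn 1 0⟩ *
          (h * D.μ p r hpr ⟨eic (ee p) ((1 : F) • ee r) 0, eic_ee_mem_Mn 1 0⟩ * h⁻¹) =
        h' * D.μ p r hpr ⟨eic (ee p) ((1 : F) • ee r) 0, eic_ee_mem_Mn 1 0⟩ * h'⁻¹ ∧
      D.μ p r hpr ⟨eic (ee p) ((1 : F) • ee r) 0, eic_ee_mem_Mn 1 0⟩ * (D.σ p ⟨wS p 1, wS_mem_Sn p 1⟩ *
          (h * D.μ p r hpr ⟨eic (ee p) ((1 : F) • ee r) 0, eic_ee_mem_Mn 1 0⟩ * h⁻¹) *
          (D.σ p ⟨wS p 1, wS_mem_Sn p 1⟩)⁻¹) =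
        e⁻¹ * (D.σ p ⟨wS p 1, wS_mem_Sn p 1⟩ *
          (h * D.μ p r hpr ⟨eic (ee p) ((1 : F) • ee r) 0, eic_ee_mem_Mn 1 0⟩ * h⁻¹) *
          (D.σ p ⟨wS p 1, wS_mem_Sn p 1⟩)⁻¹) *
          D.μ p r hpr ⟨eic (ee p) ((1 : F) • ee r) 0, eic_ee_mem_Mn 1 0⟩ := by
  have hpr' : p ≠ r := fun e => by rw [e] at hpr; omega
  have hrs' : r ≠ s := fun e => by rw [e] at hrs; omega
  have hps : s ≠ p := fun e => by rw [e] at hrs; omega
  have hout : outP (pairE hpr') s := fun a => by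
    obtain rfl | rfl : a = 0 ∨ a = 1 := by omega
    exacts [hps, hrs'.symm]
  obtain ⟨π, hπ⟩ := exists_perm_extend (triple D.f₀ D.hi₂) (triple (pairE hpr') hout)
  have h0 : π (D.f₀ 0) = p := hπ 0
  have h1 : π (D.f₀ 1) = r := hπ 1
  have h2 : π D.i₂ = s := hπ 2
  have hf : ∀ a, π (D.f₀ a) = pairE hpr' a := fun a => by
    obtain rfl | rfl : a = 0 ∨ a = 1 := by omega
    exacts [h0, h1]
  have hg : ∀ a, (π * D.τ) (D.f₀ a) = pairE hrs' a := fun a => by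
    obtain rfl | rfl : a = 0 ∨ a = 1 := by omega
    · rw [Equiv.Perm.mul_apply, D.hτ₀, h1, pairE_zero]
    · rw [Equiv.Perm.mul_apply, D.hτ₁, h2, pairE_one]
  set c := MulAut.conj (D.ρ π) with hc
  have hμ : D.μ p r hpr ⟨eic (ee p) ((1 : F) • ee r) 0, eic_ee_mem_Mn 1 0⟩ = c (D.φ (xr 1)) := by
    rw [D.μ_eq hpr hpr', D.Ψ_emb _ _ (h := xr 1) (by rw [emb_xr]; rfl), D.Φ_eq π _ hf]
    rfl
  have hW : D.σ p ⟨wS p 1, wS_mem_Sn p 1⟩ = c (D.φ (wS 0 1)) := by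
    rw [D.σ_emb (pairE hpr') 0 (k := p) rfl (wS_mem_Sn p 1) (h := wS 0 1) (by rw [emb_wS]; rfl),
      D.Φ_eq π _ hf]
    rfl
  have hH : D.Φ (pairE hrs') (sw F) = c (D.ρ (Equiv.swap (D.f₀ 1) D.i₂)) := by
    rw [hc, MulAut.conj_apply, ← map_inv, ← map_mul, ← map_mul, ← Equiv.swap_apply_apply, h1, h2]
    exact (D.Φ_swap (pairE hrs')).symm
  have hE : ∀ g, D.Φ (pairE hrs') g = c (D.ρ D.τ * D.φ g * (D.ρ D.τ)⁻¹) := fun g => by
    rw [D.Φ_eq (π * D.τ) _ hg, hc, MulAut.conj_apply, map_mul]; group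
  have g0 := fun g => D.graph_emb hrs le_rfl hrs' g
  refine ⟨_, _, _, _, D.Φ (pairE hrs') (xr (-1)), g0 (sw F), g0 (SpFour.E₁ (loT 1)), ?_, ?_, ?_, ?_, ?_⟩
  · exact (g0 (xr (-1))) |> fun h => by rwa [emb_xr] at h
  · rw [emb_sw, (act_permHom _ r).1]; simp
  · have := act_emb_inc (pairE hrs') (SpFour.E₁ (loT (1 : F))) (ee 0)
    rw [act_E₁_loT, inc_ee, inc, Matrix.mulVec_add] at this
    refine this.trans ?_
    exact congrArg₂ (· + ·) (inc_ee (pairE hrs') 0) (inc_ee (pairE hrs') 1)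
  · have e := congrArg c D.two₁
    rw [hμ, hH, hE]
    simp only [map_mul, map_inv] at e ⊢
    exact e
  · have e := congrArg c D.two₂
    rw [hμ, hW, hH, hE]
    simp only [map_mul, map_inv] at e ⊢
    exact e

/-- The amalgam. -/
noncomputable def amalgam : Amalgam F n G where
  σ := D.σ
  μ := D.μ
  small := by
    by_cases h : ∃ a : F, a ≠ 0 ∧ a ≠ 1
    · exact .inl h
    · push Not at h
      exact .inr ⟨fun a => or_iff_not_imp_left.mpr (h a), D.small_data⟩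
  hSS := fun _ _ hkl => D.hSS hkl
  hMM := D.hMM
  hMS := D.hMS

/-- The homomorphism from the symplectic group. -/
theorem exists_hom : ∃ Θ : Spn →* G, (∀ g, Θ (emb D.f₀ g) = D.φ g) ∧
    ∀ π, Θ (permHom n F π) = D.ρ π := by
  obtain ⟨Θ, ⟨hS, hM⟩, -⟩ := D.amalgam.existsUnique
  have hadj : ∀ (r s : Fin n) (hrs : (r : ℕ) + 1 = s) (hne : r ≠ s) (g : Sp2),
      Θ (emb (pairE hne) g) = D.Φ (pairE hne) g := by
    intro r s hrs hne g
    set R : Subgroup Sp2 := MonoidHom.eqLocus (Θ.comp (emb (pairE hne))) (D.Φ (pairE hne))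
    suffices h : R = ⊤ from (show g ∈ R by rw [h]; trivial)
    refine eq_top_of_gens R (fun x hx => ?_) (fun x hx => ?_) ?_
    · exact (hS _ _ (emb_mem_Sn (pairE hne) hx)).trans (D.σ_emb (pairE hne) 0 rfl _ rfl)
    · exact (hS _ _ (emb_mem_Sn (pairE hne) hx)).trans (D.σ_emb (pairE hne) 1 rfl _ rfl)
    · have hm : emb (pairE hne) (xr (1 : F)) ∈ Mn F r s := by
        rw [emb_xr]; exact eic_ee_mem_Mn 1 0
      exact (hM r s hrs _ hm).trans ((D.μ_eq hrs hne hm).trans (D.Ψ_emb _ _ rfl))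
  have hperm : ∀ π, Θ (permHom n F π) = D.ρ π := by
    obtain ⟨m, rfl⟩ : ∃ m, n = m + 1 := ⟨n - 1, by have := D.i₂.isLt; omega⟩
    intro π
    have hmem : π ∈ Submonoid.closure (Set.range fun i : Fin m => Equiv.swap i.castSucc i.succ) := by
      rw [Equiv.Perm.mclosure_swap_castSucc_succ]; trivial
    have hle : Submonoid.closure (Set.range fun i : Fin m => Equiv.swap i.castSucc i.succ) ≤
        (MonoidHom.eqLocus (Θ.comp (permHom (m + 1) F)) D.ρ).toSubmonoid := by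
      refine Submonoid.closure_le.2 ?_
      rintro _ ⟨i, rfl⟩
      have hne := (Fin.castSucc_lt_succ (i := i)).ne
      show Θ (permHom (m + 1) F (Equiv.swap i.castSucc i.succ)) = D.ρ (Equiv.swap i.castSucc i.succ)
      have h := hadj i.castSucc i.succ (by simp) hne (sw F)
      rw [emb_sw, pairE_zero, pairE_one] at h
      rw [h, ← D.Φ_swap (pairE hne), pairE_zero, pairE_one]
    exact hle hmem
  refine ⟨Θ, fun g => ?_, hperm⟩
  obtain ⟨r, s, hrs⟩ : ∃ r s : Fin n, (r : ℕ) + 1 = s := by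
    have h01 : (D.f₀ 0 : ℕ) ≠ D.f₀ 1 := fun e => absurd (D.f₀.injective (Fin.ext e)) (by decide)
    have := (D.f₀ 0).isLt
    have := (D.f₀ 1).isLt
    exact ⟨⟨0, by omega⟩, ⟨1, by omega⟩, rfl⟩
  have hne : r ≠ s := fun e => by rw [e] at hrs; omega
  obtain ⟨π, hπ⟩ := exists_perm_extend (pairE hne) D.f₀
  have he : (pairE hne).trans π.toEmbedding = D.f₀ := Function.Embedding.ext hπ
  rw [← he, ← conj_emb, map_mul, map_mul, map_inv, hperm, hadj r s hrs hne, D.Φ_conj, he, D.Φ_zero]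

end Glue

end Cfsg.Agent.PSL2.SpN
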