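import Cfsg.Agent.Lib.PSL2.SpGlue
import Cfsg.Agent.Lib.PSL2.SpFourMain
import Cfsg.Agent.Lib.PSL2.PresTools
import Cfsg.Agent.Lib.AutPSp.Basic

/-
Presentations of `Sp₂ₙ(q)` and `PSp₂ₙ(q)`, `n ≥ 3`, on eight generators.

Main results (namespace `Cfsg.Agent.PSL2.SpN`): `exists_pres_Sp`, `exists_pres_PSp`.
-/

set_option autoImplicit false
set_option linter.unusedSectionVars false
set_option linter.dupNamespace false

open Matrix
open scoped MatrixGroups

namespace Cfsg.Agent.PSL2.SpN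

open Cfsg.Agent.SpAmalgam
open Cfsg.Agent.SympSylowTwo (permHom)
open Cfsg.Agent.PSL2.PresTools
open Cfsg.Agent.PSL2.Pres (dg wM)

variable {F : Type*} [Field F] [Finite F] {n : ℕ}

local notation "Sp2" => Matrix.symplecticGroup (Fin 2) F
local notation "Spn" => Matrix.symplecticGroup (Fin n) F

/-- The commutation relator. -/
def cm {α : Type*} (a b : FreeGroup α) : FreeGroup α := a * b * (b * a)⁻¹

theorem lift_cm {α G : Type*} [Group G] (x : α → G) (a b : FreeGroup α) :
    FreeGroup.lift x (cm a b) = 1 ↔ Commute (FreeGroup.lift x a) (FreeGroup.lift x b) := by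
  rw [cm, map_mul, map_inv, mul_inv_eq_one, map_mul, map_mul]
  exact Iff.rfl

/-- The standard pair. -/
def pair₀ (hn : 3 ≤ n) : Fin 2 ↪ Fin n :=
  pairE (i := ⟨0, by omega⟩) (r := ⟨1, by omega⟩) (by simp)

/-- The third index. -/
def idx₂ (hn : 3 ≤ n) : Fin n := ⟨2, by omega⟩

theorem idx₂_out (hn : 3 ≤ n) : outP (pair₀ hn) (idx₂ hn) := fun a => by
  obtain rfl | rfl : a = 0 ∨ a = 1 := by omega
  all_goals simp [pair₀, idx₂, Fin.ext_iff]

/-- The shift by one of the first three indices. -/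
def shift₃ (hn : 3 ≤ n) : Equiv.Perm (Fin n) :=
  Equiv.swap ⟨0, by omega⟩ ⟨1, by omega⟩ * Equiv.swap ⟨1, by omega⟩ (idx₂ hn)

theorem shift₃_zero (hn : 3 ≤ n) : shift₃ hn (pair₀ hn 0) = pair₀ hn 1 := by
  simp [shift₃, pair₀, idx₂, Equiv.swap_apply_def, Fin.ext_iff]

theorem shift₃_one (hn : 3 ≤ n) : shift₃ hn (pair₀ hn 1) = idx₂ hn := by
  simp [shift₃, pair₀, idx₂, Equiv.swap_apply_def, Fin.ext_iff]

/-- The inclusion of the generators of `Sp₄`. -/
def ι₆ : Fin 6 → Fin 8 := Fin.castAdd 2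

/-- The inclusion of the generators of the symmetric group. -/
def ιs : Fin 2 → Fin 8 := Fin.natAdd 6

/-- The generators. -/
noncomputable def gens8 (hn : 3 ≤ n) (ω : Fˣ) (gs : Fin 2 → Equiv.Perm (Fin n)) : Fin 8 → Spn :=
  Fin.append (fun i => emb (pair₀ hn) (SpFour.gens F ω i)) (fun i => permHom n F (gs i))

theorem gens8_ι₆ (hn : 3 ≤ n) (ω : Fˣ) (gs : Fin 2 → Equiv.Perm (Fin n)) :
    gens8 hn ω gs ∘ ι₆ = fun i => emb (pair₀ hn) (SpFour.gens F ω i) :=
  funext fun i => by simp [gens8, ι₆]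

theorem gens8_ιs (hn : 3 ≤ n) (ω : Fˣ) (gs : Fin 2 → Equiv.Perm (Fin n)) :
    gens8 hn ω gs ∘ ιs = fun i => permHom n F (gs i) :=
  funext fun i => by simp [gens8, ιs]

theorem closure_gens_SL {ω : Fˣ} (hω : ∀ x : Fˣ, x ∈ Subgroup.zpowers ω) :
    Subgroup.closure {upT (1 : F), dg ω, (wM : SL(2, F))} = ⊤ :=
  Pres.closure_target ω hω (SpFour.aeval_surjective hω) ▸ by
    congr 1
    ext y
    simp <;> tauto

theorem comm_SL {ω : Fˣ} (hω : ∀ x : Fˣ, x ∈ Subgroup.zpowers ω) {G : Type*} [Group G]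
    (S : SL(2, F) →* G) (z : G)
    (h : ∀ y ∈ [upT (1 : F), dg ω, (wM : SL(2, F))], Commute (S y) z) :
    ∀ y : SL(2, F), Commute (S y) z := by
  intro y
  have hle : Subgroup.closure {upT (1 : F), dg ω, (wM : SL(2, F))} ≤
      (Subgroup.centralizer {z}).comap S := by
    refine (Subgroup.closure_le _).mpr ?_
    rintro _ (rfl | rfl | rfl) <;> rw [SetLike.mem_coe, Subgroup.mem_comap,
      Subgroup.mem_centralizer_singleton_iff] <;> exact (h _ (by simp)).eq
  rw [closure_gens_SL hω] at hle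
  exact Subgroup.mem_centralizer_singleton_iff.mp (hle (Subgroup.mem_top y))

theorem comm_closure {P G : Type*} [Group P] [Group G] (ρ : P →* G) (z : G) (L : List P)
    (h : ∀ π ∈ L, Commute (ρ π) z) {π : P} (hπ : π ∈ Subgroup.closure {σ | σ ∈ L}) :
    Commute (ρ π) z := by
  have hle : Subgroup.closure {σ | σ ∈ L} ≤ (Subgroup.centralizer {z}).comap ρ :=
    (Subgroup.closure_le _).mpr fun σ hσ =>
      Subgroup.mem_centralizer_singleton_iff.mpr (h σ hσ).eq
  exact Subgroup.mem_centralizer_singleton_iff.mp (hle hπ)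

theorem comm_Sn_perm {k : Fin n} {g : Spn} (hg : g ∈ Sn F k) {π : Equiv.Perm (Fin n)} (hπ : π k = k) :
    Commute (permHom n F π) g :=
  (Sn_comm hg (by rw [(act_permHom π k).1, hπ]) (by rw [(act_permHom π k).2, hπ])).symm

theorem emb_xr_mem (f : Fin 2 ↪ Fin n) (s : F) : emb f (xr s) ∈ Mn F (f 0) (f 1) := by
  rw [emb_xr]; exact eic_ee_mem_Mn s 0

theorem comm_xr {f f' : Fin 2 ↪ Fin n} (s t : F) : Commute (emb f (xr s)) (emb f' (xr t)) :=
  Mn_comm (emb_xr_mem f s) ((mem_Mn.1 (emb_xr_mem f' t)).1 _) ((mem_Mn.1 (emb_xr_mem f' t)).1 _)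

/-- The relations: two lists for the factors and the gluing. -/
noncomputable def glueRels (hn : 3 ≤ n) (ω : Fˣ) (W : Sp2 → FreeGroup (Fin 8))
    (V : Equiv.Perm (Fin n) → FreeGroup (Fin 8)) (L₁ L₂ : List (Equiv.Perm (Fin n)))
    (L₃ : List (Equiv.Perm (Fin n))) : List (FreeGroup (Fin 8)) :=
  let ys := [upT (1 : F), dg ω, (wM : SL(2, F))]
  let X := W (xr 1)
  let σ := V (Equiv.swap (pair₀ hn 1) (idx₂ hn))
  let τ := V (shift₃ hn)
  let h' := τ * W (SpFour.E₁ (loT 1)) * τ⁻¹
  let e := τ * W (xr (-1)) * τ⁻¹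
  let Q := W (wS 0 1) * (σ * X * σ⁻¹) * (W (wS 0 1))⁻¹
  [V (Equiv.swap (pair₀ hn 0) (pair₀ hn 1)) * (W (sw F))⁻¹,
    X * (σ * X * σ⁻¹) * (h' * X * h'⁻¹)⁻¹,
    X * Q * (e⁻¹ * Q * X)⁻¹,
    cm X (τ * X * τ⁻¹)] ++
  L₁.flatMap (fun π => ys.map fun y => cm (V π) (W (SpFour.E₂ y))) ++
  L₂.map (fun π => cm (V π) X) ++
  ys.map (fun y => cm (σ * W (SpFour.E₂ y) * σ⁻¹) X) ++
  L₃.map (fun π => cm X (V π * X * (V π)⁻¹))

theorem glueRels_length (hn : 3 ≤ n) (ω : Fˣ) (W : Sp2 → FreeGroup (Fin 8))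
    (V : Equiv.Perm (Fin n) → FreeGroup (Fin 8)) {L₁ L₂ L₃ : List (Equiv.Perm (Fin n))}
    (h₁ : L₁.length ≤ 2) : (glueRels hn ω W V L₁ L₂ L₃).length ≤ 13 + L₂.length + L₃.length := by
  have h3 : (L₁.flatMap fun π => [upT (1 : F), dg ω, (wM : SL(2, F))].map
      fun y => cm (V π) (W (SpFour.E₂ y))).length ≤ 6 := by
    rw [List.length_flatMap]
    simp only [List.length_map, List.length_cons, List.length_nil]
    rw [List.map_const', List.sum_replicate, smul_eq_mul]
    omega
  simp only [glueRels, List.length_append, List.length_map, List.length_cons, List.length_nil]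
  simp only [List.map_cons, List.map_nil] at h3
  simp only [List.map_cons, List.map_nil] at *
  omega

/-- The presentation. -/
theorem exists_pres_Sp (hn : 3 ≤ n) : ∃ (c : ℕ) (g : Fin 8 → Spn),
    IsPres g c ∧ c ≤ 54 ∧ (n = 3 → c ≤ 51) := by
  classical
  obtain ⟨⟨ω, R, hω, hR, e4, he4⟩, -⟩ := SpFour.exists_pres_gens (F := F)
  have hp4 : IsPres (SpFour.gens F ω) 30 := ⟨R, hR, e4, he4⟩
  obtain ⟨gs, hps⟩ := exists_isPres_perm n
  obtain ⟨l4, hl4, hsat4, hhom4⟩ := hp4.exists_list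
  obtain ⟨ls, hls, hsats, hhoms⟩ := hps.exists_list
  choose w4 hw4 using exists_word hp4.closure_range
  choose ws hws using exists_word hps.closure_range
  set W : Sp2 → FreeGroup (Fin 8) := fun h => FreeGroup.map ι₆ (w4 h)
  set V : Equiv.Perm (Fin n) → FreeGroup (Fin 8) := fun π => FreeGroup.map ιs (ws π)
  obtain ⟨L₁, hL₁, -, hfix₁, hgen₁⟩ := exists_gens_fixing ({pair₀ hn 1} : Finset (Fin n))
  obtain ⟨L₂, hL₂, hL₂0, hfix₂, hgen₂⟩ := exists_gens_fixing ({pair₀ hn 0, pair₀ hn 1} : Finset (Fin n))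
  set L₃ : List (Equiv.Perm (Fin n)) :=
    if h : ∃ π : Equiv.Perm (Fin n), ∀ a, outP (pair₀ hn) (π (pair₀ hn a)) then [h.choose] else []
    with hL₃
  set g := gens8 hn ω gs
  set l := l4.map (FreeGroup.map ι₆) ++ ls.map (FreeGroup.map ιs) ++ glueRels hn ω W V L₁ L₂ L₃ with hl
  refine ⟨l.length, g, isPres_of_list g l ?_ ?_ ?_, ?_, ?_⟩
  · -- the relations hold
    have hW : ∀ h, FreeGroup.lift g (W h) = emb (pair₀ hn) h := fun h => by
      rw [lift_map, gens8_ι₆, lift_comp (emb (pair₀ hn)), hw4]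
    have hV : ∀ π, FreeGroup.lift g (V π) = permHom n F π := fun π => by
      rw [lift_map, gens8_ιs, lift_comp (permHom n F), hws]
    intro r hr
    simp only [hl, List.mem_append] at hr
    rcases hr with (hr | hr) | hr
    · obtain ⟨r', hr', rfl⟩ := List.mem_map.mp hr
      rw [lift_map, gens8_ι₆, lift_comp (emb (pair₀ hn)), hsat4 r' hr', map_one]
    · obtain ⟨r', hr', rfl⟩ := List.mem_map.mp hr
      rw [lift_map, gens8_ιs, lift_comp (permHom n F), hsats r' hr', map_one]
    have hk : permHom n F (Equiv.swap (pair₀ hn 1) (idx₂ hn)) ∈ Kn F ((pair₀ hn 1 : Fin n) : ℕ) := by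
      refine mem_Kfix.2 fun m hm => ?_
      have hm0 : Equiv.swap (pair₀ hn 1) (idx₂ hn) m = m := Equiv.swap_apply_of_ne_of_ne
        (by rintro rfl; exact lt_irrefl _ hm)
        (by rintro rfl; simp [pair₀, idx₂] at hm)
      exact ⟨by rw [(act_permHom _ m).1, hm0], by rw [(act_permHom _ m).2, hm0]⟩
    have hks : act (permHom n F (Equiv.swap (pair₀ hn 1) (idx₂ hn))) (ee (pair₀ hn 1)) =
        (ee (idx₂ hn) : Fin n ⊕ Fin n → F) := by
      rw [(act_permHom _ _).1, Equiv.swap_apply_left]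
    set f12 : Fin 2 ↪ Fin n := (pair₀ hn).trans (shift₃ hn).toEmbedding with hf12
    have hf0 : f12 0 = pair₀ hn 1 := shift₃_zero hn
    have hf1 : f12 1 = idx₂ hn := shift₃_one hn
    have hXe : emb (pair₀ hn) (xr (1 : F)) =
        eic (ee (pair₀ hn 0)) ((1 : F) • ee (pair₀ hn 1)) 0 := emb_xr _ _
    simp only [glueRels, List.mem_append, List.mem_cons, List.mem_map, List.mem_flatMap,
      List.not_mem_nil, or_false] at hr
    rcases hr with (((((rfl | rfl | rfl | rfl) | ⟨π, hπ, y, -, rfl⟩) | ⟨π, hπ, rfl⟩) | ⟨y, -, rfl⟩) |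
      ⟨π, hπ, rfl⟩)
    · rw [map_mul, map_inv, hV, hW, emb_sw, mul_inv_cancel]
    · simp only [map_mul, map_inv, hV, hW]
      rw [mul_inv_eq_one, conj_emb (shift₃ hn) (pair₀ hn), hXe, ← hf12]
      refine two_id_one rfl rfl hks ?_ hk (Kfix_mono (fun m hm a => ?_) (emb_mem f12 _))
      · have := act_emb_inc f12 (SpFour.E₁ (loT (1 : F))) (ee 0)
        rw [act_E₁_loT, inc_ee, hf0, inc, Matrix.mulVec_add] at this
        rw [this]
        exact congrArg₂ (· + ·) ((inc_ee f12 0).trans (congrArg ee hf0))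
          ((inc_ee f12 1).trans (congrArg ee hf1))
      · intro e
        subst e
        obtain rfl | rfl : a = 0 ∨ a = 1 := by omega
        · rw [hf0] at hm; exact lt_irrefl _ hm
        · rw [hf1] at hm; simp [pair₀, idx₂] at hm
    · simp only [map_mul, map_inv, hV, hW]
      rw [mul_inv_eq_one, conj_emb (shift₃ hn) (pair₀ hn), hXe, emb_wS, ← hf12, emb_xr, hf0, hf1]
      exact two_id_two rfl rfl hks hk
    · rw [lift_cm, map_mul, map_mul, map_inv, hV, hW, conj_emb]
      exact comm_xr 1 1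
    · rw [lift_cm, hV, hW]
      exact comm_Sn_perm (emb_mem_Sn (pair₀ hn) (a := 1) (by rw [← range_E₂]; exact ⟨y, rfl⟩)) (hfix₁ π hπ _ (by simp))
    · rw [lift_cm, hV, hW]
      have htr : (pair₀ hn).trans π.toEmbedding = pair₀ hn := Function.Embedding.ext fun a => by
        obtain rfl | rfl : a = 0 ∨ a = 1 := by omega
        all_goals exact hfix₂ π hπ _ (by simp)
      have := conj_emb (F := F) π (pair₀ hn) (xr 1)
      rw [htr, mul_inv_eq_iff_eq_mul] at this
      exact this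
    · rw [lift_cm, map_mul, map_mul, map_inv, hV, hW, hW, conj_emb]
      have hS := emb_mem_Sn ((pair₀ hn).trans (Equiv.swap (pair₀ hn 1) (idx₂ hn)).toEmbedding)
        (show SpFour.E₂ y ∈ Sn F (1 : Fin 2) by rw [← range_E₂]; exact ⟨y, rfl⟩)
      have h1 : ((pair₀ hn).trans (Equiv.swap (pair₀ hn 1) (idx₂ hn)).toEmbedding) 1 = idx₂ hn :=
        show Equiv.swap (pair₀ hn 1) (idx₂ hn) (pair₀ hn 1) = idx₂ hn from Equiv.swap_apply_left _ _
      rw [h1] at hS
      exact (Mn_comm (emb_xr_mem (pair₀ hn) 1)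
        (mem_Kfix.1 hS _ (fun e => idx₂_out hn 0 e.symm)).1
        (mem_Kfix.1 hS _ (fun e => idx₂_out hn 1 e.symm)).1).symm
    · rw [lift_cm, map_mul, map_mul, map_inv, hV, hW, conj_emb]
      exact comm_xr 1 1
  · -- they generate
    rw [eq_top_iff]
    set K := Subgroup.closure (Set.range g)
    have hmem : ∀ w : FreeGroup (Fin 8), FreeGroup.lift g w ∈ K := fun w => by
      show _ ∈ Subgroup.closure (Set.range g)
      rw [← FreeGroup.range_lift_eq_closure]; exact ⟨w, rfl⟩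
    have hemb : ∀ h, emb (pair₀ hn) h ∈ K := fun h => by
      have := hmem (W h)
      rwa [lift_map, gens8_ι₆, lift_comp (emb (pair₀ hn)), hw4] at this
    have hperm : ∀ π, permHom n F π ∈ K := fun π => by
      have := hmem (V π)
      rwa [lift_map, gens8_ιs, lift_comp (permHom n F), hws] at this
    have hall : ∀ (f : Fin 2 ↪ Fin n) (h : Sp2), emb f h ∈ K := fun f h => by
      obtain ⟨π, hπ⟩ := exists_perm_extend (pair₀ hn) f
      rw [← show (pair₀ hn).trans π.toEmbedding = f from Function.Embedding.ext hπ, ← conj_emb]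
      exact mul_mem (mul_mem (hperm π) (hemb h)) (inv_mem (hperm π))
    have hfix : ∀ {f : Fin 2 ↪ Fin n} {x : Spn}, x ∈ Kfix F (outP f) → x ∈ K := fun {f x} hx => by
      obtain ⟨h, rfl⟩ := exists_emb_eq f hx
      exact hall f h
    have hK : ∀ d j : ℕ, n ≤ j + d → Kn F j ≤ K := by
      intro d
      induction d with
      | zero =>
        intro j hj x hx
        rw [eq_one_of_fix (g := x) fun m => mem_Kfix.1 hx m (by omega)]
        exact one_mem _
      | succ d ih =>
        intro j hj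
        by_cases hjn : n ≤ j
        · intro x hx
          rw [eq_one_of_fix (g := x) fun m => mem_Kfix.1 hx m (by omega)]
          exact one_mem _
        refine mem_of_gens (p := (⟨j, by omega⟩ : Fin n)) (ih _ (by simp; omega)) (fun x hx => ?_)
          fun r hr x hx => ?_
        · obtain ⟨r, hr⟩ : ∃ r : Fin n, r ≠ ⟨j, by omega⟩ :=
            ⟨if j = 0 then ⟨1, by omega⟩ else ⟨0, by omega⟩, by split_ifs with h <;> simp [Fin.ext_iff, h, Ne.symm]⟩
          exact hfix (f := pairE hr) (Kfix_mono (fun m hm e => hm 1 e) hx)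
        · have hne : (⟨j, by omega⟩ : Fin n) ≠ r := fun e => by rw [← e] at hr; simp at hr
          exact hfix (f := pairE hne) (Glue.Mn_le_fix (pairE hne) hx)
    intro x _
    exact hK n 0 (by omega) (mem_Kfix.2 fun m hm => absurd hm (Nat.not_lt_zero _))
  · -- every solution is an image
    intro G _ x hx
    simp only [hl, List.mem_append] at hx
    obtain ⟨φ, hφ⟩ := hhom4 G (x ∘ ι₆) fun r hr => by
      rw [← lift_map]; exact hx _ (.inl (.inl (List.mem_map_of_mem hr)))
    obtain ⟨ρ, hρ⟩ := hhoms G (x ∘ ιs) fun r hr => by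
      rw [← lift_map]; exact hx _ (.inl (.inr (List.mem_map_of_mem hr)))
    have hW : ∀ h, FreeGroup.lift x (W h) = φ h := fun h => by
      rw [lift_map, show x ∘ ι₆ = fun i => φ (SpFour.gens F ω i) from (funext hφ).symm, lift_comp φ, hw4]
    have hV : ∀ π, FreeGroup.lift x (V π) = ρ π := fun π => by
      rw [lift_map, show x ∘ ιs = fun i => ρ (gs i) from (funext hρ).symm, lift_comp ρ, hws]
    have hglue : ∀ r ∈ glueRels hn ω W V L₁ L₂ L₃, FreeGroup.lift x r = 1 := fun r hr => hx r (.inr hr)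
    simp only [glueRels, List.mem_append, List.mem_cons, List.mem_map, List.mem_flatMap,
      List.not_mem_nil, or_false] at hglue
    have r1 := hglue _ (.inl (.inl (.inl (.inl (.inl rfl)))))
    have r2 := hglue _ (.inl (.inl (.inl (.inl (.inr (.inl rfl))))))
    have r3 := hglue _ (.inl (.inl (.inl (.inl (.inr (.inr (.inl rfl)))))))
    have r4 := hglue _ (.inl (.inl (.inl (.inl (.inr (.inr (.inr rfl)))))))
    rw [map_mul, map_inv, hV, hW, mul_inv_eq_one] at r1
    simp only [map_mul, map_inv, hV, hW, mul_inv_eq_one] at r2 r3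
    rw [lift_cm, map_mul, map_mul, map_inv, hV, hW] at r4
    have hS : ∀ π ∈ L₁, ∀ y, Commute (ρ π) (φ (SpFour.E₂ y)) := by
      intro π hπ y
      refine (comm_SL hω (φ.comp SpFour.E₂) (ρ π) (fun y hy => ?_) y).symm
      have := hglue _ (.inl (.inl (.inl (.inr ⟨π, hπ, y, List.mem_cons.mp hy |>.imp id
        (fun h => (List.mem_cons.mp h).imp id List.mem_singleton.mp), rfl⟩))))
      rw [lift_cm, hV, hW] at this
      exact this.symm
    have hX : ∀ π ∈ L₂, Commute (ρ π) (φ (xr 1)) := by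
      intro π hπ
      have := hglue _ (.inl (.inl (.inr ⟨π, hπ, rfl⟩)))
      rwa [lift_cm, hV, hW] at this
    let D : Glue F n G :=
      { ρ := ρ, φ := φ, f₀ := pair₀ hn, i₂ := idx₂ hn, hi₂ := idx₂_out hn
        swap_eq := r1
        commS := fun π hπ y => comm_closure ρ _ L₁ (fun π hπ => hS π hπ y)
          (hgen₁ π (by simp [hπ]))
        commX := fun π h0 h1 => comm_closure ρ _ L₂ hX (hgen₂ π (by simp [h0, h1]))
        commSX := fun y => by
          refine comm_SL hω ((MulAut.conj (ρ (Equiv.swap (pair₀ hn 1) (idx₂ hn)))).toMonoidHom.comp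
            (φ.comp SpFour.E₂)) _ (fun y hy => ?_) y
          have := hglue _ (.inl (.inr ⟨y, List.mem_cons.mp hy |>.imp id
            (fun h => (List.mem_cons.mp h).imp id List.mem_singleton.mp), rfl⟩))
          rw [lift_cm, map_mul, map_mul, map_inv, hV, hW, hW] at this
          exact this
        τ := shift₃ hn, hτ₀ := shift₃_zero hn, hτ₁ := shift₃_one hn
        commXX := r4
        commXX' := fun hex => by
          have h : hex.choose ∈ L₃ := by rw [hL₃, dif_pos hex]; exact List.mem_singleton_self _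
          have := hglue _ (.inr ⟨_, h, rfl⟩)
          rw [lift_cm, map_mul, map_mul, map_inv, hV, hW] at this
          exact ⟨_, hex.choose_spec, this⟩
        two₁ := r2
        two₂ := r3 }
    obtain ⟨Θ, h1, h2⟩ := D.exists_hom
    refine ⟨Θ, fun i => Fin.addCases (m := 6) (n := 2) (motive := fun i => Θ (g i) = x i) (fun i => ?_) (fun i => ?_) i⟩
    · exact (congrArg Θ (congrFun (gens8_ι₆ hn ω gs) i)).trans ((h1 _).trans (hφ i))
    · exact (congrArg Θ (congrFun (gens8_ιs hn ω gs) i)).trans ((h2 _).trans (hρ i))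
  · have := glueRels_length hn ω W V (L₂ := L₂) (L₃ := L₃) hL₁
    have h3 : L₃.length ≤ 1 := by rw [hL₃]; split_ifs <;> simp
    simp only [hl, List.length_append, List.length_map]
    omega
  · intro h3
    have := glueRels_length hn ω W V (L₂ := L₂) (L₃ := L₃) hL₁
    have hcard : ({pair₀ hn 0, pair₀ hn 1} : Finset (Fin n)).card = 2 :=
      Finset.card_pair fun e => absurd ((pair₀ hn).injective e) (by decide)
    have h2 : L₂ = [] := hL₂0 (by rw [hcard, Fintype.card_fin]; omega)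
    have h3' : L₃ = [] := by
      rw [hL₃, dif_neg]
      rintro ⟨π, hπ⟩
      have a0 := hπ 0 0; have a1 := hπ 0 1; have b0 := hπ 1 0; have b1 := hπ 1 1
      have hne : π (pair₀ hn 0) ≠ π (pair₀ hn 1) :=
        fun e => absurd ((pair₀ hn).injective (π.injective e)) (by decide)
      simp only [pair₀, pairE_zero, pairE_one, ne_eq, Fin.ext_iff] at a0 a1 b0 b1 hne
      omega
    subst h2
    simp only [hl, h3', List.length_append, List.length_map] at this ⊢
    simp only [List.length_nil] at this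
    omega

/-- The presentation of the simple group. -/
theorem exists_pres_PSp (hn : 3 ≤ n) : ∃ (c : ℕ) (g : Fin 8 → Cfsg.PSp n F),
    IsPres g c ∧ c ≤ 55 ∧ (n = 3 → c ≤ 52) := by
  obtain ⟨c, g, h, hc, hc3⟩ := exists_pres_Sp (F := F) hn
  have hneg : -(1 : Matrix (Fin n ⊕ Fin n) (Fin n ⊕ Fin n) F) ∈ Spn := by
    rw [SymplecticGroup.mem_iff]; simp
  refine ⟨c + 1, _, h.quotient (Subgroup.center Spn) ⟨-1, hneg⟩ (GLOrder.center_Sp.2 (.inr rfl))
    fun x hx => ?_, by omega, fun e => by have := hc3 e; omega⟩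
  rcases GLOrder.center_Sp.1 hx with hx | hx
  · rw [show x = 1 from Subtype.ext hx]; exact one_mem _
  · rw [show x = ⟨-1, hneg⟩ from Subtype.ext hx]
    exact Subgroup.subset_normalClosure rfl

end Cfsg.Agent.PSL2.SpN
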